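import Cfsg.Agent.Lib.Helper5.Chev.BNAxiom
import Cfsg.Prelude.Def_LieExceptional
import Mathlib

/-!
# The `(B, N)`-pair of a Chevalley group (helper5)
-/

set_option autoImplicit false

namespace Cfsg.Agent.Lib.Helper5.Chev

open Cfsg.Lie
open scoped Matrix

section

variable {F : Type*} [Field F]

theorem group_le_borel_sup_monomial (D : ChevalleyDatum)
    (hD : D ∈ [chevG2, chevB2, chevD4, chevF4, chevE6, chevE7, chevE8]) :
    D.group F ≤ D.borelSubgroup F ⊔ D.monomialSubgroup F := by
  apply group_le_of D hD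
  · intro j hj t
    apply Subgroup.mem_sup_left
    apply Subgroup.mem_sup_left
    exact Subgroup.subset_closure ⟨_, t, pos_simple_all D hD j hj, rfl⟩
  · intro i hi hp hq
    apply Subgroup.mem_sup_right
    exact (allAdd_all (F := F) D hD).nU_mem _ hp hq

/-- the `(B, N)`-pair -/
theorem bnPair_all (D : ChevalleyDatum)
    (hD : D ∈ [chevG2, chevB2, chevD4, chevF4, chevE6, chevE7, chevE8]) :
    ∃ P : Cfsg.BNPair ↥(D.group F),
      P.B = (D.borelSubgroup F).subgroupOf (D.group F) ∧
      P.N = (D.monomialSubgroup F).subgroupOf (D.group F) ∧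
      P.S = {n : ↥(D.group F) | ∃ i < D.rank,
        ((n : GL D.Idx F) : Matrix D.Idx D.Idx F) = D.nMat F (D.simple i) 1} := by
  have hadd := allAdd_all (F := F) D hD
  have hH := hform_all' (F := F) D hD
  obtain ⟨T, Bs, mLL, gH, baseH, fuel, hA, hB, hr, hbase, hcox⟩ := cox_known D hD
  obtain ⟨h1, h2⟩ := cox_of_check T Bs mLL hcox
  have hBG : D.borelSubgroup F ≤ D.group F := hadd.borel_le
  have hNG : D.monomialSubgroup F ≤ D.group F := hadd.monomial_le
  have hHB : D.diagonalSubgroup F ≤ D.borelSubgroup F := le_sup_right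
  have hHN : D.diagonalSubgroup F ≤ D.monomialSubgroup F := le_sup_left
  have hUB : D.posUnipotent F ≤ D.borelSubgroup F := le_sup_left
  have hBN := (borel_inf_monomial_all (F := F) D hD).2
  have hNH : D.monomialSubgroup F ≤ Subgroup.normalizer (D.diagonalSubgroup F : Set (GL D.Idx F)) :=
    (Subgroup.normal_subgroupOf_iff_le_normalizer le_sup_left).1 (diagonal_normal_all D hD)
  -- the elements of `S`
  have hS : ∀ n : ↥(D.group F), ∀ i < D.rank,
      ((n : GL D.Idx F) : Matrix D.Idx D.Idx F) = D.nMat F (D.simple i) 1 →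
      (n : GL D.Idx F) = nUi hA hadd i := by
    intro n i hi hn
    apply Units.ext
    rw [hn, nUi_val hA hadd hi]
  have hsq : ∀ i < D.rank, nUi hA hadd i * nUi hA hadd i ∈ D.diagonalSubgroup F := by
    intro i hi
    rw [nUi_pos hA hadd hi]
    exact nU_sq_mem hadd _ _ _
  refine ⟨{ B := (D.borelSubgroup F).subgroupOf (D.group F)
            N := (D.monomialSubgroup F).subgroupOf (D.group F)
            S := {n : ↥(D.group F) | ∃ i < D.rank,
              ((n : GL D.Idx F) : Matrix D.Idx D.Idx F) = D.nMat F (D.simple i) 1}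
            sup_eq_top := ?_
            conj_mem := ?_
            subset := ?_
            sq_mem := ?_
            inj := ?_
            closure_sup := ?_
            mul_mem_union := ?_
            conj_ne := ?_ }, rfl, rfl, rfl⟩
  · -- sup_eq_top
    rw [← Subgroup.subgroupOf_sup hBG hNG, Subgroup.subgroupOf_eq_top]
    exact group_le_borel_sup_monomial D hD
  · -- conj_mem
    rintro n hn t ⟨ht1, ht2⟩
    have ht1' : t ∈ (D.borelSubgroup F).subgroupOf (D.group F) := ht1
    have ht2' : t ∈ (D.monomialSubgroup F).subgroupOf (D.group F) := ht2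
    clear ht1 ht2
    rename' ht1' => ht1, ht2' => ht2
    rw [Subgroup.mem_subgroupOf] at hn ht1 ht2 ⊢
    have htH : (t : GL D.Idx F) ∈ D.diagonalSubgroup F := by
      rw [← hBN]; exact ⟨ht1, ht2⟩
    apply hHB
    have := (conj_mem_of_normalizer _ _ _ (hNH hn) htH).1
    simpa using this
  · -- subset
    rintro n ⟨i, hi, hn⟩
    rw [SetLike.mem_coe, Subgroup.mem_subgroupOf, hS n i hi hn]
    exact nUi_mem hA hadd i
  · -- sq_mem
    rintro n ⟨i, hi, hn⟩
    rw [Subgroup.mem_subgroupOf]
    show (n : GL D.Idx F) * (n : GL D.Idx F) ∈ D.borelSubgroup F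
    rw [hS n i hi hn]
    exact hHB (hsq i hi)
  · -- inj
    rintro s ⟨i, hi, hs⟩ s' ⟨j, hj, hs'⟩ hmem
    by_cases hij : D.simple i = D.simple j
    · apply Subtype.ext
      apply Units.ext
      rw [hs, hs', hij]
    · exfalso
      rw [Subgroup.mem_subgroupOf] at hmem
      have hmem' : (s : GL D.Idx F)⁻¹ * (s' : GL D.Idx F) ∈ D.borelSubgroup F := hmem
      rw [hS s i hi hs, hS s' j hj hs'] at hmem'
      obtain ⟨k, hk, ek⟩ := nUi_inv hA hadd hi
      have hjN : nUi hA hadd j ∈ Subgroup.normalizer (D.diagonalSubgroup F : Set (GL D.Idx F)) :=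
        hNH (nUi_mem hA hadd j)
      have hk' := (conj_mem_of_normalizer _ _ _ hjN hk).2
      have e : (nUi hA hadd i)⁻¹ * nUi hA hadd j
          = nWordU hA hadd [i, j] * ((nUi hA hadd j)⁻¹ * k * nUi hA hadd j) := by
        rw [ek]
        simp only [nWordU, List.map_cons, List.map_nil, List.prod_cons, List.prod_nil, mul_one]
        group
      rw [e] at hmem'
      have hL : ∀ x ∈ [i, j], x < D.rank := by
        intro x hx
        simp only [List.mem_cons, List.not_mem_nil, or_false] at hx
        rcases hx with rfl | rfl <;> assumption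
      have hnd := no_desc_of_mem_borel D hD hA hadd Bs hB [i, j] hL _ hk' hmem' j hj
      -- but `w_i w_j p_j` is negative
      have hl : T.rank = D.rank := hA.rank_eq
      have hn : T.nroots = D.nroots := hA.nroots_eq
      have hpj := simple_lt' hA hj
      have hw : wOf (Bs.getD j 0) (D.simple j) = D.neg (D.simple j) := by
        have hs2 := ((hB j hj).side hA).2.2 (D.simple j) hpj
        rw [← hs2.2.2, FD.neg_eq' hA _ hpj, FD.simple_eq' hA j hj]
        unfold FD.reflect
        rw [if_pos rfl]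
      have hci := (hB i hi).cert hA
      have e2 : wW Bs [i, j] (D.simple j) = T.neg (wOf (Bs.getD i 0) (D.simple j)) := by
        show wOf (Bs.getD i 0) (wOf (Bs.getD j 0) (D.simple j)) = _
        rw [hw, FD.neg_eq' hA _ hpj, hci.neg_w _ hpj]
      rw [e2] at hnd
      have hpos : T.nroots / 2 ≤ wOf (Bs.getD i 0) (D.simple j) := by
        rw [FD.simple_eq' hA j hj]
        apply h1.w_pos i (hl ▸ hi) _ (hn ▸ hA.simple_lt j hj) (h1.p_pos j (hl ▸ hj))
        rw [← FD.simple_eq' hA i hi, ← FD.simple_eq' hA j hj]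
        exact fun h => hij h.symm
      have := (h1.neg_sign _ (hn ▸ hci.w_lt _ hpj)).2 hpos
      rw [hn] at this
      omega
  · -- closure_sup
    apply le_antisymm
    · apply sup_le _ inf_le_right
      rw [Subgroup.closure_le]
      rintro n ⟨i, hi, hn⟩
      rw [SetLike.mem_coe, Subgroup.mem_subgroupOf, hS n i hi hn]
      exact nUi_mem hA hadd i
    · intro x hx
      rw [Subgroup.mem_subgroupOf] at hx
      obtain ⟨L, hL, h, hh, e⟩ := monomial_le_NWH hA hadd Bs hB hH gH baseH fuel hr hbase hx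
      have hνG : nWordU hA hadd L ∈ D.group F := hNG (nWordU_mem hA hadd L)
      have hhG : h ∈ D.group F := hNG (hHN hh)
      have ex : x = (⟨nWordU hA hadd L, hνG⟩ : ↥(D.group F)) * ⟨h, hhG⟩ := Subtype.ext e
      rw [ex]
      apply Subgroup.mul_mem
      · apply Subgroup.mem_sup_left
        clear ex e hx
        induction L with
        | nil =>
          have : (⟨nWordU hA hadd [], hνG⟩ : ↥(D.group F)) = 1 := Subtype.ext rfl
          rw [this]
          exact Subgroup.one_mem _
        | cons i L ih =>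
          have hi := hL i List.mem_cons_self
          have hiG : nUi hA hadd i ∈ D.group F := hNG (nUi_mem hA hadd i)
          have hLG : nWordU hA hadd L ∈ D.group F := hNG (nWordU_mem hA hadd L)
          have : (⟨nWordU hA hadd (i :: L), hνG⟩ : ↥(D.group F))
              = ⟨nUi hA hadd i, hiG⟩ * ⟨nWordU hA hadd L, hLG⟩ :=
            Subtype.ext (nWordU_cons hA hadd i L)
          rw [this]
          apply Subgroup.mul_mem
          · apply Subgroup.subset_closure
            exact ⟨i, hi, nUi_val hA hadd hi⟩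
          · exact ih (fun j hj => hL j (List.mem_cons_of_mem _ hj)) hLG
      · apply Subgroup.mem_sup_right
        exact ⟨Subgroup.mem_subgroupOf.2 (hHB hh), Subgroup.mem_subgroupOf.2 (hHN hh)⟩
  · -- mul_mem_union
    rintro s ⟨i, hi, hs⟩ n hn b hb
    rw [Subgroup.mem_subgroupOf] at hn hb
    rcases bn_axiom_all D hD i hi (s : GL D.Idx F) hs (n : GL D.Idx F) hn (b : GL D.Idx F) hb with
      ⟨b1, hb1, b2, hb2, e⟩ | ⟨b1, hb1, b2, hb2, e⟩
    · left
      rw [DoubleCoset.mem_doubleCoset]
      exact ⟨⟨b1, hBG hb1⟩, Subgroup.mem_subgroupOf.2 hb1, ⟨b2, hBG hb2⟩,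
        Subgroup.mem_subgroupOf.2 hb2, Subtype.ext e⟩
    · right
      rw [DoubleCoset.mem_doubleCoset]
      exact ⟨⟨b1, hBG hb1⟩, Subgroup.mem_subgroupOf.2 hb1, ⟨b2, hBG hb2⟩,
        Subgroup.mem_subgroupOf.2 hb2, Subtype.ext e⟩
  · -- conj_ne
    rintro s ⟨i, hi, hs⟩ heq
    obtain ⟨hp, hq⟩ := simple_lt_all D hD i hi
    have hxB : hadd.xU (D.simple i) 1 ∈ D.borelSubgroup F :=
      hUB (Subgroup.subset_closure ⟨_, 1, pos_simple_all D hD i hi, rfl⟩)
    have hmem : s * ⟨hadd.xU (D.simple i) 1, hBG hxB⟩ * s ∈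
        (fun b : ↥(D.group F) => s * b * s) ''
          (((D.borelSubgroup F).subgroupOf (D.group F) : Subgroup ↥(D.group F)) :
            Set ↥(D.group F)) :=
      ⟨_, Subgroup.mem_subgroupOf.2 hxB, rfl⟩
    rw [heq, SetLike.mem_coe, Subgroup.mem_subgroupOf] at hmem
    have hmem' : (s : GL D.Idx F) * hadd.xU (D.simple i) 1 * (s : GL D.Idx F)
        ∈ D.borelSubgroup F := hmem
    rw [hS s i hi hs] at hmem'
    have e1 := nU_conj_xU hA hadd i _ hi (hB i hi) hp hq (1 : F)
    rw [← nUi_pos hA hadd hi] at e1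
    have e2 : hadd.xU (D.neg (D.simple i)) (((etaOf (Bs.getD i 0) (D.simple i) : ℤ) : F) * 1)
        = nUi hA hadd i * hadd.xU (D.simple i) 1 * nUi hA hadd i *
          (nUi hA hadd i * nUi hA hadd i)⁻¹ := by
      rw [← e1]
      group
    have hx : hadd.xU (D.neg (D.simple i)) (((etaOf (Bs.getD i 0) (D.simple i) : ℤ) : F) * 1)
        ∈ D.borelSubgroup F ⊓ D.negUnipotent F := by
      constructor
      · rw [e2]
        exact Subgroup.mul_mem _ hmem' (Subgroup.inv_mem _ (hHB (hsq i hi)))
      · apply Subgroup.subset_closure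
        refine ⟨_, _, ?_, rfl⟩
        apply neg_of_lt_half D hD _ hq
        have hl : T.rank = D.rank := hA.rank_eq
        have hn : T.nroots = D.nroots := hA.nroots_eq
        have := (h1.neg_sign _ (hn ▸ hA.simple_lt i hi)).2 (h1.p_pos i (hl ▸ hi))
        rw [FD.neg_eq' hA _ hp, FD.simple_eq' hA i hi, ← hn]
        exact this
    rw [(borel_inf_neg_all D hD).1, Subgroup.mem_bot] at hx
    have := xInj_all (F := F) D hD _ hq _ (congrArg Units.val hx)
    rw [mul_one] at this
    rcases etaOf_pm (Bs.getD i 0) (D.simple i) with h3 | h3 <;> rw [h3] at this <;> simp at this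

end

end Cfsg.Agent.Lib.Helper5.Chev
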