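import Cfsg.Agent.Lib.Helper5.Chev.UCardAll
import Mathlib

/-!
# The elements of `U` as ordered products of root elements (helper5)
-/

set_option autoImplicit false

namespace Cfsg.Agent.Lib.Helper5.Chev

open Cfsg.Lie
open scoped Matrix

theorem filter_range_ge (n h : ℕ) (hn : h ≤ n) (p : ℕ → Bool)
    (hp : ∀ r < n, p r = true ↔ h ≤ r) :
    (List.range n).filter p = List.range' h (n - h) := by
  have e : List.range n = List.range' 0 h ++ List.range' h (n - h) := by
    rw [List.range_eq_range']
    have := List.range'_append (s := 0) (m := h) (n := n - h) (step := 1)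
    simp only [Nat.one_mul, Nat.zero_add] at this
    rw [this]
    congr 1
    omega
  rw [e, List.filter_append]
  have h1 : (List.range' 0 h).filter p = [] := by
    rw [List.filter_eq_nil_iff]
    intro r hr
    rw [List.mem_range'_1] at hr
    intro hpr
    have := (hp r (by omega)).1 hpr
    omega
  have h2 : (List.range' h (n - h)).filter p = List.range' h (n - h) := by
    rw [List.filter_eq_self]
    intro r hr
    rw [List.mem_range'_1] at hr
    exact (hp r (by omega)).2 hr.1
  rw [h1, h2, List.nil_append]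

section

variable {F : Type*} [Field F] {T : FD} {D : ChevalleyDatum}

/-- the word of the root elements `x_r(t r)`, `k ≤ r < k + m`, in increasing order -/
def wordOf (k m : ℕ) (t : ℕ → F) : List (ℕ × F) := (List.range' k m).map fun r => (r, t r)

omit [Field F] in
theorem wordOf_succ (k m : ℕ) (t : ℕ → F) :
    wordOf k (m + 1) t = (k, t k) :: wordOf (k + 1) m t := by
  unfold wordOf
  rw [List.range'_succ, List.map_cons]

theorem wordU_cons (hadd : AllAdd F D) (a : ℕ × F) (L : List (ℕ × F)) :
    hadd.wordU (a :: L) = hadd.xU a.1 a.2 * hadd.wordU L := by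
  unfold AllAdd.wordU
  rw [List.map_cons, List.prod_cons]

theorem UF_mono (k : ℕ) : UF F D (k + 1) ≤ UF F D k := by
  unfold UF
  apply Subgroup.closure_mono
  rintro g ⟨r, t, hr, hkr, hg⟩
  exact ⟨r, t, hr, by omega, hg⟩

theorem xU_injective (hadd : AllAdd F D) (k : ℕ) (hinj : XInj F D k) (t u : F)
    (h : hadd.xU k t = hadd.xU k u) : t = u := by
  have h1 : D.x F k t = D.x F k u := congrArg Units.val h
  have h2 : D.x F k (t + -u) = 1 := by
    rw [← hadd.x_add, h1, hadd.x_mul_neg]
  have := hinj _ h2
  exact eq_of_sub_eq_zero (by rw [sub_eq_add_neg]; exact this)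

/-- the ordered products lie in the terms of the filtration -/
theorem wordOf_mem (hadd : AllAdd F D) (hok : UFOK T D) :
    ∀ m k : ℕ, D.nroots / 2 ≤ k → k + m = D.nroots → ∀ t : ℕ → F,
      hadd.wordU (wordOf k m t) ∈ UF F D k := by
  intro m
  induction m with
  | zero =>
    intro k _ _ t
    exact Subgroup.one_mem _
  | succ m ih =>
    intro k hle hk t
    rw [wordOf_succ, wordU_cons]
    exact Subgroup.mul_mem _ (xU_mem_UF hadd k k (hok.pos_of_le k (by omega) hle) (le_refl _) _)
      (UF_mono k (ih (k + 1) (by omega) (by omega) t))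

/-- every element of a term of the filtration is an ordered product -/
theorem exists_wordOf (hA : T.Agrees D) (hadd : AllAdd F D) (hok : UFOK T D)
    (htri : ∀ r < D.nroots, TriOK T D r)
    (hcomm : ∀ r < D.nroots, ∀ s < D.nroots, CommOK' F D r s) :
    ∀ m k : ℕ, D.nroots / 2 ≤ k → k + m = D.nroots → ∀ g ∈ UF F D k,
      ∃ t : ℕ → F, g = hadd.wordU (wordOf k m t) := by
  intro m
  induction m with
  | zero =>
    intro k _ hk g hg
    rw [Nat.add_zero] at hk
    rw [hk, UF_top, Subgroup.mem_bot] at hg
    exact ⟨fun _ => 0, by rw [hg]; rfl⟩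
  | succ m ih =>
    intro k hle hk g hg
    have hkn : k < D.nroots := by omega
    rw [UF_succ hok k hkn hle, ← SetLike.mem_coe,
      Subgroup.coe_mul_of_left_le_normalizer_right _ _
        (rootSubgroup_le_normalizer_UF hA hadd hok htri hcomm k hkn hle), Set.mem_mul] at hg
    obtain ⟨x, hx, g', hg', rfl⟩ := hg
    obtain ⟨a, rfl⟩ := (mem_rootSubgroup_iff hadd k x).1 hx
    obtain ⟨t', rfl⟩ := ih (k + 1) (by omega) (by omega) g' hg'
    refine ⟨Function.update t' k a, ?_⟩
    rw [wordOf_succ, wordU_cons, Function.update_self]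
    congr 2
    unfold wordOf
    apply List.map_congr_left
    intro r hr
    rw [List.mem_range'_1] at hr
    rw [Function.update_of_ne (by omega)]

/-- the parameters of an ordered product are determined -/
theorem wordOf_injective (hA : T.Agrees D) (hadd : AllAdd F D) (hok : UFOK T D)
    (htri : ∀ r < D.nroots, TriOK T D r) (hcor : ∀ s < D.nroots, CorInj F D s)
    (hinj : ∀ s < D.nroots, XInj F D s) :
    ∀ m k : ℕ, D.nroots / 2 ≤ k → k + m = D.nroots → ∀ t t' : ℕ → F,
      hadd.wordU (wordOf k m t) = hadd.wordU (wordOf k m t') →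
      ∀ r, k ≤ r → r < D.nroots → t r = t' r := by
  intro m
  induction m with
  | zero =>
    intro k _ hk t t' _ r h1 h2
    omega
  | succ m ih =>
    intro k hle hk t t' h r h1 h2
    have hkn : k < D.nroots := by omega
    rw [wordOf_succ, wordOf_succ, wordU_cons, wordU_cons] at h
    have hw := wordOf_mem hadd hok m (k + 1) (by omega) (by omega) t
    have hw' := wordOf_mem hadd hok m (k + 1) (by omega) (by omega) t'
    have e : (hadd.xU k (t' k))⁻¹ * hadd.xU k (t k)
        = hadd.wordU (wordOf (k + 1) m t') * (hadd.wordU (wordOf (k + 1) m t))⁻¹ := by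
      rw [inv_mul_eq_iff_eq_mul, ← mul_assoc, eq_mul_inv_iff_mul_eq]
      exact h
    have hmem : (hadd.xU k (t' k))⁻¹ * hadd.xU k (t k) ∈ D.rootSubgroup F k ⊓ UF F D (k + 1) := by
      refine ⟨Subgroup.mul_mem _ (Subgroup.inv_mem _ (xU_mem_rootSubgroup hadd k _))
        (xU_mem_rootSubgroup hadd k _), ?_⟩
      rw [e]
      exact Subgroup.mul_mem _ hw' (Subgroup.inv_mem _ hw)
    rw [rootSubgroup_inf_UF hA hadd hok htri hcor k hkn hle, Subgroup.mem_bot,
      inv_mul_eq_one] at hmem
    have hk0 : t k = t' k := (xU_injective hadd k (hinj k hkn) _ _ hmem).symm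
    rcases Nat.eq_or_lt_of_le h1 with h3 | h3
    · rw [← h3]; exact hk0
    · rw [hmem] at h
      exact ih (k + 1) (by omega) (by omega) t t' (mul_left_cancel h) r (by omega) h2

end

section

variable {F : Type*} [Field F]

/-- the elements of `U` are uniquely the ordered products of positive root elements -/
theorem unique_product_all (D : ChevalleyDatum)
    (hD : D ∈ [chevG2, chevB2, chevD4, chevF4, chevE6, chevE7, chevE8]) :
    (∀ g : GL D.Idx F, g ∈ D.posUnipotent F →
      ∃! t : ℕ → F, (∀ r, ¬ D.IsPosRoot r → t r = 0) ∧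
        (g : Matrix D.Idx D.Idx F) = D.wordMat F (D.posRoots.map fun r => (r, t r))) ∧
    (∀ t : ℕ → F, ∃ g : GL D.Idx F, g ∈ D.posUnipotent F ∧
      (g : Matrix D.Idx D.Idx F) = D.wordMat F (D.posRoots.map fun r => (r, t r))) := by
  obtain ⟨T, hA, hok, htri, heven⟩ := ufok_known D hD
  have hadd := allAdd_all (F := F) D hD
  have hcomm := comm_known (F := F) D hD
  have hcor := corInj_all (F := F) D hD
  have hinj := xInj_all (F := F) D hD
  have hpos : ∀ r, D.IsPosRoot r ↔ (D.nroots / 2 ≤ r ∧ r < D.nroots) := by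
    intro r
    constructor
    · intro hr
      have := ((htri r hr.1).1 hr).1
      rw [hA.nroots_eq] at this
      exact ⟨this, hr.1⟩
    · rintro ⟨h1, h2⟩
      exact hok.pos_of_le r h2 h1
  have hroots : D.posRoots = List.range' (D.nroots / 2) (D.nroots / 2) := by
    unfold ChevalleyDatum.posRoots
    rw [filter_range_ge D.nroots (D.nroots / 2) (Nat.div_le_self _ _)]
    · congr 1
      omega
    · intro r hr
      rw [decide_eq_true_iff, hpos]
      exact ⟨fun h => h.1, fun h => ⟨h, hr⟩⟩
  have hword : ∀ t : ℕ → F, (D.posRoots.map fun r => (r, t r)) = wordOf (D.nroots / 2) (D.nroots / 2) t := by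
    intro t
    rw [hroots]
    rfl
  have hsum : D.nroots / 2 + D.nroots / 2 = D.nroots := by omega
  constructor
  · intro g hg
    rw [← UF_half (F := F) htri hA] at hg
    obtain ⟨t0, ht0⟩ := exists_wordOf hA hadd hok htri hcomm _ _ (le_refl _) hsum g hg
    have hcongr : wordOf (D.nroots / 2) (D.nroots / 2) (fun r => if D.IsPosRoot r then t0 r else 0)
        = wordOf (D.nroots / 2) (D.nroots / 2) t0 := by
      unfold wordOf
      apply List.map_congr_left
      intro r hr
      rw [List.mem_range'_1] at hr
      simp only [if_pos ((hpos r).2 ⟨hr.1, by omega⟩)]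
    refine ⟨fun r => if D.IsPosRoot r then t0 r else 0, ⟨?_, ?_⟩, ?_⟩
    · intro r hr
      simp only [if_neg hr]
    · rw [hword, hcongr, ht0, hadd.wordU_val]
    · rintro t' ⟨h1, h2⟩
      funext r
      by_cases hr : D.IsPosRoot r
      · simp only [if_pos hr]
        have e : hadd.wordU (wordOf (D.nroots / 2) (D.nroots / 2) t')
            = hadd.wordU (wordOf (D.nroots / 2) (D.nroots / 2) t0) := by
          apply Units.ext
          rw [hadd.wordU_val, hadd.wordU_val, ← hword, ← h2, ht0, hadd.wordU_val]
        exact wordOf_injective hA hadd hok htri hcor hinj _ _ (le_refl _) hsum t' t0 e r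
          ((hpos r).1 hr).1 ((hpos r).1 hr).2
      · simp only [if_neg hr]
        exact h1 r hr
  · intro t
    refine ⟨hadd.wordU (wordOf (D.nroots / 2) (D.nroots / 2) t), ?_, ?_⟩
    · rw [← UF_half (F := F) htri hA]
      exact wordOf_mem hadd hok _ _ (le_refl _) hsum t
    · rw [hadd.wordU_val, hword]

end

end Cfsg.Agent.Lib.Helper5.Chev
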