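import Cfsg.Agent.Lib.Helper5.Chev.MonoB
import Cfsg.Agent.Lib.Helper5.Chev.UProd
import Mathlib

/-!
# The orders of `U` and `B` (helper5)
-/

set_option autoImplicit false

namespace Cfsg.Agent.Lib.Helper5.Chev

open Cfsg.Lie
open scoped Matrix

theorem nroots_even (D : ChevalleyDatum)
    (hD : D ∈ [chevG2, chevB2, chevD4, chevF4, chevE6, chevE7, chevE8]) :
    D.nroots = 2 * (D.nroots / 2) := by
  simp only [List.mem_cons, List.not_mem_nil, or_false] at hD
  rcases hD with rfl | rfl | rfl | rfl | rfl | rfl | rfl <;> decide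

/-- the number of positive roots -/
theorem card_posRoot (D : ChevalleyDatum)
    (hD : D ∈ [chevG2, chevB2, chevD4, chevF4, chevE6, chevE7, chevE8]) :
    Nat.card {r : ℕ // D.IsPosRoot r} = D.nroots / 2 := by
  classical
  have hfin : Fintype {r : ℕ // D.IsPosRoot r} :=
    Fintype.subtype (Finset.Ico (D.nroots / 2) D.nroots) (by
      intro r
      rw [Finset.mem_Ico]
      constructor
      · rintro ⟨h1, h2⟩
        exact (pos_iff_all D hD r h2).2 h1
      · intro h
        exact ⟨(pos_iff_all D hD r h.1).1 h, h.1⟩)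
  rw [Nat.card_eq_fintype_card, Fintype.card_of_subtype (Finset.Ico (D.nroots / 2) D.nroots)]
  · rw [Nat.card_Ico]
    have := nroots_even D hD
    omega
  · intro r
    rw [Finset.mem_Ico]
    constructor
    · rintro ⟨h1, h2⟩
      exact (pos_iff_all D hD r h2).2 h1
    · intro h
      exact ⟨(pos_iff_all D hD r h.1).1 h, h.1⟩

section

variable {F : Type*} [Field F]

/-- `|U| = q ^ N` -/
theorem card_posUnipotent [Finite F] (D : ChevalleyDatum)
    (hD : D ∈ [chevG2, chevB2, chevD4, chevF4, chevE6, chevE7, chevE8]) :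
    Nat.card (D.posUnipotent F) = Nat.card F ^ (D.nroots / 2) := by
  classical
  obtain ⟨huniq, hex⟩ := unique_product_all (F := F) D hD
  -- the families of parameters
  let S := {t : ℕ → F // ∀ r, ¬ D.IsPosRoot r → t r = 0}
  have hex' : ∀ t : S, ∃ g : D.posUnipotent F,
      ((g : GL D.Idx F) : Matrix D.Idx D.Idx F)
        = D.wordMat F (D.posRoots.map fun r => (r, t.1 r)) := by
    intro t
    obtain ⟨g, hg, e⟩ := hex t.1
    exact ⟨⟨g, hg⟩, e⟩
  choose φ hφ using hex'
  have hbij : Function.Bijective φ := by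
    constructor
    · intro t t' h
      obtain ⟨t0, -, h0⟩ := huniq (φ t : GL D.Idx F) (φ t).2
      have e1 := h0 t.1 ⟨t.2, hφ t⟩
      have e2 := h0 t'.1 ⟨t'.2, by rw [h]; exact hφ t'⟩
      exact Subtype.ext (e1.trans e2.symm)
    · intro g
      obtain ⟨t0, ⟨ht0, e0⟩, -⟩ := huniq (g : GL D.Idx F) g.2
      refine ⟨⟨t0, ht0⟩, ?_⟩
      apply Subtype.ext
      apply Units.ext
      rw [hφ ⟨t0, ht0⟩, e0]
  rw [← Nat.card_congr (Equiv.ofBijective φ hbij)]
  have e : S ≃ ({r : ℕ // D.IsPosRoot r} → F) :=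
    { toFun := fun t r => t.1 r.1
      invFun := fun f => ⟨fun r => if h : D.IsPosRoot r then f ⟨r, h⟩ else 0, fun r hr => by
        show (if h : D.IsPosRoot r then f ⟨r, h⟩ else 0) = 0
        rw [dif_neg hr]⟩
      left_inv := fun t => by
        apply Subtype.ext
        funext r
        by_cases h : D.IsPosRoot r
        · show (if h : D.IsPosRoot r then t.1 r else 0) = t.1 r
          rw [dif_pos h]
        · show (if h : D.IsPosRoot r then t.1 r else 0) = t.1 r
          rw [dif_neg h, t.2 r h]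
      right_inv := fun f => by
        funext r
        show (if h : D.IsPosRoot r.1 then f ⟨r.1, h⟩ else 0) = f r
        rw [dif_pos r.2] }
  have hfin : Finite {r : ℕ // D.IsPosRoot r} := by
    apply Finite.of_injective (fun r : {r : ℕ // D.IsPosRoot r} => (⟨r.1, r.2.1⟩ : Fin D.nroots))
    intro r r' h
    exact Subtype.ext (Fin.mk.inj_iff.1 h)
  rw [Nat.card_congr e, Nat.card_fun, card_posRoot D hD]

/-- `|B| = |U| |H|` -/
theorem card_borel (D : ChevalleyDatum)
    (hD : D ∈ [chevG2, chevB2, chevD4, chevF4, chevE6, chevE7, chevE8]) :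
    Nat.card (D.borelSubgroup F)
      = Nat.card (D.posUnipotent F) * Nat.card (D.diagonalSubgroup F) := by
  obtain ⟨hHU, hbot⟩ := borel_semidirect_all (F := F) D hD
  have hUB : D.posUnipotent F ≤ D.borelSubgroup F := le_sup_left
  have hHB : D.diagonalSubgroup F ≤ D.borelSubgroup F := le_sup_right
  rw [← Nat.card_prod]
  symm
  apply Nat.card_congr
  refine Equiv.ofBijective
    (fun p : ↥(D.posUnipotent F) × ↥(D.diagonalSubgroup F) =>
      (⟨(p.1 : GL D.Idx F) * p.2, Subgroup.mul_mem _ (hUB p.1.2) (hHB p.2.2)⟩ :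
        ↥(D.borelSubgroup F))) ⟨?_, ?_⟩
  · rintro ⟨u, h⟩ ⟨u', h'⟩ e
    have e1 : (u : GL D.Idx F) * h = (u' : GL D.Idx F) * h' := congrArg Subtype.val e
    have e2 : (u' : GL D.Idx F)⁻¹ * u = (h' : GL D.Idx F) * (h : GL D.Idx F)⁻¹ := by
      calc (u' : GL D.Idx F)⁻¹ * u = (u' : GL D.Idx F)⁻¹ * ((u : GL D.Idx F) * h) *
            (h : GL D.Idx F)⁻¹ := by group
        _ = _ := by
          rw [e1]
          group
    have hmem : (u' : GL D.Idx F)⁻¹ * u ∈ D.posUnipotent F ⊓ D.diagonalSubgroup F := by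
      refine ⟨Subgroup.mul_mem _ (Subgroup.inv_mem _ u'.2) u.2, ?_⟩
      rw [e2]
      exact Subgroup.mul_mem _ h'.2 (Subgroup.inv_mem _ h.2)
    rw [hbot, Subgroup.mem_bot] at hmem
    have hu : (u : GL D.Idx F) = u' := (inv_mul_eq_one.1 hmem).symm
    have hh : (h : GL D.Idx F) = h' := by
      rw [hu] at e1
      exact mul_left_cancel e1
    rw [Subtype.ext hu, Subtype.ext hh]
  · rintro ⟨b, hb⟩
    unfold ChevalleyDatum.borelSubgroup at hb
    rw [← SetLike.mem_coe, Subgroup.coe_mul_of_right_le_normalizer_left _ _ hHU,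
      Set.mem_mul] at hb
    obtain ⟨u, hu, h, hh, rfl⟩ := hb
    exact ⟨(⟨u, hu⟩, ⟨h, hh⟩), rfl⟩

end

end Cfsg.Agent.Lib.Helper5.Chev
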