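import Cfsg.Agent.Lib.Helper5.Chev.Fast
import Cfsg.Prelude.Def_ChevB2
import Mathlib

set_option autoImplicit false
set_option maxRecDepth 100000

namespace Cfsg.Agent.Lib.Helper5.Chev.DataB2

open Cfsg.Lie Cfsg.Agent.Lib.Helper5.Chev Cfsg.Agent.Lib.Helper5.Chev.BT

/-- root record -/
def rd0 : RD := ⟨0, 7, 0x403000000802000000000000000000000000000000000000000000000, [Int.negSucc 0, Int.negSucc 0], 0x31⟩
/-- root record -/
def rd1 : RD := ⟨1, 6, 0x804406000000000000000204000801803000000000000000a01000000000000000000, [Int.negSucc 0, Int.negSucc 1], 0x23⟩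
/-- root record -/
def rd2 : RD := ⟨2, 5, 0x405807000000205000000000000000000000401802000000000000000201000000000, [Int.negSucc 0, Int.ofNat 0], 0x41⟩
/-- root record -/
def rd3 : RD := ⟨3, 4, 0x806000000000000000000000000000000000402000000000000000000, [Int.ofNat 0, Int.negSucc 0], 0x15⟩
/-- root record -/
def rd4 : RD := ⟨4, 3, 0x807000000000000000000000000000000000403000000000, [Int.ofNat 0, Int.ofNat 1], 0x51⟩
/-- root record -/
def rd5 : RD := ⟨5, 2, 0xa08000000000000408407000000000000000000000000a04000404402, [Int.ofNat 1, Int.ofNat 0], 0x25⟩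
/-- root record -/
def rd6 : RD := ⟨6, 1, 0x208000000000000808406000000a05000000000000805803, [Int.ofNat 1, Int.ofNat 2], 0x43⟩
/-- root record -/
def rd7 : RD := ⟨7, 0, 0x407000000806000000000, [Int.ofNat 1, Int.ofNat 1], 0x35⟩
/-- tree of root records -/
def rdT : BT RD := (node (node (node (node leaf rd7 leaf) rd3 leaf) rd1 (node leaf rd5 leaf)) rd0 (node (node leaf rd4 leaf) rd2 (node leaf rd6 leaf)))

/-- the fast datum -/
def fd : FD := ⟨2, 8, [5, 4], rdT⟩

theorem agreesb_eq : fd.agreesb chevB2 = true := by decide +kernel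
theorem ac0 : fd.agreesC chevB2 0 8 = true := by decide +kernel

theorem agrees : fd.Agrees chevB2 :=
  FD.agrees_of_agreesb _ _ agreesb_eq (FD.chainAgree_all fd chevB2 8 1 (by norm_num) (by decide)
    (by intro q hq; interval_cases q
        · exact ac0
    ))

end Cfsg.Agent.Lib.Helper5.Chev.DataB2
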