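import Cfsg.Agent.Lib.Helper5.Chev.LeviGrade
import Cfsg.Agent.Lib.Helper5.Chev.DataD4
import Cfsg.Agent.Lib.Helper5.Chev.TrD4
import Mathlib

set_option autoImplicit false
set_option maxRecDepth 100000

namespace Cfsg.Agent.Lib.Helper5.Chev.LvD4

open Cfsg.Lie Cfsg.Agent.Lib.Helper5.Chev Cfsg.Agent.Lib.Helper5.Chev.BT

/-- the coordinates of the roots in the fundamental roots -/
def mT : BT (List ℤ) := (node (node (node (node (node leaf [Int.ofNat 0, Int.ofNat 1, Int.ofNat 0, Int.ofNat 1] leaf) [Int.ofNat 0, Int.negSucc 0, Int.negSucc 0, Int.ofNat 0] (node leaf [Int.ofNat 1, Int.ofNat 2, Int.ofNat 1, Int.ofNat 1] leaf)) [Int.negSucc 0, Int.negSucc 0, Int.ofNat 0, Int.negSucc 0] (node (node leaf [Int.ofNat 1, Int.ofNat 1, Int.ofNat 0, Int.ofNat 0] leaf) [Int.ofNat 0, Int.ofNat 0, Int.ofNat 0, Int.negSucc 0] leaf)) [Int.negSucc 0, Int.negSucc 0, Int.negSucc 0, Int.negSucc 0] (node (node (node leaf [Int.ofNat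 0, Int.ofNat 1, Int.ofNat 1, Int.ofNat 1] leaf) [Int.ofNat 0, Int.negSucc 0, Int.ofNat 0, Int.ofNat 0] leaf) [Int.negSucc 0, Int.ofNat 0, Int.ofNat 0, Int.ofNat 0] (node (node leaf [Int.ofNat 1, Int.ofNat 1, Int.ofNat 1, Int.ofNat 0] leaf) [Int.ofNat 0, Int.ofNat 0, Int.ofNat 1, Int.ofNat 0] leaf))) [Int.negSucc 0, Int.negSucc 1, Int.negSucc 0, Int.negSucc 0] (node (node (node (node leaf [Int.ofNat 0, Int.ofNat 1, Int.ofNat 1, Int.ofNat 0] leaf) [Int.ofNat 0, Int.negSucc 0, Int.ofNat 0, Int.negSucc 0] leaf) [Int.negSucc 0, Int.negSucc 0, Int.ofNat 0, Int.ofNat 0] (node (node leaf [Int.ofNat 1, Int.ofNat 1, Int.ofNat 0, Int.ofNat 1] leaf) [Int.ofNat 0, Int.ofNat 0, Int.ofNat 0, Int.ofNat 1] leaf)) [Int.negSucc 0, Int.negSucc 0, Int.negSucc 0, Int.ofNat 0] (node (node (node leaf [Int.ofNat 1, Int.ofNat 0, Int.ofNat 0, Int.ofNat 0] leaf) [Int.ofNat 0, Int.ofNat 0, Int.negSucc 0, Int.ofNat 0] leaf) [Int.ofNat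 0, Int.negSucc 0, Int.negSucc 0, Int.negSucc 0] (node (node leaf [Int.ofNat 1, Int.ofNat 1, Int.ofNat 1, Int.ofNat 1] leaf) [Int.ofNat 0, Int.ofNat 1, Int.ofNat 0, Int.ofNat 0] leaf))))

theorem rc0 : rcb DataD4.fd mT 0 24 = true := by decide +kernel

theorem rcOK : ∀ r < chevD4.nroots, RootCoordOK DataD4.fd chevD4 mT r :=
  rootCoordOK_all DataD4.agrees mT 24 1 (by norm_num) (by decide)
    (by intro q hq; interval_cases q
        · exact rc0
    )

theorem lv0 : levib DataD4.fd 0 24 = true := by decide +kernel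

theorem posIff : ∀ r < chevD4.nroots, (chevD4.IsPosRoot r ↔ chevD4.nroots / 2 ≤ r) :=
  pos_iff_of_tri DataD4.agrees TrD4.triOK (pos_or_neg_all chevD4 (by simp))

theorem leviOK : ∀ r < chevD4.nroots, LeviOK DataD4.fd chevD4 r :=
  leviOK_all DataD4.agrees posIff 24 1 (by norm_num) (by decide)
    (by intro q hq; interval_cases q
        · exact lv0
    )

end Cfsg.Agent.Lib.Helper5.Chev.LvD4
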