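import Cfsg.Agent.Lib.Helper5.Chev.TriChev
import Cfsg.Agent.Lib.Helper5.Chev.DataE6
import Mathlib

set_option autoImplicit false
set_option maxRecDepth 100000

namespace Cfsg.Agent.Lib.Helper5.Chev.TrE6

open Cfsg.Lie Cfsg.Agent.Lib.Helper5.Chev

theorem tr0 : trib DataE6.fd chevE6 0 36 = true := by decide +kernel
theorem tr1 : trib DataE6.fd chevE6 36 36 = true := by decide +kernel

theorem triOK : ∀ r < chevE6.nroots, TriOK DataE6.fd chevE6 r :=
  triOK_all DataE6.fd chevE6 72 36 2 (by norm_num) (by norm_num)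
    (by intro q hq; interval_cases q
        · exact tr0
        · exact tr1
    )

end Cfsg.Agent.Lib.Helper5.Chev.TrE6
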