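import Cfsg.Agent.Lib.Helper5.Chev.LeviGrade
import Cfsg.Agent.Lib.Helper5.Chev.DataE6
import Cfsg.Agent.Lib.Helper5.Chev.TrE6
import Mathlib

set_option autoImplicit false
set_option maxRecDepth 100000

namespace Cfsg.Agent.Lib.Helper5.Chev.LvE6

open Cfsg.Lie Cfsg.Agent.Lib.Helper5.Chev Cfsg.Agent.Lib.Helper5.Chev.BT

/-- the coordinates of the roots in the fundamental roots -/
def mT : BT (List ℤ) := (node (node (node (node (node (node (node leaf [Int.ofNat 1, Int.ofNat 1, Int.ofNat 1, Int.ofNat 1, Int.ofNat 1, Int.ofNat 1] leaf) [Int.ofNat 0, Int.ofNat 0, Int.ofNat 0, Int.negSucc 0, Int.negSucc 0, Int.ofNat 0] leaf) [Int.negSucc 0, Int.ofNat 0, Int.ofNat 0, Int.ofNat 0, Int.ofNat 0, Int.ofNat 0] (node leaf [Int.ofNat 0, Int.ofNat 1, Int.ofNat 0, Int.ofNat 1, Int.ofNat 0, Int.ofNat 0] leaf)) [Int.negSucc 0, Int.negSucc 0, Int.negSucc 0, Int.negSucc 1, Int.negSucc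 0, Int.ofNat 0] (node (node (node leaf [Int.ofNat 1, Int.ofNat 2, Int.ofNat 2, Int.ofNat 3, Int.ofNat 2, Int.ofNat 1] leaf) [Int.ofNat 0, Int.ofNat 0, Int.ofNat 0, Int.ofNat 1, Int.ofNat 0, Int.ofNat 0] leaf) [Int.ofNat 0, Int.negSucc 0, Int.ofNat 0, Int.negSucc 0, Int.negSucc 0, Int.ofNat 0] (node leaf [Int.ofNat 0, Int.ofNat 1, Int.ofNat 1, Int.ofNat 2, Int.ofNat 2, Int.ofNat 1] leaf))) [Int.negSucc 0, Int.negSucc 0, Int.negSucc 1, Int.negSucc 1, Int.negSucc 0, Int.negSucc 0] (node (node (node (node leaf [Int.ofNat 1, Int.ofNat 1, Int.ofNat 2, Int.ofNat 2, Int.ofNat 1, Int.ofNat 0] leaf) [Int.ofNat 0, Int.ofNat 0, Int.ofNat 0, Int.ofNat 0, Int.ofNat 0, Int.negSucc 0] leaf) [Int.ofNat 0, Int.negSucc 0, Int.negSucc 0, Int.negSucc 0, Int.negSucc 0, Int.negSucc 0] (node leaf [Int.ofNat 0, Int.ofNat 1, Int.ofNat 1, Int.ofNat 1, Int.ofNat 1, Int.ofNat 0] leaf)) [Int.negSucc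 0, Int.ofNat 0, Int.negSucc 0, Int.negSucc 0, Int.negSucc 0, Int.negSucc 0] (node (node leaf [Int.ofNat 0, Int.ofNat 0, Int.ofNat 1, Int.ofNat 1, Int.ofNat 0, Int.ofNat 0] leaf) [Int.ofNat 0, Int.ofNat 0, Int.negSucc 0, Int.negSucc 0, Int.negSucc 0, Int.ofNat 0] (node leaf [Int.ofNat 1, Int.ofNat 0, Int.ofNat 1, Int.ofNat 1, Int.ofNat 1, Int.ofNat 0] leaf)))) [Int.negSucc 0, Int.negSucc 0, Int.negSucc 1, Int.negSucc 2, Int.negSucc 1, Int.negSucc 0] (node (node (node (node (node leaf [Int.ofNat 1, Int.ofNat 1, Int.ofNat 1, Int.ofNat 2, Int.ofNat 1, Int.ofNat 1] leaf) [Int.ofNat 0, Int.ofNat 0, Int.ofNat 0, Int.ofNat 0, Int.negSucc 0, Int.negSucc 0] leaf) [Int.ofNat 0, Int.negSucc 0, Int.negSucc 0, Int.negSucc 1, Int.negSucc 0, Int.negSucc 0] (node leaf [Int.ofNat 0, Int.ofNat 1, Int.ofNat 0, Int.ofNat 1, Int.ofNat 1, Int.ofNat 1] leaf)) [Int.negSucc 0, Int.negSucc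 0, Int.negSucc 0, Int.negSucc 0, Int.negSucc 0, Int.ofNat 0] (node (node leaf [Int.ofNat 0, Int.ofNat 0, Int.ofNat 0, Int.ofNat 1, Int.ofNat 1, Int.ofNat 1] leaf) [Int.ofNat 0, Int.negSucc 0, Int.ofNat 0, Int.ofNat 0, Int.ofNat 0, Int.ofNat 0] (node leaf [Int.ofNat 1, Int.ofNat 0, Int.ofNat 1, Int.ofNat 0, Int.ofNat 0, Int.ofNat 0] leaf))) [Int.negSucc 0, Int.negSucc 0, Int.negSucc 0, Int.negSucc 1, Int.negSucc 1, Int.negSucc 0] (node (node (node (node leaf [Int.ofNat 1, Int.ofNat 1, Int.ofNat 2, Int.ofNat 2, Int.ofNat 2, Int.ofNat 1] leaf) [Int.ofNat 0, Int.ofNat 0, Int.ofNat 0, Int.ofNat 0, Int.ofNat 1, Int.ofNat 0] leaf) [Int.ofNat 0, Int.negSucc 0, Int.negSucc 0, Int.negSucc 0, Int.ofNat 0, Int.ofNat 0] (node leaf [Int.ofNat 0, Int.ofNat 1, Int.ofNat 1, Int.ofNat 2, Int.ofNat 1, Int.ofNat 0] leaf)) [Int.negSucc 0, Int.ofNat 0, Int.negSucc 0, Int.negSucc 0, Int.ofNat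 0, Int.ofNat 0] (node (node leaf [Int.ofNat 0, Int.ofNat 0, Int.ofNat 1, Int.ofNat 1, Int.ofNat 1, Int.ofNat 1] leaf) [Int.ofNat 0, Int.ofNat 0, Int.negSucc 0, Int.ofNat 0, Int.ofNat 0, Int.ofNat 0] (node leaf [Int.ofNat 1, Int.ofNat 1, Int.ofNat 1, Int.ofNat 1, Int.ofNat 0, Int.ofNat 0] leaf))))) [Int.negSucc 0, Int.negSucc 1, Int.negSucc 1, Int.negSucc 2, Int.negSucc 1, Int.negSucc 0] (node (node (node (node (node (node leaf [Int.ofNat 1, Int.ofNat 1, Int.ofNat 1, Int.ofNat 2, Int.ofNat 1, Int.ofNat 0] leaf) [Int.ofNat 0, Int.ofNat 0, Int.ofNat 0, Int.negSucc 0, Int.ofNat 0, Int.ofNat 0] leaf) [Int.ofNat 0, Int.negSucc 0, Int.negSucc 0, Int.negSucc 1, Int.negSucc 1, Int.negSucc 0] (node leaf [Int.ofNat 0, Int.ofNat 1, Int.ofNat 0, Int.ofNat 1, Int.ofNat 1, Int.ofNat 0] leaf)) [Int.negSucc 0, Int.negSucc 0, Int.negSucc 0, Int.negSucc 0, Int.negSucc 0, Int.negSucc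 0] (node (node leaf [Int.ofNat 0, Int.ofNat 0, Int.ofNat 0, Int.ofNat 1, Int.ofNat 1, Int.ofNat 0] leaf) [Int.ofNat 0, Int.negSucc 0, Int.ofNat 0, Int.negSucc 0, Int.ofNat 0, Int.ofNat 0] (node leaf [Int.ofNat 1, Int.ofNat 0, Int.ofNat 0, Int.ofNat 0, Int.ofNat 0, Int.ofNat 0] leaf))) [Int.negSucc 0, Int.negSucc 0, Int.negSucc 1, Int.negSucc 1, Int.negSucc 0, Int.ofNat 0] (node (node (node (node leaf [Int.ofNat 1, Int.ofNat 1, Int.ofNat 2, Int.ofNat 2, Int.ofNat 1, Int.ofNat 1] leaf) [Int.ofNat 0, Int.ofNat 0, Int.ofNat 0, Int.ofNat 0, Int.ofNat 0, Int.ofNat 1] leaf) [Int.ofNat 0, Int.negSucc 0, Int.negSucc 0, Int.negSucc 0, Int.negSucc 0, Int.ofNat 0] (node leaf [Int.ofNat 0, Int.ofNat 1, Int.ofNat 1, Int.ofNat 1, Int.ofNat 1, Int.ofNat 1] leaf)) [Int.negSucc 0, Int.ofNat 0, Int.negSucc 0, Int.negSucc 0, Int.negSucc 0, Int.ofNat 0] (node (node leaf [Int.ofNat 0,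 Int.ofNat 0, Int.ofNat 1, Int.ofNat 1, Int.ofNat 1, Int.ofNat 0] leaf) [Int.ofNat 0, Int.ofNat 0, Int.negSucc 0, Int.negSucc 0, Int.ofNat 0, Int.ofNat 0] (node leaf [Int.ofNat 1, Int.ofNat 0, Int.ofNat 1, Int.ofNat 1, Int.ofNat 1, Int.ofNat 1] leaf)))) [Int.negSucc 0, Int.negSucc 0, Int.negSucc 1, Int.negSucc 1, Int.negSucc 1, Int.negSucc 0] (node (node (node (node (node leaf [Int.ofNat 1, Int.ofNat 1, Int.ofNat 1, Int.ofNat 2, Int.ofNat 2, Int.ofNat 1] leaf) [Int.ofNat 0, Int.ofNat 0, Int.ofNat 0, Int.ofNat 0, Int.negSucc 0, Int.ofNat 0] leaf) [Int.ofNat 0, Int.negSucc 0, Int.negSucc 0, Int.negSucc 1, Int.negSucc 0, Int.ofNat 0] (node leaf [Int.ofNat 0, Int.ofNat 1, Int.ofNat 1, Int.ofNat 1, Int.ofNat 0, Int.ofNat 0] leaf)) [Int.negSucc 0, Int.negSucc 0, Int.negSucc 0, Int.negSucc 0, Int.ofNat 0, Int.ofNat 0] (node (node leaf [Int.ofNat 0, Int.ofNat 0, Int.ofNat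 1, Int.ofNat 0, Int.ofNat 0, Int.ofNat 0] leaf) [Int.ofNat 0, Int.ofNat 0, Int.negSucc 0, Int.negSucc 0, Int.negSucc 0, Int.negSucc 0] (node leaf [Int.ofNat 1, Int.ofNat 0, Int.ofNat 1, Int.ofNat 1, Int.ofNat 0, Int.ofNat 0] leaf))) [Int.negSucc 0, Int.negSucc 0, Int.negSucc 0, Int.negSucc 1, Int.negSucc 0, Int.negSucc 0] (node (node (node (node leaf [Int.ofNat 1, Int.ofNat 1, Int.ofNat 2, Int.ofNat 3, Int.ofNat 2, Int.ofNat 1] leaf) [Int.ofNat 0, Int.ofNat 0, Int.ofNat 0, Int.ofNat 0, Int.ofNat 1, Int.ofNat 1] leaf) [Int.ofNat 0, Int.negSucc 0, Int.ofNat 0, Int.negSucc 0, Int.negSucc 0, Int.negSucc 0] (node leaf [Int.ofNat 0, Int.ofNat 1, Int.ofNat 1, Int.ofNat 2, Int.ofNat 1, Int.ofNat 1] leaf)) [Int.negSucc 0, Int.ofNat 0, Int.negSucc 0, Int.ofNat 0, Int.ofNat 0, Int.ofNat 0] (node (node leaf [Int.ofNat 0, Int.ofNat 1, Int.ofNat 0, Int.ofNat 0, Int.ofNat 0, Int.ofNat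 0] leaf) [Int.ofNat 0, Int.ofNat 0, Int.ofNat 0, Int.negSucc 0, Int.negSucc 0, Int.negSucc 0] (node leaf [Int.ofNat 1, Int.ofNat 1, Int.ofNat 1, Int.ofNat 1, Int.ofNat 1, Int.ofNat 0] leaf))))))

theorem rc0 : rcb DataE6.fd mT 0 36 = true := by decide +kernel
theorem rc1 : rcb DataE6.fd mT 36 36 = true := by decide +kernel

theorem rcOK : ∀ r < chevE6.nroots, RootCoordOK DataE6.fd chevE6 mT r :=
  rootCoordOK_all DataE6.agrees mT 36 2 (by norm_num) (by decide)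
    (by intro q hq; interval_cases q
        · exact rc0
        · exact rc1
    )

theorem lv0 : levib DataE6.fd 0 36 = true := by decide +kernel
theorem lv1 : levib DataE6.fd 36 36 = true := by decide +kernel

theorem posIff : ∀ r < chevE6.nroots, (chevE6.IsPosRoot r ↔ chevE6.nroots / 2 ≤ r) :=
  pos_iff_of_tri DataE6.agrees TrE6.triOK (pos_or_neg_all chevE6 (by simp))

theorem leviOK : ∀ r < chevE6.nroots, LeviOK DataE6.fd chevE6 r :=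
  leviOK_all DataE6.agrees posIff 36 2 (by norm_num) (by decide)
    (by intro q hq; interval_cases q
        · exact lv0
        · exact lv1
    )

end Cfsg.Agent.Lib.Helper5.Chev.LvE6
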