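import Cfsg.Agent.Lib.Helper5.Chev.TriChev
import Cfsg.Agent.Lib.Helper5.Chev.DataE7
import Mathlib

set_option autoImplicit false
set_option maxRecDepth 100000

namespace Cfsg.Agent.Lib.Helper5.Chev.TrE7

open Cfsg.Lie Cfsg.Agent.Lib.Helper5.Chev

theorem tr0 : trib DataE7.fd chevE7 0 42 = true := by decide +kernel
theorem tr1 : trib DataE7.fd chevE7 42 42 = true := by decide +kernel
theorem tr2 : trib DataE7.fd chevE7 84 42 = true := by decide +kernel

theorem triOK : ∀ r < chevE7.nroots, TriOK DataE7.fd chevE7 r :=
  triOK_all DataE7.fd chevE7 126 42 3 (by norm_num) (by norm_num)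
    (by intro q hq; interval_cases q
        · exact tr0
        · exact tr1
        · exact tr2
    )

end Cfsg.Agent.Lib.Helper5.Chev.TrE7
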