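import Cfsg.Agent.Lib.Helper5.Chev.LeviGrade
import Cfsg.Agent.Lib.Helper5.Chev.DataE7
import Cfsg.Agent.Lib.Helper5.Chev.TrE7
import Mathlib

set_option autoImplicit false
set_option maxRecDepth 100000

namespace Cfsg.Agent.Lib.Helper5.Chev.LvE7

open Cfsg.Lie Cfsg.Agent.Lib.Helper5.Chev Cfsg.Agent.Lib.Helper5.Chev.BT

/-- the coordinates of the roots in the fundamental roots -/
def mT : BT (List ℤ) := (node (node (node (node (node (node (node leaf [Int.ofNat 0, Int.ofNat 0, Int.ofNat 0, Int.ofNat 0, Int.ofNat 0, Int.ofNat 0, Int.ofNat 1] leaf) [Int.negSucc 0, Int.ofNat 0, Int.negSucc 0, Int.ofNat 0, Int.ofNat 0, Int.ofNat 0, Int.ofNat 0] (node leaf [Int.ofNat 1, Int.ofNat 0, Int.ofNat 1, Int.ofNat 1, Int.ofNat 0, Int.ofNat 0, Int.ofNat 0] leaf)) [Int.negSucc 0, Int.negSucc 0, Int.negSucc 1, Int.negSucc 1, Int.negSucc 0, Int.negSucc 0, Int.ofNat 0] (node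 (node leaf [Int.ofNat 0, Int.ofNat 1, Int.ofNat 0, Int.ofNat 1, Int.ofNat 0, Int.ofNat 0, Int.ofNat 0] leaf) [Int.ofNat 0, Int.negSucc 0, Int.ofNat 0, Int.ofNat 0, Int.ofNat 0, Int.ofNat 0, Int.ofNat 0] (node leaf [Int.ofNat 1, Int.ofNat 1, Int.ofNat 2, Int.ofNat 2, Int.ofNat 1, Int.ofNat 1, Int.ofNat 1] leaf))) [Int.negSucc 0, Int.negSucc 0, Int.negSucc 1, Int.negSucc 2, Int.negSucc 2, Int.negSucc 1, Int.negSucc 0] (node (node (node leaf [Int.ofNat 0, Int.ofNat 0, Int.ofNat 0, Int.ofNat 1, Int.ofNat 1, Int.ofNat 1, Int.ofNat 0] leaf) [Int.ofNat 0, Int.negSucc 0, Int.negSucc 0, Int.negSucc 0, Int.negSucc 0, Int.negSucc 0, Int.negSucc 0] (node leaf [Int.ofNat 1, Int.ofNat 1, Int.ofNat 1, Int.ofNat 2, Int.ofNat 1, Int.ofNat 0, Int.ofNat 0] leaf)) [Int.negSucc 0, Int.negSucc 0, Int.negSucc 0, Int.negSucc 0, Int.negSucc 0, Int.negSucc 0, Int.negSucc 0] (node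 (node leaf [Int.ofNat 0, Int.ofNat 1, Int.ofNat 1, Int.ofNat 2, Int.ofNat 1, Int.ofNat 0, Int.ofNat 0] leaf) [Int.ofNat 0, Int.ofNat 0, Int.ofNat 0, Int.negSucc 0, Int.negSucc 0, Int.ofNat 0, Int.ofNat 0] (node leaf [Int.ofNat 1, Int.ofNat 2, Int.ofNat 2, Int.ofNat 3, Int.ofNat 2, Int.ofNat 1, Int.ofNat 0] leaf)))) [Int.negSucc 0, Int.negSucc 1, Int.negSucc 1, Int.negSucc 2, Int.negSucc 2, Int.negSucc 1, Int.negSucc 0] (node (node (node (node leaf [Int.ofNat 0, Int.ofNat 0, Int.ofNat 0, Int.ofNat 0, Int.ofNat 1, Int.ofNat 1, Int.ofNat 0] leaf) [Int.ofNat 0, Int.negSucc 0, Int.negSucc 0, Int.negSucc 1, Int.negSucc 1, Int.negSucc 0, Int.ofNat 0] (node leaf [Int.ofNat 1, Int.ofNat 1, Int.ofNat 1, Int.ofNat 1, Int.ofNat 0, Int.ofNat 0, Int.ofNat 0] leaf)) [Int.negSucc 0, Int.negSucc 0, Int.negSucc 0, Int.negSucc 1, Int.negSucc 1, Int.negSucc 0, Int.ofNat 0]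 (node (node leaf [Int.ofNat 0, Int.ofNat 1, Int.ofNat 1, Int.ofNat 1, Int.ofNat 0, Int.ofNat 0, Int.ofNat 0] leaf) [Int.ofNat 0, Int.ofNat 0, Int.negSucc 0, Int.negSucc 0, Int.ofNat 0, Int.ofNat 0, Int.ofNat 0] (node leaf [Int.ofNat 1, Int.ofNat 1, Int.ofNat 2, Int.ofNat 3, Int.ofNat 2, Int.ofNat 1, Int.ofNat 0] leaf))) [Int.negSucc 0, Int.negSucc 0, Int.negSucc 1, Int.negSucc 1, Int.negSucc 1, Int.negSucc 1, Int.negSucc 0] (node (node (node leaf [Int.ofNat 0, Int.ofNat 0, Int.ofNat 1, Int.ofNat 1, Int.ofNat 1, Int.ofNat 0, Int.ofNat 0] leaf) [Int.ofNat 0, Int.negSucc 0, Int.ofNat 0, Int.negSucc 0, Int.negSucc 0, Int.negSucc 0, Int.negSucc 0] (node leaf [Int.ofNat 1, Int.ofNat 1, Int.ofNat 1, Int.ofNat 2, Int.ofNat 2, Int.ofNat 1, Int.ofNat 1] leaf)) [Int.negSucc 0, Int.ofNat 0, Int.negSucc 0, Int.negSucc 0, Int.negSucc 0, Int.negSucc 0, Int.negSucc 0]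 (node (node leaf [Int.ofNat 0, Int.ofNat 1, Int.ofNat 1, Int.ofNat 2, Int.ofNat 2, Int.ofNat 1, Int.ofNat 1] leaf) [Int.ofNat 0, Int.ofNat 0, Int.ofNat 0, Int.ofNat 0, Int.negSucc 0, Int.ofNat 0, Int.ofNat 0] (node leaf [Int.ofNat 1, Int.ofNat 2, Int.ofNat 2, Int.ofNat 4, Int.ofNat 3, Int.ofNat 2, Int.ofNat 1] leaf))))) [Int.negSucc 0, Int.negSucc 1, Int.negSucc 2, Int.negSucc 3, Int.negSucc 2, Int.negSucc 1, Int.negSucc 0] (node (node (node (node (node leaf [Int.ofNat 0, Int.ofNat 0, Int.ofNat 0, Int.ofNat 0, Int.ofNat 0, Int.ofNat 1, Int.ofNat 1] leaf) [Int.ofNat 0, Int.negSucc 0, Int.negSucc 0, Int.negSucc 1, Int.negSucc 1, Int.negSucc 1, Int.negSucc 0] (node leaf [Int.ofNat 1, Int.ofNat 0, Int.ofNat 1, Int.ofNat 1, Int.ofNat 1, Int.ofNat 1, Int.ofNat 0] leaf)) [Int.negSucc 0, Int.negSucc 0, Int.negSucc 0, Int.negSucc 1, Int.negSucc 1, Int.negSucc 1,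 Int.negSucc 0] (node (node leaf [Int.ofNat 0, Int.ofNat 1, Int.ofNat 0, Int.ofNat 1, Int.ofNat 1, Int.ofNat 1, Int.ofNat 0] leaf) [Int.ofNat 0, Int.ofNat 0, Int.negSucc 0, Int.negSucc 0, Int.negSucc 0, Int.negSucc 0, Int.ofNat 0] (node leaf [Int.ofNat 1, Int.ofNat 1, Int.ofNat 2, Int.ofNat 2, Int.ofNat 2, Int.ofNat 1, Int.ofNat 1] leaf))) [Int.negSucc 0, Int.negSucc 0, Int.negSucc 1, Int.negSucc 2, Int.negSucc 1, Int.negSucc 0, Int.negSucc 0] (node (node (node leaf [Int.ofNat 0, Int.ofNat 0, Int.ofNat 1, Int.ofNat 0, Int.ofNat 0, Int.ofNat 0, Int.ofNat 0] leaf) [Int.ofNat 0, Int.negSucc 0, Int.negSucc 0, Int.negSucc 0, Int.negSucc 0, Int.ofNat 0, Int.ofNat 0] (node leaf [Int.ofNat 1, Int.ofNat 1, Int.ofNat 1, Int.ofNat 2, Int.ofNat 1, Int.ofNat 1, Int.ofNat 1] leaf)) [Int.negSucc 0, Int.negSucc 0, Int.negSucc 0, Int.negSucc 0, Int.negSucc 0, Int.ofNat 0,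 Int.ofNat 0] (node (node leaf [Int.ofNat 0, Int.ofNat 1, Int.ofNat 1, Int.ofNat 2, Int.ofNat 1, Int.ofNat 1, Int.ofNat 1] leaf) [Int.ofNat 0, Int.ofNat 0, Int.ofNat 0, Int.ofNat 0, Int.negSucc 0, Int.negSucc 0, Int.negSucc 0] (node leaf [Int.ofNat 1, Int.ofNat 2, Int.ofNat 2, Int.ofNat 3, Int.ofNat 2, Int.ofNat 2, Int.ofNat 1] leaf)))) [Int.negSucc 0, Int.negSucc 1, Int.negSucc 1, Int.negSucc 2, Int.negSucc 1, Int.negSucc 0, Int.negSucc 0] (node (node (node (node leaf [Int.ofNat 0, Int.ofNat 0, Int.ofNat 0, Int.ofNat 1, Int.ofNat 0, Int.ofNat 0, Int.ofNat 0] leaf) [Int.ofNat 0, Int.negSucc 0, Int.negSucc 0, Int.negSucc 1, Int.negSucc 0, Int.negSucc 0, Int.ofNat 0] (node leaf [Int.ofNat 1, Int.ofNat 1, Int.ofNat 1, Int.ofNat 1, Int.ofNat 1, Int.ofNat 1, Int.ofNat 0] leaf)) [Int.negSucc 0, Int.negSucc 0, Int.negSucc 0, Int.negSucc 1, Int.negSucc 0, Int.negSucc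 0, Int.ofNat 0] (node (node leaf [Int.ofNat 0, Int.ofNat 1, Int.ofNat 1, Int.ofNat 1, Int.ofNat 1, Int.ofNat 1, Int.ofNat 0] leaf) [Int.ofNat 0, Int.ofNat 0, Int.ofNat 0, Int.negSucc 0, Int.negSucc 0, Int.negSucc 0, Int.negSucc 0] (node leaf [Int.ofNat 1, Int.ofNat 1, Int.ofNat 2, Int.ofNat 3, Int.ofNat 2, Int.ofNat 2, Int.ofNat 1] leaf))) [Int.negSucc 0, Int.negSucc 0, Int.negSucc 1, Int.negSucc 1, Int.negSucc 1, Int.negSucc 0, Int.ofNat 0] (node (node (node leaf [Int.ofNat 0, Int.ofNat 0, Int.ofNat 1, Int.ofNat 1, Int.ofNat 1, Int.ofNat 1, Int.ofNat 1] leaf) [Int.ofNat 0, Int.negSucc 0, Int.ofNat 0, Int.negSucc 0, Int.negSucc 0, Int.ofNat 0, Int.ofNat 0] (node leaf [Int.ofNat 1, Int.ofNat 1, Int.ofNat 2, Int.ofNat 2, Int.ofNat 1, Int.ofNat 0, Int.ofNat 0] leaf)) [Int.negSucc 0, Int.ofNat 0, Int.negSucc 0, Int.negSucc 0, Int.negSucc 0, Int.ofNat 0, Int.ofNat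 0] (node (node leaf [Int.ofNat 1, Int.ofNat 0, Int.ofNat 0, Int.ofNat 0, Int.ofNat 0, Int.ofNat 0, Int.ofNat 0] leaf) [Int.ofNat 0, Int.ofNat 0, Int.ofNat 0, Int.ofNat 0, Int.ofNat 0, Int.negSucc 0, Int.ofNat 0] (node leaf [Int.ofNat 2, Int.ofNat 2, Int.ofNat 3, Int.ofNat 4, Int.ofNat 3, Int.ofNat 2, Int.ofNat 1] leaf)))))) [Int.negSucc 1, Int.negSucc 1, Int.negSucc 2, Int.negSucc 3, Int.negSucc 2, Int.negSucc 1, Int.negSucc 0] (node (node (node (node (node (node leaf [Int.ofNat 0, Int.ofNat 0, Int.ofNat 0, Int.ofNat 0, Int.ofNat 0, Int.ofNat 1, Int.ofNat 0] leaf) [Int.negSucc 0, Int.ofNat 0, Int.ofNat 0, Int.ofNat 0, Int.ofNat 0, Int.ofNat 0, Int.ofNat 0] (node leaf [Int.ofNat 1, Int.ofNat 0, Int.ofNat 1, Int.ofNat 1, Int.ofNat 1, Int.ofNat 0, Int.ofNat 0] leaf)) [Int.negSucc 0, Int.negSucc 0, Int.negSucc 1, Int.negSucc 1, Int.negSucc 0, Int.ofNat 0, Int.ofNat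 0] (node (node leaf [Int.ofNat 0, Int.ofNat 1, Int.ofNat 0, Int.ofNat 1, Int.ofNat 1, Int.ofNat 0, Int.ofNat 0] leaf) [Int.ofNat 0, Int.ofNat 0, Int.negSucc 0, Int.negSucc 0, Int.negSucc 0, Int.negSucc 0, Int.negSucc 0] (node leaf [Int.ofNat 1, Int.ofNat 1, Int.ofNat 2, Int.ofNat 2, Int.ofNat 2, Int.ofNat 1, Int.ofNat 0] leaf))) [Int.negSucc 0, Int.negSucc 0, Int.negSucc 1, Int.negSucc 2, Int.negSucc 1, Int.negSucc 1, Int.negSucc 0] (node (node (node leaf [Int.ofNat 0, Int.ofNat 0, Int.ofNat 0, Int.ofNat 1, Int.ofNat 1, Int.ofNat 1, Int.ofNat 1] leaf) [Int.ofNat 0, Int.negSucc 0, Int.negSucc 0, Int.negSucc 0, Int.negSucc 0, Int.negSucc 0, Int.ofNat 0] (node leaf [Int.ofNat 1, Int.ofNat 1, Int.ofNat 1, Int.ofNat 2, Int.ofNat 1, Int.ofNat 1, Int.ofNat 0] leaf)) [Int.negSucc 0, Int.negSucc 0, Int.negSucc 0, Int.negSucc 0, Int.negSucc 0, Int.negSucc 0, Int.ofNat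 0] (node (node leaf [Int.ofNat 0, Int.ofNat 1, Int.ofNat 1, Int.ofNat 2, Int.ofNat 1, Int.ofNat 1, Int.ofNat 0] leaf) [Int.ofNat 0, Int.ofNat 0, Int.ofNat 0, Int.negSucc 0, Int.ofNat 0, Int.ofNat 0, Int.ofNat 0] (node leaf [Int.ofNat 1, Int.ofNat 2, Int.ofNat 2, Int.ofNat 3, Int.ofNat 2, Int.ofNat 1, Int.ofNat 1] leaf)))) [Int.negSucc 0, Int.negSucc 1, Int.negSucc 1, Int.negSucc 2, Int.negSucc 1, Int.negSucc 1, Int.negSucc 0] (node (node (node (node leaf [Int.ofNat 0, Int.ofNat 0, Int.ofNat 0, Int.ofNat 0, Int.ofNat 1, Int.ofNat 1, Int.ofNat 1] leaf) [Int.ofNat 0, Int.negSucc 0, Int.negSucc 0, Int.negSucc 1, Int.negSucc 0, Int.negSucc 0, Int.negSucc 0] (node leaf [Int.ofNat 1, Int.ofNat 1, Int.ofNat 1, Int.ofNat 1, Int.ofNat 1, Int.ofNat 0, Int.ofNat 0] leaf)) [Int.negSucc 0, Int.negSucc 0, Int.negSucc 0, Int.negSucc 1, Int.negSucc 0, Int.negSucc 0, Int.negSucc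 0] (node (node leaf [Int.ofNat 0, Int.ofNat 1, Int.ofNat 1, Int.ofNat 1, Int.ofNat 1, Int.ofNat 0, Int.ofNat 0] leaf) [Int.ofNat 0, Int.ofNat 0, Int.negSucc 0, Int.ofNat 0, Int.ofNat 0, Int.ofNat 0, Int.ofNat 0] (node leaf [Int.ofNat 1, Int.ofNat 1, Int.ofNat 2, Int.ofNat 3, Int.ofNat 2, Int.ofNat 1, Int.ofNat 1] leaf))) [Int.negSucc 0, Int.negSucc 0, Int.negSucc 1, Int.negSucc 1, Int.negSucc 1, Int.negSucc 0, Int.negSucc 0] (node (node (node leaf [Int.ofNat 0, Int.ofNat 0, Int.ofNat 1, Int.ofNat 1, Int.ofNat 1, Int.ofNat 1, Int.ofNat 0] leaf) [Int.ofNat 0, Int.negSucc 0, Int.ofNat 0, Int.negSucc 0, Int.negSucc 0, Int.negSucc 0, Int.ofNat 0] (node leaf [Int.ofNat 1, Int.ofNat 1, Int.ofNat 1, Int.ofNat 2, Int.ofNat 2, Int.ofNat 2, Int.ofNat 1] leaf)) [Int.negSucc 0, Int.ofNat 0, Int.negSucc 0, Int.negSucc 0, Int.negSucc 0, Int.negSucc 0, Int.ofNat 0] (node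 (node leaf [Int.ofNat 0, Int.ofNat 1, Int.ofNat 1, Int.ofNat 2, Int.ofNat 2, Int.ofNat 2, Int.ofNat 1] leaf) [Int.ofNat 0, Int.ofNat 0, Int.ofNat 0, Int.ofNat 0, Int.ofNat 0, Int.negSucc 0, Int.negSucc 0] (node leaf [Int.ofNat 1, Int.ofNat 2, Int.ofNat 3, Int.ofNat 4, Int.ofNat 3, Int.ofNat 2, Int.ofNat 1] leaf))))) [Int.negSucc 0, Int.negSucc 1, Int.negSucc 1, Int.negSucc 3, Int.negSucc 2, Int.negSucc 1, Int.negSucc 0] (node (node (node (node (node leaf [Int.ofNat 0, Int.ofNat 0, Int.ofNat 0, Int.ofNat 0, Int.ofNat 1, Int.ofNat 0, Int.ofNat 0] leaf) [Int.ofNat 0, Int.negSucc 0, Int.negSucc 0, Int.negSucc 1, Int.negSucc 1, Int.negSucc 0, Int.negSucc 0] (node leaf [Int.ofNat 1, Int.ofNat 0, Int.ofNat 1, Int.ofNat 1, Int.ofNat 1, Int.ofNat 1, Int.ofNat 1] leaf)) [Int.negSucc 0, Int.negSucc 0, Int.negSucc 0, Int.negSucc 1, Int.negSucc 1, Int.negSucc 0, Int.negSucc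 0] (node (node leaf [Int.ofNat 0, Int.ofNat 1, Int.ofNat 0, Int.ofNat 1, Int.ofNat 1, Int.ofNat 1, Int.ofNat 1] leaf) [Int.ofNat 0, Int.ofNat 0, Int.negSucc 0, Int.negSucc 0, Int.negSucc 0, Int.ofNat 0, Int.ofNat 0] (node leaf [Int.ofNat 1, Int.ofNat 1, Int.ofNat 2, Int.ofNat 2, Int.ofNat 2, Int.ofNat 2, Int.ofNat 1] leaf))) [Int.negSucc 0, Int.negSucc 0, Int.negSucc 1, Int.negSucc 2, Int.negSucc 1, Int.negSucc 0, Int.ofNat 0] (node (node (node leaf [Int.ofNat 0, Int.ofNat 0, Int.ofNat 1, Int.ofNat 1, Int.ofNat 0, Int.ofNat 0, Int.ofNat 0] leaf) [Int.ofNat 0, Int.negSucc 0, Int.negSucc 0, Int.negSucc 0, Int.ofNat 0, Int.ofNat 0, Int.ofNat 0] (node leaf [Int.ofNat 1, Int.ofNat 1, Int.ofNat 1, Int.ofNat 2, Int.ofNat 2, Int.ofNat 1, Int.ofNat 0] leaf)) [Int.negSucc 0, Int.negSucc 0, Int.negSucc 0, Int.negSucc 0, Int.ofNat 0, Int.ofNat 0, Int.ofNat 0] (node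 (node leaf [Int.ofNat 0, Int.ofNat 1, Int.ofNat 1, Int.ofNat 2, Int.ofNat 2, Int.ofNat 1, Int.ofNat 0] leaf) [Int.ofNat 0, Int.ofNat 0, Int.ofNat 0, Int.ofNat 0, Int.negSucc 0, Int.negSucc 0, Int.ofNat 0] (node leaf [Int.ofNat 1, Int.ofNat 2, Int.ofNat 2, Int.ofNat 3, Int.ofNat 3, Int.ofNat 2, Int.ofNat 1] leaf)))) [Int.negSucc 0, Int.negSucc 1, Int.negSucc 1, Int.negSucc 2, Int.negSucc 1, Int.negSucc 0, Int.ofNat 0] (node (node (node (node leaf [Int.ofNat 0, Int.ofNat 0, Int.ofNat 0, Int.ofNat 1, Int.ofNat 1, Int.ofNat 0, Int.ofNat 0] leaf) [Int.ofNat 0, Int.negSucc 0, Int.negSucc 0, Int.negSucc 1, Int.negSucc 0, Int.ofNat 0, Int.ofNat 0] (node leaf [Int.ofNat 1, Int.ofNat 1, Int.ofNat 1, Int.ofNat 1, Int.ofNat 1, Int.ofNat 1, Int.ofNat 1] leaf)) [Int.negSucc 0, Int.negSucc 0, Int.negSucc 0, Int.negSucc 1, Int.negSucc 0, Int.ofNat 0, Int.ofNat 0] (node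 (node leaf [Int.ofNat 0, Int.ofNat 1, Int.ofNat 1, Int.ofNat 1, Int.ofNat 1, Int.ofNat 1, Int.ofNat 1] leaf) [Int.ofNat 0, Int.ofNat 0, Int.ofNat 0, Int.negSucc 0, Int.negSucc 0, Int.negSucc 0, Int.ofNat 0] (node leaf [Int.ofNat 1, Int.ofNat 1, Int.ofNat 2, Int.ofNat 3, Int.ofNat 3, Int.ofNat 2, Int.ofNat 1] leaf))) [Int.negSucc 0, Int.negSucc 0, Int.negSucc 1, Int.negSucc 1, Int.negSucc 0, Int.negSucc 0, Int.negSucc 0] (node (node (node leaf [Int.ofNat 0, Int.ofNat 1, Int.ofNat 0, Int.ofNat 0, Int.ofNat 0, Int.ofNat 0, Int.ofNat 0] leaf) [Int.ofNat 0, Int.negSucc 0, Int.ofNat 0, Int.negSucc 0, Int.ofNat 0, Int.ofNat 0, Int.ofNat 0] (node leaf [Int.ofNat 1, Int.ofNat 1, Int.ofNat 2, Int.ofNat 2, Int.ofNat 1, Int.ofNat 1, Int.ofNat 0] leaf)) [Int.negSucc 0, Int.ofNat 0, Int.negSucc 0, Int.negSucc 0, Int.ofNat 0, Int.ofNat 0, Int.ofNat 0] (node (node leaf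 [Int.ofNat 1, Int.ofNat 0, Int.ofNat 1, Int.ofNat 0, Int.ofNat 0, Int.ofNat 0, Int.ofNat 0] leaf) [Int.ofNat 0, Int.ofNat 0, Int.ofNat 0, Int.ofNat 0, Int.ofNat 0, Int.ofNat 0, Int.negSucc 0] leaf))))))

theorem rc0 : rcb DataE7.fd mT 0 42 = true := by decide +kernel
theorem rc1 : rcb DataE7.fd mT 42 42 = true := by decide +kernel
theorem rc2 : rcb DataE7.fd mT 84 42 = true := by decide +kernel

theorem rcOK : ∀ r < chevE7.nroots, RootCoordOK DataE7.fd chevE7 mT r :=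
  rootCoordOK_all DataE7.agrees mT 42 3 (by norm_num) (by decide)
    (by intro q hq; interval_cases q
        · exact rc0
        · exact rc1
        · exact rc2
    )

theorem lv0 : levib DataE7.fd 0 42 = true := by decide +kernel
theorem lv1 : levib DataE7.fd 42 42 = true := by decide +kernel
theorem lv2 : levib DataE7.fd 84 42 = true := by decide +kernel

theorem posIff : ∀ r < chevE7.nroots, (chevE7.IsPosRoot r ↔ chevE7.nroots / 2 ≤ r) :=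
  pos_iff_of_tri DataE7.agrees TrE7.triOK (pos_or_neg_all chevE7 (by simp))

theorem leviOK : ∀ r < chevE7.nroots, LeviOK DataE7.fd chevE7 r :=
  leviOK_all DataE7.agrees posIff 42 3 (by norm_num) (by decide)
    (by intro q hq; interval_cases q
        · exact lv0
        · exact lv1
        · exact lv2
    )

end Cfsg.Agent.Lib.Helper5.Chev.LvE7
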