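import Cfsg.Agent.Lib.Helper5.Chev.HCard
import Cfsg.Agent.Lib.Helper5.Chev.LvE7
import Mathlib

set_option autoImplicit false
set_option maxRecDepth 100000

namespace Cfsg.Agent.Lib.Helper5.Chev.HcE7

open Cfsg.Lie Cfsg.Agent.Lib.Helper5.Chev

def PL : List (List ℤ) := [[Int.negSucc 0, Int.ofNat 0, Int.ofNat 0, Int.ofNat 0, Int.ofNat 0, Int.ofNat 0, Int.ofNat 0], [Int.ofNat 0, Int.negSucc 0, Int.ofNat 0, Int.ofNat 0, Int.ofNat 0, Int.ofNat 0, Int.ofNat 0], [Int.ofNat 1, Int.negSucc 1, Int.ofNat 0, Int.negSucc 0, Int.ofNat 0, Int.ofNat 0, Int.ofNat 0], [Int.ofNat 2, Int.negSucc 2, Int.ofNat 0, Int.negSucc 1, Int.negSucc 0, Int.ofNat 0, Int.ofNat 0], [Int.ofNat 3, Int.negSucc 3, Int.ofNat 0, Int.negSucc 2, Int.negSucc 1, Int.negSucc 0, Int.ofNat 0], [Int.negSucc 1, Int.ofNat 1, Int.negSucc 0, Int.ofNat 0, Int.ofNat 0, Int.ofNat 0, Int.ofNat 0], [Int.negSucc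 3, Int.negSucc 0, Int.negSucc 3, Int.negSucc 3, Int.negSucc 2, Int.negSucc 1, Int.negSucc 0]]
def P : Matrix (Fin chevE7.rank) (Fin chevE7.rank) ℤ := fun i j => (PL.getD i.val []).getD j.val 0
def P'L : List (List ℤ) := [[Int.negSucc 0, Int.ofNat 0, Int.ofNat 0, Int.ofNat 0, Int.ofNat 0, Int.ofNat 0, Int.ofNat 0], [Int.ofNat 0, Int.negSucc 0, Int.ofNat 0, Int.ofNat 0, Int.ofNat 0, Int.ofNat 0, Int.ofNat 0], [Int.ofNat 2, Int.negSucc 0, Int.ofNat 0, Int.ofNat 0, Int.ofNat 0, Int.negSucc 0, Int.ofNat 0], [Int.negSucc 0, Int.ofNat 2, Int.negSucc 0, Int.ofNat 0, Int.ofNat 0, Int.ofNat 0, Int.ofNat 0], [Int.ofNat 0, Int.negSucc 0, Int.ofNat 2, Int.negSucc 0, Int.ofNat 0, Int.ofNat 0, Int.ofNat 0], [Int.ofNat 0, Int.ofNat 0, Int.negSucc 0, Int.ofNat 2, Int.negSucc 0, Int.ofNat 0, Int.ofNat 0], [Int.ofNat 0, Int.ofNat 0, Int.ofNat 0, Int.negSucc 0, Int.ofNat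 2, Int.ofNat 4, Int.negSucc 0]]
def P' : Matrix (Fin chevE7.rank) (Fin chevE7.rank) ℤ := fun i j => (P'L.getD i.val []).getD j.val 0
def QL : List (List ℤ) := [[Int.ofNat 0, Int.ofNat 0, Int.ofNat 0, Int.ofNat 0, Int.ofNat 0, Int.ofNat 1, Int.negSucc 1], [Int.ofNat 0, Int.ofNat 0, Int.ofNat 0, Int.ofNat 0, Int.ofNat 0, Int.ofNat 2, Int.negSucc 2], [Int.ofNat 1, Int.ofNat 0, Int.ofNat 0, Int.ofNat 0, Int.ofNat 0, Int.ofNat 2, Int.negSucc 3], [Int.ofNat 0, Int.ofNat 1, Int.ofNat 0, Int.ofNat 0, Int.ofNat 0, Int.ofNat 4, Int.negSucc 5], [Int.ofNat 0, Int.ofNat 0, Int.ofNat 1, Int.ofNat 0, Int.ofNat 0, Int.ofNat 4, Int.negSucc 4], [Int.ofNat 0, Int.ofNat 0, Int.ofNat 0, Int.ofNat 1, Int.ofNat 0, Int.ofNat 4, Int.negSucc 3], [Int.ofNat 0, Int.ofNat 0, Int.ofNat 0, Int.ofNat 0, Int.ofNat 1, Int.ofNat 4, Int.negSucc 2]]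
def Q : Matrix (Fin chevE7.rank) (Fin chevE7.rank) ℤ := fun i j => (QL.getD i.val []).getD j.val 0
def Q'L : List (List ℤ) := [[Int.negSucc 1, Int.ofNat 0, Int.ofNat 1, Int.ofNat 0, Int.ofNat 0, Int.ofNat 0, Int.ofNat 0], [Int.ofNat 0, Int.negSucc 1, Int.ofNat 0, Int.ofNat 1, Int.ofNat 0, Int.ofNat 0, Int.ofNat 0], [Int.ofNat 2, Int.negSucc 2, Int.ofNat 0, Int.ofNat 0, Int.ofNat 1, Int.ofNat 0, Int.ofNat 0], [Int.ofNat 4, Int.negSucc 3, Int.ofNat 0, Int.ofNat 0, Int.ofNat 0, Int.ofNat 1, Int.ofNat 0], [Int.ofNat 6, Int.negSucc 4, Int.ofNat 0, Int.ofNat 0, Int.ofNat 0, Int.ofNat 0, Int.ofNat 1], [Int.negSucc 2, Int.ofNat 2, Int.ofNat 0, Int.ofNat 0, Int.ofNat 0, Int.ofNat 0, Int.ofNat 0], [Int.negSucc 1, Int.ofNat 1, Int.ofNat 0, Int.ofNat 0, Int.ofNat 0, Int.ofNat 0, Int.ofNat 0]]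
def Q' : Matrix (Fin chevE7.rank) (Fin chevE7.rank) ℤ := fun i j => (Q'L.getD i.val []).getD j.val 0
def dL : List ℕ := [1, 1, 1, 1, 1, 1, 2]
def d : Fin chevE7.rank → ℕ := fun i => dL.getD i.val 0
def Mt : Matrix (Fin chevE7.rank) (Fin chevE7.nroots) ℤ := fun j v => mOf LvE7.mT v.val j.val

theorem hC : cartanM chevE7 = cartanA chevE7 * Mt := by decide +kernel
theorem hP : P' * P = 1 := by decide +kernel
theorem hP2 : P * P' = 1 := by decide +kernel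
theorem hQ : Q * Q' = 1 := by decide +kernel
theorem hS : P * cartanA chevE7 * Q = Matrix.diagonal fun i => (d i : ℤ) := by decide +kernel

end Cfsg.Agent.Lib.Helper5.Chev.HcE7
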