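import Cfsg.Agent.Lib.Helper5.Chev.TriChev
import Cfsg.Agent.Lib.Helper5.Chev.DataE8
import Mathlib

set_option autoImplicit false
set_option maxRecDepth 100000

namespace Cfsg.Agent.Lib.Helper5.Chev.TrE8

open Cfsg.Lie Cfsg.Agent.Lib.Helper5.Chev

theorem tr0 : trib DataE8.fd chevE8 0 40 = true := by decide +kernel
theorem tr1 : trib DataE8.fd chevE8 40 40 = true := by decide +kernel
theorem tr2 : trib DataE8.fd chevE8 80 40 = true := by decide +kernel
theorem tr3 : trib DataE8.fd chevE8 120 40 = true := by decide +kernel
theorem tr4 : trib DataE8.fd chevE8 160 40 = true := by decide +kernel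
theorem tr5 : trib DataE8.fd chevE8 200 40 = true := by decide +kernel

theorem triOK : ∀ r < chevE8.nroots, TriOK DataE8.fd chevE8 r :=
  triOK_all DataE8.fd chevE8 240 40 6 (by norm_num) (by norm_num)
    (by intro q hq; interval_cases q
        · exact tr0
        · exact tr1
        · exact tr2
        · exact tr3
        · exact tr4
        · exact tr5
    )

end Cfsg.Agent.Lib.Helper5.Chev.TrE8
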