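import Cfsg.Agent.Lib.Helper5.Chev.LeviGrade
import Cfsg.Agent.Lib.Helper5.Chev.DataE8
import Cfsg.Agent.Lib.Helper5.Chev.TrE8
import Mathlib

set_option autoImplicit false
set_option maxRecDepth 100000

namespace Cfsg.Agent.Lib.Helper5.Chev.LvE8

open Cfsg.Lie Cfsg.Agent.Lib.Helper5.Chev Cfsg.Agent.Lib.Helper5.Chev.BT

/-- the coordinates of the roots in the fundamental roots -/
def mT : BT (List ℤ) := (node (node (node (node (node (node (node (node leaf [Int.ofNat 0, Int.ofNat 0, Int.ofNat 0, Int.ofNat 0, Int.ofNat 1, Int.ofNat 1, Int.ofNat 0, Int.ofNat 0] leaf) [Int.negSucc 0, Int.negSucc 0, Int.negSucc 0, Int.negSucc 1, Int.negSucc 0, Int.negSucc 0, Int.negSucc 0, Int.ofNat 0] (node leaf [Int.ofNat 1, Int.ofNat 1, Int.ofNat 2, Int.ofNat 2, Int.ofNat 2, Int.ofNat 2, Int.ofNat 1, Int.ofNat 0] leaf)) [Int.negSucc 0, Int.negSucc 1, Int.negSucc 1, Int.negSucc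 2, Int.negSucc 1, Int.negSucc 1, Int.negSucc 0, Int.negSucc 0] (node (node leaf [Int.ofNat 0, Int.ofNat 1, Int.ofNat 1, Int.ofNat 2, Int.ofNat 2, Int.ofNat 2, Int.ofNat 1, Int.ofNat 0] leaf) [Int.ofNat 0, Int.negSucc 0, Int.ofNat 0, Int.negSucc 0, Int.negSucc 0, Int.negSucc 0, Int.ofNat 0, Int.ofNat 0] (node leaf [Int.ofNat 1, Int.ofNat 2, Int.ofNat 3, Int.ofNat 4, Int.ofNat 4, Int.ofNat 3, Int.ofNat 2, Int.ofNat 1] leaf))) [Int.negSucc 0, Int.negSucc 1, Int.negSucc 2, Int.negSucc 4, Int.negSucc 3, Int.negSucc 2, Int.negSucc 1, Int.negSucc 0] (node (node (node leaf [Int.ofNat 0, Int.ofNat 1, Int.ofNat 0, Int.ofNat 1, Int.ofNat 1, Int.ofNat 0, Int.ofNat 0, Int.ofNat 0] leaf) [Int.ofNat 0, Int.negSucc 0, Int.negSucc 0, Int.negSucc 1, Int.negSucc 1, Int.negSucc 1, Int.negSucc 0, Int.negSucc 0] (node leaf [Int.ofNat 1, Int.ofNat 2, Int.ofNat 2, Int.ofNat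 3, Int.ofNat 2, Int.ofNat 2, Int.ofNat 1, Int.ofNat 0] leaf)) [Int.negSucc 0, Int.negSucc 0, Int.negSucc 1, Int.negSucc 1, Int.negSucc 1, Int.negSucc 1, Int.negSucc 0, Int.negSucc 0] (node (node leaf [Int.ofNat 1, Int.ofNat 1, Int.ofNat 1, Int.ofNat 2, Int.ofNat 1, Int.ofNat 1, Int.ofNat 0, Int.ofNat 0] leaf) [Int.ofNat 0, Int.ofNat 0, Int.ofNat 0, Int.ofNat 0, Int.negSucc 0, Int.negSucc 0, Int.negSucc 0, Int.ofNat 0] (node leaf [Int.ofNat 2, Int.ofNat 3, Int.ofNat 4, Int.ofNat 6, Int.ofNat 5, Int.ofNat 4, Int.ofNat 3, Int.ofNat 2] leaf)))) [Int.negSucc 1, Int.negSucc 1, Int.negSucc 3, Int.negSucc 4, Int.negSucc 3, Int.negSucc 2, Int.negSucc 1, Int.negSucc 0] (node (node (node (node leaf [Int.ofNat 0, Int.ofNat 0, Int.ofNat 1, Int.ofNat 0, Int.ofNat 0, Int.ofNat 0, Int.ofNat 0, Int.ofNat 0] leaf) [Int.negSucc 0, Int.ofNat 0, Int.negSucc 0, Int.negSucc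 0, Int.negSucc 0, Int.negSucc 0, Int.negSucc 0, Int.negSucc 0] (node leaf [Int.ofNat 1, Int.ofNat 1, Int.ofNat 2, Int.ofNat 3, Int.ofNat 2, Int.ofNat 2, Int.ofNat 2, Int.ofNat 1] leaf)) [Int.negSucc 0, Int.negSucc 0, Int.negSucc 1, Int.negSucc 2, Int.negSucc 2, Int.negSucc 1, Int.negSucc 0, Int.ofNat 0] (node (node leaf [Int.ofNat 1, Int.ofNat 0, Int.ofNat 1, Int.ofNat 1, Int.ofNat 1, Int.ofNat 1, Int.ofNat 1, Int.ofNat 0] leaf) [Int.ofNat 0, Int.ofNat 0, Int.negSucc 0, Int.negSucc 0, Int.ofNat 0, Int.ofNat 0, Int.ofNat 0, Int.ofNat 0] (node leaf [Int.ofNat 2, Int.ofNat 2, Int.ofNat 3, Int.ofNat 5, Int.ofNat 4, Int.ofNat 3, Int.ofNat 2, Int.ofNat 1] leaf))) [Int.negSucc 0, Int.negSucc 1, Int.negSucc 1, Int.negSucc 3, Int.negSucc 2, Int.negSucc 1, Int.negSucc 1, Int.negSucc 0] (node (node (node leaf [Int.ofNat 0, Int.ofNat 1, Int.ofNat 1, Int.ofNat 1,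 Int.ofNat 1, Int.ofNat 1, Int.ofNat 1, Int.ofNat 1] leaf) [Int.ofNat 0, Int.negSucc 0, Int.negSucc 0, Int.negSucc 1, Int.negSucc 0, Int.ofNat 0, Int.ofNat 0, Int.ofNat 0] (node leaf [Int.ofNat 1, Int.ofNat 2, Int.ofNat 2, Int.ofNat 4, Int.ofNat 3, Int.ofNat 2, Int.ofNat 1, Int.ofNat 1] leaf)) [Int.negSucc 0, Int.negSucc 0, Int.negSucc 1, Int.negSucc 1, Int.negSucc 0, Int.ofNat 0, Int.ofNat 0, Int.ofNat 0] (node (node leaf [Int.ofNat 1, Int.ofNat 1, Int.ofNat 1, Int.ofNat 2, Int.ofNat 2, Int.ofNat 2, Int.ofNat 2, Int.ofNat 1] leaf) [Int.ofNat 0, Int.ofNat 0, Int.ofNat 0, Int.ofNat 0, Int.ofNat 0, Int.ofNat 0, Int.ofNat 0, Int.negSucc 0] leaf)))) [Int.negSucc 1, Int.negSucc 2, Int.negSucc 3, Int.negSucc 5, Int.negSucc 4, Int.negSucc 2, Int.negSucc 1, Int.negSucc 0] (node (node (node (node (node leaf [Int.ofNat 0, Int.ofNat 0, Int.ofNat 0, Int.ofNat 1,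 Int.ofNat 1, Int.ofNat 0, Int.ofNat 0, Int.ofNat 0] leaf) [Int.negSucc 0, Int.negSucc 0, Int.negSucc 0, Int.negSucc 0, Int.negSucc 0, Int.negSucc 0, Int.negSucc 0, Int.ofNat 0] (node leaf [Int.ofNat 1, Int.ofNat 1, Int.ofNat 2, Int.ofNat 3, Int.ofNat 2, Int.ofNat 1, Int.ofNat 1, Int.ofNat 0] leaf)) [Int.negSucc 0, Int.negSucc 1, Int.negSucc 1, Int.negSucc 2, Int.negSucc 1, Int.negSucc 0, Int.ofNat 0, Int.ofNat 0] (node (node leaf [Int.ofNat 1, Int.ofNat 0, Int.ofNat 1, Int.ofNat 0, Int.ofNat 0, Int.ofNat 0, Int.ofNat 0, Int.ofNat 0] leaf) [Int.ofNat 0, Int.ofNat 0, Int.negSucc 0, Int.negSucc 0, Int.negSucc 0, Int.negSucc 0, Int.negSucc 0, Int.negSucc 0] (node leaf [Int.ofNat 2, Int.ofNat 2, Int.ofNat 3, Int.ofNat 4, Int.ofNat 3, Int.ofNat 2, Int.ofNat 1, Int.ofNat 1] leaf))) [Int.negSucc 0, Int.negSucc 1, Int.negSucc 2, Int.negSucc 3, Int.negSucc 2,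 Int.negSucc 1, Int.negSucc 0, Int.negSucc 0] (node (node (node leaf [Int.ofNat 0, Int.ofNat 1, Int.ofNat 1, Int.ofNat 1, Int.ofNat 0, Int.ofNat 0, Int.ofNat 0, Int.ofNat 0] leaf) [Int.ofNat 0, Int.negSucc 0, Int.negSucc 0, Int.negSucc 1, Int.negSucc 1, Int.negSucc 0, Int.ofNat 0, Int.ofNat 0] (node leaf [Int.ofNat 1, Int.ofNat 2, Int.ofNat 2, Int.ofNat 3, Int.ofNat 3, Int.ofNat 2, Int.ofNat 1, Int.ofNat 1] leaf)) [Int.negSucc 0, Int.negSucc 0, Int.negSucc 1, Int.negSucc 1, Int.negSucc 1, Int.negSucc 0, Int.ofNat 0, Int.ofNat 0] (node (node leaf [Int.ofNat 1, Int.ofNat 1, Int.ofNat 1, Int.ofNat 2, Int.ofNat 2, Int.ofNat 1, Int.ofNat 1, Int.ofNat 0] leaf) [Int.ofNat 0, Int.ofNat 0, Int.ofNat 0, Int.ofNat 0, Int.ofNat 0, Int.negSucc 0, Int.negSucc 0, Int.ofNat 0] leaf))) [Int.negSucc 1, Int.negSucc 1, Int.negSucc 2, Int.negSucc 3, Int.negSucc 2, Int.negSucc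 1, Int.negSucc 1, Int.negSucc 0] (node (node (node (node leaf [Int.ofNat 0, Int.ofNat 0, Int.ofNat 1, Int.ofNat 1, Int.ofNat 1, Int.ofNat 1, Int.ofNat 1, Int.ofNat 0] leaf) [Int.negSucc 0, Int.ofNat 0, Int.negSucc 0, Int.negSucc 0, Int.ofNat 0, Int.ofNat 0, Int.ofNat 0, Int.ofNat 0] (node leaf [Int.ofNat 1, Int.ofNat 1, Int.ofNat 2, Int.ofNat 3, Int.ofNat 3, Int.ofNat 3, Int.ofNat 2, Int.ofNat 1] leaf)) [Int.negSucc 0, Int.negSucc 0, Int.negSucc 1, Int.negSucc 2, Int.negSucc 1, Int.negSucc 0, Int.negSucc 0, Int.negSucc 0] (node (node leaf [Int.ofNat 1, Int.ofNat 1, Int.ofNat 1, Int.ofNat 1, Int.ofNat 1, Int.ofNat 1, Int.ofNat 0, Int.ofNat 0] leaf) [Int.ofNat 0, Int.ofNat 0, Int.ofNat 0, Int.negSucc 0, Int.negSucc 0, Int.negSucc 0, Int.ofNat 0, Int.ofNat 0] (node leaf [Int.ofNat 2, Int.ofNat 3, Int.ofNat 4, Int.ofNat 6, Int.ofNat 4, Int.ofNat 3, Int.ofNat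 2, Int.ofNat 1] leaf))) [Int.negSucc 0, Int.negSucc 1, Int.negSucc 1, Int.negSucc 2, Int.negSucc 2, Int.negSucc 1, Int.negSucc 1, Int.negSucc 0] (node (node (node leaf [Int.ofNat 0, Int.ofNat 1, Int.ofNat 1, Int.ofNat 2, Int.ofNat 1, Int.ofNat 1, Int.ofNat 1, Int.ofNat 1] leaf) [Int.ofNat 0, Int.negSucc 0, Int.negSucc 0, Int.negSucc 0, Int.negSucc 0, Int.ofNat 0, Int.ofNat 0, Int.ofNat 0] (node leaf [Int.ofNat 1, Int.ofNat 2, Int.ofNat 3, Int.ofNat 4, Int.ofNat 3, Int.ofNat 2, Int.ofNat 1, Int.ofNat 0] leaf)) [Int.negSucc 0, Int.negSucc 0, Int.negSucc 0, Int.negSucc 1, Int.negSucc 1, Int.negSucc 0, Int.negSucc 0, Int.negSucc 0] (node (node leaf [Int.ofNat 1, Int.ofNat 1, Int.ofNat 2, Int.ofNat 2, Int.ofNat 1, Int.ofNat 1, Int.ofNat 1, Int.ofNat 1] leaf) [Int.ofNat 0, Int.ofNat 0, Int.ofNat 0, Int.ofNat 0, Int.ofNat 0, Int.ofNat 1, Int.ofNat 0, Int.ofNat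 0] leaf))))) [Int.negSucc 1, Int.negSucc 2, Int.negSucc 3, Int.negSucc 5, Int.negSucc 4, Int.negSucc 3, Int.negSucc 2, Int.negSucc 0] (node (node (node (node (node (node leaf [Int.ofNat 0, Int.ofNat 0, Int.ofNat 0, Int.ofNat 0, Int.ofNat 1, Int.ofNat 1, Int.ofNat 1, Int.ofNat 1] leaf) [Int.negSucc 0, Int.negSucc 0, Int.negSucc 0, Int.negSucc 1, Int.negSucc 0, Int.ofNat 0, Int.ofNat 0, Int.ofNat 0] (node leaf [Int.ofNat 1, Int.ofNat 1, Int.ofNat 2, Int.ofNat 2, Int.ofNat 2, Int.ofNat 2, Int.ofNat 2, Int.ofNat 1] leaf)) [Int.negSucc 0, Int.negSucc 1, Int.negSucc 1, Int.negSucc 2, Int.negSucc 1, Int.negSucc 0, Int.negSucc 0, Int.negSucc 0] (node (node leaf [Int.ofNat 0, Int.ofNat 1, Int.ofNat 1, Int.ofNat 2, Int.ofNat 2, Int.ofNat 2, Int.ofNat 2, Int.ofNat 1] leaf) [Int.ofNat 0, Int.negSucc 0, Int.ofNat 0, Int.negSucc 0, Int.ofNat 0, Int.ofNat 0, Int.ofNat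 0, Int.ofNat 0] (node leaf [Int.ofNat 1, Int.ofNat 3, Int.ofNat 3, Int.ofNat 5, Int.ofNat 4, Int.ofNat 3, Int.ofNat 2, Int.ofNat 1] leaf))) [Int.negSucc 0, Int.negSucc 1, Int.negSucc 2, Int.negSucc 3, Int.negSucc 2, Int.negSucc 2, Int.negSucc 1, Int.negSucc 0] (node (node (node leaf [Int.ofNat 0, Int.ofNat 1, Int.ofNat 0, Int.ofNat 1, Int.ofNat 1, Int.ofNat 1, Int.ofNat 1, Int.ofNat 0] leaf) [Int.ofNat 0, Int.negSucc 0, Int.negSucc 0, Int.negSucc 1, Int.negSucc 1, Int.negSucc 0, Int.negSucc 0, Int.negSucc 0] (node leaf [Int.ofNat 1, Int.ofNat 2, Int.ofNat 2, Int.ofNat 3, Int.ofNat 2, Int.ofNat 2, Int.ofNat 2, Int.ofNat 1] leaf)) [Int.negSucc 0, Int.negSucc 0, Int.negSucc 1, Int.negSucc 1, Int.negSucc 1, Int.negSucc 0, Int.negSucc 0, Int.negSucc 0] (node (node leaf [Int.ofNat 1, Int.ofNat 1, Int.ofNat 1, Int.ofNat 2, Int.ofNat 1, Int.ofNat 1, Int.ofNat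 1, Int.ofNat 1] leaf) [Int.ofNat 0, Int.ofNat 0, Int.ofNat 0, Int.ofNat 0, Int.negSucc 0, Int.ofNat 0, Int.ofNat 0, Int.ofNat 0] leaf))) [Int.negSucc 1, Int.negSucc 1, Int.negSucc 2, Int.negSucc 3, Int.negSucc 3, Int.negSucc 2, Int.negSucc 1, Int.negSucc 0] (node (node (node (node leaf [Int.ofNat 0, Int.ofNat 0, Int.ofNat 1, Int.ofNat 1, Int.ofNat 1, Int.ofNat 0, Int.ofNat 0, Int.ofNat 0] leaf) [Int.negSucc 0, Int.ofNat 0, Int.negSucc 0, Int.negSucc 0, Int.negSucc 0, Int.negSucc 0, Int.ofNat 0, Int.ofNat 0] (node leaf [Int.ofNat 1, Int.ofNat 1, Int.ofNat 2, Int.ofNat 3, Int.ofNat 3, Int.ofNat 2, Int.ofNat 1, Int.ofNat 1] leaf)) [Int.negSucc 0, Int.negSucc 0, Int.negSucc 1, Int.negSucc 2, Int.negSucc 1, Int.negSucc 1, Int.negSucc 0, Int.negSucc 0] (node (node leaf [Int.ofNat 1, Int.ofNat 1, Int.ofNat 1, Int.ofNat 1, Int.ofNat 0, Int.ofNat 0, Int.ofNat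 0, Int.ofNat 0] leaf) [Int.ofNat 0, Int.ofNat 0, Int.ofNat 0, Int.negSucc 0, Int.negSucc 0, Int.negSucc 0, Int.negSucc 0, Int.negSucc 0] (node leaf [Int.ofNat 2, Int.ofNat 3, Int.ofNat 3, Int.ofNat 5, Int.ofNat 4, Int.ofNat 3, Int.ofNat 2, Int.ofNat 1] leaf))) [Int.negSucc 0, Int.negSucc 1, Int.negSucc 1, Int.negSucc 3, Int.negSucc 2, Int.negSucc 1, Int.negSucc 0, Int.ofNat 0] (node (node (node leaf [Int.ofNat 0, Int.ofNat 1, Int.ofNat 1, Int.ofNat 2, Int.ofNat 1, Int.ofNat 1, Int.ofNat 0, Int.ofNat 0] leaf) [Int.ofNat 0, Int.negSucc 0, Int.negSucc 0, Int.negSucc 0, Int.negSucc 0, Int.negSucc 0, Int.negSucc 0, Int.ofNat 0] (node leaf [Int.ofNat 1, Int.ofNat 2, Int.ofNat 2, Int.ofNat 4, Int.ofNat 3, Int.ofNat 3, Int.ofNat 2, Int.ofNat 1] leaf)) [Int.negSucc 0, Int.negSucc 0, Int.negSucc 0, Int.negSucc 1, Int.negSucc 1, Int.negSucc 1, Int.negSucc 0, Int.negSucc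 0] (node (node leaf [Int.ofNat 1, Int.ofNat 1, Int.ofNat 2, Int.ofNat 2, Int.ofNat 1, Int.ofNat 1, Int.ofNat 0, Int.ofNat 0] leaf) [Int.ofNat 0, Int.ofNat 0, Int.ofNat 0, Int.ofNat 0, Int.ofNat 0, Int.ofNat 0, Int.ofNat 1, Int.ofNat 0] leaf)))) [Int.negSucc 1, Int.negSucc 2, Int.negSucc 3, Int.negSucc 4, Int.negSucc 3, Int.negSucc 2, Int.negSucc 1, Int.negSucc 0] (node (node (node (node (node leaf [Int.ofNat 0, Int.ofNat 0, Int.ofNat 0, Int.ofNat 1, Int.ofNat 1, Int.ofNat 1, Int.ofNat 1, Int.ofNat 0] leaf) [Int.negSucc 0, Int.negSucc 0, Int.negSucc 0, Int.negSucc 0, Int.negSucc 0, Int.ofNat 0, Int.ofNat 0, Int.ofNat 0] (node leaf [Int.ofNat 1, Int.ofNat 1, Int.ofNat 2, Int.ofNat 3, Int.ofNat 2, Int.ofNat 2, Int.ofNat 1, Int.ofNat 0] leaf)) [Int.negSucc 0, Int.negSucc 0, Int.negSucc 1, Int.negSucc 2, Int.negSucc 2, Int.negSucc 1, Int.negSucc 1, Int.negSucc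 0] (node (node leaf [Int.ofNat 1, Int.ofNat 0, Int.ofNat 1, Int.ofNat 1, Int.ofNat 1, Int.ofNat 0, Int.ofNat 0, Int.ofNat 0] leaf) [Int.ofNat 0, Int.ofNat 0, Int.negSucc 0, Int.negSucc 0, Int.negSucc 0, Int.negSucc 0, Int.ofNat 0, Int.ofNat 0] (node leaf [Int.ofNat 2, Int.ofNat 2, Int.ofNat 3, Int.ofNat 4, Int.ofNat 3, Int.ofNat 3, Int.ofNat 2, Int.ofNat 1] leaf))) [Int.negSucc 0, Int.negSucc 1, Int.negSucc 1, Int.negSucc 3, Int.negSucc 3, Int.negSucc 2, Int.negSucc 1, Int.negSucc 0] (node (node (node leaf [Int.ofNat 0, Int.ofNat 1, Int.ofNat 1, Int.ofNat 1, Int.ofNat 1, Int.ofNat 1, Int.ofNat 0, Int.ofNat 0] leaf) [Int.ofNat 0, Int.negSucc 0, Int.negSucc 0, Int.negSucc 1, Int.negSucc 0, Int.negSucc 0, Int.negSucc 0, Int.ofNat 0] (node leaf [Int.ofNat 1, Int.ofNat 2, Int.ofNat 2, Int.ofNat 3, Int.ofNat 3, Int.ofNat 3, Int.ofNat 2, Int.ofNat 1] leaf))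 [Int.negSucc 0, Int.negSucc 0, Int.negSucc 1, Int.negSucc 1, Int.negSucc 0, Int.negSucc 0, Int.negSucc 0, Int.ofNat 0] (node (node leaf [Int.ofNat 1, Int.ofNat 1, Int.ofNat 1, Int.ofNat 2, Int.ofNat 2, Int.ofNat 2, Int.ofNat 1, Int.ofNat 0] leaf) [Int.ofNat 0, Int.ofNat 0, Int.ofNat 0, Int.ofNat 0, Int.ofNat 0, Int.ofNat 0, Int.negSucc 0, Int.negSucc 0] leaf))) [Int.negSucc 1, Int.negSucc 1, Int.negSucc 2, Int.negSucc 3, Int.negSucc 2, Int.negSucc 1, Int.negSucc 0, Int.ofNat 0] (node (node (node (node leaf [Int.ofNat 0, Int.ofNat 1, Int.ofNat 0, Int.ofNat 0, Int.ofNat 0, Int.ofNat 0, Int.ofNat 0, Int.ofNat 0] leaf) [Int.negSucc 0, Int.ofNat 0, Int.ofNat 0, Int.ofNat 0, Int.ofNat 0, Int.ofNat 0, Int.ofNat 0, Int.ofNat 0] (node leaf [Int.ofNat 1, Int.ofNat 2, Int.ofNat 2, Int.ofNat 3, Int.ofNat 2, Int.ofNat 1, Int.ofNat 1, Int.ofNat 0] leaf)) [Int.negSucc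 0, Int.negSucc 0, Int.negSucc 1, Int.negSucc 2, Int.negSucc 1, Int.negSucc 0, Int.ofNat 0, Int.ofNat 0] (node (node leaf [Int.ofNat 1, Int.ofNat 1, Int.ofNat 1, Int.ofNat 1, Int.ofNat 1, Int.ofNat 1, Int.ofNat 1, Int.ofNat 1] leaf) [Int.ofNat 0, Int.ofNat 0, Int.ofNat 0, Int.negSucc 0, Int.ofNat 0, Int.ofNat 0, Int.ofNat 0, Int.ofNat 0] (node leaf [Int.ofNat 2, Int.ofNat 3, Int.ofNat 4, Int.ofNat 6, Int.ofNat 5, Int.ofNat 4, Int.ofNat 2, Int.ofNat 1] leaf))) [Int.negSucc 0, Int.negSucc 1, Int.negSucc 1, Int.negSucc 2, Int.negSucc 2, Int.negSucc 1, Int.negSucc 0, Int.ofNat 0] (node (node (node leaf [Int.ofNat 0, Int.ofNat 1, Int.ofNat 1, Int.ofNat 2, Int.ofNat 2, Int.ofNat 1, Int.ofNat 1, Int.ofNat 0] leaf) [Int.ofNat 0, Int.negSucc 0, Int.ofNat 0, Int.negSucc 0, Int.negSucc 0, Int.negSucc 0, Int.negSucc 0, Int.negSucc 0] (node leaf [Int.ofNat 1, Int.ofNat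 2, Int.ofNat 3, Int.ofNat 4, Int.ofNat 3, Int.ofNat 2, Int.ofNat 2, Int.ofNat 1] leaf)) [Int.negSucc 0, Int.negSucc 0, Int.negSucc 0, Int.negSucc 1, Int.negSucc 1, Int.negSucc 0, Int.ofNat 0, Int.ofNat 0] (node (node leaf [Int.ofNat 1, Int.ofNat 1, Int.ofNat 2, Int.ofNat 2, Int.ofNat 2, Int.ofNat 1, Int.ofNat 1, Int.ofNat 0] leaf) [Int.ofNat 0, Int.ofNat 0, Int.ofNat 0, Int.ofNat 0, Int.ofNat 0, Int.ofNat 1, Int.ofNat 1, Int.ofNat 1] leaf)))))) [Int.negSucc 1, Int.negSucc 2, Int.negSucc 3, Int.negSucc 5, Int.negSucc 4, Int.negSucc 3, Int.negSucc 2, Int.negSucc 1] (node (node (node (node (node (node (node leaf [Int.ofNat 0, Int.ofNat 0, Int.ofNat 0, Int.ofNat 0, Int.ofNat 1, Int.ofNat 1, Int.ofNat 1, Int.ofNat 0] leaf) [Int.negSucc 0, Int.negSucc 0, Int.negSucc 0, Int.negSucc 1, Int.negSucc 0, Int.negSucc 0, Int.ofNat 0, Int.ofNat 0] (node leaf [Int.ofNat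 1, Int.ofNat 1, Int.ofNat 2, Int.ofNat 2, Int.ofNat 2, Int.ofNat 2, Int.ofNat 1, Int.ofNat 1] leaf)) [Int.negSucc 0, Int.negSucc 1, Int.negSucc 1, Int.negSucc 2, Int.negSucc 1, Int.negSucc 1, Int.negSucc 0, Int.ofNat 0] (node (node leaf [Int.ofNat 0, Int.ofNat 1, Int.ofNat 1, Int.ofNat 2, Int.ofNat 2, Int.ofNat 2, Int.ofNat 1, Int.ofNat 1] leaf) [Int.ofNat 0, Int.negSucc 0, Int.ofNat 0, Int.negSucc 0, Int.negSucc 0, Int.ofNat 0, Int.ofNat 0, Int.ofNat 0] (node leaf [Int.ofNat 1, Int.ofNat 2, Int.ofNat 3, Int.ofNat 5, Int.ofNat 4, Int.ofNat 3, Int.ofNat 2, Int.ofNat 1] leaf))) [Int.negSucc 0, Int.negSucc 1, Int.negSucc 2, Int.negSucc 3, Int.negSucc 3, Int.negSucc 2, Int.negSucc 1, Int.negSucc 0] (node (node (node leaf [Int.ofNat 0, Int.ofNat 1, Int.ofNat 0, Int.ofNat 1, Int.ofNat 1, Int.ofNat 1, Int.ofNat 0, Int.ofNat 0] leaf) [Int.ofNat 0, Int.negSucc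 0, Int.negSucc 0, Int.negSucc 1, Int.negSucc 1, Int.negSucc 1, Int.negSucc 0, Int.ofNat 0] (node leaf [Int.ofNat 1, Int.ofNat 2, Int.ofNat 2, Int.ofNat 3, Int.ofNat 2, Int.ofNat 2, Int.ofNat 1, Int.ofNat 1] leaf)) [Int.negSucc 0, Int.negSucc 0, Int.negSucc 1, Int.negSucc 1, Int.negSucc 1, Int.negSucc 1, Int.negSucc 0, Int.ofNat 0] (node (node leaf [Int.ofNat 1, Int.ofNat 1, Int.ofNat 1, Int.ofNat 2, Int.ofNat 1, Int.ofNat 1, Int.ofNat 1, Int.ofNat 0] leaf) [Int.ofNat 0, Int.ofNat 0, Int.ofNat 0, Int.ofNat 0, Int.negSucc 0, Int.negSucc 0, Int.ofNat 0, Int.ofNat 0] leaf))) [Int.negSucc 1, Int.negSucc 1, Int.negSucc 2, Int.negSucc 4, Int.negSucc 3, Int.negSucc 2, Int.negSucc 1, Int.negSucc 0] (node (node (node (node leaf [Int.ofNat 0, Int.ofNat 0, Int.ofNat 1, Int.ofNat 1, Int.ofNat 0, Int.ofNat 0, Int.ofNat 0, Int.ofNat 0] leaf) [Int.negSucc 0, Int.ofNat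 0, Int.negSucc 0, Int.negSucc 0, Int.negSucc 0, Int.negSucc 0, Int.negSucc 0, Int.ofNat 0] (node leaf [Int.ofNat 1, Int.ofNat 1, Int.ofNat 2, Int.ofNat 3, Int.ofNat 3, Int.ofNat 2, Int.ofNat 1, Int.ofNat 0] leaf)) [Int.negSucc 0, Int.negSucc 0, Int.negSucc 1, Int.negSucc 2, Int.negSucc 1, Int.negSucc 1, Int.negSucc 1, Int.negSucc 0] (node (node leaf [Int.ofNat 1, Int.ofNat 0, Int.ofNat 1, Int.ofNat 1, Int.ofNat 1, Int.ofNat 1, Int.ofNat 1, Int.ofNat 1] leaf) [Int.ofNat 0, Int.ofNat 0, Int.negSucc 0, Int.ofNat 0, Int.ofNat 0, Int.ofNat 0, Int.ofNat 0, Int.ofNat 0] (node leaf [Int.ofNat 2, Int.ofNat 2, Int.ofNat 4, Int.ofNat 5, Int.ofNat 4, Int.ofNat 3, Int.ofNat 2, Int.ofNat 1] leaf))) [Int.negSucc 0, Int.negSucc 1, Int.negSucc 1, Int.negSucc 3, Int.negSucc 2, Int.negSucc 1, Int.negSucc 0, Int.negSucc 0] (node (node (node leaf [Int.ofNat 0, Int.ofNat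 1, Int.ofNat 1, Int.ofNat 2, Int.ofNat 1, Int.ofNat 0, Int.ofNat 0, Int.ofNat 0] leaf) [Int.ofNat 0, Int.negSucc 0, Int.negSucc 0, Int.negSucc 0, Int.negSucc 0, Int.negSucc 0, Int.negSucc 0, Int.negSucc 0] (node leaf [Int.ofNat 1, Int.ofNat 2, Int.ofNat 2, Int.ofNat 4, Int.ofNat 3, Int.ofNat 2, Int.ofNat 2, Int.ofNat 1] leaf)) [Int.negSucc 0, Int.negSucc 0, Int.negSucc 0, Int.negSucc 1, Int.negSucc 1, Int.negSucc 1, Int.negSucc 1, Int.negSucc 0] (node (node leaf [Int.ofNat 1, Int.ofNat 1, Int.ofNat 2, Int.ofNat 2, Int.ofNat 1, Int.ofNat 0, Int.ofNat 0, Int.ofNat 0] leaf) [Int.ofNat 0, Int.ofNat 0, Int.ofNat 0, Int.ofNat 0, Int.ofNat 0, Int.ofNat 0, Int.ofNat 0, Int.ofNat 1] leaf)))) [Int.negSucc 1, Int.negSucc 2, Int.negSucc 3, Int.negSucc 5, Int.negSucc 3, Int.negSucc 2, Int.negSucc 1, Int.negSucc 0] (node (node (node (node (node leaf [Int.ofNat 0,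 Int.ofNat 0, Int.ofNat 0, Int.ofNat 1, Int.ofNat 1, Int.ofNat 1, Int.ofNat 0, Int.ofNat 0] leaf) [Int.negSucc 0, Int.negSucc 0, Int.negSucc 0, Int.negSucc 0, Int.negSucc 0, Int.negSucc 0, Int.ofNat 0, Int.ofNat 0] (node leaf [Int.ofNat 1, Int.ofNat 1, Int.ofNat 2, Int.ofNat 3, Int.ofNat 2, Int.ofNat 1, Int.ofNat 1, Int.ofNat 1] leaf)) [Int.negSucc 0, Int.negSucc 0, Int.negSucc 1, Int.negSucc 2, Int.negSucc 2, Int.negSucc 2, Int.negSucc 1, Int.negSucc 0] (node (node leaf [Int.ofNat 1, Int.ofNat 0, Int.ofNat 1, Int.ofNat 1, Int.ofNat 0, Int.ofNat 0, Int.ofNat 0, Int.ofNat 0] leaf) [Int.ofNat 0, Int.ofNat 0, Int.negSucc 0, Int.negSucc 0, Int.negSucc 0, Int.negSucc 0, Int.negSucc 0, Int.ofNat 0] (node leaf [Int.ofNat 2, Int.ofNat 2, Int.ofNat 3, Int.ofNat 4, Int.ofNat 3, Int.ofNat 2, Int.ofNat 2, Int.ofNat 1] leaf))) [Int.negSucc 0, Int.negSucc 1, Int.negSucc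 2, Int.negSucc 3, Int.negSucc 2, Int.negSucc 1, Int.negSucc 0, Int.ofNat 0] (node (node (node leaf [Int.ofNat 0, Int.ofNat 1, Int.ofNat 1, Int.ofNat 1, Int.ofNat 1, Int.ofNat 0, Int.ofNat 0, Int.ofNat 0] leaf) [Int.ofNat 0, Int.negSucc 0, Int.negSucc 0, Int.negSucc 1, Int.negSucc 0, Int.negSucc 0, Int.negSucc 0, Int.negSucc 0] (node leaf [Int.ofNat 1, Int.ofNat 2, Int.ofNat 2, Int.ofNat 3, Int.ofNat 3, Int.ofNat 2, Int.ofNat 2, Int.ofNat 1] leaf)) [Int.negSucc 0, Int.negSucc 0, Int.negSucc 1, Int.negSucc 1, Int.negSucc 0, Int.negSucc 0, Int.negSucc 0, Int.negSucc 0] (node (node leaf [Int.ofNat 1, Int.ofNat 1, Int.ofNat 1, Int.ofNat 2, Int.ofNat 2, Int.ofNat 1, Int.ofNat 1, Int.ofNat 1] leaf) [Int.ofNat 0, Int.ofNat 0, Int.ofNat 0, Int.ofNat 0, Int.ofNat 0, Int.negSucc 0, Int.ofNat 0, Int.ofNat 0] leaf))) [Int.negSucc 1, Int.negSucc 1, Int.negSucc 2,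 Int.negSucc 3, Int.negSucc 2, Int.negSucc 1, Int.negSucc 0, Int.negSucc 0] (node (node (node (node leaf [Int.ofNat 0, Int.ofNat 0, Int.ofNat 1, Int.ofNat 1, Int.ofNat 1, Int.ofNat 1, Int.ofNat 1, Int.ofNat 1] leaf) [Int.negSucc 0, Int.ofNat 0, Int.negSucc 0, Int.ofNat 0, Int.ofNat 0, Int.ofNat 0, Int.ofNat 0, Int.ofNat 0] (node leaf [Int.ofNat 1, Int.ofNat 2, Int.ofNat 2, Int.ofNat 3, Int.ofNat 2, Int.ofNat 1, Int.ofNat 0, Int.ofNat 0] leaf)) [Int.negSucc 0, Int.negSucc 0, Int.negSucc 1, Int.negSucc 2, Int.negSucc 1, Int.negSucc 0, Int.negSucc 0, Int.ofNat 0] (node (node leaf [Int.ofNat 1, Int.ofNat 1, Int.ofNat 1, Int.ofNat 1, Int.ofNat 1, Int.ofNat 1, Int.ofNat 1, Int.ofNat 0] leaf) [Int.ofNat 0, Int.ofNat 0, Int.ofNat 0, Int.negSucc 0, Int.negSucc 0, Int.ofNat 0, Int.ofNat 0, Int.ofNat 0] (node leaf [Int.ofNat 2, Int.ofNat 3, Int.ofNat 4, Int.ofNat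 6, Int.ofNat 5, Int.ofNat 3, Int.ofNat 2, Int.ofNat 1] leaf))) [Int.negSucc 0, Int.negSucc 1, Int.negSucc 1, Int.negSucc 2, Int.negSucc 2, Int.negSucc 1, Int.negSucc 0, Int.negSucc 0] (node (node (node leaf [Int.ofNat 0, Int.ofNat 1, Int.ofNat 1, Int.ofNat 2, Int.ofNat 2, Int.ofNat 1, Int.ofNat 0, Int.ofNat 0] leaf) [Int.ofNat 0, Int.negSucc 0, Int.negSucc 0, Int.negSucc 0, Int.ofNat 0, Int.ofNat 0, Int.ofNat 0, Int.ofNat 0] (node leaf [Int.ofNat 1, Int.ofNat 2, Int.ofNat 3, Int.ofNat 4, Int.ofNat 3, Int.ofNat 2, Int.ofNat 1, Int.ofNat 1] leaf)) [Int.negSucc 0, Int.negSucc 0, Int.negSucc 0, Int.negSucc 1, Int.negSucc 1, Int.negSucc 0, Int.negSucc 0, Int.ofNat 0] (node (node leaf [Int.ofNat 1, Int.ofNat 1, Int.ofNat 2, Int.ofNat 2, Int.ofNat 2, Int.ofNat 1, Int.ofNat 0, Int.ofNat 0] leaf) [Int.ofNat 0, Int.ofNat 0, Int.ofNat 0, Int.ofNat 0, Int.ofNat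 0, Int.ofNat 1, Int.ofNat 1, Int.ofNat 0] leaf))))) [Int.negSucc 1, Int.negSucc 2, Int.negSucc 3, Int.negSucc 5, Int.negSucc 4, Int.negSucc 3, Int.negSucc 1, Int.negSucc 0] (node (node (node (node (node (node leaf [Int.ofNat 0, Int.ofNat 0, Int.ofNat 0, Int.ofNat 1, Int.ofNat 0, Int.ofNat 0, Int.ofNat 0, Int.ofNat 0] leaf) [Int.negSucc 0, Int.negSucc 0, Int.negSucc 0, Int.negSucc 0, Int.negSucc 0, Int.negSucc 0, Int.negSucc 0, Int.negSucc 0] (node leaf [Int.ofNat 1, Int.ofNat 1, Int.ofNat 2, Int.ofNat 3, Int.ofNat 2, Int.ofNat 1, Int.ofNat 0, Int.ofNat 0] leaf)) [Int.negSucc 0, Int.negSucc 1, Int.negSucc 1, Int.negSucc 2, Int.negSucc 1, Int.negSucc 0, Int.negSucc 0, Int.ofNat 0] (node (node leaf [Int.ofNat 1, Int.ofNat 0, Int.ofNat 0, Int.ofNat 0, Int.ofNat 0, Int.ofNat 0, Int.ofNat 0, Int.ofNat 0] leaf) [Int.ofNat 0, Int.negSucc 0, Int.ofNat 0, Int.ofNat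 0, Int.ofNat 0, Int.ofNat 0, Int.ofNat 0, Int.ofNat 0] (node leaf [Int.ofNat 2, Int.ofNat 2, Int.ofNat 3, Int.ofNat 4, Int.ofNat 3, Int.ofNat 2, Int.ofNat 1, Int.ofNat 0] leaf))) [Int.negSucc 0, Int.negSucc 1, Int.negSucc 2, Int.negSucc 3, Int.negSucc 2, Int.negSucc 1, Int.negSucc 1, Int.negSucc 0] (node (node (node leaf [Int.ofNat 0, Int.ofNat 1, Int.ofNat 0, Int.ofNat 1, Int.ofNat 1, Int.ofNat 1, Int.ofNat 1, Int.ofNat 1] leaf) [Int.ofNat 0, Int.negSucc 0, Int.negSucc 0, Int.negSucc 1, Int.negSucc 1, Int.negSucc 0, Int.negSucc 0, Int.ofNat 0] (node leaf [Int.ofNat 1, Int.ofNat 2, Int.ofNat 2, Int.ofNat 3, Int.ofNat 3, Int.ofNat 2, Int.ofNat 1, Int.ofNat 0] leaf)) [Int.negSucc 0, Int.negSucc 0, Int.negSucc 1, Int.negSucc 1, Int.negSucc 1, Int.negSucc 0, Int.negSucc 0, Int.ofNat 0] (node (node leaf [Int.ofNat 1, Int.ofNat 1, Int.ofNat 1, Int.ofNat 2,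 Int.ofNat 2, Int.ofNat 1, Int.ofNat 0, Int.ofNat 0] leaf) [Int.ofNat 0, Int.ofNat 0, Int.ofNat 0, Int.ofNat 0, Int.ofNat 0, Int.negSucc 0, Int.negSucc 0, Int.negSucc 0] leaf))) [Int.negSucc 1, Int.negSucc 1, Int.negSucc 2, Int.negSucc 3, Int.negSucc 2, Int.negSucc 2, Int.negSucc 1, Int.negSucc 0] (node (node (node (node leaf [Int.ofNat 0, Int.ofNat 0, Int.ofNat 1, Int.ofNat 1, Int.ofNat 1, Int.ofNat 1, Int.ofNat 0, Int.ofNat 0] leaf) [Int.negSucc 0, Int.ofNat 0, Int.negSucc 0, Int.negSucc 0, Int.negSucc 0, Int.ofNat 0, Int.ofNat 0, Int.ofNat 0] (node leaf [Int.ofNat 1, Int.ofNat 1, Int.ofNat 2, Int.ofNat 3, Int.ofNat 3, Int.ofNat 2, Int.ofNat 2, Int.ofNat 1] leaf)) [Int.negSucc 0, Int.negSucc 0, Int.negSucc 1, Int.negSucc 2, Int.negSucc 1, Int.negSucc 1, Int.negSucc 0, Int.ofNat 0] (node (node leaf [Int.ofNat 1, Int.ofNat 1, Int.ofNat 1, Int.ofNat 1,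 Int.ofNat 1, Int.ofNat 0, Int.ofNat 0, Int.ofNat 0] leaf) [Int.ofNat 0, Int.ofNat 0, Int.ofNat 0, Int.negSucc 0, Int.negSucc 0, Int.negSucc 0, Int.negSucc 0, Int.ofNat 0] (node leaf [Int.ofNat 2, Int.ofNat 3, Int.ofNat 4, Int.ofNat 5, Int.ofNat 4, Int.ofNat 3, Int.ofNat 2, Int.ofNat 1] leaf))) [Int.negSucc 0, Int.negSucc 1, Int.negSucc 1, Int.negSucc 2, Int.negSucc 2, Int.negSucc 2, Int.negSucc 1, Int.negSucc 0] (node (node (node leaf [Int.ofNat 0, Int.ofNat 1, Int.ofNat 1, Int.ofNat 2, Int.ofNat 1, Int.ofNat 1, Int.ofNat 1, Int.ofNat 0] leaf) [Int.ofNat 0, Int.negSucc 0, Int.negSucc 0, Int.negSucc 0, Int.negSucc 0, Int.negSucc 0, Int.ofNat 0, Int.ofNat 0] (node leaf [Int.ofNat 1, Int.ofNat 2, Int.ofNat 2, Int.ofNat 4, Int.ofNat 4, Int.ofNat 3, Int.ofNat 2, Int.ofNat 1] leaf)) [Int.negSucc 0, Int.negSucc 0, Int.negSucc 0, Int.negSucc 1, Int.negSucc 1,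 Int.negSucc 1, Int.negSucc 0, Int.ofNat 0] (node (node leaf [Int.ofNat 1, Int.ofNat 1, Int.ofNat 2, Int.ofNat 2, Int.ofNat 1, Int.ofNat 1, Int.ofNat 1, Int.ofNat 0] leaf) [Int.ofNat 0, Int.ofNat 0, Int.ofNat 0, Int.ofNat 0, Int.ofNat 0, Int.ofNat 0, Int.ofNat 1, Int.ofNat 1] leaf)))) [Int.negSucc 1, Int.negSucc 2, Int.negSucc 2, Int.negSucc 4, Int.negSucc 3, Int.negSucc 2, Int.negSucc 1, Int.negSucc 0] (node (node (node (node (node leaf [Int.ofNat 0, Int.ofNat 0, Int.ofNat 0, Int.ofNat 1, Int.ofNat 1, Int.ofNat 1, Int.ofNat 1, Int.ofNat 1] leaf) [Int.negSucc 0, Int.negSucc 0, Int.negSucc 0, Int.negSucc 0, Int.ofNat 0, Int.ofNat 0, Int.ofNat 0, Int.ofNat 0] (node leaf [Int.ofNat 1, Int.ofNat 1, Int.ofNat 2, Int.ofNat 3, Int.ofNat 2, Int.ofNat 2, Int.ofNat 1, Int.ofNat 1] leaf)) [Int.negSucc 0, Int.negSucc 0, Int.negSucc 1, Int.negSucc 2, Int.negSucc 2,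 Int.negSucc 1, Int.negSucc 0, Int.negSucc 0] (node (node leaf [Int.ofNat 1, Int.ofNat 0, Int.ofNat 1, Int.ofNat 1, Int.ofNat 1, Int.ofNat 1, Int.ofNat 0, Int.ofNat 0] leaf) [Int.ofNat 0, Int.ofNat 0, Int.negSucc 0, Int.negSucc 0, Int.negSucc 0, Int.ofNat 0, Int.ofNat 0, Int.ofNat 0] (node leaf [Int.ofNat 2, Int.ofNat 2, Int.ofNat 3, Int.ofNat 4, Int.ofNat 4, Int.ofNat 3, Int.ofNat 2, Int.ofNat 1] leaf))) [Int.negSucc 0, Int.negSucc 1, Int.negSucc 1, Int.negSucc 3, Int.negSucc 2, Int.negSucc 2, Int.negSucc 1, Int.negSucc 0] (node (node (node leaf [Int.ofNat 0, Int.ofNat 1, Int.ofNat 1, Int.ofNat 1, Int.ofNat 1, Int.ofNat 1, Int.ofNat 1, Int.ofNat 0] leaf) [Int.ofNat 0, Int.negSucc 0, Int.negSucc 0, Int.negSucc 1, Int.negSucc 0, Int.negSucc 0, Int.ofNat 0, Int.ofNat 0] (node leaf [Int.ofNat 1, Int.ofNat 2, Int.ofNat 2, Int.ofNat 4, Int.ofNat 3, Int.ofNat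 2, Int.ofNat 1, Int.ofNat 0] leaf)) [Int.negSucc 0, Int.negSucc 0, Int.negSucc 1, Int.negSucc 1, Int.negSucc 0, Int.negSucc 0, Int.ofNat 0, Int.ofNat 0] (node (node leaf [Int.ofNat 1, Int.ofNat 1, Int.ofNat 1, Int.ofNat 2, Int.ofNat 2, Int.ofNat 2, Int.ofNat 1, Int.ofNat 1] leaf) [Int.ofNat 0, Int.ofNat 0, Int.ofNat 0, Int.ofNat 0, Int.ofNat 0, Int.ofNat 0, Int.negSucc 0, Int.ofNat 0] leaf))) [Int.negSucc 0, Int.negSucc 2, Int.negSucc 2, Int.negSucc 4, Int.negSucc 3, Int.negSucc 2, Int.negSucc 1, Int.negSucc 0] (node (node (node (node leaf [Int.ofNat 0, Int.ofNat 1, Int.ofNat 0, Int.ofNat 1, Int.ofNat 0, Int.ofNat 0, Int.ofNat 0, Int.ofNat 0] leaf) [Int.ofNat 0, Int.negSucc 0, Int.negSucc 0, Int.negSucc 1, Int.negSucc 1, Int.negSucc 1, Int.negSucc 1, Int.negSucc 0] (node leaf [Int.ofNat 1, Int.ofNat 2, Int.ofNat 2, Int.ofNat 3, Int.ofNat 2, Int.ofNat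 1, Int.ofNat 1, Int.ofNat 1] leaf)) [Int.negSucc 0, Int.negSucc 0, Int.negSucc 1, Int.negSucc 1, Int.negSucc 1, Int.negSucc 1, Int.negSucc 1, Int.negSucc 0] (node (node leaf [Int.ofNat 1, Int.ofNat 1, Int.ofNat 1, Int.ofNat 2, Int.ofNat 1, Int.ofNat 0, Int.ofNat 0, Int.ofNat 0] leaf) [Int.ofNat 0, Int.ofNat 0, Int.ofNat 0, Int.ofNat 0, Int.negSucc 0, Int.negSucc 0, Int.negSucc 0, Int.negSucc 0] (node leaf [Int.ofNat 2, Int.ofNat 3, Int.ofNat 4, Int.ofNat 6, Int.ofNat 5, Int.ofNat 4, Int.ofNat 3, Int.ofNat 1] leaf))) [Int.negSucc 0, Int.negSucc 1, Int.negSucc 1, Int.negSucc 2, Int.negSucc 1, Int.negSucc 1, Int.negSucc 1, Int.negSucc 0] (node (node (node leaf [Int.ofNat 0, Int.ofNat 1, Int.ofNat 1, Int.ofNat 2, Int.ofNat 2, Int.ofNat 1, Int.ofNat 1, Int.ofNat 1] leaf) [Int.ofNat 0, Int.negSucc 0, Int.ofNat 0, Int.negSucc 0, Int.negSucc 0, Int.negSucc 0,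 Int.negSucc 0, Int.ofNat 0] (node leaf [Int.ofNat 1, Int.ofNat 2, Int.ofNat 3, Int.ofNat 4, Int.ofNat 3, Int.ofNat 3, Int.ofNat 2, Int.ofNat 1] leaf)) [Int.negSucc 0, Int.negSucc 0, Int.negSucc 0, Int.negSucc 1, Int.negSucc 0, Int.negSucc 0, Int.negSucc 0, Int.negSucc 0] (node (node leaf [Int.ofNat 1, Int.ofNat 1, Int.ofNat 2, Int.ofNat 2, Int.ofNat 2, Int.ofNat 1, Int.ofNat 1, Int.ofNat 1] leaf) [Int.ofNat 0, Int.ofNat 0, Int.ofNat 0, Int.ofNat 0, Int.ofNat 1, Int.ofNat 0, Int.ofNat 0, Int.ofNat 0] leaf)))))))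

theorem rc0 : rcb DataE8.fd mT 0 40 = true := by decide +kernel
theorem rc1 : rcb DataE8.fd mT 40 40 = true := by decide +kernel
theorem rc2 : rcb DataE8.fd mT 80 40 = true := by decide +kernel
theorem rc3 : rcb DataE8.fd mT 120 40 = true := by decide +kernel
theorem rc4 : rcb DataE8.fd mT 160 40 = true := by decide +kernel
theorem rc5 : rcb DataE8.fd mT 200 40 = true := by decide +kernel

theorem rcOK : ∀ r < chevE8.nroots, RootCoordOK DataE8.fd chevE8 mT r :=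
  rootCoordOK_all DataE8.agrees mT 40 6 (by norm_num) (by decide)
    (by intro q hq; interval_cases q
        · exact rc0
        · exact rc1
        · exact rc2
        · exact rc3
        · exact rc4
        · exact rc5
    )

theorem lv0 : levib DataE8.fd 0 40 = true := by decide +kernel
theorem lv1 : levib DataE8.fd 40 40 = true := by decide +kernel
theorem lv2 : levib DataE8.fd 80 40 = true := by decide +kernel
theorem lv3 : levib DataE8.fd 120 40 = true := by decide +kernel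
theorem lv4 : levib DataE8.fd 160 40 = true := by decide +kernel
theorem lv5 : levib DataE8.fd 200 40 = true := by decide +kernel

theorem posIff : ∀ r < chevE8.nroots, (chevE8.IsPosRoot r ↔ chevE8.nroots / 2 ≤ r) :=
  pos_iff_of_tri DataE8.agrees TrE8.triOK (pos_or_neg_all chevE8 (by simp))

theorem leviOK : ∀ r < chevE8.nroots, LeviOK DataE8.fd chevE8 r :=
  leviOK_all DataE8.agrees posIff 40 6 (by norm_num) (by decide)
    (by intro q hq; interval_cases q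
        · exact lv0
        · exact lv1
        · exact lv2
        · exact lv3
        · exact lv4
        · exact lv5
    )

end Cfsg.Agent.Lib.Helper5.Chev.LvE8
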