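import Cfsg.Agent.Lib.Helper5.Chev.TriChev
import Cfsg.Agent.Lib.Helper5.Chev.DataF4
import Mathlib

set_option autoImplicit false
set_option maxRecDepth 100000

namespace Cfsg.Agent.Lib.Helper5.Chev.TrF4

open Cfsg.Lie Cfsg.Agent.Lib.Helper5.Chev

theorem tr0 : trib DataF4.fd chevF4 0 48 = true := by decide +kernel

theorem triOK : ∀ r < chevF4.nroots, TriOK DataF4.fd chevF4 r :=
  triOK_all DataF4.fd chevF4 48 48 1 (by norm_num) (by norm_num)
    (by intro q hq; interval_cases q
        · exact tr0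
    )

end Cfsg.Agent.Lib.Helper5.Chev.TrF4
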