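import Cfsg.Agent.Lib.Helper5.Chev.LeviGrade
import Cfsg.Agent.Lib.Helper5.Chev.DataF4
import Cfsg.Agent.Lib.Helper5.Chev.TrF4
import Mathlib

set_option autoImplicit false
set_option maxRecDepth 100000

namespace Cfsg.Agent.Lib.Helper5.Chev.LvF4

open Cfsg.Lie Cfsg.Agent.Lib.Helper5.Chev Cfsg.Agent.Lib.Helper5.Chev.BT

/-- the coordinates of the roots in the fundamental roots -/
def mT : BT (List ℤ) := (node (node (node (node (node (node leaf [Int.ofNat 0, Int.ofNat 2, Int.ofNat 1, Int.ofNat 1] leaf) [Int.ofNat 0, Int.negSucc 1, Int.negSucc 1, Int.negSucc 0] (node leaf [Int.ofNat 2, Int.ofNat 4, Int.ofNat 3, Int.ofNat 2] leaf)) [Int.negSucc 0, Int.negSucc 2, Int.negSucc 1, Int.negSucc 0] (node (node leaf [Int.ofNat 1, Int.ofNat 2, Int.ofNat 2, Int.ofNat 1] leaf) [Int.ofNat 0, Int.ofNat 0, Int.ofNat 0, Int.negSucc 0] leaf)) [Int.negSucc 1, Int.negSucc 2, Int.negSucc 1, Int.negSucc 0] (node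 (node (node leaf [Int.ofNat 1, Int.ofNat 1, Int.ofNat 1, Int.ofNat 0] leaf) [Int.ofNat 0, Int.negSucc 0, Int.negSucc 0, Int.ofNat 0] leaf) [Int.negSucc 0, Int.negSucc 0, Int.negSucc 0, Int.negSucc 0] (node (node leaf [Int.ofNat 2, Int.ofNat 2, Int.ofNat 2, Int.ofNat 1] leaf) [Int.ofNat 0, Int.ofNat 1, Int.ofNat 0, Int.ofNat 0] leaf))) [Int.negSucc 1, Int.negSucc 3, Int.negSucc 2, Int.negSucc 0] (node (node (node (node leaf [Int.ofNat 1, Int.ofNat 0, Int.ofNat 0, Int.ofNat 0] leaf) [Int.ofNat 0, Int.negSucc 1, Int.negSucc 0, Int.ofNat 0] leaf) [Int.negSucc 0, Int.negSucc 1, Int.negSucc 0, Int.negSucc 0] (node (node leaf [Int.ofNat 2, Int.ofNat 2, Int.ofNat 1, Int.ofNat 0] leaf) [Int.ofNat 0, Int.ofNat 0, Int.ofNat 1, Int.ofNat 0] leaf)) [Int.negSucc 1, Int.negSucc 1, Int.negSucc 0, Int.negSucc 0] (node (node (node leaf [Int.ofNat 1, Int.ofNat 2, Int.ofNat 1, Int.ofNat 0] leaf) [Int.ofNat 0,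 Int.ofNat 0, Int.negSucc 0, Int.negSucc 0] leaf) [Int.negSucc 0, Int.negSucc 0, Int.ofNat 0, Int.ofNat 0] (node (node leaf [Int.ofNat 2, Int.ofNat 4, Int.ofNat 2, Int.ofNat 1] leaf) [Int.ofNat 0, Int.ofNat 1, Int.ofNat 1, Int.ofNat 1] leaf)))) [Int.negSucc 1, Int.negSucc 3, Int.negSucc 2, Int.negSucc 1] (node (node (node (node (node leaf [Int.ofNat 0, Int.ofNat 2, Int.ofNat 2, Int.ofNat 1] leaf) [Int.ofNat 0, Int.negSucc 1, Int.negSucc 0, Int.negSucc 0] leaf) [Int.negSucc 0, Int.negSucc 1, Int.negSucc 1, Int.negSucc 0] (node (node leaf [Int.ofNat 1, Int.ofNat 3, Int.ofNat 2, Int.ofNat 1] leaf) [Int.ofNat 0, Int.ofNat 0, Int.ofNat 0, Int.ofNat 1] leaf)) [Int.negSucc 1, Int.negSucc 1, Int.negSucc 1, Int.negSucc 0] (node (node (node leaf [Int.ofNat 1, Int.ofNat 1, Int.ofNat 1, Int.ofNat 1] leaf) [Int.ofNat 0, Int.negSucc 0, Int.ofNat 0, Int.ofNat 0] leaf) [Int.negSucc 0, Int.negSucc 0, Int.negSucc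 0, Int.ofNat 0] (node (node leaf [Int.ofNat 2, Int.ofNat 3, Int.ofNat 2, Int.ofNat 1] leaf) [Int.ofNat 0, Int.ofNat 1, Int.ofNat 1, Int.ofNat 0] leaf))) [Int.negSucc 1, Int.negSucc 3, Int.negSucc 1, Int.negSucc 0] (node (node (node (node leaf [Int.ofNat 1, Int.ofNat 1, Int.ofNat 0, Int.ofNat 0] leaf) [Int.ofNat 0, Int.negSucc 0, Int.negSucc 0, Int.negSucc 0] leaf) [Int.negSucc 0, Int.negSucc 1, Int.negSucc 0, Int.ofNat 0] (node (node leaf [Int.ofNat 2, Int.ofNat 2, Int.ofNat 1, Int.ofNat 1] leaf) [Int.ofNat 0, Int.ofNat 0, Int.ofNat 1, Int.ofNat 1] leaf)) [Int.negSucc 1, Int.negSucc 1, Int.negSucc 0, Int.ofNat 0] (node (node (node leaf [Int.ofNat 1, Int.ofNat 2, Int.ofNat 1, Int.ofNat 1] leaf) [Int.ofNat 0, Int.ofNat 0, Int.negSucc 0, Int.ofNat 0] leaf) [Int.negSucc 0, Int.ofNat 0, Int.ofNat 0, Int.ofNat 0] (node (node leaf [Int.ofNat 2, Int.ofNat 4, Int.ofNat 3, Int.ofNat 1] leaf) [Int.ofNat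 0, Int.ofNat 2, Int.ofNat 1, Int.ofNat 0] leaf)))))

theorem rc0 : rcb DataF4.fd mT 0 48 = true := by decide +kernel

theorem rcOK : ∀ r < chevF4.nroots, RootCoordOK DataF4.fd chevF4 mT r :=
  rootCoordOK_all DataF4.agrees mT 48 1 (by norm_num) (by decide)
    (by intro q hq; interval_cases q
        · exact rc0
    )

theorem lv0 : levib DataF4.fd 0 48 = true := by decide +kernel

theorem posIff : ∀ r < chevF4.nroots, (chevF4.IsPosRoot r ↔ chevF4.nroots / 2 ≤ r) :=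
  pos_iff_of_tri DataF4.agrees TrF4.triOK (pos_or_neg_all chevF4 (by simp))

theorem leviOK : ∀ r < chevF4.nroots, LeviOK DataF4.fd chevF4 r :=
  leviOK_all DataF4.agrees posIff 48 1 (by norm_num) (by decide)
    (by intro q hq; interval_cases q
        · exact lv0
    )

end Cfsg.Agent.Lib.Helper5.Chev.LvF4
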