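import Cfsg.Agent.Lib.Helper5.Chev.HcG2
import Cfsg.Agent.Lib.Helper5.Chev.HcB2
import Cfsg.Agent.Lib.Helper5.Chev.HcD4
import Cfsg.Agent.Lib.Helper5.Chev.HcF4
import Cfsg.Agent.Lib.Helper5.Chev.HcE6
import Cfsg.Agent.Lib.Helper5.Chev.HcE7
import Cfsg.Agent.Lib.Helper5.Chev.HcE8
import Mathlib

/-!
# The order of the diagonal subgroup `H` of the seven Chevalley groups (helper5)
-/

set_option autoImplicit false

namespace Cfsg.Agent.Lib.Helper5.Chev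

open Cfsg.Lie
open scoped Matrix

section

variable {F : Type*} [Field F] [Fintype F]

theorem card_diagonal_G2 : Nat.card (chevG2.diagonalSubgroup F) = (Fintype.card F - 1) ^ 2 := by
  have h := card_diagonal_of_snf (F := F) (D := chevG2) (by simp) HcG2.Mt HcG2.P HcG2.P' HcG2.Q
    HcG2.Q' HcG2.d HcG2.hC HcG2.hP HcG2.hP2 HcG2.hQ HcG2.hS
  have e : ∏ i, (Fintype.card F - 1).gcd (HcG2.d i) = 1 := by
    show ∏ i : Fin 2, (Fintype.card F - 1).gcd (HcG2.d i) = 1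
    simp [Fin.prod_univ_succ, HcG2.d, HcG2.dL]
  rw [e, one_mul] at h
  exact h

theorem card_diagonal_F4 : Nat.card (chevF4.diagonalSubgroup F) = (Fintype.card F - 1) ^ 4 := by
  have h := card_diagonal_of_snf (F := F) (D := chevF4) (by simp) HcF4.Mt HcF4.P HcF4.P' HcF4.Q
    HcF4.Q' HcF4.d HcF4.hC HcF4.hP HcF4.hP2 HcF4.hQ HcF4.hS
  have e : ∏ i, (Fintype.card F - 1).gcd (HcF4.d i) = 1 := by
    show ∏ i : Fin 4, (Fintype.card F - 1).gcd (HcF4.d i) = 1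
    simp [Fin.prod_univ_succ, HcF4.d, HcF4.dL]
  rw [e, one_mul] at h
  exact h

theorem card_diagonal_E8 : Nat.card (chevE8.diagonalSubgroup F) = (Fintype.card F - 1) ^ 8 := by
  have h := card_diagonal_of_snf (F := F) (D := chevE8) (by simp) HcE8.Mt HcE8.P HcE8.P' HcE8.Q
    HcE8.Q' HcE8.d HcE8.hC HcE8.hP HcE8.hP2 HcE8.hQ HcE8.hS
  have e : ∏ i, (Fintype.card F - 1).gcd (HcE8.d i) = 1 := by
    show ∏ i : Fin 8, (Fintype.card F - 1).gcd (HcE8.d i) = 1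
    simp [Fin.prod_univ_succ, HcE8.d, HcE8.dL]
  rw [e, one_mul] at h
  exact h

theorem card_diagonal_E6 :
    Nat.gcd 3 (Fintype.card F - 1) * Nat.card (chevE6.diagonalSubgroup F)
      = (Fintype.card F - 1) ^ 6 := by
  have h := card_diagonal_of_snf (F := F) (D := chevE6) (by simp) HcE6.Mt HcE6.P HcE6.P' HcE6.Q
    HcE6.Q' HcE6.d HcE6.hC HcE6.hP HcE6.hP2 HcE6.hQ HcE6.hS
  have e : ∏ i, (Fintype.card F - 1).gcd (HcE6.d i) = Nat.gcd 3 (Fintype.card F - 1) := by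
    show ∏ i : Fin 6, (Fintype.card F - 1).gcd (HcE6.d i) = _
    simp [Fin.prod_univ_succ, HcE6.d, HcE6.dL, Nat.gcd_comm]
  rw [e] at h
  exact h

theorem card_diagonal_E7 :
    Nat.gcd 2 (Fintype.card F - 1) * Nat.card (chevE7.diagonalSubgroup F)
      = (Fintype.card F - 1) ^ 7 := by
  have h := card_diagonal_of_snf (F := F) (D := chevE7) (by simp) HcE7.Mt HcE7.P HcE7.P' HcE7.Q
    HcE7.Q' HcE7.d HcE7.hC HcE7.hP HcE7.hP2 HcE7.hQ HcE7.hS
  have e : ∏ i, (Fintype.card F - 1).gcd (HcE7.d i) = Nat.gcd 2 (Fintype.card F - 1) := by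
    show ∏ i : Fin 7, (Fintype.card F - 1).gcd (HcE7.d i) = _
    simp [Fin.prod_univ_succ, HcE7.d, HcE7.dL, Nat.gcd_comm]
  rw [e] at h
  exact h

theorem card_diagonal_B2 :
    Nat.gcd 2 (Fintype.card F - 1) * Nat.card (chevB2.diagonalSubgroup F)
      = (Fintype.card F - 1) ^ 2 := by
  have h := card_diagonal_of_snf (F := F) (D := chevB2) (by simp) HcB2.Mt HcB2.P HcB2.P' HcB2.Q
    HcB2.Q' HcB2.d HcB2.hC HcB2.hP HcB2.hP2 HcB2.hQ HcB2.hS
  have e : ∏ i, (Fintype.card F - 1).gcd (HcB2.d i) = Nat.gcd 2 (Fintype.card F - 1) := by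
    show ∏ i : Fin 2, (Fintype.card F - 1).gcd (HcB2.d i) = _
    simp [Fin.prod_univ_succ, HcB2.d, HcB2.dL, Nat.gcd_comm]
  rw [e] at h
  exact h

theorem card_diagonal_D4 :
    Nat.gcd 2 (Fintype.card F - 1) ^ 2 * Nat.card (chevD4.diagonalSubgroup F)
      = (Fintype.card F - 1) ^ 4 := by
  have h := card_diagonal_of_snf (F := F) (D := chevD4) (by simp) HcD4.Mt HcD4.P HcD4.P' HcD4.Q
    HcD4.Q' HcD4.d HcD4.hC HcD4.hP HcD4.hP2 HcD4.hQ HcD4.hS
  have e : ∏ i, (Fintype.card F - 1).gcd (HcD4.d i) = Nat.gcd 2 (Fintype.card F - 1) ^ 2 := by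
    show ∏ i : Fin 4, (Fintype.card F - 1).gcd (HcD4.d i) = _
    simp [Fin.prod_univ_succ, HcD4.d, HcD4.dL, Nat.gcd_comm, pow_two]
  rw [e] at h
  exact h

end

end Cfsg.Agent.Lib.Helper5.Chev
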