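import Cfsg.Agent.Lib.Helper5.Chev.NFinal
import Cfsg.Agent.Lib.Helper5.Chev.DataD4
import Mathlib

set_option autoImplicit false
set_option maxRecDepth 100000

namespace Cfsg.Agent.Lib.Helper5.Chev.ReflD4

open Cfsg.Lie Cfsg.Agent.Lib.Helper5.Chev

/-- packed reflection 0 -/
def wB0 : ℕ := 0x2e02202001e01c00b02d02b02902701a01801601400900700500302501201000e00c000
theorem g0 : monoG DataD4.fd 0 wB0 = true := by decide +kernel
theorem c0_0 : monoC DataD4.fd wB0 0 24 = true := by decide +kernel
theorem n0 : nmatb DataD4.fd 0 wB0 = true := by decide +kernel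
theorem s0 : sideb DataD4.fd 0 wB0 = true := by decide +kernel
theorem refl0 : ReflChecks DataD4.fd chevD4 0 wB0 :=
  ⟨g0, chain_all DataD4.fd wB0 24 24 1 (by norm_num) (by norm_num)
    (by intro q hq; interval_cases q
        · exact c0_0
    ), n0, s0⟩
/-- packed reflection 1 -/
def wB1 : ℕ := 0x2d02e02a02802502602201a01801302101f01100f01d01601400c00800b006004000003
theorem g1 : monoG DataD4.fd 1 wB1 = true := by decide +kernel
theorem c1_0 : monoC DataD4.fd wB1 0 24 = true := by decide +kernel
theorem n1 : nmatb DataD4.fd 1 wB1 = true := by decide +kernel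
theorem s1 : sideb DataD4.fd 1 wB1 = true := by decide +kernel
theorem refl1 : ReflChecks DataD4.fd chevD4 1 wB1 :=
  ⟨g1, chain_all DataD4.fd wB1 24 24 1 (by norm_num) (by norm_num)
    (by intro q hq; interval_cases q
        · exact c1_0
    ), n1, s1⟩
/-- packed reflection 2 -/
def wB2 : ℕ := 0x2e02902702c02a02401f01d02202001501801601b00e00c01301100a004002009007000
theorem g2 : monoG DataD4.fd 2 wB2 = true := by decide +kernel
theorem c2_0 : monoC DataD4.fd wB2 0 24 = true := by decide +kernel
theorem n2 : nmatb DataD4.fd 2 wB2 = true := by decide +kernel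
theorem s2 : sideb DataD4.fd 2 wB2 = true := by decide +kernel
theorem refl2 : ReflChecks DataD4.fd chevD4 2 wB2 :=
  ⟨g2, chain_all DataD4.fd wB2 24 24 1 (by norm_num) (by norm_num)
    (by intro q hq; interval_cases q
        · exact c2_0
    ), n2, s2⟩
/-- packed reflection 3 -/
def wB3 : ℕ := 0x2e02b02c02702802402102201d01e01a01701901401001300c00f00a006009002005000
theorem g3 : monoG DataD4.fd 3 wB3 = true := by decide +kernel
theorem c3_0 : monoC DataD4.fd wB3 0 24 = true := by decide +kernel
theorem n3 : nmatb DataD4.fd 3 wB3 = true := by decide +kernel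
theorem s3 : sideb DataD4.fd 3 wB3 = true := by decide +kernel
theorem refl3 : ReflChecks DataD4.fd chevD4 3 wB3 :=
  ⟨g3, chain_all DataD4.fd wB3 24 24 1 (by norm_num) (by norm_num)
    (by intro q hq; interval_cases q
        · exact c3_0
    ), n3, s3⟩
theorem refl (i : ℕ) (hi : i < 4) : ∃ B, ReflChecks DataD4.fd chevD4 i B := by
  interval_cases i
  · exact ⟨_, refl0⟩
  · exact ⟨_, refl1⟩
  · exact ⟨_, refl2⟩
  · exact ⟨_, refl3⟩

end Cfsg.Agent.Lib.Helper5.Chev.ReflD4
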