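import Cfsg.Agent.Lib.Helper5.Chev.Transfer
import Cfsg.Agent.Lib.Helper5.Chev.ReflD4
import Mathlib

set_option autoImplicit false
set_option maxRecDepth 100000

namespace Cfsg.Agent.Lib.Helper5.Chev.BsD4

open Cfsg.Lie Cfsg.Agent.Lib.Helper5.Chev

/-- the packed reflections -/
def Bs : List ℕ := [ReflD4.wB0, ReflD4.wB1, ReflD4.wB2, ReflD4.wB3]

theorem reflBs (i : ℕ) (hi : i < 4) : ReflChecks DataD4.fd chevD4 i (Bs.getD i 0) := by
  interval_cases i
  · exact ReflD4.refl0
  · exact ReflD4.refl1
  · exact ReflD4.refl2
  · exact ReflD4.refl3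

/-- the base roots -/
def base : List ℕ := [18, 14, 13, 12, 5, 9, 10, 11]
/-- the packed generators -/
def gB : ℕ := 0x132310323000000323013231

theorem ab0 : FD.addCheck DataD4.fd [18] = true := by decide +kernel
theorem ab1 : FD.addCheck DataD4.fd [14] = true := by decide +kernel
theorem ab2 : FD.addCheck DataD4.fd [13] = true := by decide +kernel
theorem ab3 : FD.addCheck DataD4.fd [12] = true := by decide +kernel
theorem ab4 : FD.addCheck DataD4.fd [5] = true := by decide +kernel
theorem ab5 : FD.addCheck DataD4.fd [9] = true := by decide +kernel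
theorem ab6 : FD.addCheck DataD4.fd [10] = true := by decide +kernel
theorem ab7 : FD.addCheck DataD4.fd [11] = true := by decide +kernel

theorem rb : reachb DataD4.fd Bs gB base 4 = true := by decide +kernel

theorem base_additive {F : Type*} [Field F] (s : ℕ) (hs : s ∈ base) : Additive F chevD4 s := by
  intro t u
  simp only [base, List.mem_cons, List.not_mem_nil, or_false] at hs
  rcases hs with rfl | rfl | rfl | rfl | rfl | rfl | rfl | rfl
  · exact FD.x_add_of_check DataD4.agrees _ ab0 18 (by decide) (by simp) t u
  · exact FD.x_add_of_check DataD4.agrees _ ab1 14 (by decide) (by simp) t u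
  · exact FD.x_add_of_check DataD4.agrees _ ab2 13 (by decide) (by simp) t u
  · exact FD.x_add_of_check DataD4.agrees _ ab3 12 (by decide) (by simp) t u
  · exact FD.x_add_of_check DataD4.agrees _ ab4 5 (by decide) (by simp) t u
  · exact FD.x_add_of_check DataD4.agrees _ ab5 9 (by decide) (by simp) t u
  · exact FD.x_add_of_check DataD4.agrees _ ab6 10 (by decide) (by simp) t u
  · exact FD.x_add_of_check DataD4.agrees _ ab7 11 (by decide) (by simp) t u

theorem simple_mem (i : ℕ) (hi : i < 4) : chevD4.simple i ∈ base ∧ chevD4.neg (chevD4.simple i) ∈ base := by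
  interval_cases i <;> decide

theorem additive {F : Type*} [Field F] : ∀ s < chevD4.nroots, Additive F chevD4 s := by
  have hA := DataD4.agrees
  apply reach_all hA (Additive F chevD4) Bs gB base 4 rb (fun s hs => base_additive s hs)
  · intro i hi s hs
    exact ((reflBs i hi).cert hA).w_lt s hs
  · intro i hi s hs h
    exact (reflBs i hi).additive_transfer hA hi (base_additive _ (simple_mem i hi).1)
      (base_additive _ (simple_mem i hi).2) s hs h

end Cfsg.Agent.Lib.Helper5.Chev.BsD4
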