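import Cfsg.Agent.Lib.Helper5.Chev.HTransfer
import Cfsg.Agent.Lib.Helper5.Chev.BsD4
import Mathlib

set_option autoImplicit false
set_option maxRecDepth 100000

namespace Cfsg.Agent.Lib.Helper5.Chev.HsD4

open Cfsg.Lie Cfsg.Agent.Lib.Helper5.Chev

/-- the fundamental roots -/
def baseH : List ℕ := [18, 14, 13, 12]
/-- the packed generators -/
def gH : ℕ := 0x132310323000321323013231

theorem hm0 : nmatcb DataD4.fd 0 ReflD4.wB0 = true := by decide +kernel
theorem hm1 : nmatcb DataD4.fd 1 ReflD4.wB1 = true := by decide +kernel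
theorem hm2 : nmatcb DataD4.fd 2 ReflD4.wB2 = true := by decide +kernel
theorem hm3 : nmatcb DataD4.fd 3 ReflD4.wB3 = true := by decide +kernel

theorem hm (j : ℕ) (hj : j < chevD4.rank) : nmatcb DataD4.fd j (BsD4.Bs.getD j 0) = true := by
  have hj' : j < 4 := hj
  interval_cases j
  · exact hm0
  · exact hm1
  · exact hm2
  · exact hm3

theorem rbH : reachb DataD4.fd BsD4.Bs gH baseH 5 = true := by decide +kernel

theorem base_simple : ∀ s ∈ baseH, ∃ j < chevD4.rank, s = chevD4.simple j := by
  intro s hs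
  simp only [baseH, List.mem_cons, List.not_mem_nil, or_false] at hs
  rcases hs with rfl | rfl | rfl | rfl
  · exact ⟨0, by decide, by decide⟩
  · exact ⟨1, by decide, by decide⟩
  · exact ⟨2, by decide, by decide⟩
  · exact ⟨3, by decide, by decide⟩

theorem reflBs' (i : ℕ) (hi : i < chevD4.rank) : ReflChecks DataD4.fd chevD4 i (BsD4.Bs.getD i 0) :=
  BsD4.reflBs i hi

theorem hform {F : Type*} [Field F] : ∀ s < chevD4.nroots, HForm F chevD4 s :=
  hform_all DataD4.agrees BsD4.Bs reflBs' BsD4.additive gH baseH 5 rbH base_simple hm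

end Cfsg.Agent.Lib.Helper5.Chev.HsD4
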