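import Cfsg.Agent.Lib.Helper5.Chev.NFinal
import Cfsg.Agent.Lib.Helper5.Chev.DataE6
import Mathlib

set_option autoImplicit false
set_option maxRecDepth 100000

namespace Cfsg.Agent.Lib.Helper5.Chev.ReflE6

open Cfsg.Lie Cfsg.Agent.Lib.Helper5.Chev

/-- packed reflection 1 -/
def wB1 : ℕ := 0x8d08e08a08808608408208007907707507e07c07a07207006e06c06a05b05905705205004e03306806606405406306105f04c04a04804604404203102f02d03a02a02802605d04003e03c03903703502402202001e01c01401201001b01901700e00c00a008006004000003
theorem g1 : monoG DataE6.fd 1 wB1 = true := by decide +kernel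
theorem c1_0 : monoC DataE6.fd wB1 0 24 = true := by decide +kernel
theorem c1_1 : monoC DataE6.fd wB1 24 24 = true := by decide +kernel
theorem c1_2 : monoC DataE6.fd wB1 48 24 = true := by decide +kernel
theorem n1 : nmatb DataE6.fd 1 wB1 = true := by decide +kernel
theorem s1 : sideb DataE6.fd 1 wB1 = true := by decide +kernel
theorem refl1 : ReflChecks DataE6.fd chevE6 1 wB1 :=
  ⟨g1, chain_all DataE6.fd wB1 72 24 3 (by norm_num) (by norm_num)
    (by intro q hq; interval_cases q
        · exact c1_0
        · exact c1_1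
        · exact c1_2
    ), n1, s1⟩
end Cfsg.Agent.Lib.Helper5.Chev.ReflE6
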