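import Cfsg.Agent.Lib.Helper5.Chev.NFinal
import Cfsg.Agent.Lib.Helper5.Chev.DataE6
import Mathlib

set_option autoImplicit false
set_option maxRecDepth 100000

namespace Cfsg.Agent.Lib.Helper5.Chev.ReflE6

open Cfsg.Lie Cfsg.Agent.Lib.Helper5.Chev

/-- packed reflection 2 -/
def wB2 : ℕ := 0x8e08c08508308108a08808607e07c07a07807607407107206e06c06a06306105f06806606405c05205004e03b05b05905704c04a04804604404203903703505504003e03c03202a02802603102f02d02402202001c01f01a01801601401201000800600400f00d00b002000
theorem g2 : monoG DataE6.fd 2 wB2 = true := by decide +kernel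
theorem c2_0 : monoC DataE6.fd wB2 0 24 = true := by decide +kernel
theorem c2_1 : monoC DataE6.fd wB2 24 24 = true := by decide +kernel
theorem c2_2 : monoC DataE6.fd wB2 48 24 = true := by decide +kernel
theorem n2 : nmatb DataE6.fd 2 wB2 = true := by decide +kernel
theorem s2 : sideb DataE6.fd 2 wB2 = true := by decide +kernel
theorem refl2 : ReflChecks DataE6.fd chevE6 2 wB2 :=
  ⟨g2, chain_all DataE6.fd wB2 72 24 3 (by norm_num) (by norm_num)
    (by intro q hq; interval_cases q
        · exact c2_0
        · exact c2_1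
        · exact c2_2
    ), n2, s2⟩
end Cfsg.Agent.Lib.Helper5.Chev.ReflE6
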