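import Cfsg.Agent.Lib.Helper5.Chev.NFinal
import Cfsg.Agent.Lib.Helper5.Chev.DataE6
import Mathlib

set_option autoImplicit false
set_option maxRecDepth 100000

namespace Cfsg.Agent.Lib.Helper5.Chev.ReflE6

open Cfsg.Lie Cfsg.Agent.Lib.Helper5.Chev

/-- packed reflection 3 -/
def wB3 : ℕ := 0x8e08b08c08808608407f07d08208007a07807607307407006e06906706c06a06406206005d05e05a05805505604c04a04105305104804603f03d04f04404203803b03603403003302e02c02a02402202902702001e01a01d01801601400e00c01301100a008006002005000
theorem g3 : monoG DataE6.fd 3 wB3 = true := by decide +kernel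
theorem c3_0 : monoC DataE6.fd wB3 0 24 = true := by decide +kernel
theorem c3_1 : monoC DataE6.fd wB3 24 24 = true := by decide +kernel
theorem c3_2 : monoC DataE6.fd wB3 48 24 = true := by decide +kernel
theorem n3 : nmatb DataE6.fd 3 wB3 = true := by decide +kernel
theorem s3 : sideb DataE6.fd 3 wB3 = true := by decide +kernel
theorem refl3 : ReflChecks DataE6.fd chevE6 3 wB3 :=
  ⟨g3, chain_all DataE6.fd wB3 72 24 3 (by norm_num) (by norm_num)
    (by intro q hq; interval_cases q
        · exact c3_0
        · exact c3_1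
        · exact c3_2
    ), n3, s3⟩
end Cfsg.Agent.Lib.Helper5.Chev.ReflE6
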