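import Cfsg.Agent.Lib.Helper5.Chev.NFinal
import Cfsg.Agent.Lib.Helper5.Chev.DataE6
import Mathlib

set_option autoImplicit false
set_option maxRecDepth 100000

namespace Cfsg.Agent.Lib.Helper5.Chev.ReflE6

open Cfsg.Lie Cfsg.Agent.Lib.Helper5.Chev

/-- packed reflection 4 -/
def wB4 : ℕ := 0x8e08c08908a08608308408007e07b07c07807507607207006d06e06a06806506606205f06005c05a05705805405204f05004804504d04304b04603e04103c03a03603903403202e03102c02802b02602402002301e01c01801b01601201501000e00a00d008004007002000
theorem g4 : monoG DataE6.fd 4 wB4 = true := by decide +kernel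
theorem c4_0 : monoC DataE6.fd wB4 0 24 = true := by decide +kernel
theorem c4_1 : monoC DataE6.fd wB4 24 24 = true := by decide +kernel
theorem c4_2 : monoC DataE6.fd wB4 48 24 = true := by decide +kernel
theorem n4 : nmatb DataE6.fd 4 wB4 = true := by decide +kernel
theorem s4 : sideb DataE6.fd 4 wB4 = true := by decide +kernel
theorem refl4 : ReflChecks DataE6.fd chevE6 4 wB4 :=
  ⟨g4, chain_all DataE6.fd wB4 72 24 3 (by norm_num) (by norm_num)
    (by intro q hq; interval_cases q
        · exact c4_0
        · exact c4_1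
        · exact c4_2
    ), n4, s4⟩
end Cfsg.Agent.Lib.Helper5.Chev.ReflE6
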