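import Cfsg.Agent.Lib.Helper5.Chev.NFinal
import Cfsg.Agent.Lib.Helper5.Chev.DataE6
import Mathlib

set_option autoImplicit false
set_option maxRecDepth 100000

namespace Cfsg.Agent.Lib.Helper5.Chev.ReflE6

open Cfsg.Lie Cfsg.Agent.Lib.Helper5.Chev

/-- packed reflection 5 -/
def wB5 : ℕ := 0x8e08c08a08708808408108207d07e07a07707807407207006e06b06c06706806406106205e05c05905a05605405105204e04b04c04704904204504003c03f03a03803403703203002c02f02a02602902202502001e01c01a01601901401001300c00f00a006009004002000
theorem g5 : monoG DataE6.fd 5 wB5 = true := by decide +kernel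
theorem c5_0 : monoC DataE6.fd wB5 0 24 = true := by decide +kernel
theorem c5_1 : monoC DataE6.fd wB5 24 24 = true := by decide +kernel
theorem c5_2 : monoC DataE6.fd wB5 48 24 = true := by decide +kernel
theorem n5 : nmatb DataE6.fd 5 wB5 = true := by decide +kernel
theorem s5 : sideb DataE6.fd 5 wB5 = true := by decide +kernel
theorem refl5 : ReflChecks DataE6.fd chevE6 5 wB5 :=
  ⟨g5, chain_all DataE6.fd wB5 72 24 3 (by norm_num) (by norm_num)
    (by intro q hq; interval_cases q
        · exact c5_0
        · exact c5_1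
        · exact c5_2
    ), n5, s5⟩
end Cfsg.Agent.Lib.Helper5.Chev.ReflE6
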