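import Cfsg.Agent.Lib.Helper5.Chev.ReflE6_0
import Cfsg.Agent.Lib.Helper5.Chev.ReflE6_1
import Cfsg.Agent.Lib.Helper5.Chev.ReflE6_2
import Cfsg.Agent.Lib.Helper5.Chev.ReflE6_3
import Cfsg.Agent.Lib.Helper5.Chev.ReflE6_4
import Cfsg.Agent.Lib.Helper5.Chev.ReflE6_5
import Mathlib

set_option autoImplicit false

namespace Cfsg.Agent.Lib.Helper5.Chev.ReflE6

open Cfsg.Lie Cfsg.Agent.Lib.Helper5.Chev

theorem refl (i : ℕ) (hi : i < 6) : ∃ B, ReflChecks DataE6.fd chevE6 i B := by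
  interval_cases i
  · exact ⟨_, refl0⟩
  · exact ⟨_, refl1⟩
  · exact ⟨_, refl2⟩
  · exact ⟨_, refl3⟩
  · exact ⟨_, refl4⟩
  · exact ⟨_, refl5⟩

end Cfsg.Agent.Lib.Helper5.Chev.ReflE6
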