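import Cfsg.Agent.Lib.Helper5.Chev.Transfer
import Cfsg.Agent.Lib.Helper5.Chev.ReflE6
import Mathlib

set_option autoImplicit false
set_option maxRecDepth 100000

namespace Cfsg.Agent.Lib.Helper5.Chev.BsE6

open Cfsg.Lie Cfsg.Agent.Lib.Helper5.Chev

/-- the packed reflections -/
def Bs : List ℕ := [ReflE6.wB0, ReflE6.wB1, ReflE6.wB2, ReflE6.wB3, ReflE6.wB4, ReflE6.wB5]

theorem reflBs (i : ℕ) (hi : i < 6) : ReflChecks DataE6.fd chevE6 i (Bs.getD i 0) := by
  interval_cases i
  · exact ReflE6.refl0
  · exact ReflE6.refl1
  · exact ReflE6.refl2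
  · exact ReflE6.refl3
  · exact ReflE6.refl4
  · exact ReflE6.refl5

/-- the base roots -/
def base : List ℕ := [56, 46, 42, 39, 37, 36, 15, 25, 29, 32, 34, 35]
/-- the packed generators -/
def gB : ℕ := 0x134524535415432045354254305430540500005045034503452453540234514535425431

theorem ab0 : FD.addCheck DataE6.fd [56] = true := by decide +kernel
theorem ab1 : FD.addCheck DataE6.fd [46] = true := by decide +kernel
theorem ab2 : FD.addCheck DataE6.fd [42] = true := by decide +kernel
theorem ab3 : FD.addCheck DataE6.fd [39] = true := by decide +kernel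
theorem ab4 : FD.addCheck DataE6.fd [37] = true := by decide +kernel
theorem ab5 : FD.addCheck DataE6.fd [36] = true := by decide +kernel
theorem ab6 : FD.addCheck DataE6.fd [15] = true := by decide +kernel
theorem ab7 : FD.addCheck DataE6.fd [25] = true := by decide +kernel
theorem ab8 : FD.addCheck DataE6.fd [29] = true := by decide +kernel
theorem ab9 : FD.addCheck DataE6.fd [32] = true := by decide +kernel
theorem ab10 : FD.addCheck DataE6.fd [34] = true := by decide +kernel
theorem ab11 : FD.addCheck DataE6.fd [35] = true := by decide +kernel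

theorem rb : reachb DataE6.fd Bs gB base 10 = true := by decide +kernel

theorem base_additive {F : Type*} [Field F] (s : ℕ) (hs : s ∈ base) : Additive F chevE6 s := by
  intro t u
  simp only [base, List.mem_cons, List.not_mem_nil, or_false] at hs
  rcases hs with rfl | rfl | rfl | rfl | rfl | rfl | rfl | rfl | rfl | rfl | rfl | rfl
  · exact FD.x_add_of_check DataE6.agrees _ ab0 56 (by decide) (by simp) t u
  · exact FD.x_add_of_check DataE6.agrees _ ab1 46 (by decide) (by simp) t u
  · exact FD.x_add_of_check DataE6.agrees _ ab2 42 (by decide) (by simp) t u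
  · exact FD.x_add_of_check DataE6.agrees _ ab3 39 (by decide) (by simp) t u
  · exact FD.x_add_of_check DataE6.agrees _ ab4 37 (by decide) (by simp) t u
  · exact FD.x_add_of_check DataE6.agrees _ ab5 36 (by decide) (by simp) t u
  · exact FD.x_add_of_check DataE6.agrees _ ab6 15 (by decide) (by simp) t u
  · exact FD.x_add_of_check DataE6.agrees _ ab7 25 (by decide) (by simp) t u
  · exact FD.x_add_of_check DataE6.agrees _ ab8 29 (by decide) (by simp) t u
  · exact FD.x_add_of_check DataE6.agrees _ ab9 32 (by decide) (by simp) t u
  · exact FD.x_add_of_check DataE6.agrees _ ab10 34 (by decide) (by simp) t u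
  · exact FD.x_add_of_check DataE6.agrees _ ab11 35 (by decide) (by simp) t u

theorem simple_mem (i : ℕ) (hi : i < 6) : chevE6.simple i ∈ base ∧ chevE6.neg (chevE6.simple i) ∈ base := by
  interval_cases i <;> decide

theorem additive {F : Type*} [Field F] : ∀ s < chevE6.nroots, Additive F chevE6 s := by
  have hA := DataE6.agrees
  apply reach_all hA (Additive F chevE6) Bs gB base 10 rb (fun s hs => base_additive s hs)
  · intro i hi s hs
    exact ((reflBs i hi).cert hA).w_lt s hs
  · intro i hi s hs h
    exact (reflBs i hi).additive_transfer hA hi (base_additive _ (simple_mem i hi).1)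
      (base_additive _ (simple_mem i hi).2) s hs h

end Cfsg.Agent.Lib.Helper5.Chev.BsE6
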