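import Cfsg.Agent.Lib.Helper5.Chev.HTransfer
import Cfsg.Agent.Lib.Helper5.Chev.BsE6
import Mathlib

set_option autoImplicit false
set_option maxRecDepth 100000

namespace Cfsg.Agent.Lib.Helper5.Chev.HsE6

open Cfsg.Lie Cfsg.Agent.Lib.Helper5.Chev

/-- the fundamental roots -/
def baseH : List ℕ := [56, 46, 42, 39, 37, 36]
/-- the packed generators -/
def gH : ℕ := 0x134524535415432045354254305430540500545345234513452453540234514535425431

theorem hm0 : nmatcb DataE6.fd 0 ReflE6.wB0 = true := by decide +kernel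
theorem hm1 : nmatcb DataE6.fd 1 ReflE6.wB1 = true := by decide +kernel
theorem hm2 : nmatcb DataE6.fd 2 ReflE6.wB2 = true := by decide +kernel
theorem hm3 : nmatcb DataE6.fd 3 ReflE6.wB3 = true := by decide +kernel
theorem hm4 : nmatcb DataE6.fd 4 ReflE6.wB4 = true := by decide +kernel
theorem hm5 : nmatcb DataE6.fd 5 ReflE6.wB5 = true := by decide +kernel

theorem hm (j : ℕ) (hj : j < chevE6.rank) : nmatcb DataE6.fd j (BsE6.Bs.getD j 0) = true := by
  have hj' : j < 6 := hj
  interval_cases j
  · exact hm0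
  · exact hm1
  · exact hm2
  · exact hm3
  · exact hm4
  · exact hm5

theorem rbH : reachb DataE6.fd BsE6.Bs gH baseH 11 = true := by decide +kernel

theorem base_simple : ∀ s ∈ baseH, ∃ j < chevE6.rank, s = chevE6.simple j := by
  intro s hs
  simp only [baseH, List.mem_cons, List.not_mem_nil, or_false] at hs
  rcases hs with rfl | rfl | rfl | rfl | rfl | rfl
  · exact ⟨0, by decide, by decide⟩
  · exact ⟨1, by decide, by decide⟩
  · exact ⟨2, by decide, by decide⟩
  · exact ⟨3, by decide, by decide⟩
  · exact ⟨4, by decide, by decide⟩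
  · exact ⟨5, by decide, by decide⟩

theorem reflBs' (i : ℕ) (hi : i < chevE6.rank) : ReflChecks DataE6.fd chevE6 i (BsE6.Bs.getD i 0) :=
  BsE6.reflBs i hi

theorem hform {F : Type*} [Field F] : ∀ s < chevE6.nroots, HForm F chevE6 s :=
  hform_all DataE6.agrees BsE6.Bs reflBs' BsE6.additive gH baseH 11 rbH base_simple hm

end Cfsg.Agent.Lib.Helper5.Chev.HsE6
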