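import Cfsg.Agent.Lib.Helper5.Chev.NFinal
import Cfsg.Agent.Lib.Helper5.Chev.DataE8
import Mathlib

set_option autoImplicit false
set_option maxRecDepth 100000

namespace Cfsg.Agent.Lib.Helper5.Chev.ReflE8

open Cfsg.Lie Cfsg.Agent.Lib.Helper5.Chev

/-- packed reflection 1 -/
def wB1 : ℕ := 0x1de1dc1da1d81d61d11cf1d41d21cc1ca1c81c61c41c11c21be1bc1ba1b81b61b41b21b01ae1ac19719519319118f18d18b1891871851aa1a81a61a41a21a019e19c19a19818218017e17c17a17817617417217016e16c16a16816616416216015e15c15114f14d14b14915a15815615415214614414214013e13c13a13813613413213011911711511311110c10a1081061040c512e12c12a12812610e12512312111f11d1021000fe0fc0fa0f80f60f40f20f00ee0ec0ea0e80e60e40e20e00de0dc0c30c10bf0bd0bb0d00b80b60b40b20b011b0da0d80d60d40d20cf0cd0cb0c90c70ae0ac0aa0a80a60a40a20a009e09c09a09808c08a08808608409709509309108f08208007e07c07a07807607407207006e06c06a06806606406206005e05c04604404204003e03c03a03803603405b05905705505305104f04d04b04903203002e02c02a02802602402202001c01f01a01801601401200c00a01100f008006004002000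
theorem g1 : monoG DataE8.fd 1 wB1 = true := by decide +kernel
theorem c1_0 : monoC DataE8.fd wB1 0 20 = true := by decide +kernel
theorem c1_1 : monoC DataE8.fd wB1 20 20 = true := by decide +kernel
theorem c1_2 : monoC DataE8.fd wB1 40 20 = true := by decide +kernel
theorem c1_3 : monoC DataE8.fd wB1 60 20 = true := by decide +kernel
theorem c1_4 : monoC DataE8.fd wB1 80 20 = true := by decide +kernel
theorem c1_5 : monoC DataE8.fd wB1 100 20 = true := by decide +kernel
theorem c1_6 : monoC DataE8.fd wB1 120 20 = true := by decide +kernel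
theorem c1_7 : monoC DataE8.fd wB1 140 20 = true := by decide +kernel
theorem c1_8 : monoC DataE8.fd wB1 160 20 = true := by decide +kernel
theorem c1_9 : monoC DataE8.fd wB1 180 20 = true := by decide +kernel
theorem c1_10 : monoC DataE8.fd wB1 200 20 = true := by decide +kernel
theorem c1_11 : monoC DataE8.fd wB1 220 20 = true := by decide +kernel
theorem n1 : nmatb DataE8.fd 1 wB1 = true := by decide +kernel
theorem s1 : sideb DataE8.fd 1 wB1 = true := by decide +kernel
theorem refl1 : ReflChecks DataE8.fd chevE8 1 wB1 :=
  ⟨g1, chain_all DataE8.fd wB1 240 20 12 (by norm_num) (by norm_num)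
    (by intro q hq; interval_cases q
        · exact c1_0
        · exact c1_1
        · exact c1_2
        · exact c1_3
        · exact c1_4
        · exact c1_5
        · exact c1_6
        · exact c1_7
        · exact c1_8
        · exact c1_9
        · exact c1_10
        · exact c1_11
    ), n1, s1⟩
end Cfsg.Agent.Lib.Helper5.Chev.ReflE8
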