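import Cfsg.Agent.Lib.Helper5.Chev.NFinal
import Cfsg.Agent.Lib.Helper5.Chev.DataE8
import Mathlib

set_option autoImplicit false
set_option maxRecDepth 100000

namespace Cfsg.Agent.Lib.Helper5.Chev.ReflE8

open Cfsg.Lie Cfsg.Agent.Lib.Helper5.Chev

/-- packed reflection 2 -/
def wB2 : ℕ := 0x1de1dc1da1d81d61d31d41cf1d01cc1ca1c81c61c41c21c01b51b31b11af1ad1be1bc1ba1b81b61aa1a81a61a41a21a019e19c19a19819619419219018e18c18a18818618416f16d16b16916716516316115f15d18218017e17c17a17817617417217015a15815615415215014e14c14a14814514614214013e13c13a13813613413213012512312111f11d12e12c12a12812611a10c10a1081061040d11191171151131111021000fe0fc0fa0f80f60f40f20f00ee0ec0ea0e80e60e40e20e00de0dc0cf0cd0cb0c90c710f0da0d80d60d40d20c40b80b60b40b20b00c30c10bf0bd0bb0ae0ac0aa0a80a60a40a20a009e09c09809b09609409209008e08c08a08808608406e06c06a06806606406206005e05c08308107f07d07b07907707507307105a05805605405205004e04c04a04804604404204003e03c03a03803603402802602402202003303102f02d02b01e01c01a01801601401200e01100a00d008006004002000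
theorem g2 : monoG DataE8.fd 2 wB2 = true := by decide +kernel
theorem c2_0 : monoC DataE8.fd wB2 0 20 = true := by decide +kernel
theorem c2_1 : monoC DataE8.fd wB2 20 20 = true := by decide +kernel
theorem c2_2 : monoC DataE8.fd wB2 40 20 = true := by decide +kernel
theorem c2_3 : monoC DataE8.fd wB2 60 20 = true := by decide +kernel
theorem c2_4 : monoC DataE8.fd wB2 80 20 = true := by decide +kernel
theorem c2_5 : monoC DataE8.fd wB2 100 20 = true := by decide +kernel
theorem c2_6 : monoC DataE8.fd wB2 120 20 = true := by decide +kernel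
theorem c2_7 : monoC DataE8.fd wB2 140 20 = true := by decide +kernel
theorem c2_8 : monoC DataE8.fd wB2 160 20 = true := by decide +kernel
theorem c2_9 : monoC DataE8.fd wB2 180 20 = true := by decide +kernel
theorem c2_10 : monoC DataE8.fd wB2 200 20 = true := by decide +kernel
theorem c2_11 : monoC DataE8.fd wB2 220 20 = true := by decide +kernel
theorem n2 : nmatb DataE8.fd 2 wB2 = true := by decide +kernel
theorem s2 : sideb DataE8.fd 2 wB2 = true := by decide +kernel
theorem refl2 : ReflChecks DataE8.fd chevE8 2 wB2 :=
  ⟨g2, chain_all DataE8.fd wB2 240 20 12 (by norm_num) (by norm_num)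
    (by intro q hq; interval_cases q
        · exact c2_0
        · exact c2_1
        · exact c2_2
        · exact c2_3
        · exact c2_4
        · exact c2_5
        · exact c2_6
        · exact c2_7
        · exact c2_8
        · exact c2_9
        · exact c2_10
        · exact c2_11
    ), n2, s2⟩
end Cfsg.Agent.Lib.Helper5.Chev.ReflE8
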