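import Cfsg.Agent.Lib.Helper5.Chev.NFinal
import Cfsg.Agent.Lib.Helper5.Chev.DataE8
import Mathlib

set_option autoImplicit false
set_option maxRecDepth 100000

namespace Cfsg.Agent.Lib.Helper5.Chev.ReflE8

open Cfsg.Lie Cfsg.Agent.Lib.Helper5.Chev

/-- packed reflection 3 -/
def wB3 : ℕ := 0x1de1dc1da1d81d51d61d21d01cd1ce1ca1c81c61c41c21bf1c01bc1ba1b81b61b41ab1a91a71a51b21b01ae1ac1a21a019e19c19a19819619419219018318117f17d17b17918e18c18a18818618417617417217016e16c16a16816616415b15915715516216015e15c15215014e14c14a14714814414214013e13c13a13812f12d12b12913613413213012612412212011e11b11c11811611411210f1101021000fe0fc0db10d10b1091070fa0f80f60f40f20f00ee0ec0ea0e80e60e40d90d70d50d31050e20e00de0dc0ce0d10cc0ca0c80c60c20c50c00be0bc0ba0b80ae0ac0aa0a80b70b50b30b10a60a40a20a009e09c09a09609909409209008e08c08208007e07c08b08908708507a07807607407207006e06c06a06805a05805605405205006706506306105f05d04e04c04a04804604404204003e03c03203002e02c03b03903703502a02802602402201e02101c01a01801601401001300e00c00800b006004002000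
theorem g3 : monoG DataE8.fd 3 wB3 = true := by decide +kernel
theorem c3_0 : monoC DataE8.fd wB3 0 20 = true := by decide +kernel
theorem c3_1 : monoC DataE8.fd wB3 20 20 = true := by decide +kernel
theorem c3_2 : monoC DataE8.fd wB3 40 20 = true := by decide +kernel
theorem c3_3 : monoC DataE8.fd wB3 60 20 = true := by decide +kernel
theorem c3_4 : monoC DataE8.fd wB3 80 20 = true := by decide +kernel
theorem c3_5 : monoC DataE8.fd wB3 100 20 = true := by decide +kernel
theorem c3_6 : monoC DataE8.fd wB3 120 20 = true := by decide +kernel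
theorem c3_7 : monoC DataE8.fd wB3 140 20 = true := by decide +kernel
theorem c3_8 : monoC DataE8.fd wB3 160 20 = true := by decide +kernel
theorem c3_9 : monoC DataE8.fd wB3 180 20 = true := by decide +kernel
theorem c3_10 : monoC DataE8.fd wB3 200 20 = true := by decide +kernel
theorem c3_11 : monoC DataE8.fd wB3 220 20 = true := by decide +kernel
theorem n3 : nmatb DataE8.fd 3 wB3 = true := by decide +kernel
theorem s3 : sideb DataE8.fd 3 wB3 = true := by decide +kernel
theorem refl3 : ReflChecks DataE8.fd chevE8 3 wB3 :=
  ⟨g3, chain_all DataE8.fd wB3 240 20 12 (by norm_num) (by norm_num)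
    (by intro q hq; interval_cases q
        · exact c3_0
        · exact c3_1
        · exact c3_2
        · exact c3_3
        · exact c3_4
        · exact c3_5
        · exact c3_6
        · exact c3_7
        · exact c3_8
        · exact c3_9
        · exact c3_10
        · exact c3_11
    ), n3, s3⟩
end Cfsg.Agent.Lib.Helper5.Chev.ReflE8
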