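import Cfsg.Agent.Lib.Helper5.Chev.NFinal
import Cfsg.Agent.Lib.Helper5.Chev.DataE8
import Mathlib

set_option autoImplicit false
set_option maxRecDepth 100000

namespace Cfsg.Agent.Lib.Helper5.Chev.ReflE8

open Cfsg.Lie Cfsg.Agent.Lib.Helper5.Chev

/-- packed reflection 4 -/
def wB4 : ℕ := 0x1de1dc1da1d71d81d41d21d01ce1cb1cc1c81c61c41c21c01bd1be1ba1b81b61b31b41b01ae1ac1aa1a31a119f1a81a61a419c19a19819618f18d18b19419219018818618418218017e17717517317c17a17817016e16c16a16316115f16816616415c15a15815615315415014e14c14914a14614414214013e13713513313c13a13813012e12c12a12712812412212011d11e11a11811611411111210e10c10a1081051060fa0f80f60e31031010ff0f40f20f00ee0ec0ea0e10df0dd0fd0e80e60e40d80db0d60d40d20d00cc0cf0ca0c80c60c40c00c30be0bc0ba0b60b90b40b20b00ae0a60a40a20ad0ab0a90a009e09c09a09809409709209008e08a08d08808608408207a07807608107f07d07407207006e06606406206d06b06906005e05c05a05805604e04c04a05505305104804604404203a03803604103f03d03403203002e02a02d02802602402002301e01c01a01801601201501000e00c00a006009004002000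
theorem g4 : monoG DataE8.fd 4 wB4 = true := by decide +kernel
theorem c4_0 : monoC DataE8.fd wB4 0 20 = true := by decide +kernel
theorem c4_1 : monoC DataE8.fd wB4 20 20 = true := by decide +kernel
theorem c4_2 : monoC DataE8.fd wB4 40 20 = true := by decide +kernel
theorem c4_3 : monoC DataE8.fd wB4 60 20 = true := by decide +kernel
theorem c4_4 : monoC DataE8.fd wB4 80 20 = true := by decide +kernel
theorem c4_5 : monoC DataE8.fd wB4 100 20 = true := by decide +kernel
theorem c4_6 : monoC DataE8.fd wB4 120 20 = true := by decide +kernel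
theorem c4_7 : monoC DataE8.fd wB4 140 20 = true := by decide +kernel
theorem c4_8 : monoC DataE8.fd wB4 160 20 = true := by decide +kernel
theorem c4_9 : monoC DataE8.fd wB4 180 20 = true := by decide +kernel
theorem c4_10 : monoC DataE8.fd wB4 200 20 = true := by decide +kernel
theorem c4_11 : monoC DataE8.fd wB4 220 20 = true := by decide +kernel
theorem n4 : nmatb DataE8.fd 4 wB4 = true := by decide +kernel
theorem s4 : sideb DataE8.fd 4 wB4 = true := by decide +kernel
theorem refl4 : ReflChecks DataE8.fd chevE8 4 wB4 :=
  ⟨g4, chain_all DataE8.fd wB4 240 20 12 (by norm_num) (by norm_num)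
    (by intro q hq; interval_cases q
        · exact c4_0
        · exact c4_1
        · exact c4_2
        · exact c4_3
        · exact c4_4
        · exact c4_5
        · exact c4_6
        · exact c4_7
        · exact c4_8
        · exact c4_9
        · exact c4_10
        · exact c4_11
    ), n4, s4⟩
end Cfsg.Agent.Lib.Helper5.Chev.ReflE8
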