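import Cfsg.Agent.Lib.Helper5.Chev.NFinal
import Cfsg.Agent.Lib.Helper5.Chev.DataE8
import Mathlib

set_option autoImplicit false
set_option maxRecDepth 100000

namespace Cfsg.Agent.Lib.Helper5.Chev.ReflE8

open Cfsg.Lie Cfsg.Agent.Lib.Helper5.Chev

/-- packed reflection 5 -/
def wB5 : ℕ := 0x1de1dc1d91da1d61d41d21d01ce1cc1c91ca1c61c41c21c01be1bb1bc1b81b61b41b11b21ae1ac1a91aa1a61a41a219d19b1a019e19819519619219018e18918718c18a18418217d17b18017e17817617417117216e16916716c16a16416216015d15e15a15815515615215014e14b14c14814614414213d13b14013e13813613413113212e12c12912a12612412211f12011c11a11811611311411010e10c10a1071081041021000fd0fe0f40f20e90fb0f90f00ee0e70e50f70ec0ea0e00e30de0dc0da0d60d90d40d20d00ce0ca0cd0c80c60c40c20be0c10bc0ba0b80b40b70b20b00ac0af0aa0a80a60a009e0a50a309c09a09809609209509008e08c08808b08608408008307e07c07a07407207907707006c06f06a06806606005e06506305c05a05405205905705004e04c04804b04604003e04504303c03a03803403703203002c02f02a02802602202502001e01c01a01801401701201000e00c00a008004007002000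
theorem g5 : monoG DataE8.fd 5 wB5 = true := by decide +kernel
theorem c5_0 : monoC DataE8.fd wB5 0 20 = true := by decide +kernel
theorem c5_1 : monoC DataE8.fd wB5 20 20 = true := by decide +kernel
theorem c5_2 : monoC DataE8.fd wB5 40 20 = true := by decide +kernel
theorem c5_3 : monoC DataE8.fd wB5 60 20 = true := by decide +kernel
theorem c5_4 : monoC DataE8.fd wB5 80 20 = true := by decide +kernel
theorem c5_5 : monoC DataE8.fd wB5 100 20 = true := by decide +kernel
theorem c5_6 : monoC DataE8.fd wB5 120 20 = true := by decide +kernel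
theorem c5_7 : monoC DataE8.fd wB5 140 20 = true := by decide +kernel
theorem c5_8 : monoC DataE8.fd wB5 160 20 = true := by decide +kernel
theorem c5_9 : monoC DataE8.fd wB5 180 20 = true := by decide +kernel
theorem c5_10 : monoC DataE8.fd wB5 200 20 = true := by decide +kernel
theorem c5_11 : monoC DataE8.fd wB5 220 20 = true := by decide +kernel
theorem n5 : nmatb DataE8.fd 5 wB5 = true := by decide +kernel
theorem s5 : sideb DataE8.fd 5 wB5 = true := by decide +kernel
theorem refl5 : ReflChecks DataE8.fd chevE8 5 wB5 :=
  ⟨g5, chain_all DataE8.fd wB5 240 20 12 (by norm_num) (by norm_num)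
    (by intro q hq; interval_cases q
        · exact c5_0
        · exact c5_1
        · exact c5_2
        · exact c5_3
        · exact c5_4
        · exact c5_5
        · exact c5_6
        · exact c5_7
        · exact c5_8
        · exact c5_9
        · exact c5_10
        · exact c5_11
    ), n5, s5⟩
end Cfsg.Agent.Lib.Helper5.Chev.ReflE8
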