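import Cfsg.Agent.Lib.Helper5.Chev.NFinal
import Cfsg.Agent.Lib.Helper5.Chev.DataE8
import Mathlib

set_option autoImplicit false
set_option maxRecDepth 100000

namespace Cfsg.Agent.Lib.Helper5.Chev.ReflE8

open Cfsg.Lie Cfsg.Agent.Lib.Helper5.Chev

/-- packed reflection 6 -/
def wB6 : ℕ := 0x1de1db1dc1d81d61d41d21d01ce1cc1ca1c71c81c41c21c01be1bc1b91ba1b61b41b21af1b01ac1aa1a71a81a41a11a219e19c19919a19619319419018d18e18a18818518618118217e17c17917a17617317417016d16e16a16816516616215f16015c15a15715815415215014d14e14a14814614414114213e13c13913a13613313413012e12b12c12812612412112211e11c11a11811511611211010e10c10910a1061041020ff1000fc0fa0f70f80f00ed0f50eb0f30ee0e60e90e40e20de0e10dc0da0d80d40d70d20d00ce0cc0c80cb0c60c40c20c00bc0bf0ba0b80b60b20b50b00ae0aa0ad0a80a40a70a20a009c09f09a09809609409009308e08c08a08608908408207e08107c07807b07607407007306e06a06d06806406706206005c05f05805b05605405005304e04a04d04804404704204003c03f03a03603903403202e03102c02a02802402702202001e01c01a01601901401201000e00c00a008006002005000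
theorem g6 : monoG DataE8.fd 6 wB6 = true := by decide +kernel
theorem c6_0 : monoC DataE8.fd wB6 0 20 = true := by decide +kernel
theorem c6_1 : monoC DataE8.fd wB6 20 20 = true := by decide +kernel
theorem c6_2 : monoC DataE8.fd wB6 40 20 = true := by decide +kernel
theorem c6_3 : monoC DataE8.fd wB6 60 20 = true := by decide +kernel
theorem c6_4 : monoC DataE8.fd wB6 80 20 = true := by decide +kernel
theorem c6_5 : monoC DataE8.fd wB6 100 20 = true := by decide +kernel
theorem c6_6 : monoC DataE8.fd wB6 120 20 = true := by decide +kernel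
theorem c6_7 : monoC DataE8.fd wB6 140 20 = true := by decide +kernel
theorem c6_8 : monoC DataE8.fd wB6 160 20 = true := by decide +kernel
theorem c6_9 : monoC DataE8.fd wB6 180 20 = true := by decide +kernel
theorem c6_10 : monoC DataE8.fd wB6 200 20 = true := by decide +kernel
theorem c6_11 : monoC DataE8.fd wB6 220 20 = true := by decide +kernel
theorem n6 : nmatb DataE8.fd 6 wB6 = true := by decide +kernel
theorem s6 : sideb DataE8.fd 6 wB6 = true := by decide +kernel
theorem refl6 : ReflChecks DataE8.fd chevE8 6 wB6 :=
  ⟨g6, chain_all DataE8.fd wB6 240 20 12 (by norm_num) (by norm_num)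
    (by intro q hq; interval_cases q
        · exact c6_0
        · exact c6_1
        · exact c6_2
        · exact c6_3
        · exact c6_4
        · exact c6_5
        · exact c6_6
        · exact c6_7
        · exact c6_8
        · exact c6_9
        · exact c6_10
        · exact c6_11
    ), n6, s6⟩
end Cfsg.Agent.Lib.Helper5.Chev.ReflE8
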