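import Cfsg.Agent.Lib.Helper5.Chev.NFinal
import Cfsg.Agent.Lib.Helper5.Chev.DataE8
import Mathlib

set_option autoImplicit false
set_option maxRecDepth 100000

namespace Cfsg.Agent.Lib.Helper5.Chev.ReflE8

open Cfsg.Lie Cfsg.Agent.Lib.Helper5.Chev

/-- packed reflection 7 -/
def wB7 : ℕ := 0x1dd1de1da1d81d61d41d21d01ce1cc1ca1c81c51c61c21c01be1bc1ba1b71b81b41b21b01ad1ae1aa1a81a51a61a219f1a019b19c19819619419119218e18b18c18718818418217f18017b17c17817517617217016e16b16c16716816416116215e15c15915a15615415214f15014c14a14814614414213f14013b13c13813513613213012d12e12a12812612312412011e11c11a11711811411211010e10b10c1081061041011020fe0fc0f90fa0f60f30f40ef0f10ea0ed0e80e40e70e20e00dc0df0da0d80d60d20d50d00ce0cc0ca0c60c90c40c20c00be0ba0bd0b80b60b40b00b30ae0ac0a80ab0a60a20a509e0a109c09a09809609409208e09108c08a08808408708208007c07f07a07607907207507006e06c06806b06606206505e06105c05a05605905205505004c04f04a04804604204503e04103c03803b03603403003302e02c02a02602902402202001e01c01801b01601401201000e00c00a008006004000003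
theorem g7 : monoG DataE8.fd 7 wB7 = true := by decide +kernel
theorem c7_0 : monoC DataE8.fd wB7 0 20 = true := by decide +kernel
theorem c7_1 : monoC DataE8.fd wB7 20 20 = true := by decide +kernel
theorem c7_2 : monoC DataE8.fd wB7 40 20 = true := by decide +kernel
theorem c7_3 : monoC DataE8.fd wB7 60 20 = true := by decide +kernel
theorem c7_4 : monoC DataE8.fd wB7 80 20 = true := by decide +kernel
theorem c7_5 : monoC DataE8.fd wB7 100 20 = true := by decide +kernel
theorem c7_6 : monoC DataE8.fd wB7 120 20 = true := by decide +kernel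
theorem c7_7 : monoC DataE8.fd wB7 140 20 = true := by decide +kernel
theorem c7_8 : monoC DataE8.fd wB7 160 20 = true := by decide +kernel
theorem c7_9 : monoC DataE8.fd wB7 180 20 = true := by decide +kernel
theorem c7_10 : monoC DataE8.fd wB7 200 20 = true := by decide +kernel
theorem c7_11 : monoC DataE8.fd wB7 220 20 = true := by decide +kernel
theorem n7 : nmatb DataE8.fd 7 wB7 = true := by decide +kernel
theorem s7 : sideb DataE8.fd 7 wB7 = true := by decide +kernel
theorem refl7 : ReflChecks DataE8.fd chevE8 7 wB7 :=
  ⟨g7, chain_all DataE8.fd wB7 240 20 12 (by norm_num) (by norm_num)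
    (by intro q hq; interval_cases q
        · exact c7_0
        · exact c7_1
        · exact c7_2
        · exact c7_3
        · exact c7_4
        · exact c7_5
        · exact c7_6
        · exact c7_7
        · exact c7_8
        · exact c7_9
        · exact c7_10
        · exact c7_11
    ), n7, s7⟩
end Cfsg.Agent.Lib.Helper5.Chev.ReflE8
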