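import Cfsg.Agent.Lib.Helper5.Chev.ReflE8_0
import Cfsg.Agent.Lib.Helper5.Chev.ReflE8_1
import Cfsg.Agent.Lib.Helper5.Chev.ReflE8_2
import Cfsg.Agent.Lib.Helper5.Chev.ReflE8_3
import Cfsg.Agent.Lib.Helper5.Chev.ReflE8_4
import Cfsg.Agent.Lib.Helper5.Chev.ReflE8_5
import Cfsg.Agent.Lib.Helper5.Chev.ReflE8_6
import Cfsg.Agent.Lib.Helper5.Chev.ReflE8_7
import Mathlib

set_option autoImplicit false

namespace Cfsg.Agent.Lib.Helper5.Chev.ReflE8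

open Cfsg.Lie Cfsg.Agent.Lib.Helper5.Chev

theorem refl (i : ℕ) (hi : i < 8) : ∃ B, ReflChecks DataE8.fd chevE8 i B := by
  interval_cases i
  · exact ⟨_, refl0⟩
  · exact ⟨_, refl1⟩
  · exact ⟨_, refl2⟩
  · exact ⟨_, refl3⟩
  · exact ⟨_, refl4⟩
  · exact ⟨_, refl5⟩
  · exact ⟨_, refl6⟩
  · exact ⟨_, refl7⟩

end Cfsg.Agent.Lib.Helper5.Chev.ReflE8
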