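import Cfsg.Agent.Lib.Helper5.Chev.Transfer
import Cfsg.Agent.Lib.Helper5.Chev.ReflE8
import Mathlib

set_option autoImplicit false
set_option maxRecDepth 100000

namespace Cfsg.Agent.Lib.Helper5.Chev.BsE8

open Cfsg.Lie Cfsg.Agent.Lib.Helper5.Chev

/-- the packed reflections -/
def Bs : List ℕ := [ReflE8.wB0, ReflE8.wB1, ReflE8.wB2, ReflE8.wB3, ReflE8.wB4, ReflE8.wB5, ReflE8.wB6, ReflE8.wB7]

theorem reflBs (i : ℕ) (hi : i < 8) : ReflChecks DataE8.fd chevE8 i (Bs.getD i 0) := by
  interval_cases i
  · exact ReflE8.refl0
  · exact ReflE8.refl1
  · exact ReflE8.refl2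
  · exact ReflE8.refl3
  · exact ReflE8.refl4
  · exact ReflE8.refl5
  · exact ReflE8.refl6
  · exact ReflE8.refl7

/-- the base roots -/
def base : List ℕ := [162, 141, 135, 130, 126, 123, 121, 120, 77, 98, 104, 109, 113, 116, 118, 119]
/-- the packed generators -/
def gB : ℕ := 0x765432123456701345672456735674675761567467576367576476526757647653765417654320675764765376542765430765430765407650760700007067056704567034567034567245673567467576023456714567356746757625674675763675764765167576476537654276543107654321234567

theorem ab0 : FD.addCheck DataE8.fd [162] = true := by decide +kernel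
theorem ab1 : FD.addCheck DataE8.fd [141] = true := by decide +kernel
theorem ab2 : FD.addCheck DataE8.fd [135] = true := by decide +kernel
theorem ab3 : FD.addCheck DataE8.fd [130] = true := by decide +kernel
theorem ab4 : FD.addCheck DataE8.fd [126] = true := by decide +kernel
theorem ab5 : FD.addCheck DataE8.fd [123] = true := by decide +kernel
theorem ab6 : FD.addCheck DataE8.fd [121] = true := by decide +kernel
theorem ab7 : FD.addCheck DataE8.fd [120] = true := by decide +kernel
theorem ab8 : FD.addCheck DataE8.fd [77] = true := by decide +kernel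
theorem ab9 : FD.addCheck DataE8.fd [98] = true := by decide +kernel
theorem ab10 : FD.addCheck DataE8.fd [104] = true := by decide +kernel
theorem ab11 : FD.addCheck DataE8.fd [109] = true := by decide +kernel
theorem ab12 : FD.addCheck DataE8.fd [113] = true := by decide +kernel
theorem ab13 : FD.addCheck DataE8.fd [116] = true := by decide +kernel
theorem ab14 : FD.addCheck DataE8.fd [118] = true := by decide +kernel
theorem ab15 : FD.addCheck DataE8.fd [119] = true := by decide +kernel

theorem rb : reachb DataE8.fd Bs gB base 28 = true := by decide +kernel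

theorem base_additive {F : Type*} [Field F] (s : ℕ) (hs : s ∈ base) : Additive F chevE8 s := by
  intro t u
  simp only [base, List.mem_cons, List.not_mem_nil, or_false] at hs
  rcases hs with rfl | rfl | rfl | rfl | rfl | rfl | rfl | rfl | rfl | rfl | rfl | rfl | rfl | rfl | rfl | rfl
  · exact FD.x_add_of_check DataE8.agrees _ ab0 162 (by decide) (by simp) t u
  · exact FD.x_add_of_check DataE8.agrees _ ab1 141 (by decide) (by simp) t u
  · exact FD.x_add_of_check DataE8.agrees _ ab2 135 (by decide) (by simp) t u
  · exact FD.x_add_of_check DataE8.agrees _ ab3 130 (by decide) (by simp) t u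
  · exact FD.x_add_of_check DataE8.agrees _ ab4 126 (by decide) (by simp) t u
  · exact FD.x_add_of_check DataE8.agrees _ ab5 123 (by decide) (by simp) t u
  · exact FD.x_add_of_check DataE8.agrees _ ab6 121 (by decide) (by simp) t u
  · exact FD.x_add_of_check DataE8.agrees _ ab7 120 (by decide) (by simp) t u
  · exact FD.x_add_of_check DataE8.agrees _ ab8 77 (by decide) (by simp) t u
  · exact FD.x_add_of_check DataE8.agrees _ ab9 98 (by decide) (by simp) t u
  · exact FD.x_add_of_check DataE8.agrees _ ab10 104 (by decide) (by simp) t u
  · exact FD.x_add_of_check DataE8.agrees _ ab11 109 (by decide) (by simp) t u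
  · exact FD.x_add_of_check DataE8.agrees _ ab12 113 (by decide) (by simp) t u
  · exact FD.x_add_of_check DataE8.agrees _ ab13 116 (by decide) (by simp) t u
  · exact FD.x_add_of_check DataE8.agrees _ ab14 118 (by decide) (by simp) t u
  · exact FD.x_add_of_check DataE8.agrees _ ab15 119 (by decide) (by simp) t u

theorem simple_mem (i : ℕ) (hi : i < 8) : chevE8.simple i ∈ base ∧ chevE8.neg (chevE8.simple i) ∈ base := by
  interval_cases i <;> decide

theorem additive {F : Type*} [Field F] : ∀ s < chevE8.nroots, Additive F chevE8 s := by
  have hA := DataE8.agrees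
  apply reach_all hA (Additive F chevE8) Bs gB base 28 rb (fun s hs => base_additive s hs)
  · intro i hi s hs
    exact ((reflBs i hi).cert hA).w_lt s hs
  · intro i hi s hs h
    exact (reflBs i hi).additive_transfer hA hi (base_additive _ (simple_mem i hi).1)
      (base_additive _ (simple_mem i hi).2) s hs h

end Cfsg.Agent.Lib.Helper5.Chev.BsE8
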