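import Cfsg.Agent.Lib.Helper5.Chev.HTransfer
import Cfsg.Agent.Lib.Helper5.Chev.BsE8
import Mathlib

set_option autoImplicit false
set_option maxRecDepth 100000

namespace Cfsg.Agent.Lib.Helper5.Chev.HsE8

open Cfsg.Lie Cfsg.Agent.Lib.Helper5.Chev

/-- the fundamental roots -/
def baseH : List ℕ := [162, 141, 135, 130, 126, 123, 121, 120]
/-- the packed generators -/
def gH : ℕ := 0x765432123456701345672456735674675761567467576367576476526757647653765417654320675764765376542765430765430765407650760700767567456734567234567134567245673567467576023456714567356746757625674675763675764765167576476537654276543107654321234567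

theorem hm0 : nmatcb DataE8.fd 0 ReflE8.wB0 = true := by decide +kernel
theorem hm1 : nmatcb DataE8.fd 1 ReflE8.wB1 = true := by decide +kernel
theorem hm2 : nmatcb DataE8.fd 2 ReflE8.wB2 = true := by decide +kernel
theorem hm3 : nmatcb DataE8.fd 3 ReflE8.wB3 = true := by decide +kernel
theorem hm4 : nmatcb DataE8.fd 4 ReflE8.wB4 = true := by decide +kernel
theorem hm5 : nmatcb DataE8.fd 5 ReflE8.wB5 = true := by decide +kernel
theorem hm6 : nmatcb DataE8.fd 6 ReflE8.wB6 = true := by decide +kernel
theorem hm7 : nmatcb DataE8.fd 7 ReflE8.wB7 = true := by decide +kernel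

theorem hm (j : ℕ) (hj : j < chevE8.rank) : nmatcb DataE8.fd j (BsE8.Bs.getD j 0) = true := by
  have hj' : j < 8 := hj
  interval_cases j
  · exact hm0
  · exact hm1
  · exact hm2
  · exact hm3
  · exact hm4
  · exact hm5
  · exact hm6
  · exact hm7

theorem rbH : reachb DataE8.fd BsE8.Bs gH baseH 29 = true := by decide +kernel

theorem base_simple : ∀ s ∈ baseH, ∃ j < chevE8.rank, s = chevE8.simple j := by
  intro s hs
  simp only [baseH, List.mem_cons, List.not_mem_nil, or_false] at hs
  rcases hs with rfl | rfl | rfl | rfl | rfl | rfl | rfl | rfl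
  · exact ⟨0, by decide, by decide⟩
  · exact ⟨1, by decide, by decide⟩
  · exact ⟨2, by decide, by decide⟩
  · exact ⟨3, by decide, by decide⟩
  · exact ⟨4, by decide, by decide⟩
  · exact ⟨5, by decide, by decide⟩
  · exact ⟨6, by decide, by decide⟩
  · exact ⟨7, by decide, by decide⟩

theorem reflBs' (i : ℕ) (hi : i < chevE8.rank) : ReflChecks DataE8.fd chevE8 i (BsE8.Bs.getD i 0) :=
  BsE8.reflBs i hi

theorem hform {F : Type*} [Field F] : ∀ s < chevE8.nroots, HForm F chevE8 s :=
  hform_all DataE8.agrees BsE8.Bs reflBs' BsE8.additive gH baseH 29 rbH base_simple hm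

end Cfsg.Agent.Lib.Helper5.Chev.HsE8
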