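import Cfsg.Agent.Lib.Helper5.Chev.NFinal
import Cfsg.Agent.Lib.Helper5.Chev.DataF4
import Mathlib

set_option autoImplicit false
set_option maxRecDepth 100000

namespace Cfsg.Agent.Lib.Helper5.Chev.ReflF4

open Cfsg.Lie Cfsg.Agent.Lib.Helper5.Chev

/-- packed reflection 0 -/
def wB0 : ℕ := 0x5e05c05a05104103f03d05804f04d04b03a03803601d05705505304904704503403203002e02c02a01b01901700d00b00904302802602401501301100602302101f00f004002000
theorem g0 : monoG DataF4.fd 0 wB0 = true := by decide +kernel
theorem c0_0 : monoC DataF4.fd wB0 0 24 = true := by decide +kernel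
theorem c0_1 : monoC DataF4.fd wB0 24 24 = true := by decide +kernel
theorem n0 : nmatb DataF4.fd 0 wB0 = true := by decide +kernel
theorem s0 : sideb DataF4.fd 0 wB0 = true := by decide +kernel
theorem refl0 : ReflChecks DataF4.fd chevF4 0 wB0 :=
  ⟨g0, chain_all DataF4.fd wB0 48 24 2 (by norm_num) (by norm_num)
    (by intro q hq; interval_cases q
        · exact c0_0
        · exact c0_1
    ), n0, s0⟩
/-- packed reflection 1 -/
def wB1 : ℕ := 0x5e05c05605905a05405204f05004904704c04a04304404003503303b03902903f03d03002e02302103702702502d02b01e01a01d01401201901700e01100c00a004007008002000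
theorem g1 : monoG DataF4.fd 1 wB1 = true := by decide +kernel
theorem c1_0 : monoC DataF4.fd wB1 0 24 = true := by decide +kernel
theorem c1_1 : monoC DataF4.fd wB1 24 24 = true := by decide +kernel
theorem n1 : nmatb DataF4.fd 1 wB1 = true := by decide +kernel
theorem s1 : sideb DataF4.fd 1 wB1 = true := by decide +kernel
theorem refl1 : ReflChecks DataF4.fd chevF4 1 wB1 :=
  ⟨g1, chain_all DataF4.fd wB1 48 24 2 (by norm_num) (by norm_num)
    (by intro q hq; interval_cases q
        · exact c1_0
        · exact c1_1
    ), n1, s1⟩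
/-- packed reflection 2 -/
def wB2 : ℕ := 0x5e05b05c05805505605205004d04e04a04804504604203f04003c03a03703803002d03502b03302e02602902402201e02101c01801b01601401001300e00c00800b006002005000
theorem g2 : monoG DataF4.fd 2 wB2 = true := by decide +kernel
theorem c2_0 : monoC DataF4.fd wB2 0 24 = true := by decide +kernel
theorem c2_1 : monoC DataF4.fd wB2 24 24 = true := by decide +kernel
theorem n2 : nmatb DataF4.fd 2 wB2 = true := by decide +kernel
theorem s2 : sideb DataF4.fd 2 wB2 = true := by decide +kernel
theorem refl2 : ReflChecks DataF4.fd chevF4 2 wB2 :=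
  ⟨g2, chain_all DataF4.fd wB2 48 24 2 (by norm_num) (by norm_num)
    (by intro q hq; interval_cases q
        · exact c2_0
        · exact c2_1
    ), n2, s2⟩
/-- packed reflection 3 -/
def wB3 : ℕ := 0x5d05e05a05805605305405004e04b04c04704804404204003d03e03903a03603303402f03102a02d02802402702002301e01c01a01601901201501000e00a00d008006004000003
theorem g3 : monoG DataF4.fd 3 wB3 = true := by decide +kernel
theorem c3_0 : monoC DataF4.fd wB3 0 24 = true := by decide +kernel
theorem c3_1 : monoC DataF4.fd wB3 24 24 = true := by decide +kernel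
theorem n3 : nmatb DataF4.fd 3 wB3 = true := by decide +kernel
theorem s3 : sideb DataF4.fd 3 wB3 = true := by decide +kernel
theorem refl3 : ReflChecks DataF4.fd chevF4 3 wB3 :=
  ⟨g3, chain_all DataF4.fd wB3 48 24 2 (by norm_num) (by norm_num)
    (by intro q hq; interval_cases q
        · exact c3_0
        · exact c3_1
    ), n3, s3⟩
theorem refl (i : ℕ) (hi : i < 4) : ∃ B, ReflChecks DataF4.fd chevF4 i B := by
  interval_cases i
  · exact ⟨_, refl0⟩
  · exact ⟨_, refl1⟩
  · exact ⟨_, refl2⟩
  · exact ⟨_, refl3⟩

end Cfsg.Agent.Lib.Helper5.Chev.ReflF4
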