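import Cfsg.Agent.Lib.Helper5.Chev.Transfer
import Cfsg.Agent.Lib.Helper5.Chev.ReflF4
import Mathlib

set_option autoImplicit false
set_option maxRecDepth 100000

namespace Cfsg.Agent.Lib.Helper5.Chev.BsF4

open Cfsg.Lie Cfsg.Agent.Lib.Helper5.Chev

/-- the packed reflections -/
def Bs : List ℕ := [ReflF4.wB0, ReflF4.wB1, ReflF4.wB2, ReflF4.wB3]

theorem reflBs (i : ℕ) (hi : i < 4) : ReflChecks DataF4.fd chevF4 i (Bs.getD i 0) := by
  interval_cases i
  · exact ReflF4.refl0
  · exact ReflF4.refl1
  · exact ReflF4.refl2
  · exact ReflF4.refl3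

/-- the base roots -/
def base : List ℕ := [33, 27, 25, 24, 14, 20, 22, 23]
/-- the packed generators -/
def gB : ℕ := 0x321023012313210231320300003023132012313210320123

theorem ab0 : FD.addCheck DataF4.fd [33] = true := by decide +kernel
theorem ab1 : FD.addCheck DataF4.fd [27] = true := by decide +kernel
theorem ab2 : FD.addCheck DataF4.fd [25] = true := by decide +kernel
theorem ab3 : FD.addCheck DataF4.fd [24] = true := by decide +kernel
theorem ab4 : FD.addCheck DataF4.fd [14] = true := by decide +kernel
theorem ab5 : FD.addCheck DataF4.fd [20] = true := by decide +kernel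
theorem ab6 : FD.addCheck DataF4.fd [22] = true := by decide +kernel
theorem ab7 : FD.addCheck DataF4.fd [23] = true := by decide +kernel

theorem rb : reachb DataF4.fd Bs gB base 7 = true := by decide +kernel

theorem base_additive {F : Type*} [Field F] (s : ℕ) (hs : s ∈ base) : Additive F chevF4 s := by
  intro t u
  simp only [base, List.mem_cons, List.not_mem_nil, or_false] at hs
  rcases hs with rfl | rfl | rfl | rfl | rfl | rfl | rfl | rfl
  · exact FD.x_add_of_check DataF4.agrees _ ab0 33 (by decide) (by simp) t u
  · exact FD.x_add_of_check DataF4.agrees _ ab1 27 (by decide) (by simp) t u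
  · exact FD.x_add_of_check DataF4.agrees _ ab2 25 (by decide) (by simp) t u
  · exact FD.x_add_of_check DataF4.agrees _ ab3 24 (by decide) (by simp) t u
  · exact FD.x_add_of_check DataF4.agrees _ ab4 14 (by decide) (by simp) t u
  · exact FD.x_add_of_check DataF4.agrees _ ab5 20 (by decide) (by simp) t u
  · exact FD.x_add_of_check DataF4.agrees _ ab6 22 (by decide) (by simp) t u
  · exact FD.x_add_of_check DataF4.agrees _ ab7 23 (by decide) (by simp) t u

theorem simple_mem (i : ℕ) (hi : i < 4) : chevF4.simple i ∈ base ∧ chevF4.neg (chevF4.simple i) ∈ base := by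
  interval_cases i <;> decide

theorem additive {F : Type*} [Field F] : ∀ s < chevF4.nroots, Additive F chevF4 s := by
  have hA := DataF4.agrees
  apply reach_all hA (Additive F chevF4) Bs gB base 7 rb (fun s hs => base_additive s hs)
  · intro i hi s hs
    exact ((reflBs i hi).cert hA).w_lt s hs
  · intro i hi s hs h
    exact (reflBs i hi).additive_transfer hA hi (base_additive _ (simple_mem i hi).1)
      (base_additive _ (simple_mem i hi).2) s hs h

end Cfsg.Agent.Lib.Helper5.Chev.BsF4
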