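import Cfsg.Agent.Lib.Helper5.Chev.Fast
import Cfsg.Prelude.Def_ChevG2
import Mathlib

set_option autoImplicit false
set_option maxRecDepth 100000

namespace Cfsg.Agent.Lib.Helper5.Chev.DataG2

open Cfsg.Lie Cfsg.Agent.Lib.Helper5.Chev Cfsg.Agent.Lib.Helper5.Chev.BT

/-- root record -/
def rd0 : RD := ⟨0, 11, 0x406000000404000000803000000000000000802000000000000000000000000000000000000000000000000000000, [Int.negSucc 0, Int.negSucc 1], 0x23⟩
/-- root record -/
def rd1 : RD := ⟨1, 10, 0x407000000000000000405000000000000000803000000000000000801000000000000000000000000000000000000000000000, [Int.negSucc 0, Int.negSucc 0], 0x40⟩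
/-- root record -/
def rd2 : RD := ⟨2, 9, 0x402405409801804408000000000000c02a05000001204000000000000000000000000c02000000c01000000000000000000000000000, [Int.negSucc 1, Int.negSucc 2], 0x32⟩
/-- root record -/
def rd3 : RD := ⟨3, 8, 0x40680880a000000000000006a08000000000000000006801403805000000000000c01203000000000000000001000000000000000000, [Int.negSucc 0, Int.negSucc 2], 0x24⟩
/-- root record -/
def rd4 : RD := ⟨4, 7, 0x80740980a000c07209000000007000000000000000000402803804000000000000002a03000000002000000000000000000, [Int.negSucc 0, Int.ofNat 0], 0x41⟩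
/-- root record -/
def rd5 : RD := ⟨5, 6, 0x80b000000000000000000000000808000000000000000000000000000000000404000000000000000000000000401000000000, [Int.ofNat 0, Int.negSucc 0], 0x16⟩
/-- root record -/
def rd6 : RD := ⟨6, 5, 0x80c000000000000000000000000809000000000000000000000000000000000405000000000000000000000000402, [Int.ofNat 0, Int.ofNat 1], 0x50⟩
/-- root record -/
def rd7 : RD := ⟨7, 4, 0xc0b00000b20a00000000080b80a409000000000000000000000000c06000c06a04406404403000000000, [Int.ofNat 1, Int.ofNat 0], 0x25⟩
/-- root record -/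
def rd8 : RD := ⟨8, 3, 0xc0c000000000000c0ca0a00000000040c40a408000000c07000000000000007205000000000807805403, [Int.ofNat 1, Int.ofNat 3], 0x42⟩
/-- root record -/
def rd9 : RD := ⟨9, 2, 0xc00000000b00000000000000000000000ca09000c0b20800000000040c80980580b408804, [Int.ofNat 2, Int.ofNat 3], 0x34⟩
/-- root record -/
def rd10 : RD := ⟨10, 1, 0x40c00000000000000040a000000000000000808000000000000000806, [Int.ofNat 1, Int.ofNat 1], 0x26⟩
/-- root record -/
def rd11 : RD := ⟨11, 0, 0x40b00000000000000040a000000809000000807000000000, [Int.ofNat 1, Int.ofNat 2], 0x43⟩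
/-- tree of root records -/
def rdT : BT RD := (node (node (node (node leaf rd7 leaf) rd3 (node leaf rd11 leaf)) rd1 (node (node leaf rd9 leaf) rd5 leaf)) rd0 (node (node (node leaf rd8 leaf) rd4 leaf) rd2 (node (node leaf rd10 leaf) rd6 leaf)))

/-- the fast datum -/
def fd : FD := ⟨2, 12, [7, 6], rdT⟩

theorem agreesb_eq : fd.agreesb chevG2 = true := by decide +kernel
theorem ac0 : fd.agreesC chevG2 0 12 = true := by decide +kernel

theorem agrees : fd.Agrees chevG2 :=
  FD.agrees_of_agreesb _ _ agreesb_eq (FD.chainAgree_all fd chevG2 12 1 (by norm_num) (by decide)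
    (by intro q hq; interval_cases q
        · exact ac0
    ))

end Cfsg.Agent.Lib.Helper5.Chev.DataG2
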