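import Cfsg.Agent.Lib.Helper5.Chev.NFinal
import Cfsg.Agent.Lib.Helper5.Chev.DataG2
import Mathlib

set_option autoImplicit false
set_option maxRecDepth 100000

namespace Cfsg.Agent.Lib.Helper5.Chev.ReflG2

open Cfsg.Lie Cfsg.Agent.Lib.Helper5.Chev

/-- packed reflection 0 -/
def wB0 : ℕ := 0x1600d01101200901400200f00400700b000
theorem g0 : monoG DataG2.fd 0 wB0 = true := by decide +kernel
theorem c0_0 : monoC DataG2.fd wB0 0 12 = true := by decide +kernel
theorem n0 : nmatb DataG2.fd 0 wB0 = true := by decide +kernel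
theorem s0 : sideb DataG2.fd 0 wB0 = true := by decide +kernel
theorem refl0 : ReflChecks DataG2.fd chevG2 0 wB0 :=
  ⟨g0, chain_all DataG2.fd wB0 12 12 1 (by norm_num) (by norm_num)
    (by intro q hq; interval_cases q
        · exact c0_0
    ), n0, s0⟩
/-- packed reflection 1 -/
def wB1 : ℕ := 0x1501601200f01000b00d006009004000003
theorem g1 : monoG DataG2.fd 1 wB1 = true := by decide +kernel
theorem c1_0 : monoC DataG2.fd wB1 0 12 = true := by decide +kernel
theorem n1 : nmatb DataG2.fd 1 wB1 = true := by decide +kernel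
theorem s1 : sideb DataG2.fd 1 wB1 = true := by decide +kernel
theorem refl1 : ReflChecks DataG2.fd chevG2 1 wB1 :=
  ⟨g1, chain_all DataG2.fd wB1 12 12 1 (by norm_num) (by norm_num)
    (by intro q hq; interval_cases q
        · exact c1_0
    ), n1, s1⟩
theorem refl (i : ℕ) (hi : i < 2) : ∃ B, ReflChecks DataG2.fd chevG2 i B := by
  interval_cases i
  · exact ⟨_, refl0⟩
  · exact ⟨_, refl1⟩

end Cfsg.Agent.Lib.Helper5.Chev.ReflG2
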