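import Cfsg.Agent.Lib.Helper5.Chev.Transfer
import Cfsg.Agent.Lib.Helper5.Chev.ReflG2
import Mathlib

set_option autoImplicit false
set_option maxRecDepth 100000

namespace Cfsg.Agent.Lib.Helper5.Chev.BsG2

open Cfsg.Lie Cfsg.Agent.Lib.Helper5.Chev

/-- the packed reflections -/
def Bs : List ℕ := [ReflG2.wB0, ReflG2.wB1]

theorem reflBs (i : ℕ) (hi : i < 2) : ReflChecks DataG2.fd chevG2 i (Bs.getD i 0) := by
  interval_cases i
  · exact ReflG2.refl0
  · exact ReflG2.refl1

/-- the base roots -/
def base : List ℕ := [7, 6, 4, 5]
/-- the packed generators -/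
def gB : ℕ := 0x100100001001

theorem ab0 : FD.addCheck DataG2.fd [7] = true := by decide +kernel
theorem ab1 : FD.addCheck DataG2.fd [6] = true := by decide +kernel
theorem ab2 : FD.addCheck DataG2.fd [4] = true := by decide +kernel
theorem ab3 : FD.addCheck DataG2.fd [5] = true := by decide +kernel

theorem rb : reachb DataG2.fd Bs gB base 2 = true := by decide +kernel

theorem base_additive {F : Type*} [Field F] (s : ℕ) (hs : s ∈ base) : Additive F chevG2 s := by
  intro t u
  simp only [base, List.mem_cons, List.not_mem_nil, or_false] at hs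
  rcases hs with rfl | rfl | rfl | rfl
  · exact FD.x_add_of_check DataG2.agrees _ ab0 7 (by decide) (by simp) t u
  · exact FD.x_add_of_check DataG2.agrees _ ab1 6 (by decide) (by simp) t u
  · exact FD.x_add_of_check DataG2.agrees _ ab2 4 (by decide) (by simp) t u
  · exact FD.x_add_of_check DataG2.agrees _ ab3 5 (by decide) (by simp) t u

theorem simple_mem (i : ℕ) (hi : i < 2) : chevG2.simple i ∈ base ∧ chevG2.neg (chevG2.simple i) ∈ base := by
  interval_cases i <;> decide

theorem additive {F : Type*} [Field F] : ∀ s < chevG2.nroots, Additive F chevG2 s := by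
  have hA := DataG2.agrees
  apply reach_all hA (Additive F chevG2) Bs gB base 2 rb (fun s hs => base_additive s hs)
  · intro i hi s hs
    exact ((reflBs i hi).cert hA).w_lt s hs
  · intro i hi s hs h
    exact (reflBs i hi).additive_transfer hA hi (base_additive _ (simple_mem i hi).1)
      (base_additive _ (simple_mem i hi).2) s hs h

end Cfsg.Agent.Lib.Helper5.Chev.BsG2
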