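import Cfsg.Agent.Lib.Helper5.Chev.HTransfer
import Cfsg.Agent.Lib.Helper5.Chev.BsG2
import Mathlib

set_option autoImplicit false
set_option maxRecDepth 100000

namespace Cfsg.Agent.Lib.Helper5.Chev.HsG2

open Cfsg.Lie Cfsg.Agent.Lib.Helper5.Chev

/-- the fundamental roots -/
def baseH : List ℕ := [7, 6]
/-- the packed generators -/
def gH : ℕ := 0x100100101001

theorem hm0 : nmatcb DataG2.fd 0 ReflG2.wB0 = true := by decide +kernel
theorem hm1 : nmatcb DataG2.fd 1 ReflG2.wB1 = true := by decide +kernel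

theorem hm (j : ℕ) (hj : j < chevG2.rank) : nmatcb DataG2.fd j (BsG2.Bs.getD j 0) = true := by
  have hj' : j < 2 := hj
  interval_cases j
  · exact hm0
  · exact hm1

theorem rbH : reachb DataG2.fd BsG2.Bs gH baseH 3 = true := by decide +kernel

theorem base_simple : ∀ s ∈ baseH, ∃ j < chevG2.rank, s = chevG2.simple j := by
  intro s hs
  simp only [baseH, List.mem_cons, List.not_mem_nil, or_false] at hs
  rcases hs with rfl | rfl
  · exact ⟨0, by decide, by decide⟩
  · exact ⟨1, by decide, by decide⟩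

theorem reflBs' (i : ℕ) (hi : i < chevG2.rank) : ReflChecks DataG2.fd chevG2 i (BsG2.Bs.getD i 0) :=
  BsG2.reflBs i hi

theorem hform {F : Type*} [Field F] : ∀ s < chevG2.nroots, HForm F chevG2 s :=
  hform_all DataG2.agrees BsG2.Bs reflBs' BsG2.additive gH baseH 3 rbH base_simple hm

end Cfsg.Agent.Lib.Helper5.Chev.HsG2
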