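import Cfsg.Agent.Lib.Helper5.Chev.PcChain
import Cfsg.Agent.Lib.Helper5.Chev.CxB2
import Mathlib

/-!
# The representatives of the cosets along a chain of parabolic subgroups: type B2 (helper5)
-/

set_option autoImplicit false
set_option maxRecDepth 100000

namespace Cfsg.Agent.Lib.Helper5.Chev.PcB2

open Cfsg.Lie Cfsg.Agent.Lib.Helper5.Chev

/-- the subset of level 1 -/
def K1 : List ℕ := [1]
/-- the representatives of level 1 -/
def certs1 : List PcEntry := [
  ([], [5, 4], [(false, 1)]),
  ([1], [6, 3], [(false, 0)])]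

/-- the subset of level 2 -/
def K2 : List ℕ := [0, 1]
/-- the representatives of level 2 -/
def certs2 : List PcEntry := [
  ([], [5, 4], [(false, 1), (true, 1)]),
  ([0], [2, 7], [(false, 0), (false, 2)]),
  ([1, 0], [1, 7], [(false, 3), (false, 1)]),
  ([0, 1, 0], [1, 4], [(false, 2), (true, 1)])]

/-- the chain -/
def ch : PcChainData := [(K1, certs1), (K2, certs2)]

theorem ok : chainOK (wdOf DataB2.fd BsB2.Bs CxB2.mLL) [] ch = true := by decide +kernel

theorem hall : ∀ i < DataB2.fd.rank, i ∈ lastK [] ch := by decide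

theorem hpoly : mulZ (powZ [-1, 1] 2) (chainZ ch) = prodZ ([2, 4].map monoSubOne) := by
  decide +kernel

end Cfsg.Agent.Lib.Helper5.Chev.PcB2
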