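import Cfsg.Agent.Lib.Helper5.Chev.CoxChev
import Cfsg.Agent.Lib.Helper5.Chev.HsD4
import Mathlib

set_option autoImplicit false
set_option maxRecDepth 100000

namespace Cfsg.Agent.Lib.Helper5.Chev.CxD4

open Cfsg.Lie Cfsg.Agent.Lib.Helper5.Chev

/-- the orders of the products of two fundamental reflections -/
def mLL : List (List ℕ) := [[1, 3, 2, 2], [3, 1, 3, 3], [2, 3, 1, 2], [2, 3, 2, 1]]

theorem cox : coxb DataD4.fd BsD4.Bs mLL = true := by decide +kernel

end Cfsg.Agent.Lib.Helper5.Chev.CxD4
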