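import Cfsg.Agent.Lib.Helper5.Chev.PcChain
import Cfsg.Agent.Lib.Helper5.Chev.CxD4
import Mathlib

/-!
# The representatives of the cosets along a chain of parabolic subgroups: type D4 (helper5)
-/

set_option autoImplicit false
set_option maxRecDepth 100000

namespace Cfsg.Agent.Lib.Helper5.Chev.PcD4

open Cfsg.Lie Cfsg.Agent.Lib.Helper5.Chev

/-- the subset of level 1 -/
def K1 : List ℕ := [3]
/-- the representatives of level 1 -/
def certs1 : List PcEntry := [
  ([], [18, 14, 13, 12], [(false, 1)]),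
  ([3], [18, 15, 13, 11], [(false, 0)])]

/-- the subset of level 2 -/
def K2 : List ℕ := [1, 3]
/-- the representatives of level 2 -/
def certs2 : List PcEntry := [
  ([], [18, 14, 13, 12], [(false, 1), (true, 3)]),
  ([1], [19, 9, 16, 15], [(false, 0), (false, 2)]),
  ([3, 1], [20, 8, 17, 14], [(true, 3), (false, 1)])]

/-- the subset of level 3 -/
def K3 : List ℕ := [1, 2, 3]
/-- the representatives of level 3 -/
def certs3 : List PcEntry := [
  ([], [18, 14, 13, 12], [(true, 1), (false, 1), (true, 3)]),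
  ([2], [18, 16, 10, 12], [(false, 2), (false, 0), (true, 3)]),
  ([1, 2], [19, 13, 7, 15], [(false, 1), (true, 1), (false, 3)]),
  ([3, 1, 2], [20, 13, 6, 14], [(true, 3), (true, 1), (false, 2)])]

/-- the subset of level 4 -/
def K4 : List ℕ := [0, 1, 2, 3]
/-- the representatives of level 4 -/
def certs4 : List PcEntry := [
  ([], [18, 14, 13, 12], [(false, 1), (true, 1), (true, 2), (true, 3)]),
  ([0], [5, 19, 13, 12], [(false, 0), (false, 2), (true, 2), (true, 3)]),
  ([1, 0], [4, 18, 16, 15], [(true, 1), (false, 1), (false, 3), (false, 4)]),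
  ([2, 1, 0], [2, 18, 14, 17], [(true, 1), (true, 2), (false, 2), (false, 5)]),
  ([3, 1, 0], [3, 18, 17, 14], [(true, 1), (true, 3), (false, 5), (false, 2)]),
  ([3, 2, 1, 0], [1, 18, 15, 16], [(true, 1), (false, 6), (false, 4), (false, 3)]),
  ([1, 3, 2, 1, 0], [0, 19, 12, 13], [(false, 7), (false, 5), (true, 3), (true, 2)]),
  ([0, 1, 3, 2, 1, 0], [0, 14, 12, 13], [(false, 6), (true, 1), (true, 3), (true, 2)])]

/-- the chain -/
def ch : PcChainData := [(K1, certs1), (K2, certs2), (K3, certs3), (K4, certs4)]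

theorem ok : chainOK (wdOf DataD4.fd BsD4.Bs CxD4.mLL) [] ch = true := by decide +kernel

theorem hall : ∀ i < DataD4.fd.rank, i ∈ lastK [] ch := by decide

theorem hpoly : mulZ (powZ [-1, 1] 4) (chainZ ch) = prodZ ([2, 4, 4, 6].map monoSubOne) := by
  decide +kernel

end Cfsg.Agent.Lib.Helper5.Chev.PcD4
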