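import Cfsg.Agent.Lib.Helper5.Chev.PcChain
import Cfsg.Agent.Lib.Helper5.Chev.CxE6
import Mathlib

/-!
# The representatives of the cosets along a chain of parabolic subgroups: type E6 (helper5)
-/

set_option autoImplicit false
set_option maxRecDepth 100000

namespace Cfsg.Agent.Lib.Helper5.Chev.PcE6

open Cfsg.Lie Cfsg.Agent.Lib.Helper5.Chev

/-- the subset of level 1 -/
def K1 : List ℕ := [4]
/-- the representatives of level 1 -/
def certs1 : List PcEntry := [
  ([], [56, 46, 42, 39, 37, 36], [(false, 1)]),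
  ([4], [56, 46, 42, 40, 34, 38], [(false, 0)])]

/-- the subset of level 2 -/
def K2 : List ℕ := [3, 4]
/-- the representatives of level 2 -/
def certs2 : List PcEntry := [
  ([], [56, 46, 42, 39, 37, 36], [(false, 1), (true, 4)]),
  ([3], [56, 47, 43, 32, 40, 36], [(false, 0), (false, 2)]),
  ([4, 3], [56, 48, 44, 31, 39, 38], [(true, 4), (false, 1)])]

/-- the subset of level 3 -/
def K3 : List ℕ := [2, 3, 4]
/-- the representatives of level 3 -/
def certs3 : List PcEntry := [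
  ([], [56, 46, 42, 39, 37, 36], [(false, 1), (true, 3), (true, 4)]),
  ([2], [57, 46, 29, 43, 37, 36], [(false, 0), (false, 2), (true, 4)]),
  ([3, 2], [58, 47, 28, 42, 40, 36], [(true, 3), (false, 1), (false, 3)]),
  ([4, 3, 2], [59, 48, 27, 42, 39, 38], [(true, 3), (true, 4), (false, 2)])]

/-- the subset of level 4 -/
def K4 : List ℕ := [1, 2, 3, 4]
/-- the representatives of level 4 -/
def certs4 : List PcEntry := [
  ([], [56, 46, 42, 39, 37, 36], [(false, 1), (true, 2), (true, 3), (true, 4)]),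
  ([1], [56, 25, 42, 47, 37, 36], [(false, 0), (true, 2), (false, 2), (true, 4)]),
  ([3, 1], [56, 24, 43, 46, 40, 36], [(true, 3), (false, 3), (false, 1), (false, 4)]),
  ([2, 3, 1], [57, 21, 39, 46, 44, 36], [(true, 3), (false, 2), (true, 2), (false, 5)]),
  ([4, 3, 1], [56, 23, 44, 46, 39, 38], [(true, 3), (false, 5), (true, 4), (false, 2)]),
  ([4, 2, 3, 1], [57, 20, 40, 46, 43, 38], [(true, 3), (false, 4), (false, 6), (false, 3)]),
  ([3, 4, 2, 3, 1], [58, 18, 37, 47, 42, 41], [(false, 7), (true, 4), (false, 5), (true, 2)]),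
  ([1, 3, 4, 2, 3, 1], [61, 18, 37, 39, 42, 49], [(false, 6), (true, 4), (true, 3), (true, 2)])]

/-- the subset of level 5 -/
def K5 : List ℕ := [1, 2, 3, 4, 5]
/-- the representatives of level 5 -/
def certs5 : List PcEntry := [
  ([], [56, 46, 42, 39, 37, 36], [(true, 1), (true, 2), (true, 3), (true, 4), (false, 1)]),
  ([5], [56, 46, 42, 39, 38, 35], [(true, 1), (true, 2), (true, 3), (false, 2), (false, 0)]),
  ([4, 5], [56, 46, 42, 40, 36, 33], [(true, 1), (true, 2), (false, 3), (false, 1), (true, 4)]),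
  ([3, 4, 5], [56, 47, 43, 37, 36, 30], [(false, 4), (false, 5), (false, 2), (true, 3), (true, 4)]),
  ([1, 3, 4, 5], [56, 39, 50, 37, 36, 22], [(false, 3), (false, 6), (true, 1), (true, 3), (true, 4)]),
  ([2, 3, 4, 5], [57, 50, 39, 37, 36, 26], [(false, 6), (false, 3), (true, 2), (true, 3), (true, 4)]),
  ([2, 1, 3, 4, 5], [57, 43, 47, 37, 36, 19], [(false, 5), (false, 4), (false, 7), (true, 3), (true, 4)]),
  ([3, 2, 1, 3, 4, 5], [58, 42, 46, 40, 36, 17], [(true, 2), (true, 1), (false, 6), (false, 8), (true, 4)]),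
  ([4, 3, 2, 1, 3, 4, 5], [59, 42, 46, 39, 38, 16], [(true, 2), (true, 1), (true, 3), (false, 7), (false, 9)]),
  ([5, 4, 3, 2, 1, 3, 4, 5], [60, 42, 46, 39, 37, 16], [(true, 2), (true, 1), (true, 3), (true, 4), (false, 8)])]

/-- the subset of level 6 -/
def K6 : List ℕ := [0, 1, 2, 3, 4, 5]
/-- the representatives of level 6 -/
def certs6 : List PcEntry := [
  ([], [56, 46, 42, 39, 37, 36], [(false, 1), (true, 1), (true, 2), (true, 3), (true, 4), (true, 5)]),
  ([0], [15, 46, 57, 39, 37, 36], [(false, 0), (true, 1), (false, 2), (true, 3), (true, 4), (true, 5)]),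
  ([2, 0], [14, 46, 56, 43, 37, 36], [(true, 2), (true, 1), (false, 1), (false, 3), (true, 4), (true, 5)]),
  ([3, 2, 0], [13, 47, 56, 42, 40, 36], [(true, 2), (false, 4), (true, 3), (false, 2), (false, 5), (true, 5)]),
  ([1, 3, 2, 0], [10, 39, 56, 42, 48, 36], [(true, 2), (false, 3), (true, 3), (true, 1), (false, 6), (true, 5)]),
  ([4, 3, 2, 0], [12, 48, 56, 42, 39, 38], [(true, 2), (false, 6), (true, 3), (true, 4), (false, 3), (false, 7)]),
  ([4, 1, 3, 2, 0], [9, 40, 56, 42, 47, 38], [(true, 2), (false, 5), (true, 3), (false, 8), (false, 4), (false, 9)]),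
  ([5, 4, 3, 2, 0], [11, 49, 56, 42, 39, 37], [(true, 2), (false, 9), (true, 3), (true, 4), (true, 5), (false, 5)]),
  ([3, 4, 1, 3, 2, 0], [7, 37, 56, 43, 46, 41], [(true, 2), (true, 4), (false, 10), (false, 6), (true, 1), (false, 11)]),
  ([5, 4, 1, 3, 2, 0], [8, 41, 56, 42, 47, 37], [(true, 2), (false, 7), (true, 3), (false, 11), (true, 5), (false, 6)]),
  ([2, 3, 4, 1, 3, 2, 0], [4, 37, 57, 39, 46, 45], [(false, 12), (true, 4), (false, 8), (true, 3), (true, 1), (false, 13)]),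
  ([5, 3, 4, 1, 3, 2, 0], [6, 38, 56, 43, 46, 40], [(true, 2), (true, 4), (false, 13), (false, 9), (false, 14), (false, 8)]),
  ([0, 2, 3, 4, 1, 3, 2, 0], [4, 37, 42, 39, 46, 60], [(false, 10), (true, 4), (true, 2), (true, 3), (true, 1), (false, 15)]),
  ([5, 2, 3, 4, 1, 3, 2, 0], [3, 38, 57, 39, 46, 44], [(false, 15), (true, 4), (false, 11), (true, 3), (false, 16), (false, 10)]),
  ([4, 5, 3, 4, 1, 3, 2, 0], [5, 36, 56, 44, 46, 39], [(true, 2), (true, 4), (false, 16), (true, 5), (false, 11), (true, 1)]),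
  ([5, 0, 2, 3, 4, 1, 3, 2, 0], [3, 38, 42, 39, 46, 59], [(false, 13), (true, 4), (true, 2), (true, 3), (false, 17), (false, 12)]),
  ([4, 5, 2, 3, 4, 1, 3, 2, 0], [2, 36, 57, 40, 46, 43], [(false, 17), (true, 4), (false, 14), (false, 18), (false, 13), (true, 1)]),
  ([4, 5, 0, 2, 3, 4, 1, 3, 2, 0], [2, 36, 42, 40, 46, 58], [(false, 16), (true, 4), (true, 2), (false, 19), (false, 15), (true, 1)]),
  ([3, 4, 5, 2, 3, 4, 1, 3, 2, 0], [1, 36, 58, 37, 47, 42], [(false, 19), (false, 20), (true, 5), (false, 16), (true, 3), (true, 1)]),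
  ([3, 4, 5, 0, 2, 3, 4, 1, 3, 2, 0], [1, 36, 43, 37, 47, 57], [(false, 18), (false, 21), (false, 22), (false, 17), (true, 3), (true, 1)]),
  ([1, 3, 4, 5, 2, 3, 4, 1, 3, 2, 0], [0, 36, 61, 37, 39, 42], [(false, 21), (false, 18), (true, 5), (true, 4), (true, 3), (true, 1)]),
  ([1, 3, 4, 5, 0, 2, 3, 4, 1, 3, 2, 0], [0, 36, 50, 37, 39, 57], [(false, 20), (false, 19), (false, 23), (true, 4), (true, 3), (true, 1)]),
  ([2, 3, 4, 5, 0, 2, 3, 4, 1, 3, 2, 0], [1, 36, 39, 37, 50, 56], [(true, 5), (false, 23), (false, 19), (true, 2), (true, 3), (true, 1)]),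
  ([2, 1, 3, 4, 5, 0, 2, 3, 4, 1, 3, 2, 0], [0, 36, 47, 37, 43, 56], [(true, 5), (false, 22), (false, 21), (false, 24), (true, 3), (true, 1)]),
  ([3, 2, 1, 3, 4, 5, 0, 2, 3, 4, 1, 3, 2, 0], [0, 36, 46, 40, 42, 56], [(true, 5), (true, 2), (true, 4), (false, 23), (false, 25), (true, 1)]),
  ([4, 3, 2, 1, 3, 4, 5, 0, 2, 3, 4, 1, 3, 2, 0], [0, 38, 46, 39, 42, 56], [(true, 5), (true, 2), (true, 4), (true, 3), (false, 24), (false, 26)]),
  ([5, 4, 3, 2, 1, 3, 4, 5, 0, 2, 3, 4, 1, 3, 2, 0], [0, 37, 46, 39, 42, 56], [(true, 5), (true, 2), (true, 4), (true, 3), (true, 1), (false, 25)])]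

/-- the chain -/
def ch : PcChainData := [(K1, certs1), (K2, certs2), (K3, certs3), (K4, certs4), (K5, certs5), (K6, certs6)]

theorem ok : chainOK (wdOf DataE6.fd BsE6.Bs CxE6.mLL) [] ch = true := by decide +kernel

theorem hall : ∀ i < DataE6.fd.rank, i ∈ lastK [] ch := by decide

theorem hpoly : mulZ (powZ [-1, 1] 6) (chainZ ch) = prodZ ([2, 5, 6, 8, 9, 12].map monoSubOne) := by
  decide +kernel

end Cfsg.Agent.Lib.Helper5.Chev.PcE6
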