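import Cfsg.Agent.Lib.Helper5.Chev.NFinal
import Cfsg.Agent.Lib.Helper5.Chev.DataE7
import Mathlib

set_option autoImplicit false
set_option maxRecDepth 100000

namespace Cfsg.Agent.Lib.Helper5.Chev.ReflE7

open Cfsg.Lie Cfsg.Agent.Lib.Helper5.Chev

/-- packed reflection 1 -/
def wB1 : ℕ := 0xfa0f80f60ed0eb0e90e70f40f20f00ee0e40e20e00de0dc0da0d80d60d40d20d00ce0c50c30c10bf0cc0ca0c80c60bc0ba0b80b60b40b20b00ae09b09909709509008e08c08a05f0ac0aa0a80a60920a50a30a109f08808608408208007e07c07a07807607407205d05b05905706805405205004e09d07006e06c06a06706506306104c04a04804604404204003e03403203002e03d03b03903702c02a02802602402202001e01c01a01801600c00a00800601501301100f004002000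
theorem g1 : monoG DataE7.fd 1 wB1 = true := by decide +kernel
theorem c1_0 : monoC DataE7.fd wB1 0 21 = true := by decide +kernel
theorem c1_1 : monoC DataE7.fd wB1 21 21 = true := by decide +kernel
theorem c1_2 : monoC DataE7.fd wB1 42 21 = true := by decide +kernel
theorem c1_3 : monoC DataE7.fd wB1 63 21 = true := by decide +kernel
theorem c1_4 : monoC DataE7.fd wB1 84 21 = true := by decide +kernel
theorem c1_5 : monoC DataE7.fd wB1 105 21 = true := by decide +kernel
theorem n1 : nmatb DataE7.fd 1 wB1 = true := by decide +kernel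
theorem s1 : sideb DataE7.fd 1 wB1 = true := by decide +kernel
theorem refl1 : ReflChecks DataE7.fd chevE7 1 wB1 :=
  ⟨g1, chain_all DataE7.fd wB1 126 21 6 (by norm_num) (by norm_num)
    (by intro q hq; interval_cases q
        · exact c1_0
        · exact c1_1
        · exact c1_2
        · exact c1_3
        · exact c1_4
        · exact c1_5
    ), n1, s1⟩
end Cfsg.Agent.Lib.Helper5.Chev.ReflE7
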