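import Cfsg.Agent.Lib.Helper5.Chev.NFinal
import Cfsg.Agent.Lib.Helper5.Chev.DataE7
import Mathlib

set_option autoImplicit false
set_option maxRecDepth 100000

namespace Cfsg.Agent.Lib.Helper5.Chev.ReflE7

open Cfsg.Lie Cfsg.Agent.Lib.Helper5.Chev

/-- packed reflection 2 -/
def wB2 : ℕ := 0xfa0f70f80f40f20f00ee0ec0ea0e80e60d90d70d50d30d10cf0e40e20e00de0dc0da0cc0ca0c80c60c40c20c00be0bb0bc0b80b60b40b20b00ae0a50a30a109f0ac0aa0a80a609c09008e08c08a06909b09909709508808608408208007e07c07a07807607407206706506306109307006e06c06a05e05405205004e05d05b05905704c04a04804604404203e04103c03a03803603403203002e02001e01c01a01801602d02b02902702502301401201000e00c00a008006002005000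
theorem g2 : monoG DataE7.fd 2 wB2 = true := by decide +kernel
theorem c2_0 : monoC DataE7.fd wB2 0 21 = true := by decide +kernel
theorem c2_1 : monoC DataE7.fd wB2 21 21 = true := by decide +kernel
theorem c2_2 : monoC DataE7.fd wB2 42 21 = true := by decide +kernel
theorem c2_3 : monoC DataE7.fd wB2 63 21 = true := by decide +kernel
theorem c2_4 : monoC DataE7.fd wB2 84 21 = true := by decide +kernel
theorem c2_5 : monoC DataE7.fd wB2 105 21 = true := by decide +kernel
theorem n2 : nmatb DataE7.fd 2 wB2 = true := by decide +kernel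
theorem s2 : sideb DataE7.fd 2 wB2 = true := by decide +kernel
theorem refl2 : ReflChecks DataE7.fd chevE7 2 wB2 :=
  ⟨g2, chain_all DataE7.fd wB2 126 21 6 (by norm_num) (by norm_num)
    (by intro q hq; interval_cases q
        · exact c2_0
        · exact c2_1
        · exact c2_2
        · exact c2_3
        · exact c2_4
        · exact c2_5
    ), n2, s2⟩
end Cfsg.Agent.Lib.Helper5.Chev.ReflE7
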