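import Cfsg.Agent.Lib.Helper5.Chev.NFinal
import Cfsg.Agent.Lib.Helper5.Chev.DataE7
import Mathlib

set_option autoImplicit false
set_option maxRecDepth 100000

namespace Cfsg.Agent.Lib.Helper5.Chev.ReflE7

open Cfsg.Lie Cfsg.Agent.Lib.Helper5.Chev

/-- packed reflection 3 -/
def wB3 : ℕ := 0xfa0f80f50f60f20f00ee0ec0e50e30e10ea0e80e60de0dc0da0d80d60d40cd0cb0c90d20d00ce0c60c40c20c00bd0be0ba0b80b60b40ad0ab0a90b20b00ae0a60a40a20a009d09e09a09809609309408808608407109108f08d08208007e07c07a07806f06d06b08b07607407206606906406206005c05f05a05805605404c04a04805305104f04604404204003c03f03a03803603402c02a02803303102f02602402202001e01c01401201001b01901700e00c00a008004007002000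
theorem g3 : monoG DataE7.fd 3 wB3 = true := by decide +kernel
theorem c3_0 : monoC DataE7.fd wB3 0 21 = true := by decide +kernel
theorem c3_1 : monoC DataE7.fd wB3 21 21 = true := by decide +kernel
theorem c3_2 : monoC DataE7.fd wB3 42 21 = true := by decide +kernel
theorem c3_3 : monoC DataE7.fd wB3 63 21 = true := by decide +kernel
theorem c3_4 : monoC DataE7.fd wB3 84 21 = true := by decide +kernel
theorem c3_5 : monoC DataE7.fd wB3 105 21 = true := by decide +kernel
theorem n3 : nmatb DataE7.fd 3 wB3 = true := by decide +kernel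
theorem s3 : sideb DataE7.fd 3 wB3 = true := by decide +kernel
theorem refl3 : ReflChecks DataE7.fd chevE7 3 wB3 :=
  ⟨g3, chain_all DataE7.fd wB3 126 21 6 (by norm_num) (by norm_num)
    (by intro q hq; interval_cases q
        · exact c3_0
        · exact c3_1
        · exact c3_2
        · exact c3_3
        · exact c3_4
        · exact c3_5
    ), n3, s3⟩
end Cfsg.Agent.Lib.Helper5.Chev.ReflE7
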