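import Cfsg.Agent.Lib.Helper5.Chev.NFinal
import Cfsg.Agent.Lib.Helper5.Chev.DataE7
import Mathlib

set_option autoImplicit false
set_option maxRecDepth 100000

namespace Cfsg.Agent.Lib.Helper5.Chev.ReflE7

open Cfsg.Lie Cfsg.Agent.Lib.Helper5.Chev

/-- packed reflection 4 -/
def wB4 : ℕ := 0xfa0f80f60f30f40f00ee0eb0ec0e80e60e40df0dd0e20e00da0d80d30d10d60d40ce0cc0ca0c70c80c40c20bf0c00bc0ba0b80b30b10b60b40ae0ac0aa0a70a80a40a209f0a009c09a09809509609209008e08b08c08208007708908707e07c07507308507a07806e07106c06a06806406706206005e05a05d05805605205505004e04c04604404b04904204003e03a03d03803603203503002e02c02602402b02902202001a01801f01d01601401200e01100c00a006009004002000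
theorem g4 : monoG DataE7.fd 4 wB4 = true := by decide +kernel
theorem c4_0 : monoC DataE7.fd wB4 0 21 = true := by decide +kernel
theorem c4_1 : monoC DataE7.fd wB4 21 21 = true := by decide +kernel
theorem c4_2 : monoC DataE7.fd wB4 42 21 = true := by decide +kernel
theorem c4_3 : monoC DataE7.fd wB4 63 21 = true := by decide +kernel
theorem c4_4 : monoC DataE7.fd wB4 84 21 = true := by decide +kernel
theorem c4_5 : monoC DataE7.fd wB4 105 21 = true := by decide +kernel
theorem n4 : nmatb DataE7.fd 4 wB4 = true := by decide +kernel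
theorem s4 : sideb DataE7.fd 4 wB4 = true := by decide +kernel
theorem refl4 : ReflChecks DataE7.fd chevE7 4 wB4 :=
  ⟨g4, chain_all DataE7.fd wB4 126 21 6 (by norm_num) (by norm_num)
    (by intro q hq; interval_cases q
        · exact c4_0
        · exact c4_1
        · exact c4_2
        · exact c4_3
        · exact c4_4
        · exact c4_5
    ), n4, s4⟩
end Cfsg.Agent.Lib.Helper5.Chev.ReflE7
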