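import Cfsg.Agent.Lib.Helper5.Chev.NFinal
import Cfsg.Agent.Lib.Helper5.Chev.DataE7
import Mathlib

set_option autoImplicit false
set_option maxRecDepth 100000

namespace Cfsg.Agent.Lib.Helper5.Chev.ReflE7

open Cfsg.Lie Cfsg.Agent.Lib.Helper5.Chev

/-- packed reflection 5 -/
def wB5 : ℕ := 0xfa0f80f60f40f10f20ee0ec0e90ea0e60e30e40e00de0db0dc0d70d80d40d20cf0d00cc0c90ca0c60c40c10c20be0bc0ba0b70b80b40b20af0b00ac0a90aa0a60a40a10a209e09c09a09709809409209008d08e08a08808508607e07b08307908107c07407707207006c06f06a06806606206506005e05c05805b05605405005304e04a04d04804604204504003e03c03803b03603403003302e02a02d02802602202501e02101c01a01601901401001300e00c00800b006004002000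
theorem g5 : monoG DataE7.fd 5 wB5 = true := by decide +kernel
theorem c5_0 : monoC DataE7.fd wB5 0 21 = true := by decide +kernel
theorem c5_1 : monoC DataE7.fd wB5 21 21 = true := by decide +kernel
theorem c5_2 : monoC DataE7.fd wB5 42 21 = true := by decide +kernel
theorem c5_3 : monoC DataE7.fd wB5 63 21 = true := by decide +kernel
theorem c5_4 : monoC DataE7.fd wB5 84 21 = true := by decide +kernel
theorem c5_5 : monoC DataE7.fd wB5 105 21 = true := by decide +kernel
theorem n5 : nmatb DataE7.fd 5 wB5 = true := by decide +kernel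
theorem s5 : sideb DataE7.fd 5 wB5 = true := by decide +kernel
theorem refl5 : ReflChecks DataE7.fd chevE7 5 wB5 :=
  ⟨g5, chain_all DataE7.fd wB5 126 21 6 (by norm_num) (by norm_num)
    (by intro q hq; interval_cases q
        · exact c5_0
        · exact c5_1
        · exact c5_2
        · exact c5_3
        · exact c5_4
        · exact c5_5
    ), n5, s5⟩
end Cfsg.Agent.Lib.Helper5.Chev.ReflE7
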