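import Cfsg.Agent.Lib.Helper5.Chev.NFinal
import Cfsg.Agent.Lib.Helper5.Chev.DataE7
import Mathlib

set_option autoImplicit false
set_option maxRecDepth 100000

namespace Cfsg.Agent.Lib.Helper5.Chev.ReflE7

open Cfsg.Lie Cfsg.Agent.Lib.Helper5.Chev

/-- packed reflection 6 -/
def wB6 : ℕ := 0xfa0f80f60f40f20ef0f00ec0ea0e70e80e40e10e20dd0de0da0d80d50d60d10d20ce0cb0cc0c80c60c30c40c00be0bc0ba0b80b50b60b10b20ae0ab0ac0a80a60a30a40a009e09c09909a09609409208f09008c08a08708808408108207d07f07807b07607207507006e06a06d06806606406006305e05c05a05605905405204e05104c04804b04404704204003e03c03a03603903403202e03102c02802b02402702202001c01f01801b01601201501000e00a00d008006004002000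
theorem g6 : monoG DataE7.fd 6 wB6 = true := by decide +kernel
theorem c6_0 : monoC DataE7.fd wB6 0 21 = true := by decide +kernel
theorem c6_1 : monoC DataE7.fd wB6 21 21 = true := by decide +kernel
theorem c6_2 : monoC DataE7.fd wB6 42 21 = true := by decide +kernel
theorem c6_3 : monoC DataE7.fd wB6 63 21 = true := by decide +kernel
theorem c6_4 : monoC DataE7.fd wB6 84 21 = true := by decide +kernel
theorem c6_5 : monoC DataE7.fd wB6 105 21 = true := by decide +kernel
theorem n6 : nmatb DataE7.fd 6 wB6 = true := by decide +kernel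
theorem s6 : sideb DataE7.fd 6 wB6 = true := by decide +kernel
theorem refl6 : ReflChecks DataE7.fd chevE7 6 wB6 :=
  ⟨g6, chain_all DataE7.fd wB6 126 21 6 (by norm_num) (by norm_num)
    (by intro q hq; interval_cases q
        · exact c6_0
        · exact c6_1
        · exact c6_2
        · exact c6_3
        · exact c6_4
        · exact c6_5
    ), n6, s6⟩
end Cfsg.Agent.Lib.Helper5.Chev.ReflE7
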