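import Cfsg.Agent.Lib.Helper5.Chev.ReflE7_0
import Cfsg.Agent.Lib.Helper5.Chev.ReflE7_1
import Cfsg.Agent.Lib.Helper5.Chev.ReflE7_2
import Cfsg.Agent.Lib.Helper5.Chev.ReflE7_3
import Cfsg.Agent.Lib.Helper5.Chev.ReflE7_4
import Cfsg.Agent.Lib.Helper5.Chev.ReflE7_5
import Cfsg.Agent.Lib.Helper5.Chev.ReflE7_6
import Mathlib

set_option autoImplicit false

namespace Cfsg.Agent.Lib.Helper5.Chev.ReflE7

open Cfsg.Lie Cfsg.Agent.Lib.Helper5.Chev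

theorem refl (i : ℕ) (hi : i < 7) : ∃ B, ReflChecks DataE7.fd chevE7 i B := by
  interval_cases i
  · exact ⟨_, refl0⟩
  · exact ⟨_, refl1⟩
  · exact ⟨_, refl2⟩
  · exact ⟨_, refl3⟩
  · exact ⟨_, refl4⟩
  · exact ⟨_, refl5⟩
  · exact ⟨_, refl6⟩

end Cfsg.Agent.Lib.Helper5.Chev.ReflE7
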