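import Cfsg.Agent.Lib.Helper5.Chev.Transfer
import Cfsg.Agent.Lib.Helper5.Chev.ReflE7
import Mathlib

set_option autoImplicit false
set_option maxRecDepth 100000

namespace Cfsg.Agent.Lib.Helper5.Chev.BsE7

open Cfsg.Lie Cfsg.Agent.Lib.Helper5.Chev

/-- the packed reflections -/
def Bs : List ℕ := [ReflE7.wB0, ReflE7.wB1, ReflE7.wB2, ReflE7.wB3, ReflE7.wB4, ReflE7.wB5, ReflE7.wB6]

theorem reflBs (i : ℕ) (hi : i < 7) : ReflChecks DataE7.fd chevE7 i (Bs.getD i 0) := by
  interval_cases i
  · exact ReflE7.refl0
  · exact ReflE7.refl1
  · exact ReflE7.refl2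
  · exact ReflE7.refl3
  · exact ReflE7.refl4
  · exact ReflE7.refl5
  · exact ReflE7.refl6

/-- the base roots -/
def base : List ℕ := [93, 78, 73, 69, 66, 64, 63, 32, 47, 52, 56, 59, 61, 62]
/-- the packed generators -/
def gB : ℕ := 0x23456145635646525646536541654320564653654265430654306540650600006056045603456034562456356465023456145635646525646536541654320

theorem ab0 : FD.addCheck DataE7.fd [93] = true := by decide +kernel
theorem ab1 : FD.addCheck DataE7.fd [78] = true := by decide +kernel
theorem ab2 : FD.addCheck DataE7.fd [73] = true := by decide +kernel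
theorem ab3 : FD.addCheck DataE7.fd [69] = true := by decide +kernel
theorem ab4 : FD.addCheck DataE7.fd [66] = true := by decide +kernel
theorem ab5 : FD.addCheck DataE7.fd [64] = true := by decide +kernel
theorem ab6 : FD.addCheck DataE7.fd [63] = true := by decide +kernel
theorem ab7 : FD.addCheck DataE7.fd [32] = true := by decide +kernel
theorem ab8 : FD.addCheck DataE7.fd [47] = true := by decide +kernel
theorem ab9 : FD.addCheck DataE7.fd [52] = true := by decide +kernel
theorem ab10 : FD.addCheck DataE7.fd [56] = true := by decide +kernel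
theorem ab11 : FD.addCheck DataE7.fd [59] = true := by decide +kernel
theorem ab12 : FD.addCheck DataE7.fd [61] = true := by decide +kernel
theorem ab13 : FD.addCheck DataE7.fd [62] = true := by decide +kernel

theorem rb : reachb DataE7.fd Bs gB base 16 = true := by decide +kernel

theorem base_additive {F : Type*} [Field F] (s : ℕ) (hs : s ∈ base) : Additive F chevE7 s := by
  intro t u
  simp only [base, List.mem_cons, List.not_mem_nil, or_false] at hs
  rcases hs with rfl | rfl | rfl | rfl | rfl | rfl | rfl | rfl | rfl | rfl | rfl | rfl | rfl | rfl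
  · exact FD.x_add_of_check DataE7.agrees _ ab0 93 (by decide) (by simp) t u
  · exact FD.x_add_of_check DataE7.agrees _ ab1 78 (by decide) (by simp) t u
  · exact FD.x_add_of_check DataE7.agrees _ ab2 73 (by decide) (by simp) t u
  · exact FD.x_add_of_check DataE7.agrees _ ab3 69 (by decide) (by simp) t u
  · exact FD.x_add_of_check DataE7.agrees _ ab4 66 (by decide) (by simp) t u
  · exact FD.x_add_of_check DataE7.agrees _ ab5 64 (by decide) (by simp) t u
  · exact FD.x_add_of_check DataE7.agrees _ ab6 63 (by decide) (by simp) t u
  · exact FD.x_add_of_check DataE7.agrees _ ab7 32 (by decide) (by simp) t u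
  · exact FD.x_add_of_check DataE7.agrees _ ab8 47 (by decide) (by simp) t u
  · exact FD.x_add_of_check DataE7.agrees _ ab9 52 (by decide) (by simp) t u
  · exact FD.x_add_of_check DataE7.agrees _ ab10 56 (by decide) (by simp) t u
  · exact FD.x_add_of_check DataE7.agrees _ ab11 59 (by decide) (by simp) t u
  · exact FD.x_add_of_check DataE7.agrees _ ab12 61 (by decide) (by simp) t u
  · exact FD.x_add_of_check DataE7.agrees _ ab13 62 (by decide) (by simp) t u

theorem simple_mem (i : ℕ) (hi : i < 7) : chevE7.simple i ∈ base ∧ chevE7.neg (chevE7.simple i) ∈ base := by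
  interval_cases i <;> decide

theorem additive {F : Type*} [Field F] : ∀ s < chevE7.nroots, Additive F chevE7 s := by
  have hA := DataE7.agrees
  apply reach_all hA (Additive F chevE7) Bs gB base 16 rb (fun s hs => base_additive s hs)
  · intro i hi s hs
    exact ((reflBs i hi).cert hA).w_lt s hs
  · intro i hi s hs h
    exact (reflBs i hi).additive_transfer hA hi (base_additive _ (simple_mem i hi).1)
      (base_additive _ (simple_mem i hi).2) s hs h

end Cfsg.Agent.Lib.Helper5.Chev.BsE7
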