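import Cfsg.Agent.Lib.Helper5.Chev.HTransfer
import Cfsg.Agent.Lib.Helper5.Chev.BsE7
import Mathlib

set_option autoImplicit false
set_option maxRecDepth 100000

namespace Cfsg.Agent.Lib.Helper5.Chev.HsE7

open Cfsg.Lie Cfsg.Agent.Lib.Helper5.Chev

/-- the fundamental roots -/
def baseH : List ℕ := [93, 78, 73, 69, 66, 64, 63]
/-- the packed generators -/
def gH : ℕ := 0x23456145635646525646536541654320564653654265430654306540650600656456345623456134562456356465023456145635646525646536541654320

theorem hm0 : nmatcb DataE7.fd 0 ReflE7.wB0 = true := by decide +kernel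
theorem hm1 : nmatcb DataE7.fd 1 ReflE7.wB1 = true := by decide +kernel
theorem hm2 : nmatcb DataE7.fd 2 ReflE7.wB2 = true := by decide +kernel
theorem hm3 : nmatcb DataE7.fd 3 ReflE7.wB3 = true := by decide +kernel
theorem hm4 : nmatcb DataE7.fd 4 ReflE7.wB4 = true := by decide +kernel
theorem hm5 : nmatcb DataE7.fd 5 ReflE7.wB5 = true := by decide +kernel
theorem hm6 : nmatcb DataE7.fd 6 ReflE7.wB6 = true := by decide +kernel

theorem hm (j : ℕ) (hj : j < chevE7.rank) : nmatcb DataE7.fd j (BsE7.Bs.getD j 0) = true := by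
  have hj' : j < 7 := hj
  interval_cases j
  · exact hm0
  · exact hm1
  · exact hm2
  · exact hm3
  · exact hm4
  · exact hm5
  · exact hm6

theorem rbH : reachb DataE7.fd BsE7.Bs gH baseH 17 = true := by decide +kernel

theorem base_simple : ∀ s ∈ baseH, ∃ j < chevE7.rank, s = chevE7.simple j := by
  intro s hs
  simp only [baseH, List.mem_cons, List.not_mem_nil, or_false] at hs
  rcases hs with rfl | rfl | rfl | rfl | rfl | rfl | rfl
  · exact ⟨0, by decide, by decide⟩
  · exact ⟨1, by decide, by decide⟩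
  · exact ⟨2, by decide, by decide⟩
  · exact ⟨3, by decide, by decide⟩
  · exact ⟨4, by decide, by decide⟩
  · exact ⟨5, by decide, by decide⟩
  · exact ⟨6, by decide, by decide⟩

theorem reflBs' (i : ℕ) (hi : i < chevE7.rank) : ReflChecks DataE7.fd chevE7 i (BsE7.Bs.getD i 0) :=
  BsE7.reflBs i hi

theorem hform {F : Type*} [Field F] : ∀ s < chevE7.nroots, HForm F chevE7 s :=
  hform_all DataE7.agrees BsE7.Bs reflBs' BsE7.additive gH baseH 17 rbH base_simple hm

end Cfsg.Agent.Lib.Helper5.Chev.HsE7
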