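import Cfsg.Agent.Lib.Helper5.Chev.CoxChev
import Cfsg.Agent.Lib.Helper5.Chev.HsE7
import Mathlib

set_option autoImplicit false
set_option maxRecDepth 100000

namespace Cfsg.Agent.Lib.Helper5.Chev.CxE7

open Cfsg.Lie Cfsg.Agent.Lib.Helper5.Chev

/-- the orders of the products of two fundamental reflections -/
def mLL : List (List ℕ) := [[1, 2, 3, 2, 2, 2, 2], [2, 1, 2, 3, 2, 2, 2], [3, 2, 1, 3, 2, 2, 2], [2, 3, 3, 1, 3, 2, 2], [2, 2, 2, 3, 1, 3, 2], [2, 2, 2, 2, 3, 1, 3], [2, 2, 2, 2, 2, 3, 1]]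

theorem cox : coxb DataE7.fd BsE7.Bs mLL = true := by decide +kernel

end Cfsg.Agent.Lib.Helper5.Chev.CxE7
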