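import Cfsg.Agent.Lib.Helper5.Chev.PcChain
import Cfsg.Agent.Lib.Helper5.Chev.CxE7
import Mathlib

/-!
# The representatives of the cosets along a chain of parabolic subgroups: type E7 (helper5)
-/

set_option autoImplicit false
set_option maxRecDepth 100000

namespace Cfsg.Agent.Lib.Helper5.Chev.PcE7

open Cfsg.Lie Cfsg.Agent.Lib.Helper5.Chev

/-- the subset of level 1 -/
def K1 : List ℕ := [4]
/-- the representatives of level 1 -/
def certs1 : List PcEntry := [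
  ([], [93, 78, 73, 69, 66, 64, 63], [(false, 1)]),
  ([4], [93, 78, 73, 70, 59, 67, 63], [(false, 0)])]

/-- the subset of level 2 -/
def K2 : List ℕ := [3, 4]
/-- the representatives of level 2 -/
def certs2 : List PcEntry := [
  ([], [93, 78, 73, 69, 66, 64, 63], [(false, 1), (true, 4)]),
  ([3], [93, 79, 74, 56, 70, 64, 63], [(false, 0), (false, 2)]),
  ([4, 3], [93, 80, 75, 55, 69, 67, 63], [(true, 4), (false, 1)])]

/-- the subset of level 3 -/
def K3 : List ℕ := [2, 3, 4]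
/-- the representatives of level 3 -/
def certs3 : List PcEntry := [
  ([], [93, 78, 73, 69, 66, 64, 63], [(false, 1), (true, 3), (true, 4)]),
  ([2], [94, 78, 52, 74, 66, 64, 63], [(false, 0), (false, 2), (true, 4)]),
  ([3, 2], [95, 79, 51, 73, 70, 64, 63], [(true, 3), (false, 1), (false, 3)]),
  ([4, 3, 2], [96, 80, 50, 73, 69, 67, 63], [(true, 3), (true, 4), (false, 2)])]

/-- the subset of level 4 -/
def K4 : List ℕ := [1, 2, 3, 4]
/-- the representatives of level 4 -/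
def certs4 : List PcEntry := [
  ([], [93, 78, 73, 69, 66, 64, 63], [(false, 1), (true, 2), (true, 3), (true, 4)]),
  ([1], [93, 47, 73, 79, 66, 64, 63], [(false, 0), (true, 2), (false, 2), (true, 4)]),
  ([3, 1], [93, 46, 74, 78, 70, 64, 63], [(true, 3), (false, 3), (false, 1), (false, 4)]),
  ([2, 3, 1], [94, 42, 69, 78, 75, 64, 63], [(true, 3), (false, 2), (true, 2), (false, 5)]),
  ([4, 3, 1], [93, 45, 75, 78, 69, 67, 63], [(true, 3), (false, 5), (true, 4), (false, 2)]),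
  ([4, 2, 3, 1], [94, 41, 70, 78, 74, 67, 63], [(true, 3), (false, 4), (false, 6), (false, 3)]),
  ([3, 4, 2, 3, 1], [95, 38, 66, 79, 73, 71, 63], [(false, 7), (true, 4), (false, 5), (true, 2)]),
  ([1, 3, 4, 2, 3, 1], [99, 38, 66, 69, 73, 81, 63], [(false, 6), (true, 4), (true, 3), (true, 2)])]

/-- the subset of level 5 -/
def K5 : List ℕ := [1, 2, 3, 4, 5]
/-- the representatives of level 5 -/
def certs5 : List PcEntry := [
  ([], [93, 78, 73, 69, 66, 64, 63], [(true, 1), (true, 2), (true, 3), (true, 4), (false, 1)]),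
  ([5], [93, 78, 73, 69, 67, 61, 65], [(true, 1), (true, 2), (true, 3), (false, 2), (false, 0)]),
  ([4, 5], [93, 78, 73, 70, 64, 58, 68], [(true, 1), (true, 2), (false, 3), (false, 1), (true, 4)]),
  ([3, 4, 5], [93, 79, 74, 66, 64, 54, 72], [(false, 4), (false, 5), (false, 2), (true, 3), (true, 4)]),
  ([1, 3, 4, 5], [93, 69, 83, 66, 64, 44, 82], [(false, 3), (false, 6), (true, 1), (true, 3), (true, 4)]),
  ([2, 3, 4, 5], [94, 83, 69, 66, 64, 49, 77], [(false, 6), (false, 3), (true, 2), (true, 3), (true, 4)]),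
  ([2, 1, 3, 4, 5], [94, 74, 79, 66, 64, 40, 86], [(false, 5), (false, 4), (false, 7), (true, 3), (true, 4)]),
  ([3, 2, 1, 3, 4, 5], [95, 73, 78, 70, 64, 37, 89], [(true, 2), (true, 1), (false, 6), (false, 8), (true, 4)]),
  ([4, 3, 2, 1, 3, 4, 5], [96, 73, 78, 69, 67, 35, 91], [(true, 2), (true, 1), (true, 3), (false, 7), (false, 9)]),
  ([5, 4, 3, 2, 1, 3, 4, 5], [97, 73, 78, 69, 66, 35, 92], [(true, 2), (true, 1), (true, 3), (true, 4), (false, 8)])]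

/-- the subset of level 6 -/
def K6 : List ℕ := [0, 1, 2, 3, 4, 5]
/-- the representatives of level 6 -/
def certs6 : List PcEntry := [
  ([], [93, 78, 73, 69, 66, 64, 63], [(false, 1), (true, 1), (true, 2), (true, 3), (true, 4), (true, 5)]),
  ([0], [32, 78, 94, 69, 66, 64, 63], [(false, 0), (true, 1), (false, 2), (true, 3), (true, 4), (true, 5)]),
  ([2, 0], [31, 78, 93, 74, 66, 64, 63], [(true, 2), (true, 1), (false, 1), (false, 3), (true, 4), (true, 5)]),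
  ([3, 2, 0], [30, 79, 93, 73, 70, 64, 63], [(true, 2), (false, 4), (true, 3), (false, 2), (false, 5), (true, 5)]),
  ([1, 3, 2, 0], [26, 69, 93, 73, 80, 64, 63], [(true, 2), (false, 3), (true, 3), (true, 1), (false, 6), (true, 5)]),
  ([4, 3, 2, 0], [29, 80, 93, 73, 69, 67, 63], [(true, 2), (false, 6), (true, 3), (true, 4), (false, 3), (false, 7)]),
  ([4, 1, 3, 2, 0], [25, 70, 93, 73, 79, 67, 63], [(true, 2), (false, 5), (true, 3), (false, 8), (false, 4), (false, 9)]),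
  ([5, 4, 3, 2, 0], [28, 81, 93, 73, 69, 66, 65], [(true, 2), (false, 9), (true, 3), (true, 4), (true, 5), (false, 5)]),
  ([3, 4, 1, 3, 2, 0], [22, 66, 93, 74, 78, 71, 63], [(true, 2), (true, 4), (false, 10), (false, 6), (true, 1), (false, 11)]),
  ([5, 4, 1, 3, 2, 0], [24, 71, 93, 73, 79, 66, 65], [(true, 2), (false, 7), (true, 3), (false, 11), (true, 5), (false, 6)]),
  ([2, 3, 4, 1, 3, 2, 0], [16, 66, 94, 69, 78, 76, 63], [(false, 12), (true, 4), (false, 8), (true, 3), (true, 1), (false, 13)]),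
  ([5, 3, 4, 1, 3, 2, 0], [21, 67, 93, 74, 78, 70, 65], [(true, 2), (true, 4), (false, 13), (false, 9), (false, 14), (false, 8)]),
  ([0, 2, 3, 4, 1, 3, 2, 0], [16, 66, 73, 69, 78, 97, 63], [(false, 10), (true, 4), (true, 2), (true, 3), (true, 1), (false, 15)]),
  ([5, 2, 3, 4, 1, 3, 2, 0], [15, 67, 94, 69, 78, 75, 65], [(false, 15), (true, 4), (false, 11), (true, 3), (false, 16), (false, 10)]),
  ([4, 5, 3, 4, 1, 3, 2, 0], [19, 64, 93, 75, 78, 69, 68], [(true, 2), (true, 4), (false, 16), (true, 5), (false, 11), (true, 1)]),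
  ([5, 0, 2, 3, 4, 1, 3, 2, 0], [15, 67, 73, 69, 78, 96, 65], [(false, 13), (true, 4), (true, 2), (true, 3), (false, 17), (false, 12)]),
  ([4, 5, 2, 3, 4, 1, 3, 2, 0], [13, 64, 94, 70, 78, 74, 68], [(false, 17), (true, 4), (false, 14), (false, 18), (false, 13), (true, 1)]),
  ([4, 5, 0, 2, 3, 4, 1, 3, 2, 0], [13, 64, 73, 70, 78, 95, 68], [(false, 16), (true, 4), (true, 2), (false, 19), (false, 15), (true, 1)]),
  ([3, 4, 5, 2, 3, 4, 1, 3, 2, 0], [10, 64, 95, 66, 79, 73, 72], [(false, 19), (false, 20), (true, 5), (false, 16), (true, 3), (true, 1)]),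
  ([3, 4, 5, 0, 2, 3, 4, 1, 3, 2, 0], [10, 64, 74, 66, 79, 94, 72], [(false, 18), (false, 21), (false, 22), (false, 17), (true, 3), (true, 1)]),
  ([1, 3, 4, 5, 2, 3, 4, 1, 3, 2, 0], [6, 64, 99, 66, 69, 73, 82], [(false, 21), (false, 18), (true, 5), (true, 4), (true, 3), (true, 1)]),
  ([1, 3, 4, 5, 0, 2, 3, 4, 1, 3, 2, 0], [6, 64, 83, 66, 69, 94, 82], [(false, 20), (false, 19), (false, 23), (true, 4), (true, 3), (true, 1)]),
  ([2, 3, 4, 5, 0, 2, 3, 4, 1, 3, 2, 0], [10, 64, 69, 66, 83, 93, 77], [(true, 5), (false, 23), (false, 19), (true, 2), (true, 3), (true, 1)]),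
  ([2, 1, 3, 4, 5, 0, 2, 3, 4, 1, 3, 2, 0], [6, 64, 79, 66, 74, 93, 86], [(true, 5), (false, 22), (false, 21), (false, 24), (true, 3), (true, 1)]),
  ([3, 2, 1, 3, 4, 5, 0, 2, 3, 4, 1, 3, 2, 0], [6, 64, 78, 70, 73, 93, 89], [(true, 5), (true, 2), (true, 4), (false, 23), (false, 25), (true, 1)]),
  ([4, 3, 2, 1, 3, 4, 5, 0, 2, 3, 4, 1, 3, 2, 0], [6, 67, 78, 69, 73, 93, 91], [(true, 5), (true, 2), (true, 4), (true, 3), (false, 24), (false, 26)]),
  ([5, 4, 3, 2, 1, 3, 4, 5, 0, 2, 3, 4, 1, 3, 2, 0], [6, 66, 78, 69, 73, 93, 92], [(true, 5), (true, 2), (true, 4), (true, 3), (true, 1), (false, 25)])]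

/-- the subset of level 7 -/
def K7 : List ℕ := [0, 1, 2, 3, 4, 5, 6]
/-- the representatives of level 7 -/
def certs7 : List PcEntry := [
  ([], [93, 78, 73, 69, 66, 64, 63], [(true, 0), (true, 1), (true, 2), (true, 3), (true, 4), (true, 5), (false, 1)]),
  ([6], [93, 78, 73, 69, 66, 65, 62], [(true, 0), (true, 1), (true, 2), (true, 3), (true, 4), (false, 2), (false, 0)]),
  ([5, 6], [93, 78, 73, 69, 67, 63, 60], [(true, 0), (true, 1), (true, 2), (true, 3), (false, 3), (false, 1), (true, 5)]),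
  ([4, 5, 6], [93, 78, 73, 70, 64, 63, 57], [(true, 0), (true, 1), (true, 2), (false, 4), (false, 2), (true, 4), (true, 5)]),
  ([3, 4, 5, 6], [93, 79, 74, 66, 64, 63, 53], [(true, 0), (false, 5), (false, 6), (false, 3), (true, 3), (true, 4), (true, 5)]),
  ([1, 3, 4, 5, 6], [93, 69, 83, 66, 64, 63, 43], [(true, 0), (false, 4), (false, 7), (true, 1), (true, 3), (true, 4), (true, 5)]),
  ([2, 3, 4, 5, 6], [94, 83, 69, 66, 64, 63, 48], [(false, 8), (false, 7), (false, 4), (true, 2), (true, 3), (true, 4), (true, 5)]),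
  ([2, 1, 3, 4, 5, 6], [94, 74, 79, 66, 64, 63, 39], [(false, 9), (false, 6), (false, 5), (false, 10), (true, 3), (true, 4), (true, 5)]),
  ([0, 2, 3, 4, 5, 6], [73, 99, 69, 66, 64, 63, 27], [(false, 6), (false, 9), (true, 0), (true, 2), (true, 3), (true, 4), (true, 5)]),
  ([0, 2, 1, 3, 4, 5, 6], [73, 95, 79, 66, 64, 63, 23], [(false, 7), (false, 8), (true, 0), (false, 11), (true, 3), (true, 4), (true, 5)]),
  ([3, 2, 1, 3, 4, 5, 6], [95, 73, 78, 70, 64, 63, 36], [(false, 11), (true, 2), (true, 1), (false, 7), (false, 12), (true, 4), (true, 5)]),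
  ([3, 0, 2, 1, 3, 4, 5, 6], [74, 94, 78, 70, 64, 63, 20], [(false, 10), (true, 2), (false, 13), (false, 9), (false, 14), (true, 4), (true, 5)]),
  ([4, 3, 2, 1, 3, 4, 5, 6], [96, 73, 78, 69, 67, 63, 34], [(false, 14), (true, 2), (true, 1), (true, 3), (false, 10), (false, 15), (true, 5)]),
  ([2, 3, 0, 2, 1, 3, 4, 5, 6], [69, 93, 78, 75, 64, 63, 14], [(true, 1), (true, 2), (false, 11), (true, 0), (false, 16), (true, 4), (true, 5)]),
  ([4, 3, 0, 2, 1, 3, 4, 5, 6], [75, 94, 78, 69, 67, 63, 18], [(false, 12), (true, 2), (false, 16), (true, 3), (false, 11), (false, 17), (true, 5)]),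
  ([5, 4, 3, 2, 1, 3, 4, 5, 6], [97, 73, 78, 69, 66, 65, 33], [(false, 17), (true, 2), (true, 1), (true, 3), (true, 4), (false, 12), (false, 18)]),
  ([4, 2, 3, 0, 2, 1, 3, 4, 5, 6], [70, 93, 78, 74, 67, 63, 12], [(true, 1), (true, 2), (false, 14), (false, 19), (false, 13), (false, 20), (true, 5)]),
  ([5, 4, 3, 0, 2, 1, 3, 4, 5, 6], [76, 94, 78, 69, 66, 65, 17], [(false, 15), (true, 2), (false, 20), (true, 3), (true, 4), (false, 14), (false, 21)]),
  ([6, 5, 4, 3, 2, 1, 3, 4, 5, 6], [98, 73, 78, 69, 66, 64, 33], [(false, 21), (true, 2), (true, 1), (true, 3), (true, 4), (true, 5), (false, 15)]),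
  ([3, 4, 2, 3, 0, 2, 1, 3, 4, 5, 6], [66, 93, 79, 73, 71, 63, 9], [(true, 1), (false, 22), (true, 3), (false, 16), (true, 0), (false, 23), (true, 5)]),
  ([5, 4, 2, 3, 0, 2, 1, 3, 4, 5, 6], [71, 93, 78, 74, 66, 65, 11], [(true, 1), (true, 2), (false, 17), (false, 23), (true, 4), (false, 16), (false, 24)]),
  ([6, 5, 4, 3, 0, 2, 1, 3, 4, 5, 6], [77, 94, 78, 69, 66, 64, 17], [(false, 18), (true, 2), (false, 24), (true, 3), (true, 4), (true, 5), (false, 17)]),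
  ([1, 3, 4, 2, 3, 0, 2, 1, 3, 4, 5, 6], [66, 93, 69, 73, 81, 63, 5], [(true, 1), (false, 19), (true, 3), (true, 2), (true, 0), (false, 25), (true, 5)]),
  ([5, 3, 4, 2, 3, 0, 2, 1, 3, 4, 5, 6], [67, 93, 79, 73, 70, 65, 8], [(true, 1), (false, 25), (true, 3), (false, 20), (false, 26), (false, 19), (false, 27)]),
  ([6, 5, 4, 2, 3, 0, 2, 1, 3, 4, 5, 6], [72, 93, 78, 74, 66, 64, 11], [(true, 1), (true, 2), (false, 21), (false, 27), (true, 4), (true, 5), (false, 20)]),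
  ([5, 1, 3, 4, 2, 3, 0, 2, 1, 3, 4, 5, 6], [67, 93, 69, 73, 80, 65, 4], [(true, 1), (false, 23), (true, 3), (true, 2), (false, 28), (false, 22), (false, 29)]),
  ([4, 5, 3, 4, 2, 3, 0, 2, 1, 3, 4, 5, 6], [64, 93, 80, 73, 69, 68, 7], [(true, 1), (false, 28), (true, 3), (true, 4), (false, 23), (true, 0), (false, 30)]),
  ([6, 5, 3, 4, 2, 3, 0, 2, 1, 3, 4, 5, 6], [68, 93, 79, 73, 70, 64, 8], [(true, 1), (false, 29), (true, 3), (false, 24), (false, 30), (true, 5), (false, 23)]),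
  ([4, 5, 1, 3, 4, 2, 3, 0, 2, 1, 3, 4, 5, 6], [64, 93, 70, 73, 79, 68, 3], [(true, 1), (false, 26), (true, 3), (false, 31), (false, 25), (true, 0), (false, 32)]),
  ([6, 5, 1, 3, 4, 2, 3, 0, 2, 1, 3, 4, 5, 6], [68, 93, 69, 73, 80, 64, 4], [(true, 1), (false, 27), (true, 3), (true, 2), (false, 32), (true, 5), (false, 25)]),
  ([6, 4, 5, 3, 4, 2, 3, 0, 2, 1, 3, 4, 5, 6], [65, 93, 80, 73, 69, 67, 7], [(true, 1), (false, 32), (true, 3), (true, 4), (false, 27), (false, 33), (false, 26)]),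
  ([3, 4, 5, 1, 3, 4, 2, 3, 0, 2, 1, 3, 4, 5, 6], [64, 93, 66, 74, 78, 72, 2], [(true, 1), (true, 4), (false, 34), (false, 28), (true, 2), (true, 0), (false, 35)]),
  ([6, 4, 5, 1, 3, 4, 2, 3, 0, 2, 1, 3, 4, 5, 6], [65, 93, 70, 73, 79, 67, 3], [(true, 1), (false, 30), (true, 3), (false, 35), (false, 29), (false, 36), (false, 28)]),
  ([5, 6, 4, 5, 3, 4, 2, 3, 0, 2, 1, 3, 4, 5, 6], [63, 93, 81, 73, 69, 66, 7], [(true, 1), (false, 36), (true, 3), (true, 4), (true, 5), (false, 30), (true, 0)]),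
  ([2, 3, 4, 5, 1, 3, 4, 2, 3, 0, 2, 1, 3, 4, 5, 6], [64, 94, 66, 69, 78, 77, 1], [(false, 37), (true, 4), (false, 31), (true, 3), (true, 2), (true, 0), (false, 38)]),
  ([6, 3, 4, 5, 1, 3, 4, 2, 3, 0, 2, 1, 3, 4, 5, 6], [65, 93, 66, 74, 78, 71, 2], [(true, 1), (true, 4), (false, 38), (false, 32), (true, 2), (false, 39), (false, 31)]),
  ([5, 6, 4, 5, 1, 3, 4, 2, 3, 0, 2, 1, 3, 4, 5, 6], [63, 93, 71, 73, 79, 66, 3], [(true, 1), (false, 33), (true, 3), (false, 39), (true, 5), (false, 32), (true, 0)]),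
  ([0, 2, 3, 4, 5, 1, 3, 4, 2, 3, 0, 2, 1, 3, 4, 5, 6], [64, 73, 66, 69, 78, 98, 0], [(false, 34), (true, 4), (true, 1), (true, 3), (true, 2), (true, 0), (false, 40)]),
  ([6, 2, 3, 4, 5, 1, 3, 4, 2, 3, 0, 2, 1, 3, 4, 5, 6], [65, 94, 66, 69, 78, 76, 1], [(false, 40), (true, 4), (false, 35), (true, 3), (true, 2), (false, 41), (false, 34)]),
  ([5, 6, 3, 4, 5, 1, 3, 4, 2, 3, 0, 2, 1, 3, 4, 5, 6], [63, 93, 67, 74, 78, 70, 2], [(true, 1), (true, 4), (false, 41), (false, 36), (false, 42), (false, 35), (true, 0)]),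
  ([6, 0, 2, 3, 4, 5, 1, 3, 4, 2, 3, 0, 2, 1, 3, 4, 5, 6], [65, 73, 66, 69, 78, 97, 0], [(false, 38), (true, 4), (true, 1), (true, 3), (true, 2), (false, 43), (false, 37)]),
  ([5, 6, 2, 3, 4, 5, 1, 3, 4, 2, 3, 0, 2, 1, 3, 4, 5, 6], [63, 94, 67, 69, 78, 75, 1], [(false, 43), (true, 4), (false, 39), (true, 3), (false, 44), (false, 38), (true, 0)]),
  ([4, 5, 6, 3, 4, 5, 1, 3, 4, 2, 3, 0, 2, 1, 3, 4, 5, 6], [63, 93, 64, 75, 78, 69, 2], [(true, 1), (true, 4), (false, 44), (true, 5), (false, 39), (true, 2), (true, 0)]),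
  ([5, 6, 0, 2, 3, 4, 5, 1, 3, 4, 2, 3, 0, 2, 1, 3, 4, 5, 6], [63, 73, 67, 69, 78, 96, 0], [(false, 41), (true, 4), (true, 1), (true, 3), (false, 45), (false, 40), (true, 0)]),
  ([4, 5, 6, 2, 3, 4, 5, 1, 3, 4, 2, 3, 0, 2, 1, 3, 4, 5, 6], [63, 94, 64, 70, 78, 74, 1], [(false, 45), (true, 4), (false, 42), (false, 46), (false, 41), (true, 2), (true, 0)]),
  ([4, 5, 6, 0, 2, 3, 4, 5, 1, 3, 4, 2, 3, 0, 2, 1, 3, 4, 5, 6], [63, 73, 64, 70, 78, 95, 0], [(false, 44), (true, 4), (true, 1), (false, 47), (false, 43), (true, 2), (true, 0)]),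
  ([3, 4, 5, 6, 2, 3, 4, 5, 1, 3, 4, 2, 3, 0, 2, 1, 3, 4, 5, 6], [63, 95, 64, 66, 79, 73, 1], [(false, 47), (false, 48), (true, 5), (false, 44), (true, 3), (true, 2), (true, 0)]),
  ([3, 4, 5, 6, 0, 2, 3, 4, 5, 1, 3, 4, 2, 3, 0, 2, 1, 3, 4, 5, 6], [63, 74, 64, 66, 79, 94, 0], [(false, 46), (false, 49), (false, 50), (false, 45), (true, 3), (true, 2), (true, 0)]),
  ([1, 3, 4, 5, 6, 2, 3, 4, 5, 1, 3, 4, 2, 3, 0, 2, 1, 3, 4, 5, 6], [63, 99, 64, 66, 69, 73, 1], [(false, 49), (false, 46), (true, 5), (true, 4), (true, 3), (true, 2), (true, 0)]),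
  ([1, 3, 4, 5, 6, 0, 2, 3, 4, 5, 1, 3, 4, 2, 3, 0, 2, 1, 3, 4, 5, 6], [63, 83, 64, 66, 69, 94, 0], [(false, 48), (false, 47), (false, 51), (true, 4), (true, 3), (true, 2), (true, 0)]),
  ([2, 3, 4, 5, 6, 0, 2, 3, 4, 5, 1, 3, 4, 2, 3, 0, 2, 1, 3, 4, 5, 6], [63, 69, 64, 66, 83, 93, 0], [(true, 5), (false, 51), (false, 47), (true, 1), (true, 3), (true, 2), (true, 0)]),
  ([2, 1, 3, 4, 5, 6, 0, 2, 3, 4, 5, 1, 3, 4, 2, 3, 0, 2, 1, 3, 4, 5, 6], [63, 79, 64, 66, 74, 93, 0], [(true, 5), (false, 50), (false, 49), (false, 52), (true, 3), (true, 2), (true, 0)]),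
  ([3, 2, 1, 3, 4, 5, 6, 0, 2, 3, 4, 5, 1, 3, 4, 2, 3, 0, 2, 1, 3, 4, 5, 6], [63, 78, 64, 70, 73, 93, 0], [(true, 5), (true, 1), (true, 4), (false, 51), (false, 53), (true, 2), (true, 0)]),
  ([4, 3, 2, 1, 3, 4, 5, 6, 0, 2, 3, 4, 5, 1, 3, 4, 2, 3, 0, 2, 1, 3, 4, 5, 6], [63, 78, 67, 69, 73, 93, 0], [(true, 5), (true, 1), (true, 4), (true, 3), (false, 52), (false, 54), (true, 0)]),
  ([5, 4, 3, 2, 1, 3, 4, 5, 6, 0, 2, 3, 4, 5, 1, 3, 4, 2, 3, 0, 2, 1, 3, 4, 5, 6], [65, 78, 66, 69, 73, 93, 0], [(true, 5), (true, 1), (true, 4), (true, 3), (true, 2), (false, 53), (false, 55)]),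
  ([6, 5, 4, 3, 2, 1, 3, 4, 5, 6, 0, 2, 3, 4, 5, 1, 3, 4, 2, 3, 0, 2, 1, 3, 4, 5, 6], [64, 78, 66, 69, 73, 93, 0], [(true, 5), (true, 1), (true, 4), (true, 3), (true, 2), (true, 0), (false, 54)])]

/-- the chain -/
def ch : PcChainData := [(K1, certs1), (K2, certs2), (K3, certs3), (K4, certs4), (K5, certs5), (K6, certs6), (K7, certs7)]

theorem ok : chainOK (wdOf DataE7.fd BsE7.Bs CxE7.mLL) [] ch = true := by decide +kernel

theorem hall : ∀ i < DataE7.fd.rank, i ∈ lastK [] ch := by decide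

theorem hpoly : mulZ (powZ [-1, 1] 7) (chainZ ch) = prodZ ([2, 6, 8, 10, 12, 14, 18].map monoSubOne) := by
  decide +kernel

end Cfsg.Agent.Lib.Helper5.Chev.PcE7
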