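import Cfsg.Agent.Lib.Helper5.Chev.PcChain
import Cfsg.Agent.Lib.Helper5.Chev.CxE8
import Mathlib

/-!
# The representatives of the cosets along a chain of parabolic subgroups: type E8 (helper5)
-/

set_option autoImplicit false
set_option maxRecDepth 100000

namespace Cfsg.Agent.Lib.Helper5.Chev.PcE8

open Cfsg.Lie Cfsg.Agent.Lib.Helper5.Chev

/-- the subset of level 1 -/
def K1 : List ℕ := [4]
/-- the representatives of level 1 -/
def certs1 : List PcEntry := [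
  ([], [162, 141, 135, 130, 126, 123, 121, 120], [(false, 1)]),
  ([4], [162, 141, 135, 131, 113, 127, 121, 120], [(false, 0)])]

/-- the subset of level 2 -/
def K2 : List ℕ := [3, 4]
/-- the representatives of level 2 -/
def certs2 : List PcEntry := [
  ([], [162, 141, 135, 130, 126, 123, 121, 120], [(false, 1), (true, 4)]),
  ([3], [162, 142, 136, 109, 131, 123, 121, 120], [(false, 0), (false, 2)]),
  ([4, 3], [162, 143, 137, 108, 130, 127, 121, 120], [(true, 4), (false, 1)])]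

/-- the subset of level 3 -/
def K3 : List ℕ := [2, 3, 4]
/-- the representatives of level 3 -/
def certs3 : List PcEntry := [
  ([], [162, 141, 135, 130, 126, 123, 121, 120], [(false, 1), (true, 3), (true, 4)]),
  ([2], [163, 141, 104, 136, 126, 123, 121, 120], [(false, 0), (false, 2), (true, 4)]),
  ([3, 2], [164, 142, 103, 135, 131, 123, 121, 120], [(true, 3), (false, 1), (false, 3)]),
  ([4, 3, 2], [165, 143, 102, 135, 130, 127, 121, 120], [(true, 3), (true, 4), (false, 2)])]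

/-- the subset of level 4 -/
def K4 : List ℕ := [1, 2, 3, 4]
/-- the representatives of level 4 -/
def certs4 : List PcEntry := [
  ([], [162, 141, 135, 130, 126, 123, 121, 120], [(false, 1), (true, 2), (true, 3), (true, 4)]),
  ([1], [162, 98, 135, 142, 126, 123, 121, 120], [(false, 0), (true, 2), (false, 2), (true, 4)]),
  ([3, 1], [162, 97, 136, 141, 131, 123, 121, 120], [(true, 3), (false, 3), (false, 1), (false, 4)]),
  ([2, 3, 1], [163, 92, 130, 141, 137, 123, 121, 120], [(true, 3), (false, 2), (true, 2), (false, 5)]),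
  ([4, 3, 1], [162, 96, 137, 141, 130, 127, 121, 120], [(true, 3), (false, 5), (true, 4), (false, 2)]),
  ([4, 2, 3, 1], [163, 91, 131, 141, 136, 127, 121, 120], [(true, 3), (false, 4), (false, 6), (false, 3)]),
  ([3, 4, 2, 3, 1], [164, 87, 126, 142, 135, 132, 121, 120], [(false, 7), (true, 4), (false, 5), (true, 2)]),
  ([1, 3, 4, 2, 3, 1], [169, 87, 126, 130, 135, 144, 121, 120], [(false, 6), (true, 4), (true, 3), (true, 2)])]

/-- the subset of level 5 -/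
def K5 : List ℕ := [1, 2, 3, 4, 5]
/-- the representatives of level 5 -/
def certs5 : List PcEntry := [
  ([], [162, 141, 135, 130, 126, 123, 121, 120], [(true, 1), (true, 2), (true, 3), (true, 4), (false, 1)]),
  ([5], [162, 141, 135, 130, 127, 116, 124, 120], [(true, 1), (true, 2), (true, 3), (false, 2), (false, 0)]),
  ([4, 5], [162, 141, 135, 131, 123, 112, 128, 120], [(true, 1), (true, 2), (false, 3), (false, 1), (true, 4)]),
  ([3, 4, 5], [162, 142, 136, 126, 123, 107, 133, 120], [(false, 4), (false, 5), (false, 2), (true, 3), (true, 4)]),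
  ([1, 3, 4, 5], [162, 130, 147, 126, 123, 95, 145, 120], [(false, 3), (false, 6), (true, 1), (true, 3), (true, 4)]),
  ([2, 3, 4, 5], [163, 147, 130, 126, 123, 101, 139, 120], [(false, 6), (false, 3), (true, 2), (true, 3), (true, 4)]),
  ([2, 1, 3, 4, 5], [163, 136, 142, 126, 123, 90, 150, 120], [(false, 5), (false, 4), (false, 7), (true, 3), (true, 4)]),
  ([3, 2, 1, 3, 4, 5], [164, 135, 141, 131, 123, 86, 154, 120], [(true, 2), (true, 1), (false, 6), (false, 8), (true, 4)]),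
  ([4, 3, 2, 1, 3, 4, 5], [165, 135, 141, 130, 127, 83, 157, 120], [(true, 2), (true, 1), (true, 3), (false, 7), (false, 9)]),
  ([5, 4, 3, 2, 1, 3, 4, 5], [166, 135, 141, 130, 126, 83, 159, 120], [(true, 2), (true, 1), (true, 3), (true, 4), (false, 8)])]

/-- the subset of level 6 -/
def K6 : List ℕ := [0, 1, 2, 3, 4, 5]
/-- the representatives of level 6 -/
def certs6 : List PcEntry := [
  ([], [162, 141, 135, 130, 126, 123, 121, 120], [(false, 1), (true, 1), (true, 2), (true, 3), (true, 4), (true, 5)]),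
  ([0], [77, 141, 163, 130, 126, 123, 121, 120], [(false, 0), (true, 1), (false, 2), (true, 3), (true, 4), (true, 5)]),
  ([2, 0], [76, 141, 162, 136, 126, 123, 121, 120], [(true, 2), (true, 1), (false, 1), (false, 3), (true, 4), (true, 5)]),
  ([3, 2, 0], [75, 142, 162, 135, 131, 123, 121, 120], [(true, 2), (false, 4), (true, 3), (false, 2), (false, 5), (true, 5)]),
  ([1, 3, 2, 0], [70, 130, 162, 135, 143, 123, 121, 120], [(true, 2), (false, 3), (true, 3), (true, 1), (false, 6), (true, 5)]),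
  ([4, 3, 2, 0], [74, 143, 162, 135, 130, 127, 121, 120], [(true, 2), (false, 6), (true, 3), (true, 4), (false, 3), (false, 7)]),
  ([4, 1, 3, 2, 0], [69, 131, 162, 135, 142, 127, 121, 120], [(true, 2), (false, 5), (true, 3), (false, 8), (false, 4), (false, 9)]),
  ([5, 4, 3, 2, 0], [73, 144, 162, 135, 130, 126, 124, 120], [(true, 2), (false, 9), (true, 3), (true, 4), (true, 5), (false, 5)]),
  ([3, 4, 1, 3, 2, 0], [65, 126, 162, 136, 141, 132, 121, 120], [(true, 2), (true, 4), (false, 10), (false, 6), (true, 1), (false, 11)]),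
  ([5, 4, 1, 3, 2, 0], [68, 132, 162, 135, 142, 126, 124, 120], [(true, 2), (false, 7), (true, 3), (false, 11), (true, 5), (false, 6)]),
  ([2, 3, 4, 1, 3, 2, 0], [55, 126, 163, 130, 141, 138, 121, 120], [(false, 12), (true, 4), (false, 8), (true, 3), (true, 1), (false, 13)]),
  ([5, 3, 4, 1, 3, 2, 0], [64, 127, 162, 136, 141, 131, 124, 120], [(true, 2), (true, 4), (false, 13), (false, 9), (false, 14), (false, 8)]),
  ([0, 2, 3, 4, 1, 3, 2, 0], [55, 126, 135, 130, 141, 166, 121, 120], [(false, 10), (true, 4), (true, 2), (true, 3), (true, 1), (false, 15)]),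
  ([5, 2, 3, 4, 1, 3, 2, 0], [54, 127, 163, 130, 141, 137, 124, 120], [(false, 15), (true, 4), (false, 11), (true, 3), (false, 16), (false, 10)]),
  ([4, 5, 3, 4, 1, 3, 2, 0], [61, 123, 162, 137, 141, 130, 128, 120], [(true, 2), (true, 4), (false, 16), (true, 5), (false, 11), (true, 1)]),
  ([5, 0, 2, 3, 4, 1, 3, 2, 0], [54, 127, 135, 130, 141, 165, 124, 120], [(false, 13), (true, 4), (true, 2), (true, 3), (false, 17), (false, 12)]),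
  ([4, 5, 2, 3, 4, 1, 3, 2, 0], [51, 123, 163, 131, 141, 136, 128, 120], [(false, 17), (true, 4), (false, 14), (false, 18), (false, 13), (true, 1)]),
  ([4, 5, 0, 2, 3, 4, 1, 3, 2, 0], [51, 123, 135, 131, 141, 164, 128, 120], [(false, 16), (true, 4), (true, 2), (false, 19), (false, 15), (true, 1)]),
  ([3, 4, 5, 2, 3, 4, 1, 3, 2, 0], [45, 123, 164, 126, 142, 135, 133, 120], [(false, 19), (false, 20), (true, 5), (false, 16), (true, 3), (true, 1)]),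
  ([3, 4, 5, 0, 2, 3, 4, 1, 3, 2, 0], [45, 123, 136, 126, 142, 163, 133, 120], [(false, 18), (false, 21), (false, 22), (false, 17), (true, 3), (true, 1)]),
  ([1, 3, 4, 5, 2, 3, 4, 1, 3, 2, 0], [35, 123, 169, 126, 130, 135, 145, 120], [(false, 21), (false, 18), (true, 5), (true, 4), (true, 3), (true, 1)]),
  ([1, 3, 4, 5, 0, 2, 3, 4, 1, 3, 2, 0], [35, 123, 147, 126, 130, 163, 145, 120], [(false, 20), (false, 19), (false, 23), (true, 4), (true, 3), (true, 1)]),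
  ([2, 3, 4, 5, 0, 2, 3, 4, 1, 3, 2, 0], [45, 123, 130, 126, 147, 162, 139, 120], [(true, 5), (false, 23), (false, 19), (true, 2), (true, 3), (true, 1)]),
  ([2, 1, 3, 4, 5, 0, 2, 3, 4, 1, 3, 2, 0], [35, 123, 142, 126, 136, 162, 150, 120], [(true, 5), (false, 22), (false, 21), (false, 24), (true, 3), (true, 1)]),
  ([3, 2, 1, 3, 4, 5, 0, 2, 3, 4, 1, 3, 2, 0], [35, 123, 141, 131, 135, 162, 154, 120], [(true, 5), (true, 2), (true, 4), (false, 23), (false, 25), (true, 1)]),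
  ([4, 3, 2, 1, 3, 4, 5, 0, 2, 3, 4, 1, 3, 2, 0], [35, 127, 141, 130, 135, 162, 157, 120], [(true, 5), (true, 2), (true, 4), (true, 3), (false, 24), (false, 26)]),
  ([5, 4, 3, 2, 1, 3, 4, 5, 0, 2, 3, 4, 1, 3, 2, 0], [35, 126, 141, 130, 135, 162, 159, 120], [(true, 5), (true, 2), (true, 4), (true, 3), (true, 1), (false, 25)])]

/-- the subset of level 7 -/
def K7 : List ℕ := [0, 1, 2, 3, 4, 5, 6]
/-- the representatives of level 7 -/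
def certs7 : List PcEntry := [
  ([], [162, 141, 135, 130, 126, 123, 121, 120], [(true, 0), (true, 1), (true, 2), (true, 3), (true, 4), (true, 5), (false, 1)]),
  ([6], [162, 141, 135, 130, 126, 124, 118, 122], [(true, 0), (true, 1), (true, 2), (true, 3), (true, 4), (false, 2), (false, 0)]),
  ([5, 6], [162, 141, 135, 130, 127, 121, 115, 125], [(true, 0), (true, 1), (true, 2), (true, 3), (false, 3), (false, 1), (true, 5)]),
  ([4, 5, 6], [162, 141, 135, 131, 123, 121, 111, 129], [(true, 0), (true, 1), (true, 2), (false, 4), (false, 2), (true, 4), (true, 5)]),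
  ([3, 4, 5, 6], [162, 142, 136, 126, 123, 121, 106, 134], [(true, 0), (false, 5), (false, 6), (false, 3), (true, 3), (true, 4), (true, 5)]),
  ([1, 3, 4, 5, 6], [162, 130, 147, 126, 123, 121, 94, 146], [(true, 0), (false, 4), (false, 7), (true, 1), (true, 3), (true, 4), (true, 5)]),
  ([2, 3, 4, 5, 6], [163, 147, 130, 126, 123, 121, 100, 140], [(false, 8), (false, 7), (false, 4), (true, 2), (true, 3), (true, 4), (true, 5)]),
  ([2, 1, 3, 4, 5, 6], [163, 136, 142, 126, 123, 121, 89, 151], [(false, 9), (false, 6), (false, 5), (false, 10), (true, 3), (true, 4), (true, 5)]),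
  ([0, 2, 3, 4, 5, 6], [135, 169, 130, 126, 123, 121, 72, 168], [(false, 6), (false, 9), (true, 0), (true, 2), (true, 3), (true, 4), (true, 5)]),
  ([0, 2, 1, 3, 4, 5, 6], [135, 164, 142, 126, 123, 121, 67, 173], [(false, 7), (false, 8), (true, 0), (false, 11), (true, 3), (true, 4), (true, 5)]),
  ([3, 2, 1, 3, 4, 5, 6], [164, 135, 141, 131, 123, 121, 85, 155], [(false, 11), (true, 2), (true, 1), (false, 7), (false, 12), (true, 4), (true, 5)]),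
  ([3, 0, 2, 1, 3, 4, 5, 6], [136, 163, 141, 131, 123, 121, 63, 177], [(false, 10), (true, 2), (false, 13), (false, 9), (false, 14), (true, 4), (true, 5)]),
  ([4, 3, 2, 1, 3, 4, 5, 6], [165, 135, 141, 130, 127, 121, 82, 158], [(false, 14), (true, 2), (true, 1), (true, 3), (false, 10), (false, 15), (true, 5)]),
  ([2, 3, 0, 2, 1, 3, 4, 5, 6], [130, 162, 141, 137, 123, 121, 53, 187], [(true, 1), (true, 2), (false, 11), (true, 0), (false, 16), (true, 4), (true, 5)]),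
  ([4, 3, 0, 2, 1, 3, 4, 5, 6], [137, 163, 141, 130, 127, 121, 60, 180], [(false, 12), (true, 2), (false, 16), (true, 3), (false, 11), (false, 17), (true, 5)]),
  ([5, 4, 3, 2, 1, 3, 4, 5, 6], [166, 135, 141, 130, 126, 124, 80, 160], [(false, 17), (true, 2), (true, 1), (true, 3), (true, 4), (false, 12), (false, 18)]),
  ([4, 2, 3, 0, 2, 1, 3, 4, 5, 6], [131, 162, 141, 136, 127, 121, 50, 190], [(true, 1), (true, 2), (false, 14), (false, 19), (false, 13), (false, 20), (true, 5)]),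
  ([5, 4, 3, 0, 2, 1, 3, 4, 5, 6], [138, 163, 141, 130, 126, 124, 58, 182], [(false, 15), (true, 2), (false, 20), (true, 3), (true, 4), (false, 14), (false, 21)]),
  ([6, 5, 4, 3, 2, 1, 3, 4, 5, 6], [167, 135, 141, 130, 126, 123, 80, 161], [(false, 21), (true, 2), (true, 1), (true, 3), (true, 4), (true, 5), (false, 15)]),
  ([3, 4, 2, 3, 0, 2, 1, 3, 4, 5, 6], [126, 162, 142, 135, 132, 121, 44, 196], [(true, 1), (false, 22), (true, 3), (false, 16), (true, 0), (false, 23), (true, 5)]),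
  ([5, 4, 2, 3, 0, 2, 1, 3, 4, 5, 6], [132, 162, 141, 136, 126, 124, 48, 192], [(true, 1), (true, 2), (false, 17), (false, 23), (true, 4), (false, 16), (false, 24)]),
  ([6, 5, 4, 3, 0, 2, 1, 3, 4, 5, 6], [139, 163, 141, 130, 126, 123, 58, 183], [(false, 18), (true, 2), (false, 24), (true, 3), (true, 4), (true, 5), (false, 17)]),
  ([1, 3, 4, 2, 3, 0, 2, 1, 3, 4, 5, 6], [126, 162, 130, 135, 144, 121, 34, 206], [(true, 1), (false, 19), (true, 3), (true, 2), (true, 0), (false, 25), (true, 5)]),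
  ([5, 3, 4, 2, 3, 0, 2, 1, 3, 4, 5, 6], [127, 162, 142, 135, 131, 124, 42, 198], [(true, 1), (false, 25), (true, 3), (false, 20), (false, 26), (false, 19), (false, 27)]),
  ([6, 5, 4, 2, 3, 0, 2, 1, 3, 4, 5, 6], [133, 162, 141, 136, 126, 123, 48, 193], [(true, 1), (true, 2), (false, 21), (false, 27), (true, 4), (true, 5), (false, 20)]),
  ([5, 1, 3, 4, 2, 3, 0, 2, 1, 3, 4, 5, 6], [127, 162, 130, 135, 143, 124, 32, 208], [(true, 1), (false, 23), (true, 3), (true, 2), (false, 28), (false, 22), (false, 29)]),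
  ([4, 5, 3, 4, 2, 3, 0, 2, 1, 3, 4, 5, 6], [123, 162, 143, 135, 130, 128, 39, 201], [(true, 1), (false, 28), (true, 3), (true, 4), (false, 23), (true, 0), (false, 30)]),
  ([6, 5, 3, 4, 2, 3, 0, 2, 1, 3, 4, 5, 6], [128, 162, 142, 135, 131, 123, 42, 199], [(true, 1), (false, 29), (true, 3), (false, 24), (false, 30), (true, 5), (false, 23)]),
  ([4, 5, 1, 3, 4, 2, 3, 0, 2, 1, 3, 4, 5, 6], [123, 162, 131, 135, 142, 128, 29, 211], [(true, 1), (false, 26), (true, 3), (false, 31), (false, 25), (true, 0), (false, 32)]),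
  ([6, 5, 1, 3, 4, 2, 3, 0, 2, 1, 3, 4, 5, 6], [128, 162, 130, 135, 143, 123, 32, 209], [(true, 1), (false, 27), (true, 3), (true, 2), (false, 32), (true, 5), (false, 25)]),
  ([6, 4, 5, 3, 4, 2, 3, 0, 2, 1, 3, 4, 5, 6], [124, 162, 143, 135, 130, 127, 39, 202], [(true, 1), (false, 32), (true, 3), (true, 4), (false, 27), (false, 33), (false, 26)]),
  ([3, 4, 5, 1, 3, 4, 2, 3, 0, 2, 1, 3, 4, 5, 6], [123, 162, 126, 136, 141, 133, 25, 215], [(true, 1), (true, 4), (false, 34), (false, 28), (true, 2), (true, 0), (false, 35)]),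
  ([6, 4, 5, 1, 3, 4, 2, 3, 0, 2, 1, 3, 4, 5, 6], [124, 162, 131, 135, 142, 127, 29, 212], [(true, 1), (false, 30), (true, 3), (false, 35), (false, 29), (false, 36), (false, 28)]),
  ([5, 6, 4, 5, 3, 4, 2, 3, 0, 2, 1, 3, 4, 5, 6], [121, 162, 144, 135, 130, 126, 39, 203], [(true, 1), (false, 36), (true, 3), (true, 4), (true, 5), (false, 30), (true, 0)]),
  ([2, 3, 4, 5, 1, 3, 4, 2, 3, 0, 2, 1, 3, 4, 5, 6], [123, 163, 126, 130, 141, 139, 20, 220], [(false, 37), (true, 4), (false, 31), (true, 3), (true, 2), (true, 0), (false, 38)]),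
  ([6, 3, 4, 5, 1, 3, 4, 2, 3, 0, 2, 1, 3, 4, 5, 6], [124, 162, 126, 136, 141, 132, 25, 216], [(true, 1), (true, 4), (false, 38), (false, 32), (true, 2), (false, 39), (false, 31)]),
  ([5, 6, 4, 5, 1, 3, 4, 2, 3, 0, 2, 1, 3, 4, 5, 6], [121, 162, 132, 135, 142, 126, 29, 213], [(true, 1), (false, 33), (true, 3), (false, 39), (true, 5), (false, 32), (true, 0)]),
  ([0, 2, 3, 4, 5, 1, 3, 4, 2, 3, 0, 2, 1, 3, 4, 5, 6], [123, 135, 126, 130, 141, 167, 13, 227], [(false, 34), (true, 4), (true, 1), (true, 3), (true, 2), (true, 0), (false, 40)]),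
  ([6, 2, 3, 4, 5, 1, 3, 4, 2, 3, 0, 2, 1, 3, 4, 5, 6], [124, 163, 126, 130, 141, 138, 20, 221], [(false, 40), (true, 4), (false, 35), (true, 3), (true, 2), (false, 41), (false, 34)]),
  ([5, 6, 3, 4, 5, 1, 3, 4, 2, 3, 0, 2, 1, 3, 4, 5, 6], [121, 162, 127, 136, 141, 131, 25, 217], [(true, 1), (true, 4), (false, 41), (false, 36), (false, 42), (false, 35), (true, 0)]),
  ([6, 0, 2, 3, 4, 5, 1, 3, 4, 2, 3, 0, 2, 1, 3, 4, 5, 6], [124, 135, 126, 130, 141, 166, 13, 228], [(false, 38), (true, 4), (true, 1), (true, 3), (true, 2), (false, 43), (false, 37)]),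
  ([5, 6, 2, 3, 4, 5, 1, 3, 4, 2, 3, 0, 2, 1, 3, 4, 5, 6], [121, 163, 127, 130, 141, 137, 20, 222], [(false, 43), (true, 4), (false, 39), (true, 3), (false, 44), (false, 38), (true, 0)]),
  ([4, 5, 6, 3, 4, 5, 1, 3, 4, 2, 3, 0, 2, 1, 3, 4, 5, 6], [121, 162, 123, 137, 141, 130, 25, 218], [(true, 1), (true, 4), (false, 44), (true, 5), (false, 39), (true, 2), (true, 0)]),
  ([5, 6, 0, 2, 3, 4, 5, 1, 3, 4, 2, 3, 0, 2, 1, 3, 4, 5, 6], [121, 135, 127, 130, 141, 165, 13, 229], [(false, 41), (true, 4), (true, 1), (true, 3), (false, 45), (false, 40), (true, 0)]),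
  ([4, 5, 6, 2, 3, 4, 5, 1, 3, 4, 2, 3, 0, 2, 1, 3, 4, 5, 6], [121, 163, 123, 131, 141, 136, 20, 223], [(false, 45), (true, 4), (false, 42), (false, 46), (false, 41), (true, 2), (true, 0)]),
  ([4, 5, 6, 0, 2, 3, 4, 5, 1, 3, 4, 2, 3, 0, 2, 1, 3, 4, 5, 6], [121, 135, 123, 131, 141, 164, 13, 230], [(false, 44), (true, 4), (true, 1), (false, 47), (false, 43), (true, 2), (true, 0)]),
  ([3, 4, 5, 6, 2, 3, 4, 5, 1, 3, 4, 2, 3, 0, 2, 1, 3, 4, 5, 6], [121, 164, 123, 126, 142, 135, 20, 224], [(false, 47), (false, 48), (true, 5), (false, 44), (true, 3), (true, 2), (true, 0)]),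
  ([3, 4, 5, 6, 0, 2, 3, 4, 5, 1, 3, 4, 2, 3, 0, 2, 1, 3, 4, 5, 6], [121, 136, 123, 126, 142, 163, 13, 231], [(false, 46), (false, 49), (false, 50), (false, 45), (true, 3), (true, 2), (true, 0)]),
  ([1, 3, 4, 5, 6, 2, 3, 4, 5, 1, 3, 4, 2, 3, 0, 2, 1, 3, 4, 5, 6], [121, 169, 123, 126, 130, 135, 20, 225], [(false, 49), (false, 46), (true, 5), (true, 4), (true, 3), (true, 2), (true, 0)]),
  ([1, 3, 4, 5, 6, 0, 2, 3, 4, 5, 1, 3, 4, 2, 3, 0, 2, 1, 3, 4, 5, 6], [121, 147, 123, 126, 130, 163, 13, 233], [(false, 48), (false, 47), (false, 51), (true, 4), (true, 3), (true, 2), (true, 0)]),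
  ([2, 3, 4, 5, 6, 0, 2, 3, 4, 5, 1, 3, 4, 2, 3, 0, 2, 1, 3, 4, 5, 6], [121, 130, 123, 126, 147, 162, 13, 232], [(true, 5), (false, 51), (false, 47), (true, 1), (true, 3), (true, 2), (true, 0)]),
  ([2, 1, 3, 4, 5, 6, 0, 2, 3, 4, 5, 1, 3, 4, 2, 3, 0, 2, 1, 3, 4, 5, 6], [121, 142, 123, 126, 136, 162, 13, 234], [(true, 5), (false, 50), (false, 49), (false, 52), (true, 3), (true, 2), (true, 0)]),
  ([3, 2, 1, 3, 4, 5, 6, 0, 2, 3, 4, 5, 1, 3, 4, 2, 3, 0, 2, 1, 3, 4, 5, 6], [121, 141, 123, 131, 135, 162, 13, 235], [(true, 5), (true, 1), (true, 4), (false, 51), (false, 53), (true, 2), (true, 0)]),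
  ([4, 3, 2, 1, 3, 4, 5, 6, 0, 2, 3, 4, 5, 1, 3, 4, 2, 3, 0, 2, 1, 3, 4, 5, 6], [121, 141, 127, 130, 135, 162, 13, 236], [(true, 5), (true, 1), (true, 4), (true, 3), (false, 52), (false, 54), (true, 0)]),
  ([5, 4, 3, 2, 1, 3, 4, 5, 6, 0, 2, 3, 4, 5, 1, 3, 4, 2, 3, 0, 2, 1, 3, 4, 5, 6], [124, 141, 126, 130, 135, 162, 13, 237], [(true, 5), (true, 1), (true, 4), (true, 3), (true, 2), (false, 53), (false, 55)]),
  ([6, 5, 4, 3, 2, 1, 3, 4, 5, 6, 0, 2, 3, 4, 5, 1, 3, 4, 2, 3, 0, 2, 1, 3, 4, 5, 6], [123, 141, 126, 130, 135, 162, 13, 238], [(true, 5), (true, 1), (true, 4), (true, 3), (true, 2), (true, 0), (false, 54)])]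

/-- the subset of level 8 -/
def K8 : List ℕ := [0, 1, 2, 3, 4, 5, 6, 7]
/-- the representatives of level 8 -/
def certs8 : List PcEntry := [
  ([], [162, 141, 135, 130, 126, 123, 121, 120], [(true, 0), (true, 1), (true, 2), (true, 3), (true, 4), (true, 5), (true, 6), (false, 1)]),
  ([7], [162, 141, 135, 130, 126, 123, 122, 119], [(true, 0), (true, 1), (true, 2), (true, 3), (true, 4), (true, 5), (false, 2), (false, 0)]),
  ([6, 7], [162, 141, 135, 130, 126, 124, 120, 117], [(true, 0), (true, 1), (true, 2), (true, 3), (true, 4), (false, 3), (false, 1), (true, 6)]),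
  ([5, 6, 7], [162, 141, 135, 130, 127, 121, 120, 114], [(true, 0), (true, 1), (true, 2), (true, 3), (false, 4), (false, 2), (true, 5), (true, 6)]),
  ([4, 5, 6, 7], [162, 141, 135, 131, 123, 121, 120, 110], [(true, 0), (true, 1), (true, 2), (false, 5), (false, 3), (true, 4), (true, 5), (true, 6)]),
  ([3, 4, 5, 6, 7], [162, 142, 136, 126, 123, 121, 120, 105], [(true, 0), (false, 6), (false, 7), (false, 4), (true, 3), (true, 4), (true, 5), (true, 6)]),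
  ([1, 3, 4, 5, 6, 7], [162, 130, 147, 126, 123, 121, 120, 93], [(true, 0), (false, 5), (false, 8), (true, 1), (true, 3), (true, 4), (true, 5), (true, 6)]),
  ([2, 3, 4, 5, 6, 7], [163, 147, 130, 126, 123, 121, 120, 99], [(false, 9), (false, 8), (false, 5), (true, 2), (true, 3), (true, 4), (true, 5), (true, 6)]),
  ([2, 1, 3, 4, 5, 6, 7], [163, 136, 142, 126, 123, 121, 120, 88], [(false, 10), (false, 7), (false, 6), (false, 11), (true, 3), (true, 4), (true, 5), (true, 6)]),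
  ([0, 2, 3, 4, 5, 6, 7], [135, 169, 130, 126, 123, 121, 120, 71], [(false, 7), (false, 10), (true, 0), (true, 2), (true, 3), (true, 4), (true, 5), (true, 6)]),
  ([0, 2, 1, 3, 4, 5, 6, 7], [135, 164, 142, 126, 123, 121, 120, 66], [(false, 8), (false, 9), (true, 0), (false, 12), (true, 3), (true, 4), (true, 5), (true, 6)]),
  ([3, 2, 1, 3, 4, 5, 6, 7], [164, 135, 141, 131, 123, 121, 120, 84], [(false, 12), (true, 2), (true, 1), (false, 8), (false, 13), (true, 4), (true, 5), (true, 6)]),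
  ([3, 0, 2, 1, 3, 4, 5, 6, 7], [136, 163, 141, 131, 123, 121, 120, 62], [(false, 11), (true, 2), (false, 14), (false, 10), (false, 15), (true, 4), (true, 5), (true, 6)]),
  ([4, 3, 2, 1, 3, 4, 5, 6, 7], [165, 135, 141, 130, 127, 121, 120, 81], [(false, 15), (true, 2), (true, 1), (true, 3), (false, 11), (false, 16), (true, 5), (true, 6)]),
  ([2, 3, 0, 2, 1, 3, 4, 5, 6, 7], [130, 162, 141, 137, 123, 121, 120, 52], [(true, 1), (true, 2), (false, 12), (true, 0), (false, 17), (true, 4), (true, 5), (true, 6)]),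
  ([4, 3, 0, 2, 1, 3, 4, 5, 6, 7], [137, 163, 141, 130, 127, 121, 120, 59], [(false, 13), (true, 2), (false, 17), (true, 3), (false, 12), (false, 18), (true, 5), (true, 6)]),
  ([5, 4, 3, 2, 1, 3, 4, 5, 6, 7], [166, 135, 141, 130, 126, 124, 120, 79], [(false, 18), (true, 2), (true, 1), (true, 3), (true, 4), (false, 13), (false, 19), (true, 6)]),
  ([4, 2, 3, 0, 2, 1, 3, 4, 5, 6, 7], [131, 162, 141, 136, 127, 121, 120, 49], [(true, 1), (true, 2), (false, 15), (false, 20), (false, 14), (false, 21), (true, 5), (true, 6)]),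
  ([5, 4, 3, 0, 2, 1, 3, 4, 5, 6, 7], [138, 163, 141, 130, 126, 124, 120, 57], [(false, 16), (true, 2), (false, 21), (true, 3), (true, 4), (false, 15), (false, 22), (true, 6)]),
  ([6, 5, 4, 3, 2, 1, 3, 4, 5, 6, 7], [167, 135, 141, 130, 126, 123, 122, 78], [(false, 22), (true, 2), (true, 1), (true, 3), (true, 4), (true, 5), (false, 16), (false, 23)]),
  ([3, 4, 2, 3, 0, 2, 1, 3, 4, 5, 6, 7], [126, 162, 142, 135, 132, 121, 120, 43], [(true, 1), (false, 24), (true, 3), (false, 17), (true, 0), (false, 25), (true, 5), (true, 6)]),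
  ([5, 4, 2, 3, 0, 2, 1, 3, 4, 5, 6, 7], [132, 162, 141, 136, 126, 124, 120, 47], [(true, 1), (true, 2), (false, 18), (false, 25), (true, 4), (false, 17), (false, 26), (true, 6)]),
  ([6, 5, 4, 3, 0, 2, 1, 3, 4, 5, 6, 7], [139, 163, 141, 130, 126, 123, 122, 56], [(false, 19), (true, 2), (false, 26), (true, 3), (true, 4), (true, 5), (false, 18), (false, 27)]),
  ([7, 6, 5, 4, 3, 2, 1, 3, 4, 5, 6, 7], [168, 135, 141, 130, 126, 123, 121, 78], [(false, 27), (true, 2), (true, 1), (true, 3), (true, 4), (true, 5), (true, 6), (false, 19)]),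
  ([1, 3, 4, 2, 3, 0, 2, 1, 3, 4, 5, 6, 7], [126, 162, 130, 135, 144, 121, 120, 33], [(true, 1), (false, 20), (true, 3), (true, 2), (true, 0), (false, 28), (true, 5), (true, 6)]),
  ([5, 3, 4, 2, 3, 0, 2, 1, 3, 4, 5, 6, 7], [127, 162, 142, 135, 131, 124, 120, 41], [(true, 1), (false, 28), (true, 3), (false, 21), (false, 29), (false, 20), (false, 30), (true, 6)]),
  ([6, 5, 4, 2, 3, 0, 2, 1, 3, 4, 5, 6, 7], [133, 162, 141, 136, 126, 123, 122, 46], [(true, 1), (true, 2), (false, 22), (false, 30), (true, 4), (true, 5), (false, 21), (false, 31)]),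
  ([7, 6, 5, 4, 3, 0, 2, 1, 3, 4, 5, 6, 7], [140, 163, 141, 130, 126, 123, 121, 56], [(false, 23), (true, 2), (false, 31), (true, 3), (true, 4), (true, 5), (true, 6), (false, 22)]),
  ([5, 1, 3, 4, 2, 3, 0, 2, 1, 3, 4, 5, 6, 7], [127, 162, 130, 135, 143, 124, 120, 31], [(true, 1), (false, 25), (true, 3), (true, 2), (false, 32), (false, 24), (false, 33), (true, 6)]),
  ([4, 5, 3, 4, 2, 3, 0, 2, 1, 3, 4, 5, 6, 7], [123, 162, 143, 135, 130, 128, 120, 38], [(true, 1), (false, 32), (true, 3), (true, 4), (false, 25), (true, 0), (false, 34), (true, 6)]),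
  ([6, 5, 3, 4, 2, 3, 0, 2, 1, 3, 4, 5, 6, 7], [128, 162, 142, 135, 131, 123, 122, 40], [(true, 1), (false, 33), (true, 3), (false, 26), (false, 34), (true, 5), (false, 25), (false, 35)]),
  ([7, 6, 5, 4, 2, 3, 0, 2, 1, 3, 4, 5, 6, 7], [134, 162, 141, 136, 126, 123, 121, 46], [(true, 1), (true, 2), (false, 27), (false, 35), (true, 4), (true, 5), (true, 6), (false, 26)]),
  ([4, 5, 1, 3, 4, 2, 3, 0, 2, 1, 3, 4, 5, 6, 7], [123, 162, 131, 135, 142, 128, 120, 28], [(true, 1), (false, 29), (true, 3), (false, 36), (false, 28), (true, 0), (false, 37), (true, 6)]),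
  ([6, 5, 1, 3, 4, 2, 3, 0, 2, 1, 3, 4, 5, 6, 7], [128, 162, 130, 135, 143, 123, 122, 30], [(true, 1), (false, 30), (true, 3), (true, 2), (false, 37), (true, 5), (false, 28), (false, 38)]),
  ([6, 4, 5, 3, 4, 2, 3, 0, 2, 1, 3, 4, 5, 6, 7], [124, 162, 143, 135, 130, 127, 122, 37], [(true, 1), (false, 37), (true, 3), (true, 4), (false, 30), (false, 39), (false, 29), (false, 40)]),
  ([7, 6, 5, 3, 4, 2, 3, 0, 2, 1, 3, 4, 5, 6, 7], [129, 162, 142, 135, 131, 123, 121, 40], [(true, 1), (false, 38), (true, 3), (false, 31), (false, 40), (true, 5), (true, 6), (false, 30)]),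
  ([3, 4, 5, 1, 3, 4, 2, 3, 0, 2, 1, 3, 4, 5, 6, 7], [123, 162, 126, 136, 141, 133, 120, 24], [(true, 1), (true, 4), (false, 41), (false, 32), (true, 2), (true, 0), (false, 42), (true, 6)]),
  ([6, 4, 5, 1, 3, 4, 2, 3, 0, 2, 1, 3, 4, 5, 6, 7], [124, 162, 131, 135, 142, 127, 122, 27], [(true, 1), (false, 34), (true, 3), (false, 42), (false, 33), (false, 43), (false, 32), (false, 44)]),
  ([7, 6, 5, 1, 3, 4, 2, 3, 0, 2, 1, 3, 4, 5, 6, 7], [129, 162, 130, 135, 143, 123, 121, 30], [(true, 1), (false, 35), (true, 3), (true, 2), (false, 44), (true, 5), (true, 6), (false, 33)]),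
  ([5, 6, 4, 5, 3, 4, 2, 3, 0, 2, 1, 3, 4, 5, 6, 7], [121, 162, 144, 135, 130, 126, 125, 36], [(true, 1), (false, 43), (true, 3), (true, 4), (true, 5), (false, 34), (true, 0), (false, 45)]),
  ([7, 6, 4, 5, 3, 4, 2, 3, 0, 2, 1, 3, 4, 5, 6, 7], [125, 162, 143, 135, 130, 127, 121, 37], [(true, 1), (false, 44), (true, 3), (true, 4), (false, 35), (false, 45), (true, 6), (false, 34)]),
  ([2, 3, 4, 5, 1, 3, 4, 2, 3, 0, 2, 1, 3, 4, 5, 6, 7], [123, 163, 126, 130, 141, 139, 120, 19], [(false, 46), (true, 4), (false, 36), (true, 3), (true, 2), (true, 0), (false, 47), (true, 6)]),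
  ([6, 3, 4, 5, 1, 3, 4, 2, 3, 0, 2, 1, 3, 4, 5, 6, 7], [124, 162, 126, 136, 141, 132, 122, 23], [(true, 1), (true, 4), (false, 47), (false, 37), (true, 2), (false, 48), (false, 36), (false, 49)]),
  ([5, 6, 4, 5, 1, 3, 4, 2, 3, 0, 2, 1, 3, 4, 5, 6, 7], [121, 162, 132, 135, 142, 126, 125, 26], [(true, 1), (false, 39), (true, 3), (false, 48), (true, 5), (false, 37), (true, 0), (false, 50)]),
  ([7, 6, 4, 5, 1, 3, 4, 2, 3, 0, 2, 1, 3, 4, 5, 6, 7], [125, 162, 131, 135, 142, 127, 121, 27], [(true, 1), (false, 40), (true, 3), (false, 49), (false, 38), (false, 50), (true, 6), (false, 37)]),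
  ([7, 5, 6, 4, 5, 3, 4, 2, 3, 0, 2, 1, 3, 4, 5, 6, 7], [122, 162, 144, 135, 130, 126, 124, 36], [(true, 1), (false, 50), (true, 3), (true, 4), (true, 5), (false, 40), (false, 51), (false, 39)]),
  ([0, 2, 3, 4, 5, 1, 3, 4, 2, 3, 0, 2, 1, 3, 4, 5, 6, 7], [123, 135, 126, 130, 141, 167, 120, 12], [(false, 41), (true, 4), (true, 1), (true, 3), (true, 2), (true, 0), (false, 52), (true, 6)]),
  ([6, 2, 3, 4, 5, 1, 3, 4, 2, 3, 0, 2, 1, 3, 4, 5, 6, 7], [124, 163, 126, 130, 141, 138, 122, 18], [(false, 52), (true, 4), (false, 42), (true, 3), (true, 2), (false, 53), (false, 41), (false, 54)]),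
  ([5, 6, 3, 4, 5, 1, 3, 4, 2, 3, 0, 2, 1, 3, 4, 5, 6, 7], [121, 162, 127, 136, 141, 131, 125, 22], [(true, 1), (true, 4), (false, 53), (false, 43), (false, 55), (false, 42), (true, 0), (false, 56)]),
  ([7, 6, 3, 4, 5, 1, 3, 4, 2, 3, 0, 2, 1, 3, 4, 5, 6, 7], [125, 162, 126, 136, 141, 132, 121, 23], [(true, 1), (true, 4), (false, 54), (false, 44), (true, 2), (false, 56), (true, 6), (false, 42)]),
  ([7, 5, 6, 4, 5, 1, 3, 4, 2, 3, 0, 2, 1, 3, 4, 5, 6, 7], [122, 162, 132, 135, 142, 126, 124, 26], [(true, 1), (false, 45), (true, 3), (false, 56), (true, 5), (false, 44), (false, 57), (false, 43)]),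
  ([6, 7, 5, 6, 4, 5, 3, 4, 2, 3, 0, 2, 1, 3, 4, 5, 6, 7], [120, 162, 145, 135, 130, 126, 123, 36], [(true, 1), (false, 57), (true, 3), (true, 4), (true, 5), (true, 6), (false, 45), (true, 0)]),
  ([6, 0, 2, 3, 4, 5, 1, 3, 4, 2, 3, 0, 2, 1, 3, 4, 5, 6, 7], [124, 135, 126, 130, 141, 166, 122, 11], [(false, 47), (true, 4), (true, 1), (true, 3), (true, 2), (false, 58), (false, 46), (false, 59)]),
  ([5, 6, 2, 3, 4, 5, 1, 3, 4, 2, 3, 0, 2, 1, 3, 4, 5, 6, 7], [121, 163, 127, 130, 141, 137, 125, 17], [(false, 58), (true, 4), (false, 48), (true, 3), (false, 60), (false, 47), (true, 0), (false, 61)]),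
  ([7, 6, 2, 3, 4, 5, 1, 3, 4, 2, 3, 0, 2, 1, 3, 4, 5, 6, 7], [125, 163, 126, 130, 141, 138, 121, 18], [(false, 59), (true, 4), (false, 49), (true, 3), (true, 2), (false, 61), (true, 6), (false, 47)]),
  ([4, 5, 6, 3, 4, 5, 1, 3, 4, 2, 3, 0, 2, 1, 3, 4, 5, 6, 7], [121, 162, 123, 137, 141, 130, 129, 21], [(true, 1), (true, 4), (false, 60), (true, 5), (false, 48), (true, 2), (true, 0), (false, 62)]),
  ([7, 5, 6, 3, 4, 5, 1, 3, 4, 2, 3, 0, 2, 1, 3, 4, 5, 6, 7], [122, 162, 127, 136, 141, 131, 124, 22], [(true, 1), (true, 4), (false, 61), (false, 50), (false, 62), (false, 49), (false, 63), (false, 48)]),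
  ([6, 7, 5, 6, 4, 5, 1, 3, 4, 2, 3, 0, 2, 1, 3, 4, 5, 6, 7], [120, 162, 133, 135, 142, 126, 123, 26], [(true, 1), (false, 51), (true, 3), (false, 63), (true, 5), (true, 6), (false, 50), (true, 0)]),
  ([5, 6, 0, 2, 3, 4, 5, 1, 3, 4, 2, 3, 0, 2, 1, 3, 4, 5, 6, 7], [121, 135, 127, 130, 141, 165, 125, 10], [(false, 53), (true, 4), (true, 1), (true, 3), (false, 64), (false, 52), (true, 0), (false, 65)]),
  ([7, 6, 0, 2, 3, 4, 5, 1, 3, 4, 2, 3, 0, 2, 1, 3, 4, 5, 6, 7], [125, 135, 126, 130, 141, 166, 121, 11], [(false, 54), (true, 4), (true, 1), (true, 3), (true, 2), (false, 65), (true, 6), (false, 52)]),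
  ([4, 5, 6, 2, 3, 4, 5, 1, 3, 4, 2, 3, 0, 2, 1, 3, 4, 5, 6, 7], [121, 163, 123, 131, 141, 136, 129, 16], [(false, 64), (true, 4), (false, 55), (false, 66), (false, 53), (true, 2), (true, 0), (false, 67)]),
  ([7, 5, 6, 2, 3, 4, 5, 1, 3, 4, 2, 3, 0, 2, 1, 3, 4, 5, 6, 7], [122, 163, 127, 130, 141, 137, 124, 17], [(false, 65), (true, 4), (false, 56), (true, 3), (false, 67), (false, 54), (false, 68), (false, 53)]),
  ([7, 4, 5, 6, 3, 4, 5, 1, 3, 4, 2, 3, 0, 2, 1, 3, 4, 5, 6, 7], [122, 162, 123, 137, 141, 130, 128, 21], [(true, 1), (true, 4), (false, 67), (true, 5), (false, 56), (true, 2), (false, 69), (false, 55)]),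
  ([6, 7, 5, 6, 3, 4, 5, 1, 3, 4, 2, 3, 0, 2, 1, 3, 4, 5, 6, 7], [120, 162, 128, 136, 141, 131, 123, 22], [(true, 1), (true, 4), (false, 68), (false, 57), (false, 69), (true, 6), (false, 56), (true, 0)]),
  ([4, 5, 6, 0, 2, 3, 4, 5, 1, 3, 4, 2, 3, 0, 2, 1, 3, 4, 5, 6, 7], [121, 135, 123, 131, 141, 164, 129, 9], [(false, 60), (true, 4), (true, 1), (false, 70), (false, 58), (true, 2), (true, 0), (false, 71)]),
  ([7, 5, 6, 0, 2, 3, 4, 5, 1, 3, 4, 2, 3, 0, 2, 1, 3, 4, 5, 6, 7], [122, 135, 127, 130, 141, 165, 124, 10], [(false, 61), (true, 4), (true, 1), (true, 3), (false, 71), (false, 59), (false, 72), (false, 58)]),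
  ([3, 4, 5, 6, 2, 3, 4, 5, 1, 3, 4, 2, 3, 0, 2, 1, 3, 4, 5, 6, 7], [121, 164, 123, 126, 142, 135, 134, 15], [(false, 70), (false, 73), (true, 5), (false, 60), (true, 3), (true, 2), (true, 0), (false, 74)]),
  ([7, 4, 5, 6, 2, 3, 4, 5, 1, 3, 4, 2, 3, 0, 2, 1, 3, 4, 5, 6, 7], [122, 163, 123, 131, 141, 136, 128, 16], [(false, 71), (true, 4), (false, 62), (false, 74), (false, 61), (true, 2), (false, 75), (false, 60)]),
  ([6, 7, 5, 6, 2, 3, 4, 5, 1, 3, 4, 2, 3, 0, 2, 1, 3, 4, 5, 6, 7], [120, 163, 128, 130, 141, 137, 123, 17], [(false, 72), (true, 4), (false, 63), (true, 3), (false, 75), (true, 6), (false, 61), (true, 0)]),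
  ([6, 7, 4, 5, 6, 3, 4, 5, 1, 3, 4, 2, 3, 0, 2, 1, 3, 4, 5, 6, 7], [120, 162, 124, 137, 141, 130, 127, 21], [(true, 1), (true, 4), (false, 75), (true, 5), (false, 63), (false, 76), (false, 62), (true, 0)]),
  ([3, 4, 5, 6, 0, 2, 3, 4, 5, 1, 3, 4, 2, 3, 0, 2, 1, 3, 4, 5, 6, 7], [121, 136, 123, 126, 142, 163, 134, 8], [(false, 66), (false, 77), (false, 78), (false, 64), (true, 3), (true, 2), (true, 0), (false, 79)]),
  ([7, 4, 5, 6, 0, 2, 3, 4, 5, 1, 3, 4, 2, 3, 0, 2, 1, 3, 4, 5, 6, 7], [122, 135, 123, 131, 141, 164, 128, 9], [(false, 67), (true, 4), (true, 1), (false, 79), (false, 65), (true, 2), (false, 80), (false, 64)]),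
  ([6, 7, 5, 6, 0, 2, 3, 4, 5, 1, 3, 4, 2, 3, 0, 2, 1, 3, 4, 5, 6, 7], [120, 135, 128, 130, 141, 165, 123, 10], [(false, 68), (true, 4), (true, 1), (true, 3), (false, 80), (true, 6), (false, 65), (true, 0)]),
  ([1, 3, 4, 5, 6, 2, 3, 4, 5, 1, 3, 4, 2, 3, 0, 2, 1, 3, 4, 5, 6, 7], [121, 169, 123, 126, 130, 135, 146, 14], [(false, 77), (false, 66), (true, 5), (true, 4), (true, 3), (true, 2), (true, 0), (false, 81)]),
  ([7, 3, 4, 5, 6, 2, 3, 4, 5, 1, 3, 4, 2, 3, 0, 2, 1, 3, 4, 5, 6, 7], [122, 164, 123, 126, 142, 135, 133, 15], [(false, 79), (false, 81), (true, 5), (false, 67), (true, 3), (true, 2), (false, 82), (false, 66)]),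
  ([6, 7, 4, 5, 6, 2, 3, 4, 5, 1, 3, 4, 2, 3, 0, 2, 1, 3, 4, 5, 6, 7], [120, 163, 124, 131, 141, 136, 127, 16], [(false, 80), (true, 4), (false, 69), (false, 82), (false, 68), (false, 83), (false, 67), (true, 0)]),
  ([5, 6, 7, 4, 5, 6, 3, 4, 5, 1, 3, 4, 2, 3, 0, 2, 1, 3, 4, 5, 6, 7], [120, 162, 121, 138, 141, 130, 126, 21], [(true, 1), (true, 4), (false, 83), (true, 5), (true, 6), (false, 69), (true, 2), (true, 0)]),
  ([1, 3, 4, 5, 6, 0, 2, 3, 4, 5, 1, 3, 4, 2, 3, 0, 2, 1, 3, 4, 5, 6, 7], [121, 147, 123, 126, 130, 163, 146, 6], [(false, 73), (false, 70), (false, 84), (true, 4), (true, 3), (true, 2), (true, 0), (false, 85)]),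
  ([2, 3, 4, 5, 6, 0, 2, 3, 4, 5, 1, 3, 4, 2, 3, 0, 2, 1, 3, 4, 5, 6, 7], [121, 130, 123, 126, 147, 162, 140, 7], [(true, 5), (false, 84), (false, 70), (true, 1), (true, 3), (true, 2), (true, 0), (false, 86)]),
  ([7, 3, 4, 5, 6, 0, 2, 3, 4, 5, 1, 3, 4, 2, 3, 0, 2, 1, 3, 4, 5, 6, 7], [122, 136, 123, 126, 142, 163, 133, 8], [(false, 74), (false, 85), (false, 86), (false, 71), (true, 3), (true, 2), (false, 87), (false, 70)]),
  ([6, 7, 4, 5, 6, 0, 2, 3, 4, 5, 1, 3, 4, 2, 3, 0, 2, 1, 3, 4, 5, 6, 7], [120, 135, 124, 131, 141, 164, 127, 9], [(false, 75), (true, 4), (true, 1), (false, 87), (false, 72), (false, 88), (false, 71), (true, 0)]),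
  ([7, 1, 3, 4, 5, 6, 2, 3, 4, 5, 1, 3, 4, 2, 3, 0, 2, 1, 3, 4, 5, 6, 7], [122, 169, 123, 126, 130, 135, 145, 14], [(false, 85), (false, 74), (true, 5), (true, 4), (true, 3), (true, 2), (false, 89), (false, 73)]),
  ([6, 7, 3, 4, 5, 6, 2, 3, 4, 5, 1, 3, 4, 2, 3, 0, 2, 1, 3, 4, 5, 6, 7], [120, 164, 124, 126, 142, 135, 132, 15], [(false, 87), (false, 89), (true, 5), (false, 75), (true, 3), (false, 90), (false, 74), (true, 0)]),
  ([5, 6, 7, 4, 5, 6, 2, 3, 4, 5, 1, 3, 4, 2, 3, 0, 2, 1, 3, 4, 5, 6, 7], [120, 163, 121, 132, 141, 136, 126, 16], [(false, 88), (true, 4), (false, 76), (false, 90), (true, 6), (false, 75), (true, 2), (true, 0)]),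
  ([2, 1, 3, 4, 5, 6, 0, 2, 3, 4, 5, 1, 3, 4, 2, 3, 0, 2, 1, 3, 4, 5, 6, 7], [121, 142, 123, 126, 136, 162, 151, 5], [(true, 5), (false, 78), (false, 77), (false, 91), (true, 3), (true, 2), (true, 0), (false, 92)]),
  ([7, 1, 3, 4, 5, 6, 0, 2, 3, 4, 5, 1, 3, 4, 2, 3, 0, 2, 1, 3, 4, 5, 6, 7], [122, 147, 123, 126, 130, 163, 145, 6], [(false, 81), (false, 79), (false, 92), (true, 4), (true, 3), (true, 2), (false, 93), (false, 77)]),
  ([7, 2, 3, 4, 5, 6, 0, 2, 3, 4, 5, 1, 3, 4, 2, 3, 0, 2, 1, 3, 4, 5, 6, 7], [122, 130, 123, 126, 147, 162, 139, 7], [(true, 5), (false, 92), (false, 79), (true, 1), (true, 3), (true, 2), (false, 94), (false, 78)]),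
  ([6, 7, 3, 4, 5, 6, 0, 2, 3, 4, 5, 1, 3, 4, 2, 3, 0, 2, 1, 3, 4, 5, 6, 7], [120, 136, 124, 126, 142, 163, 132, 8], [(false, 82), (false, 93), (false, 94), (false, 80), (true, 3), (false, 95), (false, 79), (true, 0)]),
  ([5, 6, 7, 4, 5, 6, 0, 2, 3, 4, 5, 1, 3, 4, 2, 3, 0, 2, 1, 3, 4, 5, 6, 7], [120, 135, 121, 132, 141, 164, 126, 9], [(false, 83), (true, 4), (true, 1), (false, 95), (true, 6), (false, 80), (true, 2), (true, 0)]),
  ([6, 7, 1, 3, 4, 5, 6, 2, 3, 4, 5, 1, 3, 4, 2, 3, 0, 2, 1, 3, 4, 5, 6, 7], [120, 169, 124, 126, 130, 135, 144, 14], [(false, 93), (false, 82), (true, 5), (true, 4), (true, 3), (false, 96), (false, 81), (true, 0)]),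
  ([5, 6, 7, 3, 4, 5, 6, 2, 3, 4, 5, 1, 3, 4, 2, 3, 0, 2, 1, 3, 4, 5, 6, 7], [120, 164, 121, 127, 142, 135, 131, 15], [(false, 95), (false, 96), (true, 5), (false, 83), (false, 97), (false, 82), (true, 2), (true, 0)]),
  ([3, 2, 1, 3, 4, 5, 6, 0, 2, 3, 4, 5, 1, 3, 4, 2, 3, 0, 2, 1, 3, 4, 5, 6, 7], [121, 141, 123, 131, 135, 162, 155, 4], [(true, 5), (true, 1), (true, 4), (false, 84), (false, 98), (true, 2), (true, 0), (false, 99)]),
  ([7, 2, 1, 3, 4, 5, 6, 0, 2, 3, 4, 5, 1, 3, 4, 2, 3, 0, 2, 1, 3, 4, 5, 6, 7], [122, 142, 123, 126, 136, 162, 150, 5], [(true, 5), (false, 86), (false, 85), (false, 99), (true, 3), (true, 2), (false, 100), (false, 84)]),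
  ([6, 7, 1, 3, 4, 5, 6, 0, 2, 3, 4, 5, 1, 3, 4, 2, 3, 0, 2, 1, 3, 4, 5, 6, 7], [120, 147, 124, 126, 130, 163, 144, 6], [(false, 89), (false, 87), (false, 100), (true, 4), (true, 3), (false, 101), (false, 85), (true, 0)]),
  ([6, 7, 2, 3, 4, 5, 6, 0, 2, 3, 4, 5, 1, 3, 4, 2, 3, 0, 2, 1, 3, 4, 5, 6, 7], [120, 130, 124, 126, 147, 162, 138, 7], [(true, 5), (false, 100), (false, 87), (true, 1), (true, 3), (false, 102), (false, 86), (true, 0)]),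
  ([5, 6, 7, 3, 4, 5, 6, 0, 2, 3, 4, 5, 1, 3, 4, 2, 3, 0, 2, 1, 3, 4, 5, 6, 7], [120, 136, 121, 127, 142, 163, 131, 8], [(false, 90), (false, 101), (false, 102), (false, 88), (false, 103), (false, 87), (true, 2), (true, 0)]),
  ([5, 6, 7, 1, 3, 4, 5, 6, 2, 3, 4, 5, 1, 3, 4, 2, 3, 0, 2, 1, 3, 4, 5, 6, 7], [120, 169, 121, 127, 130, 135, 143, 14], [(false, 101), (false, 90), (true, 5), (true, 4), (false, 104), (false, 89), (true, 2), (true, 0)]),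
  ([4, 5, 6, 7, 3, 4, 5, 6, 2, 3, 4, 5, 1, 3, 4, 2, 3, 0, 2, 1, 3, 4, 5, 6, 7], [120, 165, 121, 123, 143, 135, 130, 15], [(false, 103), (false, 104), (true, 5), (true, 6), (false, 90), (true, 3), (true, 2), (true, 0)]),
  ([4, 3, 2, 1, 3, 4, 5, 6, 0, 2, 3, 4, 5, 1, 3, 4, 2, 3, 0, 2, 1, 3, 4, 5, 6, 7], [121, 141, 127, 130, 135, 162, 158, 3], [(true, 5), (true, 1), (true, 4), (true, 3), (false, 91), (false, 105), (true, 0), (false, 106)]),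
  ([7, 3, 2, 1, 3, 4, 5, 6, 0, 2, 3, 4, 5, 1, 3, 4, 2, 3, 0, 2, 1, 3, 4, 5, 6, 7], [122, 141, 123, 131, 135, 162, 154, 4], [(true, 5), (true, 1), (true, 4), (false, 92), (false, 106), (true, 2), (false, 107), (false, 91)]),
  ([6, 7, 2, 1, 3, 4, 5, 6, 0, 2, 3, 4, 5, 1, 3, 4, 2, 3, 0, 2, 1, 3, 4, 5, 6, 7], [120, 142, 124, 126, 136, 162, 149, 5], [(true, 5), (false, 94), (false, 93), (false, 107), (true, 3), (false, 108), (false, 92), (true, 0)]),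
  ([5, 6, 7, 1, 3, 4, 5, 6, 0, 2, 3, 4, 5, 1, 3, 4, 2, 3, 0, 2, 1, 3, 4, 5, 6, 7], [120, 147, 121, 127, 130, 163, 143, 6], [(false, 96), (false, 95), (false, 108), (true, 4), (false, 109), (false, 93), (true, 2), (true, 0)]),
  ([5, 6, 7, 2, 3, 4, 5, 6, 0, 2, 3, 4, 5, 1, 3, 4, 2, 3, 0, 2, 1, 3, 4, 5, 6, 7], [120, 130, 121, 127, 147, 162, 137, 7], [(true, 5), (false, 108), (false, 95), (true, 1), (false, 110), (false, 94), (true, 2), (true, 0)]),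
  ([4, 5, 6, 7, 3, 4, 5, 6, 0, 2, 3, 4, 5, 1, 3, 4, 2, 3, 0, 2, 1, 3, 4, 5, 6, 7], [120, 137, 121, 123, 143, 163, 130, 8], [(false, 97), (false, 109), (false, 110), (true, 6), (false, 95), (true, 3), (true, 2), (true, 0)]),
  ([4, 5, 6, 7, 1, 3, 4, 5, 6, 2, 3, 4, 5, 1, 3, 4, 2, 3, 0, 2, 1, 3, 4, 5, 6, 7], [120, 170, 121, 123, 131, 135, 142, 14], [(false, 109), (false, 97), (true, 5), (false, 111), (false, 96), (true, 3), (true, 2), (true, 0)]),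
  ([5, 4, 3, 2, 1, 3, 4, 5, 6, 0, 2, 3, 4, 5, 1, 3, 4, 2, 3, 0, 2, 1, 3, 4, 5, 6, 7], [124, 141, 126, 130, 135, 162, 160, 2], [(true, 5), (true, 1), (true, 4), (true, 3), (true, 2), (false, 98), (false, 112), (false, 113)]),
  ([7, 4, 3, 2, 1, 3, 4, 5, 6, 0, 2, 3, 4, 5, 1, 3, 4, 2, 3, 0, 2, 1, 3, 4, 5, 6, 7], [122, 141, 127, 130, 135, 162, 157, 3], [(true, 5), (true, 1), (true, 4), (true, 3), (false, 99), (false, 113), (false, 114), (false, 98)]),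
  ([6, 7, 3, 2, 1, 3, 4, 5, 6, 0, 2, 3, 4, 5, 1, 3, 4, 2, 3, 0, 2, 1, 3, 4, 5, 6, 7], [120, 141, 124, 131, 135, 162, 153, 4], [(true, 5), (true, 1), (true, 4), (false, 100), (false, 114), (false, 115), (false, 99), (true, 0)]),
  ([5, 6, 7, 2, 1, 3, 4, 5, 6, 0, 2, 3, 4, 5, 1, 3, 4, 2, 3, 0, 2, 1, 3, 4, 5, 6, 7], [120, 142, 121, 127, 136, 162, 148, 5], [(true, 5), (false, 102), (false, 101), (false, 115), (false, 116), (false, 100), (true, 2), (true, 0)]),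
  ([4, 5, 6, 7, 1, 3, 4, 5, 6, 0, 2, 3, 4, 5, 1, 3, 4, 2, 3, 0, 2, 1, 3, 4, 5, 6, 7], [120, 148, 121, 123, 131, 163, 142, 6], [(false, 104), (false, 103), (false, 116), (false, 117), (false, 101), (true, 3), (true, 2), (true, 0)]),
  ([4, 5, 6, 7, 2, 3, 4, 5, 6, 0, 2, 3, 4, 5, 1, 3, 4, 2, 3, 0, 2, 1, 3, 4, 5, 6, 7], [120, 131, 121, 123, 148, 162, 136, 7], [(true, 5), (false, 116), (false, 103), (false, 118), (false, 102), (true, 3), (true, 2), (true, 0)]),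
  ([3, 4, 5, 6, 7, 1, 3, 4, 5, 6, 2, 3, 4, 5, 1, 3, 4, 2, 3, 0, 2, 1, 3, 4, 5, 6, 7], [120, 174, 121, 123, 126, 136, 141, 14], [(false, 117), (true, 6), (false, 119), (false, 104), (true, 4), (true, 3), (true, 2), (true, 0)]),
  ([6, 5, 4, 3, 2, 1, 3, 4, 5, 6, 0, 2, 3, 4, 5, 1, 3, 4, 2, 3, 0, 2, 1, 3, 4, 5, 6, 7], [123, 141, 126, 130, 135, 162, 161, 1], [(true, 5), (true, 1), (true, 4), (true, 3), (true, 2), (true, 0), (false, 105), (false, 120)]),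
  ([7, 5, 4, 3, 2, 1, 3, 4, 5, 6, 0, 2, 3, 4, 5, 1, 3, 4, 2, 3, 0, 2, 1, 3, 4, 5, 6, 7], [125, 141, 126, 130, 135, 162, 159, 2], [(true, 5), (true, 1), (true, 4), (true, 3), (true, 2), (false, 106), (false, 121), (false, 105)]),
  ([6, 7, 4, 3, 2, 1, 3, 4, 5, 6, 0, 2, 3, 4, 5, 1, 3, 4, 2, 3, 0, 2, 1, 3, 4, 5, 6, 7], [120, 141, 128, 130, 135, 162, 156, 3], [(true, 5), (true, 1), (true, 4), (true, 3), (false, 107), (false, 122), (false, 106), (true, 0)]),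
  ([5, 6, 7, 3, 2, 1, 3, 4, 5, 6, 0, 2, 3, 4, 5, 1, 3, 4, 2, 3, 0, 2, 1, 3, 4, 5, 6, 7], [120, 141, 121, 132, 135, 162, 152, 4], [(true, 5), (true, 1), (true, 4), (false, 108), (false, 123), (false, 107), (true, 2), (true, 0)]),
  ([4, 5, 6, 7, 2, 1, 3, 4, 5, 6, 0, 2, 3, 4, 5, 1, 3, 4, 2, 3, 0, 2, 1, 3, 4, 5, 6, 7], [120, 143, 121, 123, 137, 162, 147, 5], [(true, 5), (false, 110), (false, 109), (false, 124), (false, 108), (true, 3), (true, 2), (true, 0)]),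
  ([3, 4, 5, 6, 7, 1, 3, 4, 5, 6, 0, 2, 3, 4, 5, 1, 3, 4, 2, 3, 0, 2, 1, 3, 4, 5, 6, 7], [120, 152, 121, 123, 126, 164, 141, 6], [(false, 111), (true, 6), (false, 125), (false, 109), (true, 4), (true, 3), (true, 2), (true, 0)]),
  ([3, 4, 5, 6, 7, 2, 3, 4, 5, 6, 0, 2, 3, 4, 5, 1, 3, 4, 2, 3, 0, 2, 1, 3, 4, 5, 6, 7], [120, 126, 121, 123, 152, 162, 135, 7], [(true, 5), (false, 126), (true, 6), (false, 110), (true, 1), (true, 3), (true, 2), (true, 0)]),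
  ([2, 3, 4, 5, 6, 7, 1, 3, 4, 5, 6, 2, 3, 4, 5, 1, 3, 4, 2, 3, 0, 2, 1, 3, 4, 5, 6, 7], [120, 184, 121, 123, 126, 130, 141, 14], [(false, 127), (true, 6), (false, 111), (true, 5), (true, 4), (true, 3), (true, 2), (true, 0)]),
  ([7, 6, 5, 4, 3, 2, 1, 3, 4, 5, 6, 0, 2, 3, 4, 5, 1, 3, 4, 2, 3, 0, 2, 1, 3, 4, 5, 6, 7], [123, 141, 126, 130, 135, 162, 161, 0], [(true, 5), (true, 1), (true, 4), (true, 3), (true, 2), (true, 0), (false, 128), (false, 112)]),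
  ([6, 7, 5, 4, 3, 2, 1, 3, 4, 5, 6, 0, 2, 3, 4, 5, 1, 3, 4, 2, 3, 0, 2, 1, 3, 4, 5, 6, 7], [125, 141, 126, 130, 135, 162, 159, 1], [(true, 5), (true, 1), (true, 4), (true, 3), (true, 2), (false, 129), (false, 113), (false, 128)]),
  ([5, 6, 7, 4, 3, 2, 1, 3, 4, 5, 6, 0, 2, 3, 4, 5, 1, 3, 4, 2, 3, 0, 2, 1, 3, 4, 5, 6, 7], [120, 141, 128, 130, 135, 162, 156, 2], [(true, 5), (true, 1), (true, 4), (true, 3), (false, 130), (false, 114), (false, 129), (true, 0)]),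
  ([4, 5, 6, 7, 3, 2, 1, 3, 4, 5, 6, 0, 2, 3, 4, 5, 1, 3, 4, 2, 3, 0, 2, 1, 3, 4, 5, 6, 7], [120, 141, 121, 132, 135, 162, 152, 3], [(true, 5), (true, 1), (true, 4), (false, 131), (false, 115), (false, 130), (true, 2), (true, 0)]),
  ([3, 4, 5, 6, 7, 2, 1, 3, 4, 5, 6, 0, 2, 3, 4, 5, 1, 3, 4, 2, 3, 0, 2, 1, 3, 4, 5, 6, 7], [120, 143, 121, 123, 137, 162, 147, 4], [(true, 5), (false, 132), (false, 133), (false, 116), (false, 131), (true, 3), (true, 2), (true, 0)]),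
  ([2, 3, 4, 5, 6, 7, 1, 3, 4, 5, 6, 0, 2, 3, 4, 5, 1, 3, 4, 2, 3, 0, 2, 1, 3, 4, 5, 6, 7], [120, 152, 121, 123, 126, 164, 141, 5], [(false, 134), (true, 6), (false, 117), (false, 133), (true, 4), (true, 3), (true, 2), (true, 0)]),
  ([1, 3, 4, 5, 6, 7, 2, 3, 4, 5, 6, 0, 2, 3, 4, 5, 1, 3, 4, 2, 3, 0, 2, 1, 3, 4, 5, 6, 7], [120, 126, 121, 123, 152, 162, 135, 5], [(true, 5), (false, 118), (true, 6), (false, 132), (true, 1), (true, 3), (true, 2), (true, 0)]),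
  ([0, 2, 3, 4, 5, 6, 7, 1, 3, 4, 5, 6, 2, 3, 4, 5, 1, 3, 4, 2, 3, 0, 2, 1, 3, 4, 5, 6, 7], [120, 184, 121, 123, 126, 130, 141, 6], [(false, 119), (true, 6), (false, 134), (true, 5), (true, 4), (true, 3), (true, 2), (true, 0)]),
  ([6, 7, 6, 5, 4, 3, 2, 1, 3, 4, 5, 6, 0, 2, 3, 4, 5, 1, 3, 4, 2, 3, 0, 2, 1, 3, 4, 5, 6, 7], [124, 141, 126, 130, 135, 162, 160, 0], [(true, 5), (true, 1), (true, 4), (true, 3), (true, 2), (false, 135), (false, 120), (false, 121)]),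
  ([5, 6, 7, 5, 4, 3, 2, 1, 3, 4, 5, 6, 0, 2, 3, 4, 5, 1, 3, 4, 2, 3, 0, 2, 1, 3, 4, 5, 6, 7], [122, 141, 127, 130, 135, 162, 157, 1], [(true, 5), (true, 1), (true, 4), (true, 3), (false, 136), (false, 121), (false, 122), (false, 135)]),
  ([4, 5, 6, 7, 4, 3, 2, 1, 3, 4, 5, 6, 0, 2, 3, 4, 5, 1, 3, 4, 2, 3, 0, 2, 1, 3, 4, 5, 6, 7], [120, 141, 124, 131, 135, 162, 153, 2], [(true, 5), (true, 1), (true, 4), (false, 137), (false, 122), (false, 123), (false, 136), (true, 0)]),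
  ([3, 4, 5, 6, 7, 3, 2, 1, 3, 4, 5, 6, 0, 2, 3, 4, 5, 1, 3, 4, 2, 3, 0, 2, 1, 3, 4, 5, 6, 7], [120, 142, 121, 127, 136, 162, 148, 3], [(true, 5), (false, 138), (false, 139), (false, 123), (false, 124), (false, 137), (true, 2), (true, 0)]),
  ([1, 3, 4, 5, 6, 7, 2, 1, 3, 4, 5, 6, 0, 2, 3, 4, 5, 1, 3, 4, 2, 3, 0, 2, 1, 3, 4, 5, 6, 7], [120, 131, 121, 123, 148, 162, 136, 4], [(true, 5), (false, 124), (false, 140), (false, 126), (false, 138), (true, 3), (true, 2), (true, 0)]),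
  ([2, 3, 4, 5, 6, 7, 2, 1, 3, 4, 5, 6, 0, 2, 3, 4, 5, 1, 3, 4, 2, 3, 0, 2, 1, 3, 4, 5, 6, 7], [120, 148, 121, 123, 131, 163, 142, 4], [(false, 141), (false, 140), (false, 124), (false, 125), (false, 139), (true, 3), (true, 2), (true, 0)]),
  ([0, 2, 3, 4, 5, 6, 7, 1, 3, 4, 5, 6, 0, 2, 3, 4, 5, 1, 3, 4, 2, 3, 0, 2, 1, 3, 4, 5, 6, 7], [120, 174, 121, 123, 126, 136, 141, 5], [(false, 125), (true, 6), (false, 127), (false, 141), (true, 4), (true, 3), (true, 2), (true, 0)]),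
  ([5, 6, 7, 6, 5, 4, 3, 2, 1, 3, 4, 5, 6, 0, 2, 3, 4, 5, 1, 3, 4, 2, 3, 0, 2, 1, 3, 4, 5, 6, 7], [121, 141, 127, 130, 135, 162, 158, 0], [(true, 5), (true, 1), (true, 4), (true, 3), (false, 142), (false, 128), (true, 0), (false, 129)]),
  ([4, 5, 6, 7, 5, 4, 3, 2, 1, 3, 4, 5, 6, 0, 2, 3, 4, 5, 1, 3, 4, 2, 3, 0, 2, 1, 3, 4, 5, 6, 7], [122, 141, 123, 131, 135, 162, 154, 1], [(true, 5), (true, 1), (true, 4), (false, 143), (false, 129), (true, 2), (false, 130), (false, 142)]),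
  ([3, 4, 5, 6, 7, 4, 3, 2, 1, 3, 4, 5, 6, 0, 2, 3, 4, 5, 1, 3, 4, 2, 3, 0, 2, 1, 3, 4, 5, 6, 7], [120, 142, 124, 126, 136, 162, 149, 2], [(true, 5), (false, 144), (false, 145), (false, 130), (true, 3), (false, 131), (false, 143), (true, 0)]),
  ([1, 3, 4, 5, 6, 7, 3, 2, 1, 3, 4, 5, 6, 0, 2, 3, 4, 5, 1, 3, 4, 2, 3, 0, 2, 1, 3, 4, 5, 6, 7], [120, 130, 121, 127, 147, 162, 137, 3], [(true, 5), (false, 131), (false, 146), (true, 1), (false, 132), (false, 144), (true, 2), (true, 0)]),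
  ([2, 3, 4, 5, 6, 7, 3, 2, 1, 3, 4, 5, 6, 0, 2, 3, 4, 5, 1, 3, 4, 2, 3, 0, 2, 1, 3, 4, 5, 6, 7], [120, 147, 121, 127, 130, 163, 143, 3], [(false, 147), (false, 146), (false, 131), (true, 4), (false, 133), (false, 145), (true, 2), (true, 0)]),
  ([2, 1, 3, 4, 5, 6, 7, 2, 1, 3, 4, 5, 6, 0, 2, 3, 4, 5, 1, 3, 4, 2, 3, 0, 2, 1, 3, 4, 5, 6, 7], [120, 137, 121, 123, 143, 163, 130, 4], [(false, 148), (false, 133), (false, 132), (true, 6), (false, 146), (true, 3), (true, 2), (true, 0)]),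
  ([0, 2, 3, 4, 5, 6, 7, 2, 1, 3, 4, 5, 6, 0, 2, 3, 4, 5, 1, 3, 4, 2, 3, 0, 2, 1, 3, 4, 5, 6, 7], [120, 170, 121, 123, 131, 135, 142, 4], [(false, 133), (false, 148), (true, 5), (false, 134), (false, 147), (true, 3), (true, 2), (true, 0)]),
  ([4, 5, 6, 7, 6, 5, 4, 3, 2, 1, 3, 4, 5, 6, 0, 2, 3, 4, 5, 1, 3, 4, 2, 3, 0, 2, 1, 3, 4, 5, 6, 7], [121, 141, 123, 131, 135, 162, 155, 0], [(true, 5), (true, 1), (true, 4), (false, 149), (false, 135), (true, 2), (true, 0), (false, 136)]),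
  ([3, 4, 5, 6, 7, 5, 4, 3, 2, 1, 3, 4, 5, 6, 0, 2, 3, 4, 5, 1, 3, 4, 2, 3, 0, 2, 1, 3, 4, 5, 6, 7], [122, 142, 123, 126, 136, 162, 150, 1], [(true, 5), (false, 150), (false, 151), (false, 136), (true, 3), (true, 2), (false, 137), (false, 149)]),
  ([1, 3, 4, 5, 6, 7, 4, 3, 2, 1, 3, 4, 5, 6, 0, 2, 3, 4, 5, 1, 3, 4, 2, 3, 0, 2, 1, 3, 4, 5, 6, 7], [120, 130, 124, 126, 147, 162, 138, 2], [(true, 5), (false, 137), (false, 152), (true, 1), (true, 3), (false, 138), (false, 150), (true, 0)]),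
  ([2, 3, 4, 5, 6, 7, 4, 3, 2, 1, 3, 4, 5, 6, 0, 2, 3, 4, 5, 1, 3, 4, 2, 3, 0, 2, 1, 3, 4, 5, 6, 7], [120, 147, 124, 126, 130, 163, 144, 2], [(false, 153), (false, 152), (false, 137), (true, 4), (true, 3), (false, 139), (false, 151), (true, 0)]),
  ([2, 1, 3, 4, 5, 6, 7, 3, 2, 1, 3, 4, 5, 6, 0, 2, 3, 4, 5, 1, 3, 4, 2, 3, 0, 2, 1, 3, 4, 5, 6, 7], [120, 136, 121, 127, 142, 163, 131, 3], [(false, 154), (false, 139), (false, 138), (false, 155), (false, 140), (false, 152), (true, 2), (true, 0)]),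
  ([0, 2, 3, 4, 5, 6, 7, 3, 2, 1, 3, 4, 5, 6, 0, 2, 3, 4, 5, 1, 3, 4, 2, 3, 0, 2, 1, 3, 4, 5, 6, 7], [120, 169, 121, 127, 130, 135, 143, 3], [(false, 139), (false, 154), (true, 5), (true, 4), (false, 141), (false, 153), (true, 2), (true, 0)]),
  ([0, 2, 1, 3, 4, 5, 6, 7, 2, 1, 3, 4, 5, 6, 0, 2, 3, 4, 5, 1, 3, 4, 2, 3, 0, 2, 1, 3, 4, 5, 6, 7], [120, 165, 121, 123, 143, 135, 130, 4], [(false, 140), (false, 141), (true, 5), (true, 6), (false, 154), (true, 3), (true, 2), (true, 0)]),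
  ([3, 4, 5, 6, 7, 6, 5, 4, 3, 2, 1, 3, 4, 5, 6, 0, 2, 3, 4, 5, 1, 3, 4, 2, 3, 0, 2, 1, 3, 4, 5, 6, 7], [121, 142, 123, 126, 136, 162, 151, 0], [(true, 5), (false, 156), (false, 157), (false, 142), (true, 3), (true, 2), (true, 0), (false, 143)]),
  ([1, 3, 4, 5, 6, 7, 5, 4, 3, 2, 1, 3, 4, 5, 6, 0, 2, 3, 4, 5, 1, 3, 4, 2, 3, 0, 2, 1, 3, 4, 5, 6, 7], [122, 130, 123, 126, 147, 162, 139, 1], [(true, 5), (false, 143), (false, 158), (true, 1), (true, 3), (true, 2), (false, 144), (false, 156)]),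
  ([2, 3, 4, 5, 6, 7, 5, 4, 3, 2, 1, 3, 4, 5, 6, 0, 2, 3, 4, 5, 1, 3, 4, 2, 3, 0, 2, 1, 3, 4, 5, 6, 7], [122, 147, 123, 126, 130, 163, 145, 1], [(false, 159), (false, 158), (false, 143), (true, 4), (true, 3), (true, 2), (false, 145), (false, 157)]),
  ([2, 1, 3, 4, 5, 6, 7, 4, 3, 2, 1, 3, 4, 5, 6, 0, 2, 3, 4, 5, 1, 3, 4, 2, 3, 0, 2, 1, 3, 4, 5, 6, 7], [120, 136, 124, 126, 142, 163, 132, 2], [(false, 160), (false, 145), (false, 144), (false, 161), (true, 3), (false, 146), (false, 158), (true, 0)]),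
  ([0, 2, 3, 4, 5, 6, 7, 4, 3, 2, 1, 3, 4, 5, 6, 0, 2, 3, 4, 5, 1, 3, 4, 2, 3, 0, 2, 1, 3, 4, 5, 6, 7], [120, 169, 124, 126, 130, 135, 144, 2], [(false, 145), (false, 160), (true, 5), (true, 4), (true, 3), (false, 147), (false, 159), (true, 0)]),
  ([0, 2, 1, 3, 4, 5, 6, 7, 3, 2, 1, 3, 4, 5, 6, 0, 2, 3, 4, 5, 1, 3, 4, 2, 3, 0, 2, 1, 3, 4, 5, 6, 7], [120, 164, 121, 127, 142, 135, 131, 3], [(false, 146), (false, 147), (true, 5), (false, 162), (false, 148), (false, 160), (true, 2), (true, 0)]),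
  ([3, 2, 1, 3, 4, 5, 6, 7, 3, 2, 1, 3, 4, 5, 6, 0, 2, 3, 4, 5, 1, 3, 4, 2, 3, 0, 2, 1, 3, 4, 5, 6, 7], [120, 135, 121, 132, 141, 164, 126, 3], [(false, 162), (true, 4), (true, 1), (false, 146), (true, 6), (false, 161), (true, 2), (true, 0)]),
  ([1, 3, 4, 5, 6, 7, 6, 5, 4, 3, 2, 1, 3, 4, 5, 6, 0, 2, 3, 4, 5, 1, 3, 4, 2, 3, 0, 2, 1, 3, 4, 5, 6, 7], [121, 130, 123, 126, 147, 162, 140, 0], [(true, 5), (false, 149), (false, 163), (true, 1), (true, 3), (true, 2), (true, 0), (false, 150)]),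
  ([2, 3, 4, 5, 6, 7, 6, 5, 4, 3, 2, 1, 3, 4, 5, 6, 0, 2, 3, 4, 5, 1, 3, 4, 2, 3, 0, 2, 1, 3, 4, 5, 6, 7], [121, 147, 123, 126, 130, 163, 146, 0], [(false, 164), (false, 163), (false, 149), (true, 4), (true, 3), (true, 2), (true, 0), (false, 151)]),
  ([2, 1, 3, 4, 5, 6, 7, 5, 4, 3, 2, 1, 3, 4, 5, 6, 0, 2, 3, 4, 5, 1, 3, 4, 2, 3, 0, 2, 1, 3, 4, 5, 6, 7], [122, 136, 123, 126, 142, 163, 133, 1], [(false, 165), (false, 151), (false, 150), (false, 166), (true, 3), (true, 2), (false, 152), (false, 163)]),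
  ([0, 2, 3, 4, 5, 6, 7, 5, 4, 3, 2, 1, 3, 4, 5, 6, 0, 2, 3, 4, 5, 1, 3, 4, 2, 3, 0, 2, 1, 3, 4, 5, 6, 7], [122, 169, 123, 126, 130, 135, 145, 1], [(false, 151), (false, 165), (true, 5), (true, 4), (true, 3), (true, 2), (false, 153), (false, 164)]),
  ([0, 2, 1, 3, 4, 5, 6, 7, 4, 3, 2, 1, 3, 4, 5, 6, 0, 2, 3, 4, 5, 1, 3, 4, 2, 3, 0, 2, 1, 3, 4, 5, 6, 7], [120, 164, 124, 126, 142, 135, 132, 2], [(false, 152), (false, 153), (true, 5), (false, 167), (true, 3), (false, 154), (false, 165), (true, 0)]),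
  ([3, 2, 1, 3, 4, 5, 6, 7, 4, 3, 2, 1, 3, 4, 5, 6, 0, 2, 3, 4, 5, 1, 3, 4, 2, 3, 0, 2, 1, 3, 4, 5, 6, 7], [120, 135, 124, 131, 141, 164, 127, 2], [(false, 167), (true, 4), (true, 1), (false, 152), (false, 168), (false, 155), (false, 166), (true, 0)]),
  ([3, 0, 2, 1, 3, 4, 5, 6, 7, 3, 2, 1, 3, 4, 5, 6, 0, 2, 3, 4, 5, 1, 3, 4, 2, 3, 0, 2, 1, 3, 4, 5, 6, 7], [120, 163, 121, 132, 141, 136, 126, 3], [(false, 155), (true, 4), (false, 169), (false, 154), (true, 6), (false, 167), (true, 2), (true, 0)]),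
  ([2, 1, 3, 4, 5, 6, 7, 6, 5, 4, 3, 2, 1, 3, 4, 5, 6, 0, 2, 3, 4, 5, 1, 3, 4, 2, 3, 0, 2, 1, 3, 4, 5, 6, 7], [121, 136, 123, 126, 142, 163, 134, 0], [(false, 170), (false, 157), (false, 156), (false, 171), (true, 3), (true, 2), (true, 0), (false, 158)]),
  ([0, 2, 3, 4, 5, 6, 7, 6, 5, 4, 3, 2, 1, 3, 4, 5, 6, 0, 2, 3, 4, 5, 1, 3, 4, 2, 3, 0, 2, 1, 3, 4, 5, 6, 7], [121, 169, 123, 126, 130, 135, 146, 0], [(false, 157), (false, 170), (true, 5), (true, 4), (true, 3), (true, 2), (true, 0), (false, 159)]),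
  ([0, 2, 1, 3, 4, 5, 6, 7, 5, 4, 3, 2, 1, 3, 4, 5, 6, 0, 2, 3, 4, 5, 1, 3, 4, 2, 3, 0, 2, 1, 3, 4, 5, 6, 7], [122, 164, 123, 126, 142, 135, 133, 1], [(false, 158), (false, 159), (true, 5), (false, 172), (true, 3), (true, 2), (false, 160), (false, 170)]),
  ([3, 2, 1, 3, 4, 5, 6, 7, 5, 4, 3, 2, 1, 3, 4, 5, 6, 0, 2, 3, 4, 5, 1, 3, 4, 2, 3, 0, 2, 1, 3, 4, 5, 6, 7], [122, 135, 123, 131, 141, 164, 128, 1], [(false, 172), (true, 4), (true, 1), (false, 158), (false, 173), (true, 2), (false, 161), (false, 171)]),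
  ([3, 0, 2, 1, 3, 4, 5, 6, 7, 4, 3, 2, 1, 3, 4, 5, 6, 0, 2, 3, 4, 5, 1, 3, 4, 2, 3, 0, 2, 1, 3, 4, 5, 6, 7], [120, 163, 124, 131, 141, 136, 127, 2], [(false, 161), (true, 4), (false, 174), (false, 160), (false, 175), (false, 162), (false, 172), (true, 0)]),
  ([4, 3, 2, 1, 3, 4, 5, 6, 7, 4, 3, 2, 1, 3, 4, 5, 6, 0, 2, 3, 4, 5, 1, 3, 4, 2, 3, 0, 2, 1, 3, 4, 5, 6, 7], [120, 135, 128, 130, 141, 165, 123, 2], [(false, 175), (true, 4), (true, 1), (true, 3), (false, 161), (true, 6), (false, 173), (true, 0)]),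
  ([2, 3, 0, 2, 1, 3, 4, 5, 6, 7, 3, 2, 1, 3, 4, 5, 6, 0, 2, 3, 4, 5, 1, 3, 4, 2, 3, 0, 2, 1, 3, 4, 5, 6, 7], [120, 162, 121, 138, 141, 130, 126, 3], [(true, 1), (true, 4), (false, 162), (true, 5), (true, 6), (false, 174), (true, 2), (true, 0)]),
  ([0, 2, 1, 3, 4, 5, 6, 7, 6, 5, 4, 3, 2, 1, 3, 4, 5, 6, 0, 2, 3, 4, 5, 1, 3, 4, 2, 3, 0, 2, 1, 3, 4, 5, 6, 7], [121, 164, 123, 126, 142, 135, 134, 0], [(false, 163), (false, 164), (true, 5), (false, 176), (true, 3), (true, 2), (true, 0), (false, 165)]),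
  ([3, 2, 1, 3, 4, 5, 6, 7, 6, 5, 4, 3, 2, 1, 3, 4, 5, 6, 0, 2, 3, 4, 5, 1, 3, 4, 2, 3, 0, 2, 1, 3, 4, 5, 6, 7], [121, 135, 123, 131, 141, 164, 129, 0], [(false, 176), (true, 4), (true, 1), (false, 163), (false, 177), (true, 2), (true, 0), (false, 166)]),
  ([3, 0, 2, 1, 3, 4, 5, 6, 7, 5, 4, 3, 2, 1, 3, 4, 5, 6, 0, 2, 3, 4, 5, 1, 3, 4, 2, 3, 0, 2, 1, 3, 4, 5, 6, 7], [122, 163, 123, 131, 141, 136, 128, 1], [(false, 166), (true, 4), (false, 178), (false, 165), (false, 179), (true, 2), (false, 167), (false, 176)]),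
  ([4, 3, 2, 1, 3, 4, 5, 6, 7, 5, 4, 3, 2, 1, 3, 4, 5, 6, 0, 2, 3, 4, 5, 1, 3, 4, 2, 3, 0, 2, 1, 3, 4, 5, 6, 7], [122, 135, 127, 130, 141, 165, 124, 1], [(false, 179), (true, 4), (true, 1), (true, 3), (false, 166), (false, 180), (false, 168), (false, 177)]),
  ([2, 3, 0, 2, 1, 3, 4, 5, 6, 7, 4, 3, 2, 1, 3, 4, 5, 6, 0, 2, 3, 4, 5, 1, 3, 4, 2, 3, 0, 2, 1, 3, 4, 5, 6, 7], [120, 162, 124, 137, 141, 130, 127, 2], [(true, 1), (true, 4), (false, 167), (true, 5), (false, 181), (false, 169), (false, 178), (true, 0)]),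
  ([4, 3, 0, 2, 1, 3, 4, 5, 6, 7, 4, 3, 2, 1, 3, 4, 5, 6, 0, 2, 3, 4, 5, 1, 3, 4, 2, 3, 0, 2, 1, 3, 4, 5, 6, 7], [120, 163, 128, 130, 141, 137, 123, 2], [(false, 168), (true, 4), (false, 181), (true, 3), (false, 167), (true, 6), (false, 179), (true, 0)]),
  ([3, 0, 2, 1, 3, 4, 5, 6, 7, 6, 5, 4, 3, 2, 1, 3, 4, 5, 6, 0, 2, 3, 4, 5, 1, 3, 4, 2, 3, 0, 2, 1, 3, 4, 5, 6, 7], [121, 163, 123, 131, 141, 136, 129, 0], [(false, 171), (true, 4), (false, 182), (false, 170), (false, 183), (true, 2), (true, 0), (false, 172)]),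
  ([4, 3, 2, 1, 3, 4, 5, 6, 7, 6, 5, 4, 3, 2, 1, 3, 4, 5, 6, 0, 2, 3, 4, 5, 1, 3, 4, 2, 3, 0, 2, 1, 3, 4, 5, 6, 7], [121, 135, 127, 130, 141, 165, 125, 0], [(false, 183), (true, 4), (true, 1), (true, 3), (false, 171), (false, 184), (true, 0), (false, 173)]),
  ([2, 3, 0, 2, 1, 3, 4, 5, 6, 7, 5, 4, 3, 2, 1, 3, 4, 5, 6, 0, 2, 3, 4, 5, 1, 3, 4, 2, 3, 0, 2, 1, 3, 4, 5, 6, 7], [122, 162, 123, 137, 141, 130, 128, 1], [(true, 1), (true, 4), (false, 172), (true, 5), (false, 185), (true, 2), (false, 174), (false, 182)]),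
  ([4, 3, 0, 2, 1, 3, 4, 5, 6, 7, 5, 4, 3, 2, 1, 3, 4, 5, 6, 0, 2, 3, 4, 5, 1, 3, 4, 2, 3, 0, 2, 1, 3, 4, 5, 6, 7], [122, 163, 127, 130, 141, 137, 124, 1], [(false, 173), (true, 4), (false, 185), (true, 3), (false, 172), (false, 186), (false, 175), (false, 183)]),
  ([5, 4, 3, 2, 1, 3, 4, 5, 6, 7, 5, 4, 3, 2, 1, 3, 4, 5, 6, 0, 2, 3, 4, 5, 1, 3, 4, 2, 3, 0, 2, 1, 3, 4, 5, 6, 7], [125, 135, 126, 130, 141, 166, 121, 1], [(false, 186), (true, 4), (true, 1), (true, 3), (true, 2), (false, 173), (true, 6), (false, 184)]),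
  ([4, 2, 3, 0, 2, 1, 3, 4, 5, 6, 7, 4, 3, 2, 1, 3, 4, 5, 6, 0, 2, 3, 4, 5, 1, 3, 4, 2, 3, 0, 2, 1, 3, 4, 5, 6, 7], [120, 162, 128, 136, 141, 131, 123, 2], [(true, 1), (true, 4), (false, 175), (false, 187), (false, 174), (true, 6), (false, 185), (true, 0)]),
  ([2, 3, 0, 2, 1, 3, 4, 5, 6, 7, 6, 5, 4, 3, 2, 1, 3, 4, 5, 6, 0, 2, 3, 4, 5, 1, 3, 4, 2, 3, 0, 2, 1, 3, 4, 5, 6, 7], [121, 162, 123, 137, 141, 130, 129, 0], [(true, 1), (true, 4), (false, 176), (true, 5), (false, 188), (true, 2), (true, 0), (false, 178)]),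
  ([4, 3, 0, 2, 1, 3, 4, 5, 6, 7, 6, 5, 4, 3, 2, 1, 3, 4, 5, 6, 0, 2, 3, 4, 5, 1, 3, 4, 2, 3, 0, 2, 1, 3, 4, 5, 6, 7], [121, 163, 127, 130, 141, 137, 125, 0], [(false, 177), (true, 4), (false, 188), (true, 3), (false, 176), (false, 189), (true, 0), (false, 179)]),
  ([5, 4, 3, 2, 1, 3, 4, 5, 6, 7, 6, 5, 4, 3, 2, 1, 3, 4, 5, 6, 0, 2, 3, 4, 5, 1, 3, 4, 2, 3, 0, 2, 1, 3, 4, 5, 6, 7], [124, 135, 126, 130, 141, 166, 122, 0], [(false, 189), (true, 4), (true, 1), (true, 3), (true, 2), (false, 177), (false, 190), (false, 180)]),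
  ([4, 2, 3, 0, 2, 1, 3, 4, 5, 6, 7, 5, 4, 3, 2, 1, 3, 4, 5, 6, 0, 2, 3, 4, 5, 1, 3, 4, 2, 3, 0, 2, 1, 3, 4, 5, 6, 7], [122, 162, 127, 136, 141, 131, 124, 1], [(true, 1), (true, 4), (false, 179), (false, 191), (false, 178), (false, 192), (false, 181), (false, 188)]),
  ([5, 4, 3, 0, 2, 1, 3, 4, 5, 6, 7, 5, 4, 3, 2, 1, 3, 4, 5, 6, 0, 2, 3, 4, 5, 1, 3, 4, 2, 3, 0, 2, 1, 3, 4, 5, 6, 7], [125, 163, 126, 130, 141, 138, 121, 1], [(false, 180), (true, 4), (false, 192), (true, 3), (true, 2), (false, 179), (true, 6), (false, 189)]),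
  ([3, 4, 2, 3, 0, 2, 1, 3, 4, 5, 6, 7, 4, 3, 2, 1, 3, 4, 5, 6, 0, 2, 3, 4, 5, 1, 3, 4, 2, 3, 0, 2, 1, 3, 4, 5, 6, 7], [120, 162, 133, 135, 142, 126, 123, 2], [(true, 1), (false, 193), (true, 3), (false, 181), (true, 5), (true, 6), (false, 191), (true, 0)]),
  ([4, 2, 3, 0, 2, 1, 3, 4, 5, 6, 7, 6, 5, 4, 3, 2, 1, 3, 4, 5, 6, 0, 2, 3, 4, 5, 1, 3, 4, 2, 3, 0, 2, 1, 3, 4, 5, 6, 7], [121, 162, 127, 136, 141, 131, 125, 0], [(true, 1), (true, 4), (false, 183), (false, 194), (false, 182), (false, 195), (true, 0), (false, 185)]),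
  ([5, 4, 3, 0, 2, 1, 3, 4, 5, 6, 7, 6, 5, 4, 3, 2, 1, 3, 4, 5, 6, 0, 2, 3, 4, 5, 1, 3, 4, 2, 3, 0, 2, 1, 3, 4, 5, 6, 7], [124, 163, 126, 130, 141, 138, 122, 0], [(false, 184), (true, 4), (false, 195), (true, 3), (true, 2), (false, 183), (false, 196), (false, 186)]),
  ([6, 5, 4, 3, 2, 1, 3, 4, 5, 6, 7, 6, 5, 4, 3, 2, 1, 3, 4, 5, 6, 0, 2, 3, 4, 5, 1, 3, 4, 2, 3, 0, 2, 1, 3, 4, 5, 6, 7], [123, 135, 126, 130, 141, 167, 120, 0], [(false, 196), (true, 4), (true, 1), (true, 3), (true, 2), (true, 0), (false, 184), (true, 6)]),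
  ([3, 4, 2, 3, 0, 2, 1, 3, 4, 5, 6, 7, 5, 4, 3, 2, 1, 3, 4, 5, 6, 0, 2, 3, 4, 5, 1, 3, 4, 2, 3, 0, 2, 1, 3, 4, 5, 6, 7], [122, 162, 132, 135, 142, 126, 124, 1], [(true, 1), (false, 197), (true, 3), (false, 185), (true, 5), (false, 198), (false, 187), (false, 194)]),
  ([5, 4, 2, 3, 0, 2, 1, 3, 4, 5, 6, 7, 5, 4, 3, 2, 1, 3, 4, 5, 6, 0, 2, 3, 4, 5, 1, 3, 4, 2, 3, 0, 2, 1, 3, 4, 5, 6, 7], [125, 162, 126, 136, 141, 132, 121, 1], [(true, 1), (true, 4), (false, 186), (false, 198), (true, 2), (false, 185), (true, 6), (false, 195)]),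
  ([1, 3, 4, 2, 3, 0, 2, 1, 3, 4, 5, 6, 7, 4, 3, 2, 1, 3, 4, 5, 6, 0, 2, 3, 4, 5, 1, 3, 4, 2, 3, 0, 2, 1, 3, 4, 5, 6, 7], [120, 162, 145, 135, 130, 126, 123, 2], [(true, 1), (false, 187), (true, 3), (true, 4), (true, 5), (true, 6), (false, 197), (true, 0)]),
  ([3, 4, 2, 3, 0, 2, 1, 3, 4, 5, 6, 7, 6, 5, 4, 3, 2, 1, 3, 4, 5, 6, 0, 2, 3, 4, 5, 1, 3, 4, 2, 3, 0, 2, 1, 3, 4, 5, 6, 7], [121, 162, 132, 135, 142, 126, 125, 0], [(true, 1), (false, 199), (true, 3), (false, 188), (true, 5), (false, 200), (true, 0), (false, 191)]),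
  ([5, 4, 2, 3, 0, 2, 1, 3, 4, 5, 6, 7, 6, 5, 4, 3, 2, 1, 3, 4, 5, 6, 0, 2, 3, 4, 5, 1, 3, 4, 2, 3, 0, 2, 1, 3, 4, 5, 6, 7], [124, 162, 126, 136, 141, 132, 122, 0], [(true, 1), (true, 4), (false, 189), (false, 200), (true, 2), (false, 188), (false, 201), (false, 192)]),
  ([6, 5, 4, 3, 0, 2, 1, 3, 4, 5, 6, 7, 6, 5, 4, 3, 2, 1, 3, 4, 5, 6, 0, 2, 3, 4, 5, 1, 3, 4, 2, 3, 0, 2, 1, 3, 4, 5, 6, 7], [123, 163, 126, 130, 141, 139, 120, 0], [(false, 190), (true, 4), (false, 201), (true, 3), (true, 2), (true, 0), (false, 189), (true, 6)]),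
  ([1, 3, 4, 2, 3, 0, 2, 1, 3, 4, 5, 6, 7, 5, 4, 3, 2, 1, 3, 4, 5, 6, 0, 2, 3, 4, 5, 1, 3, 4, 2, 3, 0, 2, 1, 3, 4, 5, 6, 7], [122, 162, 144, 135, 130, 126, 124, 1], [(true, 1), (false, 191), (true, 3), (true, 4), (true, 5), (false, 202), (false, 193), (false, 199)]),
  ([5, 3, 4, 2, 3, 0, 2, 1, 3, 4, 5, 6, 7, 5, 4, 3, 2, 1, 3, 4, 5, 6, 0, 2, 3, 4, 5, 1, 3, 4, 2, 3, 0, 2, 1, 3, 4, 5, 6, 7], [125, 162, 131, 135, 142, 127, 121, 1], [(true, 1), (false, 202), (true, 3), (false, 192), (false, 203), (false, 191), (true, 6), (false, 200)]),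
  ([1, 3, 4, 2, 3, 0, 2, 1, 3, 4, 5, 6, 7, 6, 5, 4, 3, 2, 1, 3, 4, 5, 6, 0, 2, 3, 4, 5, 1, 3, 4, 2, 3, 0, 2, 1, 3, 4, 5, 6, 7], [121, 162, 144, 135, 130, 126, 125, 0], [(true, 1), (false, 194), (true, 3), (true, 4), (true, 5), (false, 204), (true, 0), (false, 197)]),
  ([5, 3, 4, 2, 3, 0, 2, 1, 3, 4, 5, 6, 7, 6, 5, 4, 3, 2, 1, 3, 4, 5, 6, 0, 2, 3, 4, 5, 1, 3, 4, 2, 3, 0, 2, 1, 3, 4, 5, 6, 7], [124, 162, 131, 135, 142, 127, 122, 0], [(true, 1), (false, 204), (true, 3), (false, 195), (false, 205), (false, 194), (false, 206), (false, 198)]),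
  ([6, 5, 4, 2, 3, 0, 2, 1, 3, 4, 5, 6, 7, 6, 5, 4, 3, 2, 1, 3, 4, 5, 6, 0, 2, 3, 4, 5, 1, 3, 4, 2, 3, 0, 2, 1, 3, 4, 5, 6, 7], [123, 162, 126, 136, 141, 133, 120, 0], [(true, 1), (true, 4), (false, 196), (false, 206), (true, 2), (true, 0), (false, 195), (true, 6)]),
  ([5, 1, 3, 4, 2, 3, 0, 2, 1, 3, 4, 5, 6, 7, 5, 4, 3, 2, 1, 3, 4, 5, 6, 0, 2, 3, 4, 5, 1, 3, 4, 2, 3, 0, 2, 1, 3, 4, 5, 6, 7], [125, 162, 143, 135, 130, 127, 121, 1], [(true, 1), (false, 198), (true, 3), (true, 4), (false, 207), (false, 197), (true, 6), (false, 204)]),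
  ([4, 5, 3, 4, 2, 3, 0, 2, 1, 3, 4, 5, 6, 7, 5, 4, 3, 2, 1, 3, 4, 5, 6, 0, 2, 3, 4, 5, 1, 3, 4, 2, 3, 0, 2, 1, 3, 4, 5, 6, 7], [129, 162, 130, 135, 143, 123, 121, 1], [(true, 1), (false, 207), (true, 3), (true, 2), (false, 198), (true, 5), (true, 6), (false, 205)]),
  ([5, 1, 3, 4, 2, 3, 0, 2, 1, 3, 4, 5, 6, 7, 6, 5, 4, 3, 2, 1, 3, 4, 5, 6, 0, 2, 3, 4, 5, 1, 3, 4, 2, 3, 0, 2, 1, 3, 4, 5, 6, 7], [124, 162, 143, 135, 130, 127, 122, 0], [(true, 1), (false, 200), (true, 3), (true, 4), (false, 208), (false, 199), (false, 209), (false, 202)]),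
  ([4, 5, 3, 4, 2, 3, 0, 2, 1, 3, 4, 5, 6, 7, 6, 5, 4, 3, 2, 1, 3, 4, 5, 6, 0, 2, 3, 4, 5, 1, 3, 4, 2, 3, 0, 2, 1, 3, 4, 5, 6, 7], [128, 162, 130, 135, 143, 123, 122, 0], [(true, 1), (false, 208), (true, 3), (true, 2), (false, 200), (true, 5), (false, 210), (false, 203)]),
  ([6, 5, 3, 4, 2, 3, 0, 2, 1, 3, 4, 5, 6, 7, 6, 5, 4, 3, 2, 1, 3, 4, 5, 6, 0, 2, 3, 4, 5, 1, 3, 4, 2, 3, 0, 2, 1, 3, 4, 5, 6, 7], [123, 162, 131, 135, 142, 128, 120, 0], [(true, 1), (false, 209), (true, 3), (false, 201), (false, 210), (true, 0), (false, 200), (true, 6)]),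
  ([4, 5, 1, 3, 4, 2, 3, 0, 2, 1, 3, 4, 5, 6, 7, 5, 4, 3, 2, 1, 3, 4, 5, 6, 0, 2, 3, 4, 5, 1, 3, 4, 2, 3, 0, 2, 1, 3, 4, 5, 6, 7], [129, 162, 142, 135, 131, 123, 121, 1], [(true, 1), (false, 203), (true, 3), (false, 211), (false, 202), (true, 5), (true, 6), (false, 208)]),
  ([4, 5, 1, 3, 4, 2, 3, 0, 2, 1, 3, 4, 5, 6, 7, 6, 5, 4, 3, 2, 1, 3, 4, 5, 6, 0, 2, 3, 4, 5, 1, 3, 4, 2, 3, 0, 2, 1, 3, 4, 5, 6, 7], [128, 162, 142, 135, 131, 123, 122, 0], [(true, 1), (false, 205), (true, 3), (false, 212), (false, 204), (true, 5), (false, 213), (false, 207)]),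
  ([6, 5, 1, 3, 4, 2, 3, 0, 2, 1, 3, 4, 5, 6, 7, 6, 5, 4, 3, 2, 1, 3, 4, 5, 6, 0, 2, 3, 4, 5, 1, 3, 4, 2, 3, 0, 2, 1, 3, 4, 5, 6, 7], [123, 162, 143, 135, 130, 128, 120, 0], [(true, 1), (false, 206), (true, 3), (true, 4), (false, 213), (true, 0), (false, 204), (true, 6)]),
  ([6, 4, 5, 3, 4, 2, 3, 0, 2, 1, 3, 4, 5, 6, 7, 6, 5, 4, 3, 2, 1, 3, 4, 5, 6, 0, 2, 3, 4, 5, 1, 3, 4, 2, 3, 0, 2, 1, 3, 4, 5, 6, 7], [127, 162, 130, 135, 143, 124, 120, 0], [(true, 1), (false, 213), (true, 3), (true, 2), (false, 206), (false, 214), (false, 205), (true, 6)]),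
  ([3, 4, 5, 1, 3, 4, 2, 3, 0, 2, 1, 3, 4, 5, 6, 7, 5, 4, 3, 2, 1, 3, 4, 5, 6, 0, 2, 3, 4, 5, 1, 3, 4, 2, 3, 0, 2, 1, 3, 4, 5, 6, 7], [134, 162, 141, 136, 126, 123, 121, 1], [(true, 1), (true, 2), (false, 215), (false, 207), (true, 4), (true, 5), (true, 6), (false, 212)]),
  ([3, 4, 5, 1, 3, 4, 2, 3, 0, 2, 1, 3, 4, 5, 6, 7, 6, 5, 4, 3, 2, 1, 3, 4, 5, 6, 0, 2, 3, 4, 5, 1, 3, 4, 2, 3, 0, 2, 1, 3, 4, 5, 6, 7], [133, 162, 141, 136, 126, 123, 122, 0], [(true, 1), (true, 2), (false, 216), (false, 208), (true, 4), (true, 5), (false, 217), (false, 211)]),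
  ([6, 4, 5, 1, 3, 4, 2, 3, 0, 2, 1, 3, 4, 5, 6, 7, 6, 5, 4, 3, 2, 1, 3, 4, 5, 6, 0, 2, 3, 4, 5, 1, 3, 4, 2, 3, 0, 2, 1, 3, 4, 5, 6, 7], [127, 162, 142, 135, 131, 124, 120, 0], [(true, 1), (false, 210), (true, 3), (false, 217), (false, 209), (false, 218), (false, 208), (true, 6)]),
  ([5, 6, 4, 5, 3, 4, 2, 3, 0, 2, 1, 3, 4, 5, 6, 7, 6, 5, 4, 3, 2, 1, 3, 4, 5, 6, 0, 2, 3, 4, 5, 1, 3, 4, 2, 3, 0, 2, 1, 3, 4, 5, 6, 7], [126, 162, 130, 135, 144, 121, 120, 0], [(true, 1), (false, 218), (true, 3), (true, 2), (true, 0), (false, 210), (true, 5), (true, 6)]),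
  ([2, 3, 4, 5, 1, 3, 4, 2, 3, 0, 2, 1, 3, 4, 5, 6, 7, 5, 4, 3, 2, 1, 3, 4, 5, 6, 0, 2, 3, 4, 5, 1, 3, 4, 2, 3, 0, 2, 1, 3, 4, 5, 6, 7], [140, 163, 141, 130, 126, 123, 121, 1], [(false, 219), (true, 2), (false, 211), (true, 3), (true, 4), (true, 5), (true, 6), (false, 216)]),
  ([2, 3, 4, 5, 1, 3, 4, 2, 3, 0, 2, 1, 3, 4, 5, 6, 7, 6, 5, 4, 3, 2, 1, 3, 4, 5, 6, 0, 2, 3, 4, 5, 1, 3, 4, 2, 3, 0, 2, 1, 3, 4, 5, 6, 7], [139, 163, 141, 130, 126, 123, 122, 0], [(false, 220), (true, 2), (false, 212), (true, 3), (true, 4), (true, 5), (false, 221), (false, 215)]),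
  ([6, 3, 4, 5, 1, 3, 4, 2, 3, 0, 2, 1, 3, 4, 5, 6, 7, 6, 5, 4, 3, 2, 1, 3, 4, 5, 6, 0, 2, 3, 4, 5, 1, 3, 4, 2, 3, 0, 2, 1, 3, 4, 5, 6, 7], [132, 162, 141, 136, 126, 124, 120, 0], [(true, 1), (true, 2), (false, 221), (false, 213), (true, 4), (false, 222), (false, 212), (true, 6)]),
  ([5, 6, 4, 5, 1, 3, 4, 2, 3, 0, 2, 1, 3, 4, 5, 6, 7, 6, 5, 4, 3, 2, 1, 3, 4, 5, 6, 0, 2, 3, 4, 5, 1, 3, 4, 2, 3, 0, 2, 1, 3, 4, 5, 6, 7], [126, 162, 142, 135, 132, 121, 120, 0], [(true, 1), (false, 214), (true, 3), (false, 222), (true, 0), (false, 213), (true, 5), (true, 6)]),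
  ([0, 2, 3, 4, 5, 1, 3, 4, 2, 3, 0, 2, 1, 3, 4, 5, 6, 7, 5, 4, 3, 2, 1, 3, 4, 5, 6, 0, 2, 3, 4, 5, 1, 3, 4, 2, 3, 0, 2, 1, 3, 4, 5, 6, 7], [168, 135, 141, 130, 126, 123, 121, 1], [(false, 215), (true, 2), (true, 1), (true, 3), (true, 4), (true, 5), (true, 6), (false, 220)]),
  ([0, 2, 3, 4, 5, 1, 3, 4, 2, 3, 0, 2, 1, 3, 4, 5, 6, 7, 6, 5, 4, 3, 2, 1, 3, 4, 5, 6, 0, 2, 3, 4, 5, 1, 3, 4, 2, 3, 0, 2, 1, 3, 4, 5, 6, 7], [167, 135, 141, 130, 126, 123, 122, 0], [(false, 216), (true, 2), (true, 1), (true, 3), (true, 4), (true, 5), (false, 223), (false, 219)]),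
  ([6, 2, 3, 4, 5, 1, 3, 4, 2, 3, 0, 2, 1, 3, 4, 5, 6, 7, 6, 5, 4, 3, 2, 1, 3, 4, 5, 6, 0, 2, 3, 4, 5, 1, 3, 4, 2, 3, 0, 2, 1, 3, 4, 5, 6, 7], [138, 163, 141, 130, 126, 124, 120, 0], [(false, 223), (true, 2), (false, 217), (true, 3), (true, 4), (false, 224), (false, 216), (true, 6)]),
  ([5, 6, 3, 4, 5, 1, 3, 4, 2, 3, 0, 2, 1, 3, 4, 5, 6, 7, 6, 5, 4, 3, 2, 1, 3, 4, 5, 6, 0, 2, 3, 4, 5, 1, 3, 4, 2, 3, 0, 2, 1, 3, 4, 5, 6, 7], [131, 162, 141, 136, 127, 121, 120, 0], [(true, 1), (true, 2), (false, 224), (false, 218), (false, 225), (false, 217), (true, 5), (true, 6)]),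
  ([6, 0, 2, 3, 4, 5, 1, 3, 4, 2, 3, 0, 2, 1, 3, 4, 5, 6, 7, 6, 5, 4, 3, 2, 1, 3, 4, 5, 6, 0, 2, 3, 4, 5, 1, 3, 4, 2, 3, 0, 2, 1, 3, 4, 5, 6, 7], [166, 135, 141, 130, 126, 124, 120, 0], [(false, 221), (true, 2), (true, 1), (true, 3), (true, 4), (false, 226), (false, 220), (true, 6)]),
  ([5, 6, 2, 3, 4, 5, 1, 3, 4, 2, 3, 0, 2, 1, 3, 4, 5, 6, 7, 6, 5, 4, 3, 2, 1, 3, 4, 5, 6, 0, 2, 3, 4, 5, 1, 3, 4, 2, 3, 0, 2, 1, 3, 4, 5, 6, 7], [137, 163, 141, 130, 127, 121, 120, 0], [(false, 226), (true, 2), (false, 222), (true, 3), (false, 227), (false, 221), (true, 5), (true, 6)]),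
  ([4, 5, 6, 3, 4, 5, 1, 3, 4, 2, 3, 0, 2, 1, 3, 4, 5, 6, 7, 6, 5, 4, 3, 2, 1, 3, 4, 5, 6, 0, 2, 3, 4, 5, 1, 3, 4, 2, 3, 0, 2, 1, 3, 4, 5, 6, 7], [130, 162, 141, 137, 123, 121, 120, 0], [(true, 1), (true, 2), (false, 227), (true, 0), (false, 222), (true, 4), (true, 5), (true, 6)]),
  ([5, 6, 0, 2, 3, 4, 5, 1, 3, 4, 2, 3, 0, 2, 1, 3, 4, 5, 6, 7, 6, 5, 4, 3, 2, 1, 3, 4, 5, 6, 0, 2, 3, 4, 5, 1, 3, 4, 2, 3, 0, 2, 1, 3, 4, 5, 6, 7], [165, 135, 141, 130, 127, 121, 120, 0], [(false, 224), (true, 2), (true, 1), (true, 3), (false, 228), (false, 223), (true, 5), (true, 6)]),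
  ([4, 5, 6, 2, 3, 4, 5, 1, 3, 4, 2, 3, 0, 2, 1, 3, 4, 5, 6, 7, 6, 5, 4, 3, 2, 1, 3, 4, 5, 6, 0, 2, 3, 4, 5, 1, 3, 4, 2, 3, 0, 2, 1, 3, 4, 5, 6, 7], [136, 163, 141, 131, 123, 121, 120, 0], [(false, 228), (true, 2), (false, 225), (false, 229), (false, 224), (true, 4), (true, 5), (true, 6)]),
  ([4, 5, 6, 0, 2, 3, 4, 5, 1, 3, 4, 2, 3, 0, 2, 1, 3, 4, 5, 6, 7, 6, 5, 4, 3, 2, 1, 3, 4, 5, 6, 0, 2, 3, 4, 5, 1, 3, 4, 2, 3, 0, 2, 1, 3, 4, 5, 6, 7], [164, 135, 141, 131, 123, 121, 120, 0], [(false, 227), (true, 2), (true, 1), (false, 230), (false, 226), (true, 4), (true, 5), (true, 6)]),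
  ([3, 4, 5, 6, 2, 3, 4, 5, 1, 3, 4, 2, 3, 0, 2, 1, 3, 4, 5, 6, 7, 6, 5, 4, 3, 2, 1, 3, 4, 5, 6, 0, 2, 3, 4, 5, 1, 3, 4, 2, 3, 0, 2, 1, 3, 4, 5, 6, 7], [135, 164, 142, 126, 123, 121, 120, 0], [(false, 230), (false, 231), (true, 0), (false, 227), (true, 3), (true, 4), (true, 5), (true, 6)]),
  ([3, 4, 5, 6, 0, 2, 3, 4, 5, 1, 3, 4, 2, 3, 0, 2, 1, 3, 4, 5, 6, 7, 6, 5, 4, 3, 2, 1, 3, 4, 5, 6, 0, 2, 3, 4, 5, 1, 3, 4, 2, 3, 0, 2, 1, 3, 4, 5, 6, 7], [163, 136, 142, 126, 123, 121, 120, 0], [(false, 229), (false, 232), (false, 233), (false, 228), (true, 3), (true, 4), (true, 5), (true, 6)]),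
  ([1, 3, 4, 5, 6, 2, 3, 4, 5, 1, 3, 4, 2, 3, 0, 2, 1, 3, 4, 5, 6, 7, 6, 5, 4, 3, 2, 1, 3, 4, 5, 6, 0, 2, 3, 4, 5, 1, 3, 4, 2, 3, 0, 2, 1, 3, 4, 5, 6, 7], [135, 169, 130, 126, 123, 121, 120, 0], [(false, 232), (false, 229), (true, 0), (true, 2), (true, 3), (true, 4), (true, 5), (true, 6)]),
  ([1, 3, 4, 5, 6, 0, 2, 3, 4, 5, 1, 3, 4, 2, 3, 0, 2, 1, 3, 4, 5, 6, 7, 6, 5, 4, 3, 2, 1, 3, 4, 5, 6, 0, 2, 3, 4, 5, 1, 3, 4, 2, 3, 0, 2, 1, 3, 4, 5, 6, 7], [163, 147, 130, 126, 123, 121, 120, 0], [(false, 231), (false, 230), (false, 234), (true, 2), (true, 3), (true, 4), (true, 5), (true, 6)]),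
  ([2, 3, 4, 5, 6, 0, 2, 3, 4, 5, 1, 3, 4, 2, 3, 0, 2, 1, 3, 4, 5, 6, 7, 6, 5, 4, 3, 2, 1, 3, 4, 5, 6, 0, 2, 3, 4, 5, 1, 3, 4, 2, 3, 0, 2, 1, 3, 4, 5, 6, 7], [162, 130, 147, 126, 123, 121, 120, 0], [(true, 0), (false, 234), (false, 230), (true, 1), (true, 3), (true, 4), (true, 5), (true, 6)]),
  ([2, 1, 3, 4, 5, 6, 0, 2, 3, 4, 5, 1, 3, 4, 2, 3, 0, 2, 1, 3, 4, 5, 6, 7, 6, 5, 4, 3, 2, 1, 3, 4, 5, 6, 0, 2, 3, 4, 5, 1, 3, 4, 2, 3, 0, 2, 1, 3, 4, 5, 6, 7], [162, 142, 136, 126, 123, 121, 120, 0], [(true, 0), (false, 233), (false, 232), (false, 235), (true, 3), (true, 4), (true, 5), (true, 6)]),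
  ([3, 2, 1, 3, 4, 5, 6, 0, 2, 3, 4, 5, 1, 3, 4, 2, 3, 0, 2, 1, 3, 4, 5, 6, 7, 6, 5, 4, 3, 2, 1, 3, 4, 5, 6, 0, 2, 3, 4, 5, 1, 3, 4, 2, 3, 0, 2, 1, 3, 4, 5, 6, 7], [162, 141, 135, 131, 123, 121, 120, 0], [(true, 0), (true, 1), (true, 2), (false, 234), (false, 236), (true, 4), (true, 5), (true, 6)]),
  ([4, 3, 2, 1, 3, 4, 5, 6, 0, 2, 3, 4, 5, 1, 3, 4, 2, 3, 0, 2, 1, 3, 4, 5, 6, 7, 6, 5, 4, 3, 2, 1, 3, 4, 5, 6, 0, 2, 3, 4, 5, 1, 3, 4, 2, 3, 0, 2, 1, 3, 4, 5, 6, 7], [162, 141, 135, 130, 127, 121, 120, 0], [(true, 0), (true, 1), (true, 2), (true, 3), (false, 235), (false, 237), (true, 5), (true, 6)]),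
  ([5, 4, 3, 2, 1, 3, 4, 5, 6, 0, 2, 3, 4, 5, 1, 3, 4, 2, 3, 0, 2, 1, 3, 4, 5, 6, 7, 6, 5, 4, 3, 2, 1, 3, 4, 5, 6, 0, 2, 3, 4, 5, 1, 3, 4, 2, 3, 0, 2, 1, 3, 4, 5, 6, 7], [162, 141, 135, 130, 126, 124, 120, 0], [(true, 0), (true, 1), (true, 2), (true, 3), (true, 4), (false, 236), (false, 238), (true, 6)]),
  ([6, 5, 4, 3, 2, 1, 3, 4, 5, 6, 0, 2, 3, 4, 5, 1, 3, 4, 2, 3, 0, 2, 1, 3, 4, 5, 6, 7, 6, 5, 4, 3, 2, 1, 3, 4, 5, 6, 0, 2, 3, 4, 5, 1, 3, 4, 2, 3, 0, 2, 1, 3, 4, 5, 6, 7], [162, 141, 135, 130, 126, 123, 122, 0], [(true, 0), (true, 1), (true, 2), (true, 3), (true, 4), (true, 5), (false, 237), (false, 239)]),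
  ([7, 6, 5, 4, 3, 2, 1, 3, 4, 5, 6, 0, 2, 3, 4, 5, 1, 3, 4, 2, 3, 0, 2, 1, 3, 4, 5, 6, 7, 6, 5, 4, 3, 2, 1, 3, 4, 5, 6, 0, 2, 3, 4, 5, 1, 3, 4, 2, 3, 0, 2, 1, 3, 4, 5, 6, 7], [162, 141, 135, 130, 126, 123, 121, 1], [(true, 0), (true, 1), (true, 2), (true, 3), (true, 4), (true, 5), (true, 6), (false, 238)])]

/-- the chain -/
def ch : PcChainData := [(K1, certs1), (K2, certs2), (K3, certs3), (K4, certs4), (K5, certs5), (K6, certs6), (K7, certs7), (K8, certs8)]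

theorem ok : chainOK (wdOf DataE8.fd BsE8.Bs CxE8.mLL) [] ch = true := by decide +kernel

theorem hall : ∀ i < DataE8.fd.rank, i ∈ lastK [] ch := by decide

theorem hpoly : mulZ (powZ [-1, 1] 8) (chainZ ch) = prodZ ([2, 8, 12, 14, 18, 20, 24, 30].map monoSubOne) := by
  decide +kernel

end Cfsg.Agent.Lib.Helper5.Chev.PcE8
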