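import Cfsg.Agent.Lib.Helper5.Chev.PcChain
import Cfsg.Agent.Lib.Helper5.Chev.CxF4
import Mathlib

/-!
# The representatives of the cosets along a chain of parabolic subgroups: type F4 (helper5)
-/

set_option autoImplicit false
set_option maxRecDepth 100000

namespace Cfsg.Agent.Lib.Helper5.Chev.PcF4

open Cfsg.Lie Cfsg.Agent.Lib.Helper5.Chev

/-- the subset of level 1 -/
def K1 : List ℕ := [2]
/-- the representatives of level 1 -/
def certs1 : List PcEntry := [
  ([], [33, 27, 25, 24], [(false, 1)]),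
  ([2], [33, 28, 22, 26], [(false, 0)])]

/-- the subset of level 2 -/
def K2 : List ℕ := [1, 2]
/-- the representatives of level 2 -/
def certs2 : List PcEntry := [
  ([], [33, 27, 25, 24], [(false, 1), (true, 2)]),
  ([1], [34, 20, 30, 24], [(false, 0), (false, 2)]),
  ([2, 1], [35, 19, 30, 26], [(false, 3), (false, 1)]),
  ([1, 2, 1], [37, 19, 25, 31], [(false, 2), (true, 2)])]

/-- the subset of level 3 -/
def K3 : List ℕ := [1, 2, 3]
/-- the representatives of level 3 -/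
def certs3 : List PcEntry := [
  ([], [33, 27, 25, 24], [(true, 1), (true, 2), (false, 1)]),
  ([3], [33, 27, 26, 23], [(true, 1), (false, 2), (false, 0)]),
  ([2, 3], [33, 28, 24, 21], [(false, 3), (false, 1), (true, 2)]),
  ([1, 2, 3], [34, 28, 24, 16], [(false, 2), (false, 4), (true, 2)]),
  ([2, 1, 2, 3], [35, 27, 26, 15], [(true, 1), (false, 3), (false, 5)]),
  ([3, 2, 1, 2, 3], [36, 27, 25, 15], [(true, 1), (true, 2), (false, 4)])]

/-- the subset of level 4 -/
def K4 : List ℕ := [0, 1, 2, 3]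
/-- the representatives of level 4 -/
def certs4 : List PcEntry := [
  ([], [33, 27, 25, 24], [(false, 1), (true, 1), (true, 2), (true, 3)]),
  ([0], [14, 34, 25, 24], [(false, 0), (false, 2), (true, 2), (true, 3)]),
  ([1, 0], [13, 33, 30, 24], [(true, 1), (false, 1), (false, 3), (true, 3)]),
  ([2, 1, 0], [12, 33, 30, 26], [(true, 1), (false, 4), (false, 2), (false, 5)]),
  ([1, 2, 1, 0], [10, 34, 25, 31], [(false, 6), (false, 3), (true, 2), (false, 7)]),
  ([3, 2, 1, 0], [11, 33, 31, 25], [(true, 1), (false, 7), (true, 3), (false, 3)]),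
  ([0, 1, 2, 1, 0], [10, 27, 25, 42], [(false, 4), (true, 1), (true, 2), (false, 8)]),
  ([3, 1, 2, 1, 0], [9, 34, 26, 30], [(false, 8), (false, 5), (false, 9), (false, 4)]),
  ([3, 0, 1, 2, 1, 0], [9, 27, 26, 41], [(false, 7), (true, 1), (false, 10), (false, 6)]),
  ([2, 3, 1, 2, 1, 0], [8, 35, 24, 30], [(false, 10), (false, 11), (false, 7), (true, 2)]),
  ([2, 3, 0, 1, 2, 1, 0], [8, 28, 24, 41], [(false, 9), (false, 12), (false, 8), (true, 2)]),
  ([1, 2, 3, 1, 2, 1, 0], [7, 37, 24, 25], [(false, 13), (false, 9), (true, 3), (true, 2)]),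
  ([1, 2, 3, 0, 1, 2, 1, 0], [7, 28, 24, 41], [(false, 14), (false, 10), (false, 15), (true, 2)]),
  ([0, 1, 2, 3, 1, 2, 1, 0], [3, 37, 24, 25], [(false, 11), (false, 14), (true, 3), (true, 2)]),
  ([0, 1, 2, 3, 0, 1, 2, 1, 0], [3, 35, 24, 30], [(false, 12), (false, 13), (false, 16), (true, 2)]),
  ([2, 1, 2, 3, 0, 1, 2, 1, 0], [7, 27, 26, 41], [(false, 16), (true, 1), (false, 12), (false, 17)]),
  ([2, 0, 1, 2, 3, 0, 1, 2, 1, 0], [3, 34, 26, 30], [(false, 15), (false, 18), (false, 14), (false, 19)]),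
  ([3, 2, 1, 2, 3, 0, 1, 2, 1, 0], [7, 27, 25, 42], [(false, 19), (true, 1), (true, 2), (false, 15)]),
  ([1, 2, 0, 1, 2, 3, 0, 1, 2, 1, 0], [3, 33, 31, 25], [(true, 1), (false, 16), (true, 3), (false, 20)]),
  ([3, 2, 0, 1, 2, 3, 0, 1, 2, 1, 0], [3, 34, 25, 31], [(false, 17), (false, 20), (true, 2), (false, 16)]),
  ([3, 1, 2, 0, 1, 2, 3, 0, 1, 2, 1, 0], [3, 33, 30, 26], [(true, 1), (false, 19), (false, 21), (false, 18)]),
  ([2, 3, 1, 2, 0, 1, 2, 3, 0, 1, 2, 1, 0], [3, 33, 30, 24], [(true, 1), (false, 22), (false, 20), (true, 3)]),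
  ([1, 2, 3, 1, 2, 0, 1, 2, 3, 0, 1, 2, 1, 0], [3, 34, 25, 24], [(false, 23), (false, 21), (true, 2), (true, 3)]),
  ([0, 1, 2, 3, 1, 2, 0, 1, 2, 3, 0, 1, 2, 1, 0], [7, 27, 25, 24], [(false, 22), (true, 1), (true, 2), (true, 3)])]

/-- the chain -/
def ch : PcChainData := [(K1, certs1), (K2, certs2), (K3, certs3), (K4, certs4)]

theorem ok : chainOK (wdOf DataF4.fd BsF4.Bs CxF4.mLL) [] ch = true := by decide +kernel

theorem hall : ∀ i < DataF4.fd.rank, i ∈ lastK [] ch := by decide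

theorem hpoly : mulZ (powZ [-1, 1] 4) (chainZ ch) = prodZ ([2, 6, 8, 12].map monoSubOne) := by
  decide +kernel

end Cfsg.Agent.Lib.Helper5.Chev.PcF4
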