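import Cfsg.Agent.Lib.Helper5.Chev.PcG2
import Cfsg.Agent.Lib.Helper5.Chev.HsG2
import Cfsg.Agent.Lib.Helper5.Chev.PcB2
import Cfsg.Agent.Lib.Helper5.Chev.HsB2
import Cfsg.Agent.Lib.Helper5.Chev.PcD4
import Cfsg.Agent.Lib.Helper5.Chev.HsD4
import Cfsg.Agent.Lib.Helper5.Chev.PcF4
import Cfsg.Agent.Lib.Helper5.Chev.HsF4
import Cfsg.Agent.Lib.Helper5.Chev.PcE6
import Cfsg.Agent.Lib.Helper5.Chev.HsE6
import Cfsg.Agent.Lib.Helper5.Chev.PcE7
import Cfsg.Agent.Lib.Helper5.Chev.HsE7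
import Cfsg.Agent.Lib.Helper5.Chev.PcE8
import Cfsg.Agent.Lib.Helper5.Chev.HsE8
import Cfsg.Agent.Lib.Helper5.Chev.HCardAll
import Mathlib

/-!
# The orders of the seven Chevalley groups, in a uniform shape (helper5)
-/

set_option autoImplicit false

namespace Cfsg.Agent.Lib.Helper5.Chev

open Cfsg.Lie

variable {F : Type*} [Field F] [Fintype F]

theorem card_group_G2 : (1) * Nat.card (chevG2.group F)
    = Nat.card F ^ (chevG2.nroots / 2) * ([2, 6].map fun k => Nat.card F ^ k - 1).prod := by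
  obtain ⟨h1, h2⟩ := cox_of_check DataG2.fd BsG2.Bs CxG2.mLL CxG2.cox
  have hH : (1) * Nat.card (chevG2.diagonalSubgroup F) = (Nat.card F - 1) ^ 2 := by
    rw [one_mul, card_diagonal_G2, Nat.card_eq_fintype_card]
  exact card_group_final (F := F) (D := chevG2) (by simp) DataG2.agrees BsG2.Bs CxG2.mLL
    HsG2.reflBs' h1 h2 HsG2.gH HsG2.baseH _ HsG2.rbH HsG2.base_simple PcG2.ch PcG2.ok PcG2.hall
    _ 2 hH [2, 6] (by decide) PcG2.hpoly

theorem card_group_B2 : (Nat.gcd 2 (Nat.card F - 1)) * Nat.card (chevB2.group F)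
    = Nat.card F ^ (chevB2.nroots / 2) * ([2, 4].map fun k => Nat.card F ^ k - 1).prod := by
  obtain ⟨h1, h2⟩ := cox_of_check DataB2.fd BsB2.Bs CxB2.mLL CxB2.cox
  have hH : (Nat.gcd 2 (Nat.card F - 1)) * Nat.card (chevB2.diagonalSubgroup F) = (Nat.card F - 1) ^ 2 := by
    rw [Nat.card_eq_fintype_card (α := F)]
    exact card_diagonal_B2
  exact card_group_final (F := F) (D := chevB2) (by simp) DataB2.agrees BsB2.Bs CxB2.mLL
    HsB2.reflBs' h1 h2 HsB2.gH HsB2.baseH _ HsB2.rbH HsB2.base_simple PcB2.ch PcB2.ok PcB2.hall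
    _ 2 hH [2, 4] (by decide) PcB2.hpoly

theorem card_group_D4 : (Nat.gcd 2 (Nat.card F - 1) ^ 2) * Nat.card (chevD4.group F)
    = Nat.card F ^ (chevD4.nroots / 2) * ([2, 4, 4, 6].map fun k => Nat.card F ^ k - 1).prod := by
  obtain ⟨h1, h2⟩ := cox_of_check DataD4.fd BsD4.Bs CxD4.mLL CxD4.cox
  have hH : (Nat.gcd 2 (Nat.card F - 1) ^ 2) * Nat.card (chevD4.diagonalSubgroup F) = (Nat.card F - 1) ^ 4 := by
    rw [Nat.card_eq_fintype_card (α := F)]
    exact card_diagonal_D4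
  exact card_group_final (F := F) (D := chevD4) (by simp) DataD4.agrees BsD4.Bs CxD4.mLL
    HsD4.reflBs' h1 h2 HsD4.gH HsD4.baseH _ HsD4.rbH HsD4.base_simple PcD4.ch PcD4.ok PcD4.hall
    _ 4 hH [2, 4, 4, 6] (by decide) PcD4.hpoly

theorem card_group_F4 : (1) * Nat.card (chevF4.group F)
    = Nat.card F ^ (chevF4.nroots / 2) * ([2, 6, 8, 12].map fun k => Nat.card F ^ k - 1).prod := by
  obtain ⟨h1, h2⟩ := cox_of_check DataF4.fd BsF4.Bs CxF4.mLL CxF4.cox
  have hH : (1) * Nat.card (chevF4.diagonalSubgroup F) = (Nat.card F - 1) ^ 4 := by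
    rw [one_mul, card_diagonal_F4, Nat.card_eq_fintype_card]
  exact card_group_final (F := F) (D := chevF4) (by simp) DataF4.agrees BsF4.Bs CxF4.mLL
    HsF4.reflBs' h1 h2 HsF4.gH HsF4.baseH _ HsF4.rbH HsF4.base_simple PcF4.ch PcF4.ok PcF4.hall
    _ 4 hH [2, 6, 8, 12] (by decide) PcF4.hpoly

theorem card_group_E6 : (Nat.gcd 3 (Nat.card F - 1)) * Nat.card (chevE6.group F)
    = Nat.card F ^ (chevE6.nroots / 2) * ([2, 5, 6, 8, 9, 12].map fun k => Nat.card F ^ k - 1).prod := by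
  obtain ⟨h1, h2⟩ := cox_of_check DataE6.fd BsE6.Bs CxE6.mLL CxE6.cox
  have hH : (Nat.gcd 3 (Nat.card F - 1)) * Nat.card (chevE6.diagonalSubgroup F) = (Nat.card F - 1) ^ 6 := by
    rw [Nat.card_eq_fintype_card (α := F)]
    exact card_diagonal_E6
  exact card_group_final (F := F) (D := chevE6) (by simp) DataE6.agrees BsE6.Bs CxE6.mLL
    HsE6.reflBs' h1 h2 HsE6.gH HsE6.baseH _ HsE6.rbH HsE6.base_simple PcE6.ch PcE6.ok PcE6.hall
    _ 6 hH [2, 5, 6, 8, 9, 12] (by decide) PcE6.hpoly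

theorem card_group_E7 : (Nat.gcd 2 (Nat.card F - 1)) * Nat.card (chevE7.group F)
    = Nat.card F ^ (chevE7.nroots / 2) * ([2, 6, 8, 10, 12, 14, 18].map fun k => Nat.card F ^ k - 1).prod := by
  obtain ⟨h1, h2⟩ := cox_of_check DataE7.fd BsE7.Bs CxE7.mLL CxE7.cox
  have hH : (Nat.gcd 2 (Nat.card F - 1)) * Nat.card (chevE7.diagonalSubgroup F) = (Nat.card F - 1) ^ 7 := by
    rw [Nat.card_eq_fintype_card (α := F)]
    exact card_diagonal_E7
  exact card_group_final (F := F) (D := chevE7) (by simp) DataE7.agrees BsE7.Bs CxE7.mLL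
    HsE7.reflBs' h1 h2 HsE7.gH HsE7.baseH _ HsE7.rbH HsE7.base_simple PcE7.ch PcE7.ok PcE7.hall
    _ 7 hH [2, 6, 8, 10, 12, 14, 18] (by decide) PcE7.hpoly

theorem card_group_E8 : (1) * Nat.card (chevE8.group F)
    = Nat.card F ^ (chevE8.nroots / 2) * ([2, 8, 12, 14, 18, 20, 24, 30].map fun k => Nat.card F ^ k - 1).prod := by
  obtain ⟨h1, h2⟩ := cox_of_check DataE8.fd BsE8.Bs CxE8.mLL CxE8.cox
  have hH : (1) * Nat.card (chevE8.diagonalSubgroup F) = (Nat.card F - 1) ^ 8 := by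
    rw [one_mul, card_diagonal_E8, Nat.card_eq_fintype_card]
  exact card_group_final (F := F) (D := chevE8) (by simp) DataE8.agrees BsE8.Bs CxE8.mLL
    HsE8.reflBs' h1 h2 HsE8.gH HsE8.baseH _ HsE8.rbH HsE8.base_simple PcE8.ch PcE8.ok PcE8.hall
    _ 8 hH [2, 8, 12, 14, 18, 20, 24, 30] (by decide) PcE8.hpoly

/-- the order of each of the seven groups, up to a factor `d`, is `q ^ N ∏ (q ^ k - 1)` -/
theorem card_group_all (D : ChevalleyDatum)
    (hD : D ∈ [chevG2, chevB2, chevD4, chevF4, chevE6, chevE7, chevE8]) :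
    ∃ (d : ℕ) (degs : List ℕ), (∀ k ∈ degs, 1 ≤ k) ∧ d * Nat.card (D.group F)
      = Nat.card F ^ (D.nroots / 2) * (degs.map fun k => Nat.card F ^ k - 1).prod := by
  simp only [List.mem_cons, List.not_mem_nil, or_false] at hD
  rcases hD with rfl | rfl | rfl | rfl | rfl | rfl | rfl
  · exact ⟨_, _, by decide, card_group_G2⟩
  · exact ⟨_, _, by decide, card_group_B2⟩
  · exact ⟨_, _, by decide, card_group_D4⟩
  · exact ⟨_, _, by decide, card_group_F4⟩
  · exact ⟨_, _, by decide, card_group_E6⟩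
  · exact ⟨_, _, by decide, card_group_E7⟩
  · exact ⟨_, _, by decide, card_group_E8⟩

end Cfsg.Agent.Lib.Helper5.Chev
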