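import Cfsg.Agent.Lib.Helper5.Chev.Groups
import Mathlib

/-!
# Conjugation by words in the `n_i`; the longest element (helper5)
-/

set_option autoImplicit false

namespace Cfsg.Agent.Lib.Helper5.Chev

open Cfsg.Lie
open scoped Matrix

/-- the action of a word of fundamental reflections on the roots -/
def wW (Bs : List ℕ) : List ℕ → ℕ → ℕ
  | [], s => s
  | i :: L, s => wOf (Bs.getD i 0) (wW Bs L s)

/-- the action of the inverse word -/
def wW' (Bs : List ℕ) : List ℕ → ℕ → ℕ
  | [], s => s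
  | i :: L, s => wW' Bs L (wOf (Bs.getD i 0) s)

/-- the check that the word maps the positive roots onto the negative roots -/
def w0b (D : ChevalleyDatum) (Bs L : List ℕ) : Bool :=
  allBelow D.nroots fun s => forceNat (wW Bs L s) fun a => forceNat (wW' Bs L s) fun b =>
    (!decide (D.IsPosRoot s) || decide (D.IsNegRoot a)) &&
      (!decide (D.IsNegRoot s) || decide (D.IsPosRoot b))

theorem w0b_spec (D : ChevalleyDatum) (Bs L : List ℕ) (h : w0b D Bs L = true) (s : ℕ)
    (hs : s < D.nroots) :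
    (D.IsPosRoot s → D.IsNegRoot (wW Bs L s)) ∧ (D.IsNegRoot s → D.IsPosRoot (wW' Bs L s)) := by
  have := allBelow_spec _ _ h s hs
  rw [forceNat_eq, forceNat_eq] at this
  simp only [Bool.and_eq_true, Bool.or_eq_true, Bool.not_eq_true', decide_eq_false_iff_not,
    decide_eq_true_eq] at this
  exact ⟨fun hp => this.1.resolve_left (fun hn => hn hp), fun hp => this.2.resolve_left (fun hn => hn hp)⟩

section

variable {F : Type*} [Field F] {T : FD} {D : ChevalleyDatum}

theorem simple_lt' (hA : T.Agrees D) {i : ℕ} (hi : i < D.rank) : D.simple i < D.nroots := by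
  rw [FD.simple_eq' hA i hi]; exact hA.simple_lt i hi

theorem neg_simple_lt' (hA : T.Agrees D) {i : ℕ} (hi : i < D.rank) :
    D.neg (D.simple i) < D.nroots := by
  rw [FD.neg_eq' hA _ (simple_lt' hA hi), FD.simple_eq' hA i hi]
  exact hA.neg_lt _ (hA.simple_lt i hi)

/-- `n_i` as a unit -/
def nUi (hA : T.Agrees D) (hadd : AllAdd F D) (i : ℕ) : GL D.Idx F :=
  if hi : i < D.rank then hadd.nU (D.simple i) (simple_lt' hA hi) (neg_simple_lt' hA hi) else 1

theorem nUi_pos (hA : T.Agrees D) (hadd : AllAdd F D) {i : ℕ} (hi : i < D.rank) :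
    nUi hA hadd i = hadd.nU (D.simple i) (simple_lt' hA hi) (neg_simple_lt' hA hi) := by
  rw [nUi, dif_pos hi]

theorem nUi_val (hA : T.Agrees D) (hadd : AllAdd F D) {i : ℕ} (hi : i < D.rank) :
    ((nUi hA hadd i : GL D.Idx F) : Matrix D.Idx D.Idx F) = D.nMat F (D.simple i) 1 := by
  rw [nUi_pos hA hadd hi]; rfl

theorem nUi_mem (hA : T.Agrees D) (hadd : AllAdd F D) (i : ℕ) :
    nUi hA hadd i ∈ D.monomialSubgroup F := by
  by_cases hi : i < D.rank
  · rw [nUi_pos hA hadd hi]
    exact hadd.nU_mem _ _ _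
  · rw [nUi, dif_neg hi]
    exact Subgroup.one_mem _

/-- conjugation of root elements by `n_i`, as units -/
theorem conjU (hA : T.Agrees D) (hadd : AllAdd F D) {i B : ℕ} (hi : i < D.rank)
    (c : ReflChecks T D i B) (s : ℕ) (hs : s < D.nroots) (t : F) :
    nUi hA hadd i * hadd.xU s t * (nUi hA hadd i)⁻¹
      = hadd.xU (wOf B s) (((etaOf B s : ℤ) : F) * t) := by
  have e := c.conj_x (F := F) hA hi s hs t
  have : nUi hA hadd i * hadd.xU s t = hadd.xU (wOf B s) (((etaOf B s : ℤ) : F) * t) * nUi hA hadd i := by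
    apply Units.ext
    rw [Units.val_mul, Units.val_mul, nUi_val hA hadd hi]
    exact e
  rw [this, mul_assoc, mul_inv_cancel, mul_one]

theorem conjU' (hA : T.Agrees D) (hadd : AllAdd F D) {i B : ℕ} (hi : i < D.rank)
    (c : ReflChecks T D i B) (s : ℕ) (hs : s < D.nroots) (t : F) :
    (nUi hA hadd i)⁻¹ * hadd.xU s t * nUi hA hadd i
      = hadd.xU (wOf B s) (((etaOf B (wOf B s) : ℤ) : F) * t) := by
  have hcert := c.cert hA
  have h1 := conjU hA hadd hi c (wOf B s) (hcert.w_lt s hs) (((etaOf B (wOf B s) : ℤ) : F) * t)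
  rw [hcert.w_w s hs, ← mul_assoc, hcert.eta_sq (F := F) _ (hcert.w_lt s hs), one_mul] at h1
  rw [← h1]
  group

/-- the product of a word of `n_i` -/
def nWordU (hA : T.Agrees D) (hadd : AllAdd F D) (L : List ℕ) : GL D.Idx F :=
  (L.map (nUi hA hadd)).prod

theorem nWordU_mem (hA : T.Agrees D) (hadd : AllAdd F D) (L : List ℕ) :
    nWordU hA hadd L ∈ D.monomialSubgroup F := by
  unfold nWordU
  apply Subgroup.list_prod_mem
  intro g hg
  rw [List.mem_map] at hg
  obtain ⟨i, _, rfl⟩ := hg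
  exact nUi_mem hA hadd i

theorem conj_word (hA : T.Agrees D) (hadd : AllAdd F D) (Bs : List ℕ)
    (hB : ∀ i < D.rank, ReflChecks T D i (Bs.getD i 0)) (L : List ℕ) (hL : ∀ i ∈ L, i < D.rank)
    (s : ℕ) (hs : s < D.nroots) (t : F) :
    wW Bs L s < D.nroots ∧ ∃ t' : F,
      nWordU hA hadd L * hadd.xU s t * (nWordU hA hadd L)⁻¹ = hadd.xU (wW Bs L s) t' := by
  induction L with
  | nil =>
    refine ⟨hs, t, ?_⟩
    simp [nWordU, wW]
  | cons i L ih =>
    have hi := hL i List.mem_cons_self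
    obtain ⟨h1, t', h2⟩ := ih (fun j hj => hL j (List.mem_cons_of_mem _ hj))
    refine ⟨((hB i hi).cert hA).w_lt _ h1,
      ((etaOf (Bs.getD i 0) (wW Bs L s) : ℤ) : F) * t', ?_⟩
    have : nWordU hA hadd (i :: L) = nUi hA hadd i * nWordU hA hadd L := by
      simp [nWordU]
    rw [this, mul_inv_rev]
    calc nUi hA hadd i * nWordU hA hadd L * hadd.xU s t * ((nWordU hA hadd L)⁻¹ * (nUi hA hadd i)⁻¹)
        = nUi hA hadd i * (nWordU hA hadd L * hadd.xU s t * (nWordU hA hadd L)⁻¹) *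
            (nUi hA hadd i)⁻¹ := by group
      _ = _ := by
        rw [h2, conjU hA hadd hi (hB i hi) _ h1]
        rfl

theorem conj_word' (hA : T.Agrees D) (hadd : AllAdd F D) (Bs : List ℕ)
    (hB : ∀ i < D.rank, ReflChecks T D i (Bs.getD i 0)) (L : List ℕ) (hL : ∀ i ∈ L, i < D.rank)
    (s : ℕ) (hs : s < D.nroots) (t : F) :
    wW' Bs L s < D.nroots ∧ ∃ t' : F,
      (nWordU hA hadd L)⁻¹ * hadd.xU s t * nWordU hA hadd L = hadd.xU (wW' Bs L s) t' := by
  induction L generalizing s t with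
  | nil =>
    refine ⟨hs, t, ?_⟩
    simp [nWordU, wW']
  | cons i L ih =>
    have hi := hL i List.mem_cons_self
    have hws := ((hB i hi).cert hA).w_lt s hs
    obtain ⟨h1, t', h2⟩ := ih (fun j hj => hL j (List.mem_cons_of_mem _ hj)) _ hws
      (((etaOf (Bs.getD i 0) (wOf (Bs.getD i 0) s) : ℤ) : F) * t)
    refine ⟨h1, t', ?_⟩
    have : nWordU hA hadd (i :: L) = nUi hA hadd i * nWordU hA hadd L := by
      simp [nWordU]
    rw [this, mul_inv_rev]
    calc (nWordU hA hadd L)⁻¹ * (nUi hA hadd i)⁻¹ * hadd.xU s t * (nUi hA hadd i * nWordU hA hadd L)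
        = (nWordU hA hadd L)⁻¹ * ((nUi hA hadd i)⁻¹ * hadd.xU s t * nUi hA hadd i) *
            nWordU hA hadd L := by group
      _ = _ := by
        rw [conjU' hA hadd hi (hB i hi) s hs, h2]
        rfl

/-- a word mapping the positive roots to the negative roots conjugates `U` to `V` -/
theorem longest_of (hA : T.Agrees D) (hadd : AllAdd F D) (Bs : List ℕ)
    (hB : ∀ i < D.rank, ReflChecks T D i (Bs.getD i 0)) (L : List ℕ) (hL : ∀ i ∈ L, i < D.rank)
    (hc : w0b D Bs L = true) :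
    ∃ n ∈ D.monomialSubgroup F,
      (D.posUnipotent F).map (MulAut.conj n).toMonoidHom = D.negUnipotent F := by
  refine ⟨nWordU hA hadd L, nWordU_mem hA hadd L, le_antisymm ?_ ?_⟩
  · rw [Subgroup.map_le_iff_le_comap]
    unfold ChevalleyDatum.posUnipotent
    rw [Subgroup.closure_le]
    rintro g ⟨r, t, hr, hg⟩
    have hg' : g = hadd.xU r t := Units.ext hg
    subst hg'
    show (MulAut.conj (nWordU hA hadd L)).toMonoidHom (hadd.xU r t) ∈ D.negUnipotent F
    obtain ⟨h1, t', h2⟩ := conj_word hA hadd Bs hB L hL r hr.1 t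
    have : (MulAut.conj (nWordU hA hadd L)).toMonoidHom (hadd.xU r t) = hadd.xU (wW Bs L r) t' := by
      rw [← h2]; rfl
    rw [this]
    apply Subgroup.subset_closure
    exact ⟨_, t', (w0b_spec D Bs L hc r hr.1).1 hr, rfl⟩
  · unfold ChevalleyDatum.negUnipotent
    rw [Subgroup.closure_le]
    rintro g ⟨r, t, hr, hg⟩
    have hg' : g = hadd.xU r t := Units.ext hg
    subst hg'
    obtain ⟨h1, t', h2⟩ := conj_word' hA hadd Bs hB L hL r hr.1 t
    rw [SetLike.mem_coe, Subgroup.mem_map]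
    refine ⟨hadd.xU (wW' Bs L r) t', ?_, ?_⟩
    · apply Subgroup.subset_closure
      exact ⟨_, t', (w0b_spec D Bs L hc r hr.1).2 hr, rfl⟩
    · rw [← h2]
      show nWordU hA hadd L * _ * (nWordU hA hadd L)⁻¹ = _
      group

end

end Cfsg.Agent.Lib.Helper5.Chev
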