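import Cfsg.Agent.Lib.Helper5.Chev.GenSimple
import Cfsg.Agent.Lib.Helper5.Chev.Longest
import Cfsg.Prelude.Def_ChevAutomorphisms
import Mathlib

/-!
# Generation of the Chevalley group by the monomial subgroup and some fundamental root subgroups
(helper5)
-/

set_option autoImplicit false
set_option maxRecDepth 100000

namespace Cfsg.Agent.Lib.Helper5.Chev

open Cfsg.Lie
open scoped Matrix

section

variable {F : Type*} [Field F] {T : FD} {D : ChevalleyDatum}

/-- a root element conjugate under a word in the `n_i` to root elements of a subgroup containing `N`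
lies in this subgroup -/
theorem xU_mem_of_conj (hA : T.Agrees D) (hadd : AllAdd F D) (Bs : List ℕ)
    (hB : ∀ i < D.rank, ReflChecks T D i (Bs.getD i 0)) (K : Subgroup (GL D.Idx F))
    (hN : D.monomialSubgroup F ≤ K) (s : ℕ) (hs : s < D.nroots) (L : List ℕ)
    (hL : ∀ i ∈ L, i < D.rank) (hK : ∀ t : F, hadd.xU (wW' Bs L s) t ∈ K) (t : F) :
    hadd.xU s t ∈ K := by
  obtain ⟨-, t', h2⟩ := conj_word' hA hadd Bs hB L hL s hs t
  have hn := hN (nWordU_mem hA hadd L)
  have : hadd.xU s t = nWordU hA hadd L * hadd.xU (wW' Bs L s) t' * (nWordU hA hadd L)⁻¹ := by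
    rw [← h2]; group
  rw [this]
  exact K.mul_mem (K.mul_mem hn (hK t')) (K.inv_mem hn)

theorem xU_mem_rootSubgroup (hadd : AllAdd F D) (r : ℕ) (t : F) :
    hadd.xU r t ∈ D.rootSubgroup F r :=
  Subgroup.subset_closure ⟨t, rfl⟩

end

theorem conj_simple_B2 : ∀ m k, m < chevB2.rank → k < chevB2.rank →
    chevB2.isLong (chevB2.simple m) = chevB2.isLong (chevB2.simple k) →
    ∃ L : List ℕ, (∀ i ∈ L, i < chevB2.rank) ∧ wW' BsB2.Bs L (chevB2.simple m) = chevB2.simple k := by
  intro m k hm hk
  have hm' : m < 2 := hm
  have hk' : k < 2 := hk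
  interval_cases m <;> interval_cases k
  · intro _; exact ⟨[], by decide, by decide +kernel⟩
  · intro h; exact absurd h (by decide +kernel)
  · intro h; exact absurd h (by decide +kernel)
  · intro _; exact ⟨[], by decide, by decide +kernel⟩

theorem conj_simple_G2 : ∀ m k, m < chevG2.rank → k < chevG2.rank →
    chevG2.isLong (chevG2.simple m) = chevG2.isLong (chevG2.simple k) →
    ∃ L : List ℕ, (∀ i ∈ L, i < chevG2.rank) ∧ wW' BsG2.Bs L (chevG2.simple m) = chevG2.simple k := by
  intro m k hm hk
  have hm' : m < 2 := hm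
  have hk' : k < 2 := hk
  interval_cases m <;> interval_cases k
  · intro _; exact ⟨[], by decide, by decide +kernel⟩
  · intro h; exact absurd h (by decide +kernel)
  · intro h; exact absurd h (by decide +kernel)
  · intro _; exact ⟨[], by decide, by decide +kernel⟩

theorem conj_simple_F4 : ∀ m k, m < chevF4.rank → k < chevF4.rank →
    chevF4.isLong (chevF4.simple m) = chevF4.isLong (chevF4.simple k) →
    ∃ L : List ℕ, (∀ i ∈ L, i < chevF4.rank) ∧ wW' BsF4.Bs L (chevF4.simple m) = chevF4.simple k := by
  intro m k hm hk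
  have hm' : m < 4 := hm
  have hk' : k < 4 := hk
  interval_cases m <;> interval_cases k
  · intro _; exact ⟨[], by decide, by decide +kernel⟩
  · intro _; exact ⟨[1, 0], by decide, by decide +kernel⟩
  · intro h; exact absurd h (by decide +kernel)
  · intro h; exact absurd h (by decide +kernel)
  · intro _; exact ⟨[0, 1], by decide, by decide +kernel⟩
  · intro _; exact ⟨[], by decide, by decide +kernel⟩
  · intro h; exact absurd h (by decide +kernel)
  · intro h; exact absurd h (by decide +kernel)
  · intro h; exact absurd h (by decide +kernel)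
  · intro h; exact absurd h (by decide +kernel)
  · intro _; exact ⟨[], by decide, by decide +kernel⟩
  · intro _; exact ⟨[3, 2], by decide, by decide +kernel⟩
  · intro h; exact absurd h (by decide +kernel)
  · intro h; exact absurd h (by decide +kernel)
  · intro _; exact ⟨[2, 3], by decide, by decide +kernel⟩
  · intro _; exact ⟨[], by decide, by decide +kernel⟩

section

variable {F : Type*} [Field F]

/-- generation by `N` and the root subgroups of a short and a long fundamental root -/
theorem group_le_short_long (D : ChevalleyDatum)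
    (hD : D ∈ [chevG2, chevB2, chevD4, chevF4, chevE6, chevE7, chevE8])
    (T : FD) (hA : T.Agrees D) (Bs : List ℕ) (hB : ∀ i < D.rank, ReflChecks T D i (Bs.getD i 0))
    (hconj : ∀ m k, m < D.rank → k < D.rank →
      D.isLong (D.simple m) = D.isLong (D.simple k) →
      ∃ L : List ℕ, (∀ i ∈ L, i < D.rank) ∧ wW' Bs L (D.simple m) = D.simple k)
    (i j : ℕ) (hi : i < D.rank) (hj : j < D.rank) (hshort : D.isLong (D.simple i) = false)
    (hlong : D.isLong (D.simple j) = true) :
    D.group F ≤ D.monomialSubgroup F ⊔ D.rootSubgroup F (D.simple i) ⊔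
      D.rootSubgroup F (D.simple j) := by
  have hadd := allAdd_all (F := F) D hD
  have hN : D.monomialSubgroup F ≤ D.monomialSubgroup F ⊔ D.rootSubgroup F (D.simple i) ⊔
      D.rootSubgroup F (D.simple j) := le_sup_of_le_left le_sup_left
  apply group_le_of D hD
  · intro m hm t
    have hms := (simple_lt_all D hD m hm).1
    cases hlm : D.isLong (D.simple m) with
    | false =>
      obtain ⟨L, hL, hw⟩ := hconj m i hm hi (by rw [hlm, hshort])
      apply xU_mem_of_conj hA hadd Bs hB _ hN _ hms L hL
      intro t'
      rw [hw]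
      exact Subgroup.mem_sup_left (Subgroup.mem_sup_right (xU_mem_rootSubgroup hadd _ t'))
    | true =>
      obtain ⟨L, hL, hw⟩ := hconj m j hm hj (by rw [hlm, hlong])
      apply xU_mem_of_conj hA hadd Bs hB _ hN _ hms L hL
      intro t'
      rw [hw]
      exact Subgroup.mem_sup_right (xU_mem_rootSubgroup hadd _ t')
  · intro m _ hp hq
    exact hN (AllAdd.nU_mem _ _ hp hq)

end

end Cfsg.Agent.Lib.Helper5.Chev
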