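import Cfsg.Agent.Lib.Helper5.Chev.HTransfer
import Mathlib

/-!
# The root elements as elements of the general linear group (helper5)
-/

set_option autoImplicit false

namespace Cfsg.Agent.Lib.Helper5.Chev

open Cfsg.Lie
open scoped Matrix

variable {F : Type*} [Field F] {T : FD} {D : ChevalleyDatum}

/-- all root elements are additive -/
def AllAdd (F : Type*) [Field F] (D : ChevalleyDatum) : Prop := ∀ s < D.nroots, Additive F D s

theorem x_out (r : ℕ) (hr : ¬ r < D.nroots) (t : F) : D.x F r t = 1 := by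
  rw [ChevalleyDatum.x, dif_neg hr]

theorem AllAdd.x_add (h : AllAdd F D) (r : ℕ) (t u : F) : D.x F r t * D.x F r u = D.x F r (t + u) := by
  by_cases hr : r < D.nroots
  · exact h r hr t u
  · rw [x_out r hr, x_out r hr, x_out r hr, Matrix.one_mul]

theorem AllAdd.x_mul_neg (h : AllAdd F D) (r : ℕ) (t : F) : D.x F r t * D.x F r (-t) = 1 := by
  rw [h.x_add, add_neg_cancel, x_zero]

theorem AllAdd.x_neg_mul (h : AllAdd F D) (r : ℕ) (t : F) : D.x F r (-t) * D.x F r t = 1 := by
  rw [h.x_add, neg_add_cancel, x_zero]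

/-- the root element as a unit -/
def AllAdd.xU (h : AllAdd F D) (r : ℕ) (t : F) : GL D.Idx F :=
  ⟨D.x F r t, D.x F r (-t), h.x_mul_neg r t, h.x_neg_mul r t⟩

theorem AllAdd.xU_val (h : AllAdd F D) (r : ℕ) (t : F) :
    ((h.xU r t : GL D.Idx F) : Matrix D.Idx D.Idx F) = D.x F r t := rfl

theorem AllAdd.xU_mem_group (h : AllAdd F D) (r : ℕ) (t : F) : h.xU r t ∈ D.group F := by
  by_cases hr : r < D.nroots
  · apply Subgroup.subset_closure
    exact ⟨⟨r, hr⟩, t, x_eq_xMat r hr t⟩
  · have : h.xU r t = 1 := Units.ext (x_out r hr t)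
    rw [this]
    exact Subgroup.one_mem _

/-- the word as a unit -/
def AllAdd.wordU (h : AllAdd F D) (w : List (ℕ × F)) : GL D.Idx F :=
  (w.map fun p => h.xU p.1 p.2).prod

theorem AllAdd.wordU_val (h : AllAdd F D) (w : List (ℕ × F)) :
    ((h.wordU w : GL D.Idx F) : Matrix D.Idx D.Idx F) = D.wordMat F w := by
  unfold AllAdd.wordU ChevalleyDatum.wordMat
  induction w with
  | nil => rfl
  | cons p w ih =>
    rw [List.map_cons, List.prod_cons, List.map_cons, List.prod_cons, Units.val_mul, ih]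
    rfl

theorem AllAdd.wordU_mem (h : AllAdd F D) (w : List (ℕ × F)) : h.wordU w ∈ D.group F := by
  unfold AllAdd.wordU
  apply Subgroup.list_prod_mem
  intro g hg
  rw [List.mem_map] at hg
  obtain ⟨p, _, rfl⟩ := hg
  exact h.xU_mem_group p.1 p.2

theorem AllAdd.mem_group_of_word (h : AllAdd F D) (g : GL D.Idx F) (w : List (ℕ × F))
    (hg : (g : Matrix D.Idx D.Idx F) = D.wordMat F w) : g ∈ D.group F := by
  have : g = h.wordU w := Units.ext (hg.trans (h.wordU_val w).symm)
  rw [this]
  exact h.wordU_mem w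

theorem AllAdd.mem_group_of_x (h : AllAdd F D) (g : GL D.Idx F) (r : ℕ) (t : F)
    (hg : (g : Matrix D.Idx D.Idx F) = D.x F r t) : g ∈ D.group F := by
  have : g = h.xU r t := Units.ext hg
  rw [this]
  exact h.xU_mem_group r t

theorem AllAdd.posUnipotent_le (h : AllAdd F D) : D.posUnipotent F ≤ D.group F := by
  unfold ChevalleyDatum.posUnipotent
  rw [Subgroup.closure_le]
  rintro g ⟨r, t, -, hg⟩
  exact h.mem_group_of_x g r t hg

theorem AllAdd.negUnipotent_le (h : AllAdd F D) : D.negUnipotent F ≤ D.group F := by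
  unfold ChevalleyDatum.negUnipotent
  rw [Subgroup.closure_le]
  rintro g ⟨r, t, -, hg⟩
  exact h.mem_group_of_x g r t hg

theorem AllAdd.diagonal_le (h : AllAdd F D) : D.diagonalSubgroup F ≤ D.group F := by
  unfold ChevalleyDatum.diagonalSubgroup
  rw [Subgroup.closure_le]
  rintro g ⟨r, t, -, -, hg⟩
  exact h.mem_group_of_word g _ hg

theorem AllAdd.monomial_le (h : AllAdd F D) : D.monomialSubgroup F ≤ D.group F := by
  unfold ChevalleyDatum.monomialSubgroup
  apply sup_le h.diagonal_le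
  rw [Subgroup.closure_le]
  rintro g ⟨r, -, hg⟩
  exact h.mem_group_of_word g _ hg

theorem AllAdd.borel_le (h : AllAdd F D) : D.borelSubgroup F ≤ D.group F :=
  sup_le h.posUnipotent_le h.diagonal_le

/-- `n_p(1)` as a unit -/
def AllAdd.nU (h : AllAdd F D) (p : ℕ) (hp : p < D.nroots) (hq : D.neg p < D.nroots) : GL D.Idx F :=
  ⟨D.nMat F p 1, nInv F D p, nMat_mul_nInv (h p hp) (h _ hq), nInv_mul_nMat (h p hp) (h _ hq)⟩

theorem AllAdd.nU_mem (h : AllAdd F D) (p : ℕ) (hp : p < D.nroots) (hq : D.neg p < D.nroots) :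
    h.nU p hp hq ∈ D.monomialSubgroup F := by
  unfold ChevalleyDatum.monomialSubgroup
  apply Subgroup.mem_sup_right
  apply Subgroup.subset_closure
  exact ⟨p, hp, rfl⟩

/-- membership of all root elements in a subgroup containing the fundamental root elements and the
elements `n_i` -/
theorem mem_of_reach (hA : T.Agrees D) (hadd : AllAdd F D) (Bs : List ℕ)
    (hB : ∀ i < D.rank, ReflChecks T D i (Bs.getD i 0))
    (gH : ℕ) (baseH : List ℕ) (fuel : ℕ) (hr : reachb T Bs gH baseH fuel = true)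
    (K : Subgroup (GL D.Idx F))
    (hbase : ∀ s ∈ baseH, ∀ t : F, hadd.xU s t ∈ K)
    (hn : ∀ i (hi : i < D.rank) (hp : D.simple i < D.nroots) (hq : D.neg (D.simple i) < D.nroots),
      hadd.nU (D.simple i) hp hq ∈ K) :
    ∀ s < D.nroots, ∀ t : F, hadd.xU s t ∈ K := by
  apply reach_all hA (fun s => ∀ t : F, hadd.xU s t ∈ K) Bs gH baseH fuel hr hbase
  · intro i hi s hs
    exact ((hB i hi).cert hA).w_lt s hs
  · intro i hi s hs h t
    have hp : D.simple i < D.nroots := by
      rw [FD.simple_eq' hA i hi]; exact hA.simple_lt i hi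
    have hq : D.neg (D.simple i) < D.nroots := by
      rw [FD.neg_eq' hA _ hp, FD.simple_eq' hA i hi]; exact hA.neg_lt _ (hA.simple_lt i hi)
    have e := (hB i hi).x_eq_conj (F := F) hA hi (hadd _ hp) (hadd _ hq) s hs t
    have : hadd.xU s t = hadd.nU (D.simple i) hp hq *
        hadd.xU (wOf (Bs.getD i 0) s) (((etaOf (Bs.getD i 0) (wOf (Bs.getD i 0) s) : ℤ) : F) * t) *
        (hadd.nU (D.simple i) hp hq)⁻¹ := by
      apply Units.ext
      rw [Units.val_mul, Units.val_mul]
      exact e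
    rw [this]
    exact K.mul_mem (K.mul_mem (hn i hi hp hq) (h _)) (K.inv_mem (hn i hi hp hq))

end Cfsg.Agent.Lib.Helper5.Chev
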