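import Cfsg.Agent.Lib.Helper5.Chev.HAll
import Cfsg.Agent.Lib.Helper5.Chev.Groups
import Mathlib

/-!
# The fundamental roots are positive; generation by fundamental root elements and the `n_i` (helper5)
-/

set_option autoImplicit false
set_option maxRecDepth 100000

namespace Cfsg.Agent.Lib.Helper5.Chev

open Cfsg.Lie
open scoped Matrix

theorem pos_simple_all (D : ChevalleyDatum)
    (hD : D ∈ [chevG2, chevB2, chevD4, chevF4, chevE6, chevE7, chevE8]) :
    ∀ j < D.rank, D.IsPosRoot (D.simple j) := by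
  simp only [List.mem_cons, List.not_mem_nil, or_false] at hD
  rcases hD with rfl | rfl | rfl | rfl | rfl | rfl | rfl
  · decide +kernel
  · decide +kernel
  · decide +kernel
  · decide +kernel
  · decide +kernel
  · decide +kernel
  · decide +kernel

/-- reachability of the fundamental roots -/
theorem reach_known (D : ChevalleyDatum)
    (hD : D ∈ [chevG2, chevB2, chevD4, chevF4, chevE6, chevE7, chevE8]) :
    ∃ (T : FD) (Bs : List ℕ) (gH : ℕ) (baseH : List ℕ) (fuel : ℕ), T.Agrees D ∧
      (∀ i < D.rank, ReflChecks T D i (Bs.getD i 0)) ∧ reachb T Bs gH baseH fuel = true ∧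
      ∀ s ∈ baseH, ∃ j < D.rank, s = D.simple j := by
  simp only [List.mem_cons, List.not_mem_nil, or_false] at hD
  rcases hD with rfl | rfl | rfl | rfl | rfl | rfl | rfl
  · exact ⟨_, _, _, _, _, DataG2.agrees, HsG2.reflBs', HsG2.rbH, HsG2.base_simple⟩
  · exact ⟨_, _, _, _, _, DataB2.agrees, HsB2.reflBs', HsB2.rbH, HsB2.base_simple⟩
  · exact ⟨_, _, _, _, _, DataD4.agrees, HsD4.reflBs', HsD4.rbH, HsD4.base_simple⟩
  · exact ⟨_, _, _, _, _, DataF4.agrees, HsF4.reflBs', HsF4.rbH, HsF4.base_simple⟩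
  · exact ⟨_, _, _, _, _, DataE6.agrees, HsE6.reflBs', HsE6.rbH, HsE6.base_simple⟩
  · exact ⟨_, _, _, _, _, DataE7.agrees, HsE7.reflBs', HsE7.rbH, HsE7.base_simple⟩
  · exact ⟨_, _, _, _, _, DataE8.agrees, HsE8.reflBs', HsE8.rbH, HsE8.base_simple⟩

theorem allAdd_all {F : Type*} [Field F] (D : ChevalleyDatum)
    (hD : D ∈ [chevG2, chevB2, chevD4, chevF4, chevE6, chevE7, chevE8]) : AllAdd F D :=
  additive_all D hD

/-- a subgroup containing the fundamental root elements and the elements `n_i` contains the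
Chevalley group -/
theorem group_le_of {F : Type*} [Field F] (D : ChevalleyDatum)
    (hD : D ∈ [chevG2, chevB2, chevD4, chevF4, chevE6, chevE7, chevE8])
    (K : Subgroup (GL D.Idx F))
    (hx : ∀ j < D.rank, ∀ t : F, (allAdd_all D hD).xU (D.simple j) t ∈ K)
    (hn : ∀ i (_ : i < D.rank) (hp : D.simple i < D.nroots) (hq : D.neg (D.simple i) < D.nroots),
      (allAdd_all (F := F) D hD).nU (D.simple i) hp hq ∈ K) :
    D.group F ≤ K := by
  obtain ⟨T, Bs, gH, baseH, fuel, hA, hB, hr, hbase⟩ := reach_known D hD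
  have key := mem_of_reach hA (allAdd_all (F := F) D hD) Bs hB gH baseH fuel hr K
    (by
      intro s hs t
      obtain ⟨j, hj, rfl⟩ := hbase s hs
      exact hx j hj t) hn
  unfold ChevalleyDatum.group
  rw [Subgroup.closure_le]
  rintro g ⟨r, t, hg⟩
  have : g = (allAdd_all D hD).xU r.val t := by
    apply Units.ext
    rw [hg, AllAdd.xU_val, x_eq_xMat r.val r.2]
  rw [this]
  exact key r.val r.2 t

/-- `B`, `N ≤ G` and `⟨B, N⟩ = G` -/
theorem borel_monomial {F : Type*} [Field F] (D : ChevalleyDatum)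
    (hD : D ∈ [chevG2, chevB2, chevD4, chevF4, chevE6, chevE7, chevE8]) :
    D.borelSubgroup F ≤ D.group F ∧ D.monomialSubgroup F ≤ D.group F ∧
      D.borelSubgroup F ⊔ D.monomialSubgroup F = D.group F := by
  have hadd := allAdd_all (F := F) D hD
  refine ⟨hadd.borel_le, hadd.monomial_le, le_antisymm (sup_le hadd.borel_le hadd.monomial_le) ?_⟩
  apply group_le_of D hD
  · intro j hj t
    apply Subgroup.mem_sup_left
    unfold ChevalleyDatum.borelSubgroup
    apply Subgroup.mem_sup_left
    apply Subgroup.subset_closure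
    exact ⟨D.simple j, t, pos_simple_all D hD j hj, rfl⟩
  · intro i _ hp hq
    apply Subgroup.mem_sup_right
    exact AllAdd.nU_mem _ _ hp hq

end Cfsg.Agent.Lib.Helper5.Chev
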