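import Cfsg.Agent.Lib.Helper5.Chev.Normal
import Cfsg.Agent.Lib.Helper5.Chev.PosAll
import Mathlib

/-!
# `H ⊴ N` for the seven data (helper5)
-/

set_option autoImplicit false

namespace Cfsg.Agent.Lib.Helper5.Chev

open Cfsg.Lie

theorem diagonal_normal_all {F : Type*} [Field F] (D : ChevalleyDatum)
    (hD : D ∈ [chevG2, chevB2, chevD4, chevF4, chevE6, chevE7, chevE8]) :
    ((D.diagonalSubgroup F).subgroupOf (D.monomialSubgroup F)).Normal := by
  obtain ⟨T, Bs, gH, baseH, fuel, hA, hB, hr, hbase⟩ := reach_known D hD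
  exact diagonal_normal_of hA (allAdd_all D hD) Bs hB gH baseH fuel hr hbase (hform_all' D hD)

end Cfsg.Agent.Lib.Helper5.Chev
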