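import Cfsg.Agent.Lib.Helper5.Chev.TriStmts
import Cfsg.Agent.Lib.Helper5.Chev.TrG2
import Cfsg.Agent.Lib.Helper5.Chev.TrB2
import Cfsg.Agent.Lib.Helper5.Chev.TrD4
import Cfsg.Agent.Lib.Helper5.Chev.TrF4
import Cfsg.Agent.Lib.Helper5.Chev.TrE6
import Cfsg.Agent.Lib.Helper5.Chev.TrE7
import Cfsg.Agent.Lib.Helper5.Chev.TrE8
import Mathlib

/-!
# Triangularity for the seven data (helper5)
-/

set_option autoImplicit false

namespace Cfsg.Agent.Lib.Helper5.Chev

open Cfsg.Lie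
open scoped Matrix

theorem tri_known (D : ChevalleyDatum)
    (hD : D ∈ [chevG2, chevB2, chevD4, chevF4, chevE6, chevE7, chevE8]) :
    ∃ T : FD, T.Agrees D ∧ ∀ r < D.nroots, TriOK T D r := by
  simp only [List.mem_cons, List.not_mem_nil, or_false] at hD
  rcases hD with rfl | rfl | rfl | rfl | rfl | rfl | rfl
  · exact ⟨_, DataG2.agrees, TrG2.triOK⟩
  · exact ⟨_, DataB2.agrees, TrB2.triOK⟩
  · exact ⟨_, DataD4.agrees, TrD4.triOK⟩
  · exact ⟨_, DataF4.agrees, TrF4.triOK⟩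
  · exact ⟨_, DataE6.agrees, TrE6.triOK⟩
  · exact ⟨_, DataE7.agrees, TrE7.triOK⟩
  · exact ⟨_, DataE8.agrees, TrE8.triOK⟩

variable {F : Type*} [Field F]

theorem unipotent_all (D : ChevalleyDatum)
    (hD : D ∈ [chevG2, chevB2, chevD4, chevF4, chevE6, chevE7, chevE8]) (g : GL D.Idx F)
    (hg : g ∈ D.posUnipotent F) :
    ((g : Matrix D.Idx D.Idx F) - 1) ^ (D.rank + D.nroots) = 0 := by
  obtain ⟨T, hA, htri⟩ := tri_known D hD
  exact unipotent_of_mem hA (allAdd_all D hD) htri g hg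

theorem nilpotent_all (D : ChevalleyDatum)
    (hD : D ∈ [chevG2, chevB2, chevD4, chevF4, chevE6, chevE7, chevE8]) :
    Group.IsNilpotent (D.posUnipotent F) := by
  obtain ⟨T, hA, htri⟩ := tri_known D hD
  exact posUnipotent_nilpotent hA (allAdd_all D hD) htri

theorem solvable_all (D : ChevalleyDatum)
    (hD : D ∈ [chevG2, chevB2, chevD4, chevF4, chevE6, chevE7, chevE8]) :
    Group.IsSolvable (D.borelSubgroup F) := by
  obtain ⟨T, hA, htri⟩ := tri_known D hD
  exact borel_solvable hD hA htri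

theorem borel_semidirect_all (D : ChevalleyDatum)
    (hD : D ∈ [chevG2, chevB2, chevD4, chevF4, chevE6, chevE7, chevE8]) :
    D.diagonalSubgroup F ≤ Subgroup.normalizer (D.posUnipotent F : Set (GL D.Idx F)) ∧
      D.posUnipotent F ⊓ D.diagonalSubgroup F = ⊥ := by
  obtain ⟨T, hA, htri⟩ := tri_known D hD
  exact ⟨diagonal_le_normalizer hD D.IsPosRoot (fun r hr => hr.1),
    posUnipotent_inf_diagonal hD hA htri⟩

theorem borel_inf_neg_all (D : ChevalleyDatum)
    (hD : D ∈ [chevG2, chevB2, chevD4, chevF4, chevE6, chevE7, chevE8]) :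
    D.borelSubgroup F ⊓ D.negUnipotent F = ⊥ ∧
      D.borelSubgroup F ⊓ (D.negUnipotent F ⊔ D.diagonalSubgroup F) = D.diagonalSubgroup F := by
  obtain ⟨T, hA, htri⟩ := tri_known D hD
  exact borel_inf_neg hD hA htri

end Cfsg.Agent.Lib.Helper5.Chev
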