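import Cfsg.Agent.Lib.Helper5.Chev.SimpleCompAll
import Cfsg.Agent.Lib.Helper5.Chev.NormalAll
import Cfsg.Agent.Lib.Helper5.Chev.TriAll
import Cfsg.Agent.Lib.Helper5.Chev.GenConj
import Mathlib

/-!
# The rank one case of the Bruhat decomposition: `B ∪ B n_p B` is a subgroup (helper5)
-/

set_option autoImplicit false

namespace Cfsg.Agent.Lib.Helper5.Chev

open Cfsg.Lie
open scoped Matrix

/-- the rank one case of the Bruhat decomposition: `B ∪ B n B` is a subgroup as soon as
`n² ∈ B` and `n B n⁻¹ ⊆ B ∪ B n B` -/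
theorem exists_subgroup_union_doubleCoset {G : Type*} [Group G] (B : Subgroup G) (n : G)
    (h2 : n * n ∈ B)
    (hc : ∀ b ∈ B, n * b * n⁻¹ ∈ (B : Set G) ∪ DoubleCoset.doubleCoset n (B : Set G) B) :
    ∃ P : Subgroup G, (P : Set G) = (B : Set G) ∪ DoubleCoset.doubleCoset n (B : Set G) B := by
  have hninv : n⁻¹ = (n * n)⁻¹ * n := by group
  have hninv' : n⁻¹ = n * (n * n)⁻¹ := by group
  refine ⟨{ carrier := (B : Set G) ∪ DoubleCoset.doubleCoset n (B : Set G) B
            mul_mem' := ?_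
            one_mem' := Or.inl B.one_mem
            inv_mem' := ?_ }, rfl⟩
  · intro a b ha hb
    rcases ha with ha | ha
    · rcases hb with hb | hb
      · exact Or.inl (B.mul_mem ha hb)
      · right
        rw [DoubleCoset.mem_doubleCoset] at hb ⊢
        obtain ⟨x, hx, y, hy, rfl⟩ := hb
        exact ⟨a * x, B.mul_mem ha hx, y, hy, by group⟩
    · rw [DoubleCoset.mem_doubleCoset] at ha
      obtain ⟨x, hx, y, hy, rfl⟩ := ha
      rcases hb with hb | hb
      · right
        rw [DoubleCoset.mem_doubleCoset]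
        exact ⟨x, hx, y * b, B.mul_mem hy hb, by group⟩
      · rw [DoubleCoset.mem_doubleCoset] at hb
        obtain ⟨x', hx', y', hy', rfl⟩ := hb
        have e : x * n * y * (x' * n * y') = x * (n * (y * x') * n⁻¹) * (n * n * y') := by group
        rw [e]
        rcases hc (y * x') (B.mul_mem hy hx') with h | h
        · left
          exact B.mul_mem (B.mul_mem hx h) (B.mul_mem h2 hy')
        · right
          rw [DoubleCoset.mem_doubleCoset] at h ⊢
          obtain ⟨b1, hb1, b2, hb2, hb⟩ := h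
          rw [hb]
          exact ⟨x * b1, B.mul_mem hx hb1, b2 * (n * n * y'),
            B.mul_mem hb2 (B.mul_mem h2 hy'), by group⟩
  · intro a ha
    rcases ha with ha | ha
    · exact Or.inl (B.inv_mem ha)
    · right
      rw [DoubleCoset.mem_doubleCoset] at ha ⊢
      obtain ⟨x, hx, y, hy, rfl⟩ := ha
      refine ⟨y⁻¹ * (n * n)⁻¹, B.mul_mem (B.inv_mem hy) (B.inv_mem h2), x⁻¹, B.inv_mem hx, ?_⟩
      group

section

variable {F : Type*} [Field F] {T : FD} {D : ChevalleyDatum}

/-- the elements of a root subgroup -/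
theorem mem_rootSubgroup_iff (hadd : AllAdd F D) (r : ℕ) (g : GL D.Idx F) :
    g ∈ D.rootSubgroup F r ↔ ∃ t : F, g = hadd.xU r t := by
  constructor
  · intro hg
    unfold ChevalleyDatum.rootSubgroup at hg
    induction hg using Subgroup.closure_induction with
    | mem x hx =>
      obtain ⟨t, ht⟩ := hx
      exact ⟨t, Units.ext ht⟩
    | one => exact ⟨0, Units.ext (x_zero r).symm⟩
    | mul x y _ _ hx hy =>
      obtain ⟨t, rfl⟩ := hx
      obtain ⟨u, rfl⟩ := hy
      exact ⟨t + u, Units.ext (hadd.x_add r t u)⟩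
    | inv x _ hx =>
      obtain ⟨t, rfl⟩ := hx
      refine ⟨-t, ?_⟩
      rw [inv_eq_iff_mul_eq_one]
      apply Units.ext
      rw [Units.val_mul]
      exact hadd.x_mul_neg r t
  · rintro ⟨t, rfl⟩
    exact xU_mem_rootSubgroup hadd r t

/-- `n_p(t)` as a unit -/
theorem wordU_nWord (hadd : AllAdd F D) (p : ℕ) (t : F) :
    hadd.wordU (D.nWord p t) = hadd.xU p t * hadd.xU (D.neg p) (-t⁻¹) * hadd.xU p t := by
  unfold AllAdd.wordU ChevalleyDatum.nWord
  simp only [List.map_cons, List.map_nil, List.prod_cons, List.prod_nil, mul_one, mul_assoc]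

theorem wordU_hWord (hadd : AllAdd F D) (p : ℕ) (t : F) :
    hadd.wordU (D.hWord p t) = hadd.wordU (D.nWord p t) * hadd.wordU (D.nWord p (-1)) := by
  unfold AllAdd.wordU ChevalleyDatum.hWord
  rw [List.map_append, List.prod_append]

theorem wordU_nWord_neg_one (hadd : AllAdd F D) (p : ℕ) (hp : p < D.nroots)
    (hq : D.neg p < D.nroots) : hadd.wordU (D.nWord p (-1)) = (hadd.nU p hp hq)⁻¹ := by
  rw [eq_inv_iff_mul_eq_one]
  apply Units.ext
  rw [Units.val_mul, hadd.wordU_val]
  have : D.wordMat F (D.nWord p (-1)) = nInv F D p := by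
    unfold ChevalleyDatum.wordMat ChevalleyDatum.nWord nInv
    simp only [List.map_cons, List.map_nil, List.prod_cons, List.prod_nil, mul_one]
    have : -(-1 : F)⁻¹ = 1 := by rw [inv_neg, inv_one, neg_neg]
    rw [this]
  rw [this]
  exact nInv_mul_nMat (hadd p hp) (hadd _ hq)

/-- `h_p(t)` as an element of `H` -/
theorem wordU_hWord_mem (hadd : AllAdd F D) (p : ℕ) (hp : p < D.nroots) (t : F) (ht : t ≠ 0) :
    hadd.wordU (D.hWord p t) ∈ D.diagonalSubgroup F := by
  apply Subgroup.subset_closure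
  exact ⟨p, t, hp, ht, hadd.wordU_val _⟩

/-- `n_p(t) = h_p(t) n_p` -/
theorem wordU_nWord_eq (hadd : AllAdd F D) (p : ℕ) (hp : p < D.nroots)
    (hq : D.neg p < D.nroots) (t : F) :
    hadd.wordU (D.nWord p t) = hadd.wordU (D.hWord p t) * hadd.nU p hp hq := by
  rw [wordU_hWord, wordU_nWord_neg_one hadd p hp hq, inv_mul_cancel_right]

/-- `n_p² ∈ H` -/
theorem nU_sq_mem (hadd : AllAdd F D) (p : ℕ) (hp : p < D.nroots) (hq : D.neg p < D.nroots) :
    hadd.nU p hp hq * hadd.nU p hp hq ∈ D.diagonalSubgroup F := by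
  have h := wordU_hWord_mem hadd p hp (-1 : F) (neg_ne_zero.2 one_ne_zero)
  rw [wordU_hWord, wordU_nWord_neg_one hadd p hp hq, ← mul_inv_rev] at h
  exact (Subgroup.inv_mem_iff _).1 h

/-- `x_{-p}(u) ∈ B n_p B` for `u ≠ 0` -/
theorem xU_neg_eq (hadd : AllAdd F D) (p : ℕ) (hp : p < D.nroots) (hq : D.neg p < D.nroots)
    (u : F) (_hu : u ≠ 0) :
    hadd.xU (D.neg p) u = (hadd.xU p (-u⁻¹))⁻¹ * hadd.wordU (D.hWord p (-u⁻¹)) *
      hadd.nU p hp hq * (hadd.xU p (-u⁻¹))⁻¹ := by
  have h := wordU_nWord_eq hadd p hp hq (-u⁻¹)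
  rw [wordU_nWord] at h
  have e : -(-u⁻¹)⁻¹ = u := by rw [inv_neg, inv_inv, neg_neg]
  rw [e] at h
  rw [mul_assoc ((hadd.xU p (-u⁻¹))⁻¹), ← h]
  group

/-- the conjugate of `x_p(t)` by `n_p` -/
theorem nU_conj_xU (hA : T.Agrees D) (hadd : AllAdd F D) (i B : ℕ) (hi : i < D.rank)
    (c : ReflChecks T D i B) (hp : D.simple i < D.nroots) (hq : D.neg (D.simple i) < D.nroots)
    (t : F) :
    hadd.nU (D.simple i) hp hq * hadd.xU (D.simple i) t * (hadd.nU (D.simple i) hp hq)⁻¹
      = hadd.xU (D.neg (D.simple i)) (((etaOf B (D.simple i) : ℤ) : F) * t) := by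
  rw [mul_inv_eq_iff_eq_mul]
  apply Units.ext
  rw [Units.val_mul, Units.val_mul]
  have h := c.conj_x (F := F) hA hi (D.simple i) hp t
  have hw : wOf B (D.simple i) = D.neg (D.simple i) := by
    have hs := (c.side hA).2.2 (D.simple i) hp
    rw [← hs.2.2, FD.neg_eq' hA _ hp, FD.simple_eq' hA i hi]
    unfold FD.reflect
    rw [if_pos rfl]
  rw [hw] at h
  exact h

end

section

variable {F : Type*} [Field F]

/-- `B ∪ B n_p B` is a subgroup -/
theorem rank_one_all (D : ChevalleyDatum)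
    (hD : D ∈ [chevG2, chevB2, chevD4, chevF4, chevE6, chevE7, chevE8]) (i : ℕ) (hi : i < D.rank)
    (n : GL D.Idx F) (hn : (n : Matrix D.Idx D.Idx F) = D.nMat F (D.simple i) 1) :
    ∃ P : Subgroup (GL D.Idx F), (P : Set (GL D.Idx F)) =
      (D.borelSubgroup F : Set (GL D.Idx F)) ∪
        DoubleCoset.doubleCoset n (D.borelSubgroup F : Set (GL D.Idx F)) (D.borelSubgroup F) := by
  have hadd := allAdd_all (F := F) D hD
  obtain ⟨hp, hq⟩ := simple_lt_all D hD i hi
  obtain ⟨T, Bs, gH, baseH, fuel, hA, hB, -, -⟩ := reach_known D hD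
  have hn' : n = hadd.nU (D.simple i) hp hq := Units.ext hn
  obtain ⟨hnorm, hU⟩ := simple_complement (F := F) D hD i hi
  have hHU := (borel_semidirect_all (F := F) D hD).1
  have hUB : D.posUnipotent F ≤ D.borelSubgroup F := le_sup_left
  have hHB : D.diagonalSubgroup F ≤ D.borelSubgroup F := le_sup_right
  have hnN : n ∈ D.monomialSubgroup F := by rw [hn']; exact hadd.nU_mem _ hp hq
  have hNH : D.monomialSubgroup F ≤ Subgroup.normalizer (D.diagonalSubgroup F : Set (GL D.Idx F)) :=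
    (Subgroup.normal_subgroupOf_iff_le_normalizer le_sup_left).1 (diagonal_normal_all D hD)
  have hnUp : n ∈ Subgroup.normalizer
      (Subgroup.closure (compSet F D (D.simple i)) : Set (GL D.Idx F)) := by
    apply hnorm
    have : n = hadd.xU (D.simple i) 1 * (hadd.xU (D.neg (D.simple i)) (-1) *
        hadd.xU (D.simple i) 1) := by
      rw [hn']
      apply Units.ext
      rw [Units.val_mul, Units.val_mul]
      exact nMat_one (D.simple i)
    rw [this]
    exact Subgroup.mul_mem _ (Subgroup.mem_sup_left (xU_mem_rootSubgroup hadd _ _))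
      (Subgroup.mul_mem _ (Subgroup.mem_sup_right (xU_mem_rootSubgroup hadd _ _))
        (Subgroup.mem_sup_left (xU_mem_rootSubgroup hadd _ _)))
  -- products with elements of `B`
  have hmul : ∀ b1 ∈ D.borelSubgroup F, ∀ b2 ∈ D.borelSubgroup F, ∀ ω,
      ω ∈ (D.borelSubgroup F : Set (GL D.Idx F)) ∪
        DoubleCoset.doubleCoset n (D.borelSubgroup F : Set (GL D.Idx F)) (D.borelSubgroup F) →
      b1 * ω * b2 ∈ (D.borelSubgroup F : Set (GL D.Idx F)) ∪
        DoubleCoset.doubleCoset n (D.borelSubgroup F : Set (GL D.Idx F)) (D.borelSubgroup F) := by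
    intro b1 hb1 b2 hb2 ω hω
    rcases hω with hω | hω
    · exact Or.inl (Subgroup.mul_mem _ (Subgroup.mul_mem _ hb1 hω) hb2)
    · right
      rw [DoubleCoset.mem_doubleCoset] at hω ⊢
      obtain ⟨x, hx, y, hy, rfl⟩ := hω
      exact ⟨b1 * x, Subgroup.mul_mem _ hb1 hx, y * b2, Subgroup.mul_mem _ hy hb2, by group⟩
  apply exists_subgroup_union_doubleCoset
  · rw [hn']
    exact hHB (nU_sq_mem hadd _ hp hq)
  · intro b hb
    unfold ChevalleyDatum.borelSubgroup at hb
    rw [← SetLike.mem_coe, Subgroup.coe_mul_of_right_le_normalizer_left _ _ hHU,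
      Set.mem_mul] at hb
    obtain ⟨u, hu, h, hh, rfl⟩ := hb
    rw [SetLike.mem_coe, ← hU, ← SetLike.mem_coe,
      Subgroup.coe_mul_of_right_le_normalizer_left _ _ (le_sup_left.trans hnorm),
      Set.mem_mul] at hu
    obtain ⟨u', hu', x, hx, rfl⟩ := hu
    rw [SetLike.mem_coe, mem_rootSubgroup_iff hadd] at hx
    obtain ⟨t, rfl⟩ := hx
    have e : n * (u' * hadd.xU (D.simple i) t * h) * n⁻¹
        = (n * u' * n⁻¹) * (n * hadd.xU (D.simple i) t * n⁻¹) * (n * h * n⁻¹) := by group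
    rw [e]
    apply hmul
    · apply hUB
      rw [← hU]
      exact Subgroup.mem_sup_left ((Subgroup.mem_normalizer_iff.1 hnUp u').1 hu')
    · exact hHB ((Subgroup.mem_normalizer_iff.1 (hNH hnN) h).1 hh)
    · rw [hn', nU_conj_xU hA hadd i _ hi (hB i hi) hp hq t]
      by_cases h0 : ((etaOf (Bs.getD i 0) (D.simple i) : ℤ) : F) * t = 0
      · left
        rw [h0]
        have : hadd.xU (D.neg (D.simple i)) 0 = 1 := Units.ext (x_zero _)
        rw [this]
        exact Subgroup.one_mem _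
      · right
        rw [xU_neg_eq hadd _ hp hq _ h0, DoubleCoset.mem_doubleCoset]
        have hx1 : (hadd.xU (D.simple i) (-(((etaOf (Bs.getD i 0) (D.simple i) : ℤ) : F) * t)⁻¹))⁻¹
            ∈ D.borelSubgroup F := by
          apply Subgroup.inv_mem
          apply hUB
          apply Subgroup.subset_closure
          exact ⟨_, _, pos_simple_all D hD i hi, rfl⟩
        refine ⟨_, Subgroup.mul_mem _ hx1 (hHB (wordU_hWord_mem hadd _ hp _
          (neg_ne_zero.2 (inv_ne_zero h0)))), _, hx1, rfl⟩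

end

end Cfsg.Agent.Lib.Helper5.Chev
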