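import Cfsg.Agent.Lib.Helper5.Chev.HExplicit
import Cfsg.Agent.Lib.Helper5.Chev.PosAll
import Mathlib

/-!
# The diagonal subgroup consists of products of the `h_{p_i}(c_i)` (helper5)
-/

set_option autoImplicit false
set_option maxRecDepth 100000

namespace Cfsg.Agent.Lib.Helper5.Chev

open Cfsg.Lie
open scoped Matrix

theorem coroot_simple_all (D : ChevalleyDatum)
    (hD : D ∈ [chevG2, chevB2, chevD4, chevF4, chevE6, chevE7, chevE8]) :
    ∀ j < D.rank, ∀ k < D.rank,
      (D.coroot.getD (D.simple j) #[]).getD k 0 = if k = j then 1 else 0 := by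
  simp only [List.mem_cons, List.not_mem_nil, or_false] at hD
  rcases hD with rfl | rfl | rfl | rfl | rfl | rfl | rfl
  · decide +kernel
  · decide +kernel
  · decide +kernel
  · decide +kernel
  · decide +kernel
  · decide +kernel
  · decide +kernel

/-- the weight of `h_s(c)` for all roots of the seven data -/
theorem hformK_all' {F : Type*} [Field F] (D : ChevalleyDatum)
    (hD : D ∈ [chevG2, chevB2, chevD4, chevF4, chevE6, chevE7, chevE8]) :
    ∀ s < D.nroots, HFormK F D s (pairD D s) := by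
  obtain ⟨T, Bs, gH, baseH, fuel, hA, hB, hr, hbase⟩ := reach_known D hD
  have hc := coroot_simple_all D hD
  have hadd := allAdd_all (F := F) D hD
  clear hB hr hbase hA
  simp only [List.mem_cons, List.not_mem_nil, or_false] at hD
  rcases hD with rfl | rfl | rfl | rfl | rfl | rfl | rfl
  · exact hformK_all DataG2.agrees BsG2.Bs HsG2.reflBs' hadd _ _ _ HsG2.rbH HsG2.base_simple HsG2.hm hc
  · exact hformK_all DataB2.agrees BsB2.Bs HsB2.reflBs' hadd _ _ _ HsB2.rbH HsB2.base_simple HsB2.hm hc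
  · exact hformK_all DataD4.agrees BsD4.Bs HsD4.reflBs' hadd _ _ _ HsD4.rbH HsD4.base_simple HsD4.hm hc
  · exact hformK_all DataF4.agrees BsF4.Bs HsF4.reflBs' hadd _ _ _ HsF4.rbH HsF4.base_simple HsF4.hm hc
  · exact hformK_all DataE6.agrees BsE6.Bs HsE6.reflBs' hadd _ _ _ HsE6.rbH HsE6.base_simple HsE6.hm hc
  · exact hformK_all DataE7.agrees BsE7.Bs HsE7.reflBs' hadd _ _ _ HsE7.rbH HsE7.base_simple HsE7.hm hc
  · exact hformK_all DataE8.agrees BsE8.Bs HsE8.reflBs' hadd _ _ _ HsE8.rbH HsE8.base_simple HsE8.hm hc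

/-- `h_s(c)` is the diagonal matrix of the weight `v ↦ 2(s, v)/(s, s)` -/
theorem hMat_eq_dK_all {F : Type*} [Field F] (D : ChevalleyDatum)
    (hD : D ∈ [chevG2, chevB2, chevD4, chevF4, chevE6, chevE7, chevE8]) (s : ℕ) (hs : s < D.nroots)
    (c : F) (hc : c ≠ 0) : D.hMat F s c = dK F D (pairD D s) c :=
  (hformK_all' D hD s hs).hMat c hc

theorem hMat_simple_all {F : Type*} [Field F] (D : ChevalleyDatum)
    (hD : D ∈ [chevG2, chevB2, chevD4, chevF4, chevE6, chevE7, chevE8]) (i : ℕ) (hi : i < D.rank)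
    (c : F) (hc : c ≠ 0) : D.hMat F (D.simple i) c = dK F D (D.cartan i) c := by
  obtain ⟨T, Bs, hA, hB, hm⟩ := known_h D hD
  exact (hB i hi).hMat_simple hA hi (hm i hi) c hc

section

variable {F : Type*} [Field F] {D : ChevalleyDatum}

/-- the diagonal matrix `∏ h_{p_i}(c_i)` over a list of indices -/
def dProdL (F : Type*) [Field F] (D : ChevalleyDatum) (L : List ℕ) (c : ℕ → F) :
    Matrix D.Idx D.Idx F :=
  Matrix.diagonal (Sum.elim (fun _ => (1 : F))
    (fun v : Fin D.nroots => (L.map fun i => c i ^ (D.cartan i v.val)).prod))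

theorem wordMat_append (w₁ w₂ : List (ℕ × F)) :
    D.wordMat F (w₁ ++ w₂) = D.wordMat F w₁ * D.wordMat F w₂ := by
  unfold ChevalleyDatum.wordMat
  rw [List.map_append, List.prod_append]

theorem wordMat_flatMap (L : List ℕ) (c : ℕ → F) :
    D.wordMat F (L.flatMap fun i => D.hWord (D.simple i) (c i))
      = (L.map fun i => D.hMat F (D.simple i) (c i)).prod := by
  induction L with
  | nil => rfl
  | cons i L ih =>
    rw [List.flatMap_cons, wordMat_append, ih, List.map_cons, List.prod_cons]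
    rfl

theorem prod_hMat_eq (hD : D ∈ [chevG2, chevB2, chevD4, chevF4, chevE6, chevE7, chevE8])
    (L : List ℕ) (hL : ∀ i ∈ L, i < D.rank) (c : ℕ → F) (hc : ∀ i ∈ L, c i ≠ 0) :
    (L.map fun i => D.hMat F (D.simple i) (c i)).prod = dProdL F D L c := by
  induction L with
  | nil =>
    unfold dProdL
    rw [List.map_nil, List.prod_nil, ← Matrix.diagonal_one]
    congr 1
    ext x
    rcases x with j | s <;> simp
  | cons i L ih =>
    rw [List.map_cons, List.prod_cons,
      ih (fun j hj => hL j (List.mem_cons_of_mem _ hj)) (fun j hj => hc j (List.mem_cons_of_mem _ hj)),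
      hMat_simple_all D hD i (hL i List.mem_cons_self) (c i) (hc i List.mem_cons_self)]
    unfold dK dProdL
    rw [Matrix.diagonal_mul_diagonal]
    congr 1
    ext x
    rcases x with j | s <;> simp

theorem dProdL_one (L : List ℕ) : dProdL F D L (fun _ => 1) = 1 := by
  unfold dProdL
  rw [← Matrix.diagonal_one]
  congr 1
  ext x
  rcases x with j | s
  · rfl
  · simp

theorem dProdL_mul (L : List ℕ) (c c' : ℕ → F) :
    dProdL F D L c * dProdL F D L c' = dProdL F D L (fun i => c i * c' i) := by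
  unfold dProdL
  rw [Matrix.diagonal_mul_diagonal]
  congr 1
  ext x
  rcases x with j | s
  · simp
  · simp only [Sum.elim_inr, mul_zpow]
    rw [← List.prod_map_mul]

theorem zpow_list_sum (t : F) (ht : t ≠ 0) (L : List ℕ) (f : ℕ → ℤ) :
    t ^ (L.map f).sum = (L.map fun k => t ^ f k).prod := by
  induction L with
  | nil => simp
  | cons k L ih => rw [List.map_cons, List.sum_cons, zpow_add₀ ht, ih, List.map_cons, List.prod_cons]

/-- `h_s(t)` as a product over the fundamental roots -/
theorem dK_pair_eq (s : ℕ) (t : F) (ht : t ≠ 0) :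
    dK F D (pairD D s) t
      = dProdL F D (List.range D.rank) (fun i => t ^ ((D.coroot.getD s #[]).getD i 0)) := by
  unfold dK dProdL pairD
  congr 1
  ext x
  rcases x with j | v
  · rfl
  · simp only [Sum.elim_inr]
    rw [zpow_list_sum t ht]
    congr 1
    apply List.map_congr_left
    intro k _
    rw [zpow_mul]

/-- every element of `H` is a product of the `h_{p_i}(c_i)` -/
theorem diagonal_eq_prod (hD : D ∈ [chevG2, chevB2, chevD4, chevF4, chevE6, chevE7, chevE8])
    (g : GL D.Idx F) (hg : g ∈ D.diagonalSubgroup F) :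
    ∃ c : ℕ → F, (∀ i, c i ≠ 0) ∧
      (g : Matrix D.Idx D.Idx F) = dProdL F D (List.range D.rank) c := by
  unfold ChevalleyDatum.diagonalSubgroup at hg
  induction hg using Subgroup.closure_induction with
  | mem x hx =>
    obtain ⟨r, t, hr, ht, hx⟩ := hx
    refine ⟨fun i => t ^ ((D.coroot.getD r #[]).getD i 0), fun i => zpow_ne_zero _ ht, ?_⟩
    rw [hx, hMat_eq_dK_all D hD r hr t ht, dK_pair_eq r t ht]
  | one => exact ⟨fun _ => 1, fun _ => one_ne_zero, by rw [dProdL_one]; rfl⟩
  | mul x y _ _ hx hy =>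
    obtain ⟨c, hc, hx⟩ := hx
    obtain ⟨c', hc', hy⟩ := hy
    exact ⟨fun i => c i * c' i, fun i => mul_ne_zero (hc i) (hc' i), by
      rw [Units.val_mul, hx, hy, dProdL_mul]⟩
  | inv x _ hx =>
    obtain ⟨c, hc, hx⟩ := hx
    refine ⟨fun i => (c i)⁻¹, fun i => inv_ne_zero (hc i), ?_⟩
    have h1 : (x : Matrix D.Idx D.Idx F) * dProdL F D (List.range D.rank) (fun i => (c i)⁻¹) = 1 := by
      rw [hx, dProdL_mul]
      have : (fun i => c i * (c i)⁻¹) = fun _ => (1 : F) := by
        funext i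
        exact mul_inv_cancel₀ (hc i)
      rw [this, dProdL_one]
    have h2 : ((x⁻¹ : GL D.Idx F) : Matrix D.Idx D.Idx F) * (x : Matrix D.Idx D.Idx F) = 1 := by
      rw [← Units.val_mul, inv_mul_cancel, Units.val_one]
    calc ((x⁻¹ : GL D.Idx F) : Matrix D.Idx D.Idx F)
        = ((x⁻¹ : GL D.Idx F) : Matrix D.Idx D.Idx F) *
            ((x : Matrix D.Idx D.Idx F) * dProdL F D (List.range D.rank) (fun i => (c i)⁻¹)) := by
          rw [h1, Matrix.mul_one]
      _ = _ := by rw [← Matrix.mul_assoc, h2, Matrix.one_mul]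

/-- the statement on the diagonal subgroup -/
theorem diagonal_eq_prod_simple (hD : D ∈ [chevG2, chevB2, chevD4, chevF4, chevE6, chevE7, chevE8])
    (g : GL D.Idx F) (hg : g ∈ D.diagonalSubgroup F) :
    ∃ c : ℕ → F, (∀ i < D.rank, c i ≠ 0) ∧
      (g : Matrix D.Idx D.Idx F)
        = D.wordMat F ((List.range D.rank).flatMap fun i => D.hWord (D.simple i) (c i)) := by
  obtain ⟨c, hc, hg'⟩ := diagonal_eq_prod hD g hg
  refine ⟨c, fun i _ => hc i, ?_⟩
  rw [wordMat_flatMap, prod_hMat_eq hD _ (fun i hi => List.mem_range.1 hi) c (fun i _ => hc i), hg']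

end

end Cfsg.Agent.Lib.Helper5.Chev
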