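import Cfsg.Agent.Lib.Helper5.Chev.Longest
import Mathlib

/-!
# The diagonal subgroup is normal in the monomial subgroup (helper5)
-/

set_option autoImplicit false

namespace Cfsg.Agent.Lib.Helper5.Chev

open Cfsg.Lie
open scoped Matrix

/-- an element conjugating the generators of a subgroup into it, both ways, normalises it -/
theorem mem_normalizer_closure {G : Type*} [Group G] (S : Set G) (g : G)
    (h1 : ∀ s ∈ S, g * s * g⁻¹ ∈ Subgroup.closure S)
    (h2 : ∀ s ∈ S, g⁻¹ * s * g ∈ Subgroup.closure S) :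
    g ∈ Subgroup.normalizer (Subgroup.closure S : Set G) := by
  have k1 : ∀ h ∈ Subgroup.closure S, g * h * g⁻¹ ∈ Subgroup.closure S := by
    intro h hh
    induction hh using Subgroup.closure_induction with
    | mem x hx => exact h1 x hx
    | one => simp
    | mul x y _ _ hx hy =>
      have : g * (x * y) * g⁻¹ = (g * x * g⁻¹) * (g * y * g⁻¹) := by group
      rw [this]; exact Subgroup.mul_mem _ hx hy
    | inv x _ hx =>
      have : g * x⁻¹ * g⁻¹ = (g * x * g⁻¹)⁻¹ := by group
      rw [this]; exact Subgroup.inv_mem _ hx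
  have k2 : ∀ h ∈ Subgroup.closure S, g⁻¹ * h * g ∈ Subgroup.closure S := by
    intro h hh
    induction hh using Subgroup.closure_induction with
    | mem x hx => exact h2 x hx
    | one => simp
    | mul x y _ _ hx hy =>
      have : g⁻¹ * (x * y) * g = (g⁻¹ * x * g) * (g⁻¹ * y * g) := by group
      rw [this]; exact Subgroup.mul_mem _ hx hy
    | inv x _ hx =>
      have : g⁻¹ * x⁻¹ * g = (g⁻¹ * x * g)⁻¹ := by group
      rw [this]; exact Subgroup.inv_mem _ hx
  rw [Subgroup.mem_normalizer_iff]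
  intro h
  constructor
  · exact k1 h
  · intro hh
    have := k2 _ hh
    have e : g⁻¹ * (g * h * g⁻¹) * g = h := by group
    rwa [e] at this

section

variable {F : Type*} [Field F] {T : FD} {D : ChevalleyDatum}

theorem nInv_eq (p : ℕ) : nInv F D p = D.nMat F p (-1) := by
  rw [nMat_eq_prod, nInv]
  have : -(-1 : F)⁻¹ = 1 := by simp
  rw [this]

/-- `n_i` normalises `H` -/
theorem nUi_mem_normalizer (hA : T.Agrees D) (hadd : AllAdd F D) {i B : ℕ} (hi : i < D.rank)
    (c : ReflChecks T D i B) (hH : ∀ s < D.nroots, HForm F D s) :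
    nUi hA hadd i ∈ Subgroup.normalizer (D.diagonalSubgroup F : Set (GL D.Idx F)) := by
  have hcert := c.cert hA
  have hw : ∀ s < D.nroots, D.reflectRoot i s = wOf B s := by
    intro s hs
    rw [FD.reflect_eq hA i s hi hs, ((c.side hA).2.2 s hs).2.2]
  unfold ChevalleyDatum.diagonalSubgroup
  apply mem_normalizer_closure
  · rintro g ⟨s, t, hs, ht, hg⟩
    apply Subgroup.subset_closure
    refine ⟨wOf B s, t, hcert.w_lt s hs, ht, ?_⟩
    have e := c.conj_hMat (F := F) hA hi s hs (hH _ (hcert.w_lt s hs)) t ht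
    rw [hw s hs] at e
    have e' : ((nUi hA hadd i * g : GL D.Idx F) : Matrix D.Idx D.Idx F)
        = D.hMat F (wOf B s) t * ((nUi hA hadd i : GL D.Idx F) : Matrix D.Idx D.Idx F) := by
      rw [Units.val_mul, nUi_val hA hadd hi, hg]
      exact e
    rw [Units.val_mul, e', Matrix.mul_assoc, ← Units.val_mul, mul_inv_cancel, Units.val_one,
      Matrix.mul_one]
  · rintro g ⟨s, t, hs, ht, hg⟩
    apply Subgroup.subset_closure
    refine ⟨wOf B s, t, hcert.w_lt s hs, ht, ?_⟩
    have hws := hcert.w_lt s hs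
    have e := c.conj_hMat (F := F) hA hi (wOf B s) hws
      (by rw [hcert.w_w s hs]; exact hH s hs) t ht
    rw [hw _ hws, hcert.w_w s hs] at e
    -- e : n * h_{ws}(t) = h_s(t) * n
    have e' : ((g * nUi hA hadd i : GL D.Idx F) : Matrix D.Idx D.Idx F)
        = ((nUi hA hadd i : GL D.Idx F) : Matrix D.Idx D.Idx F) * D.hMat F (wOf B s) t := by
      rw [Units.val_mul, nUi_val hA hadd hi, hg]
      exact e.symm
    rw [mul_assoc, Units.val_mul, e', ← Matrix.mul_assoc, ← Units.val_mul, inv_mul_cancel,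
      Units.val_one, Matrix.one_mul]

/-- the elements `n_r(z)` normalise `H` -/
def NormH (F : Type*) [Field F] (D : ChevalleyDatum) (r : ℕ) : Prop :=
  ∀ z : F, z ≠ 0 → ∀ g : GL D.Idx F, (g : Matrix D.Idx D.Idx F) = D.nMat F r z →
    g ∈ Subgroup.normalizer (D.diagonalSubgroup F : Set (GL D.Idx F))

theorem normH_simple (hA : T.Agrees D) (hadd : AllAdd F D) {i B : ℕ} (hi : i < D.rank)
    (c : ReflChecks T D i B) (hH : ∀ s < D.nroots, HForm F D s) : NormH F D (D.simple i) := by
  intro z hz g hg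
  have hp := simple_lt' hA hi
  have hn := nUi_mem_normalizer hA hadd hi c hH
  have hmem : g * (nUi hA hadd i)⁻¹ ∈ D.diagonalSubgroup F := by
    apply Subgroup.subset_closure
    refine ⟨D.simple i, z, hp, hz, ?_⟩
    rw [Units.val_mul, hg, nUi_pos hA hadd hi]
    show D.nMat F (D.simple i) z * nInv F D (D.simple i) = _
    rw [nInv_eq, hMat_eq]
  have : g = (g * (nUi hA hadd i)⁻¹) * nUi hA hadd i := by group
  rw [this]
  exact Subgroup.mul_mem _ (Subgroup.le_normalizer hmem) hn

theorem normH_transfer (hA : T.Agrees D) (hadd : AllAdd F D) {i B : ℕ} (hi : i < D.rank)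
    (c : ReflChecks T D i B) (hH : ∀ s < D.nroots, HForm F D s) (s : ℕ) (hs : s < D.nroots)
    (h : NormH F D (wOf B s)) : NormH F D s := by
  intro z hz g hg
  have hcert := c.cert hA
  have hws := hcert.w_lt s hs
  have hn := nUi_mem_normalizer hA hadd hi c hH
  have e := c.conj_nMat (F := F) hA hi (wOf B s) hws (((etaOf B (wOf B s) : ℤ) : F) * z)
  rw [hcert.w_w s hs, ← mul_assoc, hcert.eta_sq (F := F) _ hws, one_mul] at e
  -- e : n * n_{ws}(η z) = n_s(z) * n
  have hne : ((etaOf B (wOf B s) : ℤ) : F) * z ≠ 0 := by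
    apply mul_ne_zero _ hz
    rcases etaOf_pm B (wOf B s) with h1 | h1 <;> rw [h1] <;> simp
  have hg' : (((nUi hA hadd i)⁻¹ * g * nUi hA hadd i : GL D.Idx F) : Matrix D.Idx D.Idx F)
      = D.nMat F (wOf B s) (((etaOf B (wOf B s) : ℤ) : F) * z) := by
    have : ((g * nUi hA hadd i : GL D.Idx F) : Matrix D.Idx D.Idx F)
        = ((nUi hA hadd i : GL D.Idx F) : Matrix D.Idx D.Idx F) *
          D.nMat F (wOf B s) (((etaOf B (wOf B s) : ℤ) : F) * z) := by
      rw [Units.val_mul, nUi_val hA hadd hi, hg]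
      exact e.symm
    rw [mul_assoc, Units.val_mul, this, ← Matrix.mul_assoc, ← Units.val_mul, inv_mul_cancel,
      Units.val_one, Matrix.one_mul]
  have h2 := h _ hne _ hg'
  have : g = nUi hA hadd i * ((nUi hA hadd i)⁻¹ * g * nUi hA hadd i) * (nUi hA hadd i)⁻¹ := by
    group
  rw [this]
  exact Subgroup.mul_mem _ (Subgroup.mul_mem _ hn h2) (Subgroup.inv_mem _ hn)

/-- `H` is normal in `N` -/
theorem diagonal_normal_of (hA : T.Agrees D) (hadd : AllAdd F D) (Bs : List ℕ)
    (hB : ∀ i < D.rank, ReflChecks T D i (Bs.getD i 0))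
    (gH : ℕ) (baseH : List ℕ) (fuel : ℕ) (hr : reachb T Bs gH baseH fuel = true)
    (hbase : ∀ s ∈ baseH, ∃ j < D.rank, s = D.simple j)
    (hH : ∀ s < D.nroots, HForm F D s) :
    ((D.diagonalSubgroup F).subgroupOf (D.monomialSubgroup F)).Normal := by
  have hle : D.diagonalSubgroup F ≤ D.monomialSubgroup F := le_sup_left
  rw [Subgroup.normal_subgroupOf_iff_le_normalizer hle]
  have key : ∀ s < D.nroots, NormH F D s := by
    apply reach_all hA (NormH F D) Bs gH baseH fuel hr
    · intro s hs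
      obtain ⟨j, hj, rfl⟩ := hbase s hs
      exact normH_simple hA hadd hj (hB j hj) hH
    · intro i hi s hs
      exact ((hB i hi).cert hA).w_lt s hs
    · intro i hi s hs h
      exact normH_transfer hA hadd hi (hB i hi) hH s hs h
  unfold ChevalleyDatum.monomialSubgroup
  apply sup_le Subgroup.le_normalizer
  rw [Subgroup.closure_le]
  rintro g ⟨r, hr', hg⟩
  exact key r hr' 1 one_ne_zero g hg

end

end Cfsg.Agent.Lib.Helper5.Chev
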