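import Cfsg.Agent.Lib.Helper5.Chev.RootChar
import Cfsg.Agent.Lib.Helper5.Chev.DataB2
import Mathlib

set_option autoImplicit false
set_option maxRecDepth 100000

namespace Cfsg.Agent.Lib.Helper5.Chev.RcB2

open Cfsg.Lie Cfsg.Agent.Lib.Helper5.Chev

theorem ca0 : cartAddb DataB2.fd 0 8 = true := by decide +kernel

theorem cartAdd : ∀ r < chevB2.nroots, CartAdd DataB2.fd r :=
  cartAdd_all DataB2.fd 8 8 1 (by norm_num) (by norm_num)
    (by intro q hq; interval_cases q
        · exact ca0
    )

end Cfsg.Agent.Lib.Helper5.Chev.RcB2
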