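import Cfsg.Agent.Lib.Helper5.Chev.RootChar
import Cfsg.Agent.Lib.Helper5.Chev.DataD4
import Mathlib

set_option autoImplicit false
set_option maxRecDepth 100000

namespace Cfsg.Agent.Lib.Helper5.Chev.RcD4

open Cfsg.Lie Cfsg.Agent.Lib.Helper5.Chev

theorem ca0 : cartAddb DataD4.fd 0 24 = true := by decide +kernel

theorem cartAdd : ∀ r < chevD4.nroots, CartAdd DataD4.fd r :=
  cartAdd_all DataD4.fd 24 24 1 (by norm_num) (by norm_num)
    (by intro q hq; interval_cases q
        · exact ca0
    )

end Cfsg.Agent.Lib.Helper5.Chev.RcD4
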