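import Cfsg.Agent.Lib.Helper5.Chev.RootChar
import Cfsg.Agent.Lib.Helper5.Chev.DataE6
import Mathlib

set_option autoImplicit false
set_option maxRecDepth 100000

namespace Cfsg.Agent.Lib.Helper5.Chev.RcE6

open Cfsg.Lie Cfsg.Agent.Lib.Helper5.Chev

theorem ca0 : cartAddb DataE6.fd 0 24 = true := by decide +kernel
theorem ca1 : cartAddb DataE6.fd 24 24 = true := by decide +kernel
theorem ca2 : cartAddb DataE6.fd 48 24 = true := by decide +kernel

theorem cartAdd : ∀ r < chevE6.nroots, CartAdd DataE6.fd r :=
  cartAdd_all DataE6.fd 72 24 3 (by norm_num) (by norm_num)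
    (by intro q hq; interval_cases q
        · exact ca0
        · exact ca1
        · exact ca2
    )

end Cfsg.Agent.Lib.Helper5.Chev.RcE6
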