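import Cfsg.Agent.Lib.Helper5.Chev.RootChar
import Cfsg.Agent.Lib.Helper5.Chev.DataE7
import Mathlib

set_option autoImplicit false
set_option maxRecDepth 100000

namespace Cfsg.Agent.Lib.Helper5.Chev.RcE7

open Cfsg.Lie Cfsg.Agent.Lib.Helper5.Chev

theorem ca0 : cartAddb DataE7.fd 0 21 = true := by decide +kernel
theorem ca1 : cartAddb DataE7.fd 21 21 = true := by decide +kernel
theorem ca2 : cartAddb DataE7.fd 42 21 = true := by decide +kernel
theorem ca3 : cartAddb DataE7.fd 63 21 = true := by decide +kernel
theorem ca4 : cartAddb DataE7.fd 84 21 = true := by decide +kernel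
theorem ca5 : cartAddb DataE7.fd 105 21 = true := by decide +kernel

theorem cartAdd : ∀ r < chevE7.nroots, CartAdd DataE7.fd r :=
  cartAdd_all DataE7.fd 126 21 6 (by norm_num) (by norm_num)
    (by intro q hq; interval_cases q
        · exact ca0
        · exact ca1
        · exact ca2
        · exact ca3
        · exact ca4
        · exact ca5
    )

end Cfsg.Agent.Lib.Helper5.Chev.RcE7
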