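import Cfsg.Agent.Lib.Helper5.Chev.RootChar
import Cfsg.Agent.Lib.Helper5.Chev.DataE8
import Mathlib

set_option autoImplicit false
set_option maxRecDepth 100000

namespace Cfsg.Agent.Lib.Helper5.Chev.RcE8

open Cfsg.Lie Cfsg.Agent.Lib.Helper5.Chev

theorem ca0 : cartAddb DataE8.fd 0 20 = true := by decide +kernel
theorem ca1 : cartAddb DataE8.fd 20 20 = true := by decide +kernel
theorem ca2 : cartAddb DataE8.fd 40 20 = true := by decide +kernel
theorem ca3 : cartAddb DataE8.fd 60 20 = true := by decide +kernel
theorem ca4 : cartAddb DataE8.fd 80 20 = true := by decide +kernel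
theorem ca5 : cartAddb DataE8.fd 100 20 = true := by decide +kernel
theorem ca6 : cartAddb DataE8.fd 120 20 = true := by decide +kernel
theorem ca7 : cartAddb DataE8.fd 140 20 = true := by decide +kernel
theorem ca8 : cartAddb DataE8.fd 160 20 = true := by decide +kernel
theorem ca9 : cartAddb DataE8.fd 180 20 = true := by decide +kernel
theorem ca10 : cartAddb DataE8.fd 200 20 = true := by decide +kernel
theorem ca11 : cartAddb DataE8.fd 220 20 = true := by decide +kernel

theorem cartAdd : ∀ r < chevE8.nroots, CartAdd DataE8.fd r :=
  cartAdd_all DataE8.fd 240 20 12 (by norm_num) (by norm_num)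
    (by intro q hq; interval_cases q
        · exact ca0
        · exact ca1
        · exact ca2
        · exact ca3
        · exact ca4
        · exact ca5
        · exact ca6
        · exact ca7
        · exact ca8
        · exact ca9
        · exact ca10
        · exact ca11
    )

end Cfsg.Agent.Lib.Helper5.Chev.RcE8
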