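import Cfsg.Agent.Lib.Helper5.Chev.RcG2
import Cfsg.Agent.Lib.Helper5.Chev.RcB2
import Cfsg.Agent.Lib.Helper5.Chev.RcD4
import Cfsg.Agent.Lib.Helper5.Chev.RcF4
import Cfsg.Agent.Lib.Helper5.Chev.RcE6
import Cfsg.Agent.Lib.Helper5.Chev.RcE7
import Cfsg.Agent.Lib.Helper5.Chev.RcE8
import Mathlib

/-!
# The Cartan weights of the seven data are characters of the root lattice (helper5)
-/

set_option autoImplicit false

namespace Cfsg.Agent.Lib.Helper5.Chev

open Cfsg.Lie
open scoped Matrix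

theorem cartAdd_known (D : ChevalleyDatum)
    (hD : D ∈ [chevG2, chevB2, chevD4, chevF4, chevE6, chevE7, chevE8]) :
    ∃ T : FD, T.Agrees D ∧ ∀ r < D.nroots, CartAdd T r := by
  simp only [List.mem_cons, List.not_mem_nil, or_false] at hD
  rcases hD with rfl | rfl | rfl | rfl | rfl | rfl | rfl
  · exact ⟨_, DataG2.agrees, RcG2.cartAdd⟩
  · exact ⟨_, DataB2.agrees, RcB2.cartAdd⟩
  · exact ⟨_, DataD4.agrees, RcD4.cartAdd⟩
  · exact ⟨_, DataF4.agrees, RcF4.cartAdd⟩
  · exact ⟨_, DataE6.agrees, RcE6.cartAdd⟩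
  · exact ⟨_, DataE7.agrees, RcE7.cartAdd⟩
  · exact ⟨_, DataE8.agrees, RcE8.cartAdd⟩

/-- the Cartan weights are characters of the root lattice -/
theorem isRootCharacter_cartan_all {F : Type*} [Field F] (D : ChevalleyDatum)
    (hD : D ∈ [chevG2, chevB2, chevD4, chevF4, chevE6, chevE7, chevE8]) (i : ℕ) (hi : i < D.rank)
    (u : Fˣ) : D.IsRootCharacter (fun s => u ^ (D.cartan i s)) := by
  obtain ⟨T, hA, hall⟩ := cartAdd_known D hD
  exact isRootCharacter_cartan hA hall i hi u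

/-- conjugation of root elements by the diagonal matrix of a Cartan weight -/
theorem diag_conj_x_all {F : Type*} [Field F] (D : ChevalleyDatum)
    (hD : D ∈ [chevG2, chevB2, chevD4, chevF4, chevE6, chevE7, chevE8]) (i : ℕ) (hi : i < D.rank)
    (c : F) (hc : c ≠ 0) (s : ℕ) (hs : s < D.nroots) (t : F) :
    Matrix.diagonal (Sum.elim (fun _ => (1 : F)) (fun s : Fin D.nroots => c ^ (D.cartan i s.val)))
        * D.x F s t
      = D.x F s (c ^ (D.cartan i s) * t) *
        Matrix.diagonal (Sum.elim (fun _ => (1 : F)) (fun s : Fin D.nroots => c ^ (D.cartan i s.val))) := by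
  obtain ⟨T, hA, hall⟩ := cartAdd_known D hD
  exact diag_conj_x hA hall hD i hi c hc s hs t

end Cfsg.Agent.Lib.Helper5.Chev
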