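import Cfsg.Agent.Lib.Helper5.Chev.TriChev
import Cfsg.Agent.Lib.Helper5.Chev.DiagProd
import Cfsg.Agent.Lib.Helper5.Chev.RcAll
import Cfsg.Agent.Lib.Helper5.Chev.Normal
import Mathlib

/-!
# The subgroups `U`, `V`, `H`, `B` as triangular and diagonal matrices (helper5)
-/

set_option autoImplicit false

namespace Cfsg.Agent.Lib.Helper5.Chev

open Cfsg.Lie
open scoped Matrix

section

variable {F : Type*} [Field F] {T : FD} {D : ChevalleyDatum}

theorem isRootCharacter_one : D.IsRootCharacter (fun _ => (1 : Fˣ)) :=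
  ⟨fun _ _ => by simp, fun _ _ _ _ _ _ => by simp⟩

theorem isRootCharacter_mul {χ χ' : ℕ → Fˣ} (h : D.IsRootCharacter χ) (h' : D.IsRootCharacter χ') :
    D.IsRootCharacter (fun s => χ s * χ' s) := by
  constructor
  · intro r hr
    show χ (D.neg r) * χ' (D.neg r) = (χ r * χ' r)⁻¹
    rw [h.1 r hr, h'.1 r hr, mul_inv]
  · intro r s k hr hs hk
    show χ k * χ' k = χ r * χ' r * (χ s * χ' s)
    rw [h.2 r s k hr hs hk, h'.2 r s k hr hs hk]
    exact mul_mul_mul_comm _ _ _ _

/-- the character of a family of scalars -/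
def chiL (D : ChevalleyDatum) (L : List ℕ) (c : ℕ → Fˣ) : ℕ → Fˣ :=
  fun v => (L.map fun k => c k ^ (D.cartan k v)).prod

theorem isRootCharacter_chiL (hD : D ∈ [chevG2, chevB2, chevD4, chevF4, chevE6, chevE7, chevE8])
    (L : List ℕ) (hL : ∀ k ∈ L, k < D.rank) (c : ℕ → Fˣ) : D.IsRootCharacter (chiL D L c) := by
  induction L with
  | nil => exact isRootCharacter_one
  | cons k L ih =>
    have h1 := isRootCharacter_cartan_all D hD k (hL k List.mem_cons_self) (c k)
    have h2 := ih (fun j hj => hL j (List.mem_cons_of_mem _ hj))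
    have := isRootCharacter_mul h1 h2
    convert this using 1
    funext v
    simp [chiL]

theorem charDiag_chiL (L : List ℕ) (c : ℕ → Fˣ) :
    D.charDiag F (chiL D L c) = dProdL F D L (fun k => (c k : F)) := by
  unfold ChevalleyDatum.charDiag dProdL chiL
  congr 1
  ext x
  rcases x with j | v
  · rfl
  · simp only [Sum.elim_inr]
    induction L with
    | nil => simp
    | cons k L ih =>
      rw [List.map_cons, List.prod_cons, List.map_cons, List.prod_cons, Units.val_mul, ih,
        Units.val_zpow_eq_zpow_val]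

theorem charDiag_mul_inv (χ : ℕ → Fˣ) :
    D.charDiag F χ * D.charDiag F (fun s => (χ s)⁻¹) = 1 := by
  unfold ChevalleyDatum.charDiag
  rw [Matrix.diagonal_mul_diagonal, ← Matrix.diagonal_one]
  congr 1
  ext x
  rcases x with j | s
  · simp
  · simp

/-- elements of `H` are matrices of characters of the root lattice -/
theorem exists_char_of_mem (hD : D ∈ [chevG2, chevB2, chevD4, chevF4, chevE6, chevE7, chevE8])
    (g : GL D.Idx F) (hg : g ∈ D.diagonalSubgroup F) :
    ∃ χ : ℕ → Fˣ, D.IsRootCharacter χ ∧ (g : Matrix D.Idx D.Idx F) = D.charDiag F χ ∧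
      ((g⁻¹ : GL D.Idx F) : Matrix D.Idx D.Idx F) = D.charDiag F (fun s => (χ s)⁻¹) := by
  obtain ⟨c, hc, hgc⟩ := diagonal_eq_prod hD g hg
  refine ⟨chiL D (List.range D.rank) (fun k => Units.mk0 (c k) (hc k)),
    isRootCharacter_chiL hD _ (fun k hk => List.mem_range.1 hk) _, ?_, ?_⟩
  · rw [charDiag_chiL, hgc]
    rfl
  · have h1 : (g : Matrix D.Idx D.Idx F) = D.charDiag F
        (chiL D (List.range D.rank) (fun k => Units.mk0 (c k) (hc k))) := by
      rw [charDiag_chiL, hgc]; rfl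
    have h2 : ((g⁻¹ : GL D.Idx F) : Matrix D.Idx D.Idx F) * (g : Matrix D.Idx D.Idx F) = 1 := by
      rw [← Units.val_mul, inv_mul_cancel, Units.val_one]
    calc ((g⁻¹ : GL D.Idx F) : Matrix D.Idx D.Idx F)
        = ((g⁻¹ : GL D.Idx F) : Matrix D.Idx D.Idx F) * ((g : Matrix D.Idx D.Idx F) *
            D.charDiag F (fun s => (chiL D (List.range D.rank)
              (fun k => Units.mk0 (c k) (hc k)) s)⁻¹)) := by
          rw [h1, charDiag_mul_inv, Matrix.mul_one]
      _ = _ := by rw [← Matrix.mul_assoc, h2, Matrix.one_mul]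

/-- conjugation of root elements by elements of `H` -/
theorem conj_diag_x (hD : D ∈ [chevG2, chevB2, chevD4, chevF4, chevE6, chevE7, chevE8])
    (hadd : AllAdd F D) (g : GL D.Idx F) (hg : g ∈ D.diagonalSubgroup F) (s : ℕ)
    (hs : s < D.nroots) (u : F) : ∃ u' : F, g * hadd.xU s u * g⁻¹ = hadd.xU s u' := by
  obtain ⟨χ, hχ, h1, h2⟩ := exists_char_of_mem hD g hg
  refine ⟨(χ s : F) * u, ?_⟩
  apply Units.ext
  rw [Units.val_mul, Units.val_mul, h1, h2]
  exact Cfsg.Agent.S2157.result D hD χ hχ s hs u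

/-- `H` normalises every subgroup generated by root subgroups -/
theorem diagonal_le_normalizer (hD : D ∈ [chevG2, chevB2, chevD4, chevF4, chevE6, chevE7, chevE8])
    (P : ℕ → Prop) (hP : ∀ r, P r → r < D.nroots) :
    D.diagonalSubgroup F ≤ Subgroup.normalizer
      (Subgroup.closure {g : GL D.Idx F | ∃ (r : ℕ) (t : F), P r ∧
        (g : Matrix D.Idx D.Idx F) = D.x F r t} : Set (GL D.Idx F)) := by
  have hadd := allAdd_all (F := F) D hD
  intro g hg
  apply mem_normalizer_closure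
  · rintro x ⟨r, t, hr, hx⟩
    have : x = hadd.xU r t := Units.ext hx
    subst this
    obtain ⟨u', hu'⟩ := conj_diag_x hD hadd g hg r (hP r hr) t
    rw [hu']
    apply Subgroup.subset_closure
    exact ⟨r, u', hr, rfl⟩
  · rintro x ⟨r, t, hr, hx⟩
    have : x = hadd.xU r t := Units.ext hx
    subst this
    obtain ⟨u', hu'⟩ := conj_diag_x hD hadd g⁻¹ (Subgroup.inv_mem _ hg) r (hP r hr) t
    rw [inv_inv] at hu'
    rw [hu']
    apply Subgroup.subset_closure
    exact ⟨r, u', hr, rfl⟩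

theorem diagonal_le_BG (hD : D ∈ [chevG2, chevB2, chevD4, chevF4, chevE6, chevE7, chevE8])
    (b : D.Idx → ℤ) : D.diagonalSubgroup F ≤ BG b := by
  intro g hg
  obtain ⟨χ, -, h1, h2⟩ := exists_char_of_mem hD g hg
  constructor
  · rw [h1]; exact Filt.diagonal b _
  · rw [h2]; exact Filt.diagonal b _

theorem borel_le_BG (hD : D ∈ [chevG2, chevB2, chevD4, chevF4, chevE6, chevE7, chevE8])
    (hA : T.Agrees D) (htri : ∀ r < D.nroots, TriOK T D r) :
    D.borelSubgroup F ≤ BG (grade D) := by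
  have hadd := allAdd_all (F := F) D hD
  exact sup_le ((posUnipotent_le_UG hA hadd htri).trans (UG_le_BG _ _)) (diagonal_le_BG hD _)

/-- `B` is solvable -/
theorem borel_solvable (hD : D ∈ [chevG2, chevB2, chevD4, chevF4, chevE6, chevE7, chevE8])
    (hA : T.Agrees D) (htri : ∀ r < D.nroots, TriOK T D r) :
    Group.IsSolvable (D.borelSubgroup F) :=
  isSolvable_of_le_BG (grade D) (grade_injective D) 0 ((D.rank : ℤ) + D.nroots - 1)
    (grade_bounds D) _ (borel_le_BG hD hA htri)

/-- a diagonal matrix in `UG b 1` is trivial -/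
theorem eq_one_of_diag_of_UG (b : D.Idx → ℤ) (g : GL D.Idx F) (d : D.Idx → F)
    (hd : (g : Matrix D.Idx D.Idx F) = Matrix.diagonal d) (hg : g ∈ UG b 1) : g = 1 := by
  apply Units.ext
  rw [Units.val_one, hd, ← Matrix.diagonal_one]
  congr 1
  funext u
  by_contra hne
  have h1 := hg.1 u u (by
    rw [hd, Matrix.sub_apply, Matrix.diagonal_apply_eq, Matrix.one_apply_eq]
    exact sub_ne_zero.2 hne)
  simp at h1

/-- `U ∩ H = 1` -/
theorem posUnipotent_inf_diagonal (hD : D ∈ [chevG2, chevB2, chevD4, chevF4, chevE6, chevE7, chevE8])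
    (hA : T.Agrees D) (htri : ∀ r < D.nroots, TriOK T D r) :
    D.posUnipotent F ⊓ D.diagonalSubgroup F = ⊥ := by
  have hadd := allAdd_all (F := F) D hD
  rw [eq_bot_iff]
  rintro g ⟨hg1, hg2⟩
  rw [Subgroup.mem_bot]
  obtain ⟨χ, -, h1, -⟩ := exists_char_of_mem hD g hg2
  exact eq_one_of_diag_of_UG (grade D) g _ h1 (posUnipotent_le_UG hA hadd htri hg1)

/-- a matrix preserving the grading whose difference with `1` strictly lowers it is trivial -/
theorem eq_one_of_BG_of_UG_neg (b : D.Idx → ℤ) (g : GL D.Idx F) (h1 : g ∈ BG b)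
    (h2 : g ∈ UG (fun u => - b u) 1) : g = 1 := by
  apply Units.ext
  rw [Units.val_one]
  ext u s
  by_contra hne
  have hne' : ((g : Matrix D.Idx D.Idx F) - 1) u s ≠ 0 := by
    rw [Matrix.sub_apply]
    exact sub_ne_zero.2 hne
  have k2 := h2.1 u s hne'
  by_cases hus : u = s
  · subst hus
    simp at k2
  · have : (g : Matrix D.Idx D.Idx F) u s ≠ 0 := by
      rw [Matrix.sub_apply, Matrix.one_apply_ne hus, sub_zero] at hne'
      exact hne'
    have k1 := h1.1 u s this
    simp only [Nat.cast_one] at k2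
    omega

/-- `B ∩ V = 1` and `B ∩ VH = H` -/
theorem borel_inf_neg (hD : D ∈ [chevG2, chevB2, chevD4, chevF4, chevE6, chevE7, chevE8])
    (hA : T.Agrees D) (htri : ∀ r < D.nroots, TriOK T D r) :
    D.borelSubgroup F ⊓ D.negUnipotent F = ⊥ ∧
      D.borelSubgroup F ⊓ (D.negUnipotent F ⊔ D.diagonalSubgroup F) = D.diagonalSubgroup F := by
  have hadd := allAdd_all (F := F) D hD
  have hB := borel_le_BG (F := F) hD hA htri
  have hV := negUnipotent_le_UG hA hadd htri
  have key : D.borelSubgroup F ⊓ D.negUnipotent F = ⊥ := by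
    rw [eq_bot_iff]
    rintro g ⟨hg1, hg2⟩
    rw [Subgroup.mem_bot]
    exact eq_one_of_BG_of_UG_neg (grade D) g (hB hg1) (hV hg2)
  refine ⟨key, le_antisymm ?_ (le_inf le_sup_right le_sup_right)⟩
  rintro g ⟨hg1, hg2⟩
  have hn : D.diagonalSubgroup F ≤ Subgroup.normalizer (D.negUnipotent F : Set (GL D.Idx F)) :=
    diagonal_le_normalizer hD D.IsNegRoot (fun r hr => hr.1)
  have hmem : g ∈ (↑(D.negUnipotent F ⊔ D.diagonalSubgroup F) : Set (GL D.Idx F)) := hg2
  rw [Subgroup.coe_mul_of_right_le_normalizer_left _ _ hn] at hmem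
  obtain ⟨v, hv, h, hh, rfl⟩ := hmem
  have hvB : v ∈ D.borelSubgroup F := by
    have : v = (v * h) * h⁻¹ := by group
    rw [this]
    exact Subgroup.mul_mem _ hg1 (Subgroup.inv_mem _ (Subgroup.mem_sup_right hh))
  have hv1 : v ∈ D.borelSubgroup F ⊓ D.negUnipotent F := ⟨hvB, hv⟩
  rw [key, Subgroup.mem_bot] at hv1
  show v * h ∈ D.diagonalSubgroup F
  rw [hv1, one_mul]
  exact hh

end

end Cfsg.Agent.Lib.Helper5.Chev
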