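import Cfsg.Agent.Lib.Helper5.Chev.ZAct
import Cfsg.Agent.Lib.Helper5.Chev.TriStmts
import Cfsg.Agent.Lib.Helper5.Chev.RankOne
import Mathlib

/-!
# The order of the diagonal subgroup `H` from a Smith normal form of the Cartan matrix (helper5)
-/

set_option autoImplicit false

namespace Cfsg.Agent.Lib.Helper5.Chev

open Cfsg.Lie
open scoped Matrix

/-- the matrix of the Cartan integers `A_{p_i, v}` -/
def cartanM (D : ChevalleyDatum) : Matrix (Fin D.rank) (Fin D.nroots) ℤ :=
  fun i v => D.cartan i v

/-- the Cartan matrix -/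
def cartanA (D : ChevalleyDatum) : Matrix (Fin D.rank) (Fin D.rank) ℤ :=
  fun i j => D.cartan i (D.simple j)

theorem list_range_map_prod {M : Type*} [CommMonoid M] (l : ℕ) (f : ℕ → M) :
    ((List.range l).map f).prod = ∏ i : Fin l, f i := by
  induction l with
  | zero => simp
  | succ l ih =>
    rw [List.range_succ, List.map_append, List.prod_append, ih, Fin.prod_univ_castSucc]
    simp

section

variable {F : Type*} [Field F] {D : ChevalleyDatum}

/-- extension of a tuple by `1` -/
def extU {l : ℕ} (c : Fin l → Fˣ) : ℕ → Fˣ := fun k => if h : k < l then c ⟨k, h⟩ else 1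

theorem chiL_extU (c : Fin D.rank → Fˣ) (v : Fin D.nroots) :
    chiL D (List.range D.rank) (extU c) v = zact (cartanM D) c v := by
  unfold chiL
  rw [list_range_map_prod, zact_apply]
  apply Finset.prod_congr rfl
  intro i _
  unfold extU cartanM
  rw [dif_pos i.2]

/-- the diagonal matrix with given entries on the root vectors, as a unit -/
def diagU (y : Fin D.nroots → Fˣ) : GL D.Idx F :=
  ⟨Matrix.diagonal (Sum.elim (fun _ => (1 : F)) (fun v => (y v : F))),
    Matrix.diagonal (Sum.elim (fun _ => (1 : F)) (fun v => (((y v)⁻¹ : Fˣ) : F))),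
    by
      rw [Matrix.diagonal_mul_diagonal, ← Matrix.diagonal_one]
      congr 1
      funext x
      rcases x with j | v <;> simp,
    by
      rw [Matrix.diagonal_mul_diagonal, ← Matrix.diagonal_one]
      congr 1
      funext x
      rcases x with j | v <;> simp⟩

theorem diagU_val (y : Fin D.nroots → Fˣ) :
    ((diagU y : GL D.Idx F) : Matrix D.Idx D.Idx F)
      = Matrix.diagonal (Sum.elim (fun _ => (1 : F)) (fun v => (y v : F))) := rfl

theorem diagU_injective : Function.Injective (diagU (F := F) (D := D)) := by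
  intro y y' h
  have h1 := congrArg Units.val h
  rw [diagU_val, diagU_val] at h1
  have h2 := Matrix.diagonal_injective h1
  funext v
  have h3 := congrFun h2 (Sum.inr v)
  exact Units.ext h3

theorem diagU_zact (c : Fin D.rank → Fˣ) :
    ((diagU (zact (cartanM D) c) : GL D.Idx F) : Matrix D.Idx D.Idx F)
      = dProdL F D (List.range D.rank) (fun k => (extU c k : F)) := by
  rw [← charDiag_chiL, diagU_val]
  unfold ChevalleyDatum.charDiag
  congr 1
  funext x
  rcases x with j | v
  · rfl
  · simp only [Sum.elim_inr]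
    rw [chiL_extU]

theorem wordU_append (hadd : AllAdd F D) (w₁ w₂ : List (ℕ × F)) :
    hadd.wordU (w₁ ++ w₂) = hadd.wordU w₁ * hadd.wordU w₂ := by
  unfold AllAdd.wordU
  rw [List.map_append, List.prod_append]

theorem wordU_flatMap_mem (hadd : AllAdd F D) (hD : D ∈ [chevG2, chevB2, chevD4, chevF4, chevE6, chevE7, chevE8])
    (L : List ℕ) (hL : ∀ i ∈ L, i < D.rank) (c : ℕ → F) (hc : ∀ i, c i ≠ 0) :
    hadd.wordU (L.flatMap fun i => D.hWord (D.simple i) (c i)) ∈ D.diagonalSubgroup F := by
  induction L with
  | nil => exact Subgroup.one_mem _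
  | cons i L ih =>
    rw [List.flatMap_cons, wordU_append]
    apply Subgroup.mul_mem
    · exact wordU_hWord_mem hadd _ (simple_lt_all D hD i (hL i List.mem_cons_self)).1 _ (hc i)
    · exact ih (fun j hj => hL j (List.mem_cons_of_mem _ hj))

/-- `H` is the set of the diagonal matrices `∏ h_{p_i}(c_i)` -/
theorem diagonal_eq_image (hD : D ∈ [chevG2, chevB2, chevD4, chevF4, chevE6, chevE7, chevE8]) :
    (D.diagonalSubgroup F : Set (GL D.Idx F))
      = diagU '' (Set.range (zact (G := Fˣ) (cartanM D))) := by
  have hadd := allAdd_all (F := F) D hD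
  ext g
  constructor
  · intro hg
    obtain ⟨c, hc, hgc⟩ := diagonal_eq_prod hD g hg
    refine ⟨_, ⟨fun i => Units.mk0 (c i) (hc i), rfl⟩, ?_⟩
    apply Units.ext
    rw [diagU_zact, hgc]
    unfold dProdL
    congr 1
    funext x
    rcases x with j | v
    · rfl
    · simp only [Sum.elim_inr]
      congr 1
      apply List.map_congr_left
      intro k hk
      rw [List.mem_range] at hk
      unfold extU
      rw [dif_pos hk]
      rfl
  · rintro ⟨y, ⟨c, rfl⟩, rfl⟩
    have e : diagU (zact (cartanM D) c) = hadd.wordU ((List.range D.rank).flatMap fun i =>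
        D.hWord (D.simple i) (extU c i : F)) := by
      apply Units.ext
      rw [diagU_zact, hadd.wordU_val, wordMat_flatMap,
        prod_hMat_eq hD _ (fun i hi => List.mem_range.1 hi) _ (fun i _ => Units.ne_zero _)]
    rw [SetLike.mem_coe, e]
    exact wordU_flatMap_mem hadd hD _ (fun i hi => List.mem_range.1 hi) _
      (fun i => Units.ne_zero _)

/-- the order of `H` is the order of the image of the matrix of the Cartan integers -/
theorem card_diagonal_eq (hD : D ∈ [chevG2, chevB2, chevD4, chevF4, chevE6, chevE7, chevE8]) :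
    Nat.card (D.diagonalSubgroup F) = Nat.card (zact (G := Fˣ) (cartanM D)).range := by
  have h1 : Nat.card (D.diagonalSubgroup F)
      = Nat.card ((D.diagonalSubgroup F : Set (GL D.Idx F))) := rfl
  rw [h1, diagonal_eq_image hD, Nat.card_image_of_injective diagU_injective]
  rfl

/-- the kernels of the matrix of the Cartan integers and of the Cartan matrix -/
theorem ker_cartanM_eq (Mt : Matrix (Fin D.rank) (Fin D.nroots) ℤ)
    (hC : cartanM D = cartanA D * Mt) (hs : ∀ j < D.rank, D.simple j < D.nroots) :
    (zact (G := Fˣ) (cartanM D)).ker = (zact (G := Fˣ) (cartanA D)).ker := by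
  ext c
  rw [MonoidHom.mem_ker, MonoidHom.mem_ker]
  constructor
  · intro h
    funext j
    have := congrFun h ⟨D.simple j, hs j j.2⟩
    rw [zact_apply] at this ⊢
    exact this
  · intro h
    rw [hC, zact_mul, h, map_one]

end

section

variable {F : Type*} [Field F] [Fintype F] {D : ChevalleyDatum}

/-- the order of `H` from a Smith normal form of the Cartan matrix -/
theorem card_diagonal_of_snf (hD : D ∈ [chevG2, chevB2, chevD4, chevF4, chevE6, chevE7, chevE8])
    (Mt : Matrix (Fin D.rank) (Fin D.nroots) ℤ) (P P' Q Q' : Matrix (Fin D.rank) (Fin D.rank) ℤ)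
    (d : Fin D.rank → ℕ) (hC : cartanM D = cartanA D * Mt) (hP : P' * P = 1) (hP2 : P * P' = 1)
    (hQ : Q * Q' = 1) (hS : P * cartanA D * Q = Matrix.diagonal fun i => (d i : ℤ)) :
    (∏ i, (Fintype.card F - 1).gcd (d i)) * Nat.card (D.diagonalSubgroup F)
      = (Fintype.card F - 1) ^ D.rank := by
  classical
  have hcard : Nat.card Fˣ = Fintype.card F - 1 := by
    rw [Nat.card_eq_fintype_card, Fintype.card_units]
  have hker := card_ker_zact_of_snf (G := Fˣ) (cartanA D) P P' Q Q' d hP hP2 hQ hS
  rw [← ker_cartanM_eq Mt hC (fun j hj => (simple_lt_all D hD j hj).1), hcard] at hker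
  rw [card_diagonal_eq hD, ← hker, ← Subgroup.index_ker, Subgroup.card_mul_index, Nat.card_fun,
    hcard]
  simp

end

end Cfsg.Agent.Lib.Helper5.Chev
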