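import Cfsg.Agent.Lib.Helper5.Chev.UFilt
import Mathlib

/-!
# The order of `U` (helper5)
-/

set_option autoImplicit false

namespace Cfsg.Agent.Lib.Helper5.Chev

open Cfsg.Lie
open scoped Matrix

/-- the order of a product of two subgroups meeting trivially, one normalising the other -/
theorem card_sup_of_le_normalizer {G : Type*} [Group G] (A B : Subgroup G)
    (hAB : A ≤ Subgroup.normalizer (B : Set G)) (hinf : A ⊓ B = ⊥) :
    Nat.card ↥(A ⊔ B) = Nat.card A * Nat.card B := by
  rw [← Nat.card_prod]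
  symm
  have hmem : ∀ (a : A) (b : B), (a : G) * (b : G) ∈ A ⊔ B := fun a b =>
    Subgroup.mul_mem _ (Subgroup.mem_sup_left a.2) (Subgroup.mem_sup_right b.2)
  apply Nat.card_congr
  refine Equiv.ofBijective (fun p : A × B => (⟨(p.1 : G) * (p.2 : G), hmem p.1 p.2⟩ : ↥(A ⊔ B))) ⟨?_, ?_⟩
  · rintro ⟨a, b⟩ ⟨a', b'⟩ h
    have h' : (a : G) * b = a' * b' := congrArg Subtype.val h
    have h1 : (a' : G)⁻¹ * a = b' * (b : G)⁻¹ := by
      rw [inv_mul_eq_iff_eq_mul, ← mul_assoc, ← h', mul_assoc, mul_inv_cancel, mul_one]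
    have h2 : (a' : G)⁻¹ * a ∈ A ⊓ B := by
      refine ⟨A.mul_mem (A.inv_mem a'.2) a.2, ?_⟩
      rw [h1]
      exact B.mul_mem b'.2 (B.inv_mem b.2)
    rw [hinf, Subgroup.mem_bot, inv_mul_eq_one] at h2
    have h3 : (b : G) = b' := by
      rw [h2] at h'
      exact mul_left_cancel h'
    exact Prod.ext (Subtype.ext h2.symm) (Subtype.ext h3)
  · rintro ⟨g, hg⟩
    have := hg
    rw [← SetLike.mem_coe, Subgroup.coe_mul_of_left_le_normalizer_right A B hAB, Set.mem_mul] at this
    obtain ⟨a, ha, b, hb, rfl⟩ := this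
    exact ⟨(⟨a, ha⟩, ⟨b, hb⟩), rfl⟩

section

variable {F : Type*} [Field F] {T : FD} {D : ChevalleyDatum}

/-- a root subgroup has as many elements as the field -/
theorem card_rootSubgroup (hadd : AllAdd F D) (k : ℕ) (hinj : XInj F D k) :
    Nat.card (D.rootSubgroup F k) = Nat.card F := by
  symm
  apply Nat.card_congr
  refine Equiv.ofBijective (fun t : F => (⟨hadd.xU k t, xU_mem_rootSubgroup hadd k t⟩ :
    ↥(D.rootSubgroup F k))) ⟨?_, ?_⟩
  · intro t u h
    have h1 : D.x F k t = D.x F k u := congrArg (fun g : ↥(D.rootSubgroup F k) =>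
      ((g : GL D.Idx F) : Matrix D.Idx D.Idx F)) h
    have h2 : D.x F k (t + -u) = 1 := by
      rw [← hadd.x_add, h1, hadd.x_mul_neg]
    have := hinj _ h2
    exact eq_of_sub_eq_zero (by rw [sub_eq_add_neg]; exact this)
  · rintro ⟨g, hg⟩
    obtain ⟨t, rfl⟩ := (mem_rootSubgroup_iff hadd k g).1 hg
    exact ⟨t, rfl⟩

/-- the order of the terms of the filtration -/
theorem card_UF (hA : T.Agrees D) (hadd : AllAdd F D) (hok : UFOK T D)
    (htri : ∀ r < D.nroots, TriOK T D r)
    (hcomm : ∀ r < D.nroots, ∀ s < D.nroots, CommOK' F D r s)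
    (hcor : ∀ s < D.nroots, CorInj F D s) (hinj : ∀ s < D.nroots, XInj F D s) :
    ∀ m k : ℕ, D.nroots / 2 ≤ k → k + m = D.nroots → Nat.card (UF F D k) = Nat.card F ^ m := by
  intro m
  induction m with
  | zero =>
    intro k _ hk
    rw [Nat.add_zero] at hk
    rw [hk, UF_top, pow_zero]
    exact Subgroup.card_bot
  | succ m ih =>
    intro k hle hk
    have hkn : k < D.nroots := by omega
    rw [UF_succ hok k hkn hle,
      card_sup_of_le_normalizer _ _ (rootSubgroup_le_normalizer_UF hA hadd hok htri hcomm k hkn hle)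
        (rootSubgroup_inf_UF hA hadd hok htri hcor k hkn hle),
      card_rootSubgroup hadd k (hinj k hkn), ih (k + 1) (by omega) (by omega), pow_succ, mul_comm]

end

end Cfsg.Agent.Lib.Helper5.Chev
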