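import Cfsg.Agent.Lib.Helper5.Chev.MonoB
import Mathlib

/-!
# The double coset axiom of a `(B, N)`-pair for the Chevalley groups (helper5)
-/

set_option autoImplicit false

namespace Cfsg.Agent.Lib.Helper5.Chev

open Cfsg.Lie
open scoped Matrix

/-- the opposite of a negative root is in the second half -/
theorem neg_ge_half_all (D : ChevalleyDatum)
    (hD : D ∈ [chevG2, chevB2, chevD4, chevF4, chevE6, chevE7, chevE8]) (r : ℕ) (hr : r < D.nroots)
    (h : r < D.nroots / 2) : D.nroots / 2 ≤ D.neg r := by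
  obtain ⟨T, hA, htri⟩ := tri_known D hD
  have hneg := neg_of_lt_half D hD r hr h
  have := ((htri r hr).2 hneg).2.1
  rw [hA.nroots_eq, ← FD.neg_eq' hA r hr] at this
  exact this

section

variable {F : Type*} [Field F] {T : FD} {D : ChevalleyDatum}

theorem wW'_lt (hA : T.Agrees D) (Bs : List ℕ)
    (hB : ∀ i < D.rank, ReflChecks T D i (Bs.getD i 0)) (L : List ℕ) (hL : ∀ i ∈ L, i < D.rank)
    (s : ℕ) (hs : s < D.nroots) : wW' Bs L s < D.nroots := by
  induction L generalizing s with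
  | nil => exact hs
  | cons i L ih =>
    exact ih (fun j hj => hL j (List.mem_cons_of_mem _ hj)) _
      (((hB i (hL i List.mem_cons_self)).cert hA).w_lt s hs)

/-- the inverse action of a word commutes with the opposition -/
theorem wW'_neg (hA : T.Agrees D) (Bs : List ℕ)
    (hB : ∀ i < D.rank, ReflChecks T D i (Bs.getD i 0)) (L : List ℕ) (hL : ∀ i ∈ L, i < D.rank)
    (s : ℕ) (hs : s < D.nroots) : wW' Bs L (D.neg s) = D.neg (wW' Bs L s) := by
  induction L generalizing s with
  | nil => rfl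
  | cons i L ih =>
    have hi := hL i List.mem_cons_self
    have hc := (hB i hi).cert hA
    show wW' Bs L (wOf (Bs.getD i 0) (D.neg s)) = D.neg (wW' Bs L (wOf (Bs.getD i 0) s))
    rw [← ih (fun j hj => hL j (List.mem_cons_of_mem _ hj)) _ (hc.w_lt s hs),
      FD.neg_eq' hA s hs, FD.neg_eq' hA _ (hc.w_lt s hs), hc.neg_w s hs]

/-- conjugation of a root element by the inverse of an element `n_{i_1} ⋯ n_{i_k} h` -/
theorem conj_inv_word (hD : D ∈ [chevG2, chevB2, chevD4, chevF4, chevE6, chevE7, chevE8])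
    (hA : T.Agrees D) (hadd : AllAdd F D) (Bs : List ℕ)
    (hB : ∀ i < D.rank, ReflChecks T D i (Bs.getD i 0)) (L : List ℕ) (hL : ∀ i ∈ L, i < D.rank)
    (h : GL D.Idx F) (hh : h ∈ D.diagonalSubgroup F) (s : ℕ) (hs : s < D.nroots) (t : F) :
    ∃ t' : F, (nWordU hA hadd L * h)⁻¹ * hadd.xU s t * (nWordU hA hadd L * h)
      = hadd.xU (wW' Bs L s) t' := by
  obtain ⟨hlt, t1, e1⟩ := conj_word' hA hadd Bs hB L hL s hs t
  obtain ⟨t2, e2⟩ := conj_diag_x hD hadd h⁻¹ (Subgroup.inv_mem _ hh) (wW' Bs L s) hlt t1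
  refine ⟨t2, ?_⟩
  rw [← e2, ← e1]
  group

end

section

variable {F : Type*} [Field F]

/-- the double coset axiom: `n_i B n ⊆ B n_i n B ∪ B n B` -/
theorem bn_axiom_all (D : ChevalleyDatum)
    (hD : D ∈ [chevG2, chevB2, chevD4, chevF4, chevE6, chevE7, chevE8]) (i : ℕ) (hi : i < D.rank)
    (s : GL D.Idx F) (hs : (s : Matrix D.Idx D.Idx F) = D.nMat F (D.simple i) 1)
    (n : GL D.Idx F) (hn : n ∈ D.monomialSubgroup F) (b : GL D.Idx F)
    (hb : b ∈ D.borelSubgroup F) :
    (∃ b1 ∈ D.borelSubgroup F, ∃ b2 ∈ D.borelSubgroup F, s * b * n = b1 * (s * n) * b2) ∨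
      (∃ b1 ∈ D.borelSubgroup F, ∃ b2 ∈ D.borelSubgroup F, s * b * n = b1 * n * b2) := by
  have hadd := allAdd_all (F := F) D hD
  have hH := hform_all' (F := F) D hD
  obtain ⟨hp, hq⟩ := simple_lt_all D hD i hi
  obtain ⟨T, Bs, mLL, gH, baseH, fuel, hA, hB, hr, hbase, hcox⟩ := cox_known D hD
  have hs' : s = hadd.nU (D.simple i) hp hq := Units.ext hs
  have hsi : s = nUi hA hadd i := by rw [nUi_pos hA hadd hi]; exact hs'
  obtain ⟨hnorm, hU⟩ := simple_complement (F := F) D hD i hi
  have hHU := (borel_semidirect_all (F := F) D hD).1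
  have hUB : D.posUnipotent F ≤ D.borelSubgroup F := le_sup_left
  have hHB : D.diagonalSubgroup F ≤ D.borelSubgroup F := le_sup_right
  have hsN : s ∈ D.monomialSubgroup F := by rw [hs']; exact hadd.nU_mem _ hp hq
  have hNH : D.monomialSubgroup F ≤ Subgroup.normalizer (D.diagonalSubgroup F : Set (GL D.Idx F)) :=
    (Subgroup.normal_subgroupOf_iff_le_normalizer le_sup_left).1 (diagonal_normal_all D hD)
  have hsUp : s ∈ Subgroup.normalizer
      (Subgroup.closure (compSet F D (D.simple i)) : Set (GL D.Idx F)) := by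
    apply hnorm
    have : s = hadd.xU (D.simple i) 1 * (hadd.xU (D.neg (D.simple i)) (-1) *
        hadd.xU (D.simple i) 1) := by
      rw [hs']
      apply Units.ext
      rw [Units.val_mul, Units.val_mul]
      exact nMat_one (D.simple i)
    rw [this]
    exact Subgroup.mul_mem _ (Subgroup.mem_sup_left (xU_mem_rootSubgroup hadd _ _))
      (Subgroup.mul_mem _ (Subgroup.mem_sup_right (xU_mem_rootSubgroup hadd _ _))
        (Subgroup.mem_sup_left (xU_mem_rootSubgroup hadd _ _)))
  have hxB : ∀ r, D.nroots / 2 ≤ r → r < D.nroots → ∀ t : F, hadd.xU r t ∈ D.borelSubgroup F := by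
    intro r hr1 hr2 t
    apply hUB
    exact Subgroup.subset_closure ⟨r, t, (pos_iff_all D hD r hr2).2 hr1, rfl⟩
  -- case A: an element of `N` whose inverse maps `p_i` to a positive root
  have caseA : ∀ (L : List ℕ), (∀ j ∈ L, j < D.rank) → ∀ h0 ∈ D.diagonalSubgroup F,
      D.nroots / 2 ≤ wW' Bs L (D.simple i) → ∀ t : F, ∃ b' ∈ D.borelSubgroup F,
        hadd.xU (D.simple i) t * (nWordU hA hadd L * h0) = nWordU hA hadd L * h0 * b' := by
    intro L hL h0 hh0 hpos t
    obtain ⟨t', e⟩ := conj_inv_word hD hA hadd Bs hB L hL h0 hh0 (D.simple i) hp t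
    refine ⟨hadd.xU (wW' Bs L (D.simple i)) t', hxB _ hpos (wW'_lt hA Bs hB L hL _ hp) t', ?_⟩
    rw [← e]
    group
  -- decompose `b` and `n`
  obtain ⟨L, hL, h0, hh0, rfl⟩ := monomial_le_NWH hA hadd Bs hB hH gH baseH fuel hr hbase hn
  unfold ChevalleyDatum.borelSubgroup at hb
  rw [← SetLike.mem_coe, Subgroup.coe_mul_of_right_le_normalizer_left _ _ hHU,
    Set.mem_mul] at hb
  obtain ⟨u, hu, h, hh, rfl⟩ := hb
  rw [SetLike.mem_coe, ← hU, ← SetLike.mem_coe,
    Subgroup.coe_mul_of_right_le_normalizer_left _ _ (le_sup_left.trans hnorm),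
    Set.mem_mul] at hu
  obtain ⟨u', hu', x, hx, rfl⟩ := hu
  rw [SetLike.mem_coe, mem_rootSubgroup_iff hadd] at hx
  obtain ⟨t, rfl⟩ := hx
  -- the first factor
  have hb1 : s * u' * s⁻¹ ∈ D.borelSubgroup F := by
    apply hUB
    rw [← hU]
    exact Subgroup.mem_sup_left ((Subgroup.mem_normalizer_iff.1 hsUp u').1 hu')
  -- move `h` to the right
  have hh' : (nWordU hA hadd L * h0)⁻¹ * h * (nWordU hA hadd L * h0) ∈ D.diagonalSubgroup F :=
    (conj_mem_of_normalizer _ _ _ (hNH hn) hh).2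
  have hL' : ∀ j ∈ i :: L, j < D.rank := by
    intro j hj
    rw [List.mem_cons] at hj
    rcases hj with rfl | hj
    · exact hi
    · exact hL j hj
  have hqlt := wW'_lt hA Bs hB L hL _ hp
  by_cases hsign : D.nroots / 2 ≤ wW' Bs L (D.simple i)
  · -- case A
    left
    obtain ⟨b', hb', e⟩ := caseA L hL h0 hh0 hsign t
    refine ⟨s * u' * s⁻¹, hb1,
      b' * ((nWordU hA hadd L * h0)⁻¹ * h * (nWordU hA hadd L * h0)),
      Subgroup.mul_mem _ hb' (hHB hh'), ?_⟩
    calc s * (u' * hadd.xU (D.simple i) t * h) * (nWordU hA hadd L * h0)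
        = s * u' * s⁻¹ * s * (hadd.xU (D.simple i) t * (nWordU hA hadd L * h0)) *
            ((nWordU hA hadd L * h0)⁻¹ * h * (nWordU hA hadd L * h0)) := by group
      _ = _ := by
        rw [e]
        group
  · -- case B
    rw [not_le] at hsign
    have hsign' : D.nroots / 2 ≤ wW' Bs (i :: L) (D.simple i) := by
      show D.nroots / 2 ≤ wW' Bs L (wOf (Bs.getD i 0) (D.simple i))
      have hw : wOf (Bs.getD i 0) (D.simple i) = D.neg (D.simple i) := by
        have hs2 := ((hB i hi).side hA).2.2 (D.simple i) hp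
        rw [← hs2.2.2, FD.neg_eq' hA _ hp, FD.simple_eq' hA i hi]
        unfold FD.reflect
        rw [if_pos rfl]
      rw [hw, wW'_neg hA Bs hB L hL _ hp]
      exact neg_ge_half_all D hD _ hqlt hsign
    by_cases ht : t = 0
    · left
      subst ht
      have hx0 : hadd.xU (D.simple i) (0 : F) = 1 := Units.ext (x_zero _)
      refine ⟨s * u' * s⁻¹, hb1, (nWordU hA hadd L * h0)⁻¹ * h * (nWordU hA hadd L * h0),
        hHB hh', ?_⟩
      rw [hx0]
      group
    · right
      -- `s x_p(t) = x_{-p}(η t) s`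
      have e1 := nU_conj_xU hA hadd i _ hi (hB i hi) hp hq t
      rw [← hs'] at e1
      set c := ((etaOf (Bs.getD i 0) (D.simple i) : ℤ) : F) * t with hc
      have hc0 : c ≠ 0 := by
        apply mul_ne_zero _ ht
        rcases etaOf_pm (Bs.getD i 0) (D.simple i) with h1 | h1 <;> rw [h1] <;> simp
      have e2 := xU_neg_eq hadd _ hp hq c hc0
      rw [← hs'] at e2
      -- apply case A to `s n`
      have hsn : s * (nWordU hA hadd L * h0) = nWordU hA hadd (i :: L) * h0 := by
        rw [nWordU_cons, hsi, mul_assoc]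
      have hinv : (hadd.xU (D.simple i) (-c⁻¹))⁻¹ = hadd.xU (D.simple i) (c⁻¹) := by
        rw [inv_eq_iff_mul_eq_one]
        apply Units.ext
        rw [Units.val_mul]
        have := hadd.x_neg_mul (D.simple i) (c⁻¹)
        exact this
      obtain ⟨b', hb', e3⟩ := caseA (i :: L) hL' h0 hh0 hsign' (c⁻¹)
      rw [← hsn] at e3
      have hss : s * s ∈ D.borelSubgroup F := by
        rw [hs']
        exact hHB (nU_sq_mem hadd _ hp hq)
      have hxp : ∀ t' : F, hadd.xU (D.simple i) t' ∈ D.borelSubgroup F := fun t' =>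
        hUB (Subgroup.subset_closure ⟨_, t', pos_simple_all D hD i hi, rfl⟩)
      refine ⟨s * u' * s⁻¹ * ((hadd.xU (D.simple i) (-c⁻¹))⁻¹ *
          hadd.wordU (D.hWord (D.simple i) (-c⁻¹))) * (s * s),
        Subgroup.mul_mem _ (Subgroup.mul_mem _ hb1 (Subgroup.mul_mem _
          (Subgroup.inv_mem _ (hxp _)) (hHB (wordU_hWord_mem hadd _ hp _
            (neg_ne_zero.2 (inv_ne_zero hc0)))))) hss,
        b' * ((nWordU hA hadd L * h0)⁻¹ * h * (nWordU hA hadd L * h0)),
        Subgroup.mul_mem _ hb' (hHB hh'), ?_⟩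
      calc s * (u' * hadd.xU (D.simple i) t * h) * (nWordU hA hadd L * h0)
          = s * u' * s⁻¹ * (s * hadd.xU (D.simple i) t * s⁻¹) * (s * (nWordU hA hadd L * h0)) *
              ((nWordU hA hadd L * h0)⁻¹ * h * (nWordU hA hadd L * h0)) := by group
        _ = s * u' * s⁻¹ * ((hadd.xU (D.simple i) (-c⁻¹))⁻¹ *
              hadd.wordU (D.hWord (D.simple i) (-c⁻¹)) * s *
              (hadd.xU (D.simple i) (-c⁻¹))⁻¹) * (s * (nWordU hA hadd L * h0)) *
              ((nWordU hA hadd L * h0)⁻¹ * h * (nWordU hA hadd L * h0)) := by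
            rw [e1, e2]
        _ = s * u' * s⁻¹ * ((hadd.xU (D.simple i) (-c⁻¹))⁻¹ *
              hadd.wordU (D.hWord (D.simple i) (-c⁻¹))) * s *
              (hadd.xU (D.simple i) (c⁻¹) * (s * (nWordU hA hadd L * h0))) *
              ((nWordU hA hadd L * h0)⁻¹ * h * (nWordU hA hadd L * h0)) := by
            rw [hinv]
            group
        _ = _ := by
            rw [e3]
            group

end

end Cfsg.Agent.Lib.Helper5.Chev
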