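import Cfsg.Agent.Lib.Helper5.Chev.NoThree
import Cfsg.Agent.Lib.Helper5.Chev.HsB2
import Mathlib

/-!
# The commutator formula: type B2 (helper5)
-/

set_option autoImplicit false
set_option maxRecDepth 100000

namespace Cfsg.Agent.Lib.Helper5.Chev.CmB2

open Cfsg.Lie Cfsg.Agent.Lib.Helper5.Chev

theorem noThree : noThreeb DataB2.fd = true := by decide +kernel

/-- the dominant roots -/
def base1 : List ℕ := [6, 7]
/-- the packed generators towards the dominant roots -/
def g1 : ℕ := 0x101010

theorem rb1 : reachb DataB2.fd BsB2.Bs g1 base1 3 = true := by decide +kernel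

/-- orbit representatives for the stabiliser of the root 6 -/
def base2_6 : List ℕ := [6, 1, 0, 2, 4]
/-- the packed generators towards the representatives -/
def g2_6 : ℕ := 0x0

theorem rb2_6 : reachFb DataB2.fd BsB2.Bs g2_6 base2_6 6 1 = true := by decide +kernel

theorem cb_6_0 : commb DataB2.fd 6 0 = true := by decide +kernel
theorem cb_6_2 : commb DataB2.fd 6 2 = true := by decide +kernel
theorem cb_6_4 : commb DataB2.fd 6 4 = true := by decide +kernel

theorem row_6 {F : Type*} [Field F] : ∀ s < chevB2.nroots, CommOK' F chevB2 6 s := by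
  apply comm_row_of DataB2.agrees BsB2.Bs HsB2.reflBs' BsB2.additive
    (simple_lt_of DataB2.agrees) (noThree_of_check DataB2.agrees noThree) 6 (by decide)
    g2_6 base2_6 1 rb2_6
  intro s hs
  simp only [base2_6, List.mem_cons, List.not_mem_nil, or_false] at hs
  rcases hs with rfl | rfl | rfl | rfl | rfl
  · exact Or.inl rfl
  · exact Or.inr (Or.inl (by decide +kernel))
  · exact commOK'_of_check DataB2.agrees 6 0 (by decide) (by decide) cb_6_0
  · exact commOK'_of_check DataB2.agrees 6 2 (by decide) (by decide) cb_6_2
  · exact commOK'_of_check DataB2.agrees 6 4 (by decide) (by decide) cb_6_4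

/-- orbit representatives for the stabiliser of the root 7 -/
def base2_7 : List ℕ := [7, 0, 1, 3, 5]
/-- the packed generators towards the representatives -/
def g2_7 : ℕ := 0x1010100

theorem rb2_7 : reachFb DataB2.fd BsB2.Bs g2_7 base2_7 7 1 = true := by decide +kernel

theorem cb_7_1 : commb DataB2.fd 7 1 = true := by decide +kernel
theorem cb_7_3 : commb DataB2.fd 7 3 = true := by decide +kernel
theorem cb_7_5 : commb DataB2.fd 7 5 = true := by decide +kernel

theorem row_7 {F : Type*} [Field F] : ∀ s < chevB2.nroots, CommOK' F chevB2 7 s := by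
  apply comm_row_of DataB2.agrees BsB2.Bs HsB2.reflBs' BsB2.additive
    (simple_lt_of DataB2.agrees) (noThree_of_check DataB2.agrees noThree) 7 (by decide)
    g2_7 base2_7 1 rb2_7
  intro s hs
  simp only [base2_7, List.mem_cons, List.not_mem_nil, or_false] at hs
  rcases hs with rfl | rfl | rfl | rfl | rfl
  · exact Or.inl rfl
  · exact Or.inr (Or.inl (by decide +kernel))
  · exact commOK'_of_check DataB2.agrees 7 1 (by decide) (by decide) cb_7_1
  · exact commOK'_of_check DataB2.agrees 7 3 (by decide) (by decide) cb_7_3
  · exact commOK'_of_check DataB2.agrees 7 5 (by decide) (by decide) cb_7_5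

/-- the commutator formula for all pairs of roots -/
theorem comm_all {F : Type*} [Field F] :
    ∀ r < chevB2.nroots, ∀ s < chevB2.nroots, CommOK' F chevB2 r s := by
  apply comm_all_of DataB2.agrees BsB2.Bs HsB2.reflBs' BsB2.additive
    (simple_lt_of DataB2.agrees) (noThree_of_check DataB2.agrees noThree) g1 base1 3 rb1
  intro r0 hr0
  simp only [base1, List.mem_cons, List.not_mem_nil, or_false] at hr0
  rcases hr0 with rfl | rfl
  · exact row_6
  · exact row_7

end Cfsg.Agent.Lib.Helper5.Chev.CmB2
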