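import Cfsg.Agent.Lib.Helper5.Chev.NoThree
import Cfsg.Agent.Lib.Helper5.Chev.HsD4
import Mathlib

/-!
# The commutator formula: type D4 (helper5)
-/

set_option autoImplicit false
set_option maxRecDepth 100000

namespace Cfsg.Agent.Lib.Helper5.Chev.CmD4

open Cfsg.Lie Cfsg.Agent.Lib.Helper5.Chev

theorem noThree : noThreeb DataD4.fd = true := by decide +kernel

/-- the dominant roots -/
def base1 : List ℕ := [23]
/-- the packed generators towards the dominant roots -/
def g1 : ℕ := 0x13231032311321122000221

theorem rb1 : reachb DataD4.fd BsD4.Bs g1 base1 9 = true := by decide +kernel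

/-- orbit representatives for the stabiliser of the root 23 -/
def base2_23 : List ℕ := [23, 0, 1, 5, 10, 11, 14]
/-- the packed generators towards the representatives -/
def g2_23 : ℕ := 0x32300323023003230032300

theorem rb2_23 : reachFb DataD4.fd BsD4.Bs g2_23 base2_23 23 3 = true := by decide +kernel

theorem cb_23_1 : commb DataD4.fd 23 1 = true := by decide +kernel
theorem cb_23_5 : commb DataD4.fd 23 5 = true := by decide +kernel
theorem cb_23_10 : commb DataD4.fd 23 10 = true := by decide +kernel
theorem cb_23_11 : commb DataD4.fd 23 11 = true := by decide +kernel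
theorem cb_23_14 : commb DataD4.fd 23 14 = true := by decide +kernel

theorem row_23 {F : Type*} [Field F] : ∀ s < chevD4.nroots, CommOK' F chevD4 23 s := by
  apply comm_row_of DataD4.agrees BsD4.Bs HsD4.reflBs' BsD4.additive
    (simple_lt_of DataD4.agrees) (noThree_of_check DataD4.agrees noThree) 23 (by decide)
    g2_23 base2_23 3 rb2_23
  intro s hs
  simp only [base2_23, List.mem_cons, List.not_mem_nil, or_false] at hs
  rcases hs with rfl | rfl | rfl | rfl | rfl | rfl | rfl
  · exact Or.inl rfl
  · exact Or.inr (Or.inl (by decide +kernel))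
  · exact commOK'_of_check DataD4.agrees 23 1 (by decide) (by decide) cb_23_1
  · exact commOK'_of_check DataD4.agrees 23 5 (by decide) (by decide) cb_23_5
  · exact commOK'_of_check DataD4.agrees 23 10 (by decide) (by decide) cb_23_10
  · exact commOK'_of_check DataD4.agrees 23 11 (by decide) (by decide) cb_23_11
  · exact commOK'_of_check DataD4.agrees 23 14 (by decide) (by decide) cb_23_14

/-- the commutator formula for all pairs of roots -/
theorem comm_all {F : Type*} [Field F] :
    ∀ r < chevD4.nroots, ∀ s < chevD4.nroots, CommOK' F chevD4 r s := by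
  apply comm_all_of DataD4.agrees BsD4.Bs HsD4.reflBs' BsD4.additive
    (simple_lt_of DataD4.agrees) (noThree_of_check DataD4.agrees noThree) g1 base1 9 rb1
  intro r0 hr0
  simp only [base1, List.mem_cons, List.not_mem_nil, or_false] at hr0
  rcases hr0 with rfl
  · exact row_23

end Cfsg.Agent.Lib.Helper5.Chev.CmD4
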