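import Cfsg.Agent.Lib.Helper5.Chev.NoThree
import Cfsg.Agent.Lib.Helper5.Chev.HsE6
import Mathlib

/-!
# The commutator formula: type E6 (helper5)
-/

set_option autoImplicit false
set_option maxRecDepth 100000

namespace Cfsg.Agent.Lib.Helper5.Chev.CmE6

open Cfsg.Lie Cfsg.Agent.Lib.Helper5.Chev

theorem noThree : noThreeb DataE6.fd = true := by decide +kernel

/-- the dominant roots -/
def base1 : List ℕ := [71]
/-- the packed generators towards the dominant roots -/
def g1 : ℕ := 0x13452453541543204535425431543254354544333222211112223340000000033422431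

theorem rb1 : reachb DataE6.fd BsE6.Bs g1 base1 21 = true := by decide +kernel

/-- orbit representatives for the stabiliser of the root 71 -/
def base2_71 : List ℕ := [71, 0, 1, 11, 46]
/-- the packed generators towards the representatives -/
def g2_71 : ℕ := 0x34524535400000045354254302222333445453452345034524535402345045354254300

theorem rb2_71 : reachFb DataE6.fd BsE6.Bs g2_71 base2_71 71 9 = true := by decide +kernel

theorem cb_71_1 : commb DataE6.fd 71 1 = true := by decide +kernel
theorem cb_71_11 : commb DataE6.fd 71 11 = true := by decide +kernel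
theorem cb_71_46 : commb DataE6.fd 71 46 = true := by decide +kernel

theorem row_71 {F : Type*} [Field F] : ∀ s < chevE6.nroots, CommOK' F chevE6 71 s := by
  apply comm_row_of DataE6.agrees BsE6.Bs HsE6.reflBs' BsE6.additive
    (simple_lt_of DataE6.agrees) (noThree_of_check DataE6.agrees noThree) 71 (by decide)
    g2_71 base2_71 9 rb2_71
  intro s hs
  simp only [base2_71, List.mem_cons, List.not_mem_nil, or_false] at hs
  rcases hs with rfl | rfl | rfl | rfl | rfl
  · exact Or.inl rfl
  · exact Or.inr (Or.inl (by decide +kernel))
  · exact commOK'_of_check DataE6.agrees 71 1 (by decide) (by decide) cb_71_1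
  · exact commOK'_of_check DataE6.agrees 71 11 (by decide) (by decide) cb_71_11
  · exact commOK'_of_check DataE6.agrees 71 46 (by decide) (by decide) cb_71_46

/-- the commutator formula for all pairs of roots -/
theorem comm_all {F : Type*} [Field F] :
    ∀ r < chevE6.nroots, ∀ s < chevE6.nroots, CommOK' F chevE6 r s := by
  apply comm_all_of DataE6.agrees BsE6.Bs HsE6.reflBs' BsE6.additive
    (simple_lt_of DataE6.agrees) (noThree_of_check DataE6.agrees noThree) g1 base1 21 rb1
  intro r0 hr0
  simp only [base1, List.mem_cons, List.not_mem_nil, or_false] at hr0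
  rcases hr0 with rfl
  · exact row_71

end Cfsg.Agent.Lib.Helper5.Chev.CmE6
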