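import Cfsg.Agent.Lib.Helper5.Chev.NoThree
import Cfsg.Agent.Lib.Helper5.Chev.HsE7
import Mathlib

/-!
# The commutator formula: type E7 (helper5)
-/

set_option autoImplicit false
set_option maxRecDepth 100000

namespace Cfsg.Agent.Lib.Helper5.Chev.CmE7

open Cfsg.Lie Cfsg.Agent.Lib.Helper5.Chev

theorem noThree : noThreeb DataE7.fd = true := by decide +kernel

/-- the dominant roots -/
def base1 : List ℕ := [125]
/-- the packed generators towards the dominant roots -/
def g1 : ℕ := 0x2345614563564652564653654165432056465365426543165432654365465655444333322222111112222333445000000000033344522244533541154320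

theorem rb1 : reachb DataE7.fd BsE7.Bs g1 base1 33 = true := by decide +kernel

/-- orbit representatives for the stabiliser of the root 125 -/
def base2_125 : List ℕ := [125, 0, 1, 33, 93]
/-- the packed generators towards the representatives -/
def g2_125 : ℕ := 0x23456145635646525646536541654320544333222211111222223333444556564563456234561345624563564650234561456356465256465365416543200

theorem rb2_125 : reachFb DataE7.fd BsE7.Bs g2_125 base2_125 125 17 = true := by decide +kernel

theorem cb_125_1 : commb DataE7.fd 125 1 = true := by decide +kernel
theorem cb_125_33 : commb DataE7.fd 125 33 = true := by decide +kernel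
theorem cb_125_93 : commb DataE7.fd 125 93 = true := by decide +kernel

theorem row_125 {F : Type*} [Field F] : ∀ s < chevE7.nroots, CommOK' F chevE7 125 s := by
  apply comm_row_of DataE7.agrees BsE7.Bs HsE7.reflBs' BsE7.additive
    (simple_lt_of DataE7.agrees) (noThree_of_check DataE7.agrees noThree) 125 (by decide)
    g2_125 base2_125 17 rb2_125
  intro s hs
  simp only [base2_125, List.mem_cons, List.not_mem_nil, or_false] at hs
  rcases hs with rfl | rfl | rfl | rfl | rfl
  · exact Or.inl rfl
  · exact Or.inr (Or.inl (by decide +kernel))
  · exact commOK'_of_check DataE7.agrees 125 1 (by decide) (by decide) cb_125_1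
  · exact commOK'_of_check DataE7.agrees 125 33 (by decide) (by decide) cb_125_33
  · exact commOK'_of_check DataE7.agrees 125 93 (by decide) (by decide) cb_125_93

/-- the commutator formula for all pairs of roots -/
theorem comm_all {F : Type*} [Field F] :
    ∀ r < chevE7.nroots, ∀ s < chevE7.nroots, CommOK' F chevE7 r s := by
  apply comm_all_of DataE7.agrees BsE7.Bs HsE7.reflBs' BsE7.additive
    (simple_lt_of DataE7.agrees) (noThree_of_check DataE7.agrees noThree) g1 base1 33 rb1
  intro r0 hr0
  simp only [base1, List.mem_cons, List.not_mem_nil, or_false] at hr0
  rcases hr0 with rfl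
  · exact row_125

end Cfsg.Agent.Lib.Helper5.Chev.CmE7
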