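import Cfsg.Agent.Lib.Helper5.Chev.NoThree
import Cfsg.Agent.Lib.Helper5.Chev.HsE8
import Mathlib

/-!
# The commutator formula: type E8 (helper5)
-/

set_option autoImplicit false
set_option maxRecDepth 100000

namespace Cfsg.Agent.Lib.Helper5.Chev.CmE8

open Cfsg.Lie Cfsg.Agent.Lib.Helper5.Chev

theorem noThree : noThreeb DataE8.fd = true := by decide +kernel

/-- the dominant roots -/
def base1 : List ℕ := [239]
/-- the packed generators towards the dominant roots -/
def g1 : ℕ := 0x76543212345670034567245673567467576156746757636757647652675764765376541765432067576476537654276543176543276543765476576766555444433333222222111111222223333444556000000000000333344455622224445563335564465111556446533654226543100654321234567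

theorem rb1 : reachb DataE8.fd BsE8.Bs g1 base1 57 = true := by decide +kernel

/-- orbit representatives for the stabiliser of the root 239 -/
def base2_239 : List ℕ := [239, 0, 1, 13, 120]
/-- the packed generators towards the representatives -/
def g2_239 : ℕ := 0x65432123456001345622456335644655111564465533365544422226554443333000000000000655444333322222111111222222333334444555660655644563345622345611345622456335644655060234561145633564465526256446553636554641651655464365326542065430006543212345600

theorem rb2_239 : reachFb DataE8.fd BsE8.Bs g2_239 base2_239 239 33 = true := by decide +kernel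

theorem cb_239_1 : commb DataE8.fd 239 1 = true := by decide +kernel
theorem cb_239_13 : commb DataE8.fd 239 13 = true := by decide +kernel
theorem cb_239_120 : commb DataE8.fd 239 120 = true := by decide +kernel

theorem row_239 {F : Type*} [Field F] : ∀ s < chevE8.nroots, CommOK' F chevE8 239 s := by
  apply comm_row_of DataE8.agrees BsE8.Bs HsE8.reflBs' BsE8.additive
    (simple_lt_of DataE8.agrees) (noThree_of_check DataE8.agrees noThree) 239 (by decide)
    g2_239 base2_239 33 rb2_239
  intro s hs
  simp only [base2_239, List.mem_cons, List.not_mem_nil, or_false] at hs
  rcases hs with rfl | rfl | rfl | rfl | rfl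
  · exact Or.inl rfl
  · exact Or.inr (Or.inl (by decide +kernel))
  · exact commOK'_of_check DataE8.agrees 239 1 (by decide) (by decide) cb_239_1
  · exact commOK'_of_check DataE8.agrees 239 13 (by decide) (by decide) cb_239_13
  · exact commOK'_of_check DataE8.agrees 239 120 (by decide) (by decide) cb_239_120

/-- the commutator formula for all pairs of roots -/
theorem comm_all {F : Type*} [Field F] :
    ∀ r < chevE8.nroots, ∀ s < chevE8.nroots, CommOK' F chevE8 r s := by
  apply comm_all_of DataE8.agrees BsE8.Bs HsE8.reflBs' BsE8.additive
    (simple_lt_of DataE8.agrees) (noThree_of_check DataE8.agrees noThree) g1 base1 57 rb1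
  intro r0 hr0
  simp only [base1, List.mem_cons, List.not_mem_nil, or_false] at hr0
  rcases hr0 with rfl
  · exact row_239

end Cfsg.Agent.Lib.Helper5.Chev.CmE8
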