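import Cfsg.Agent.Lib.Helper5.Chev.NoThree
import Cfsg.Agent.Lib.Helper5.Chev.HsF4
import Mathlib

/-!
# The commutator formula: type F4 (helper5)
-/

set_option autoImplicit false
set_option maxRecDepth 100000

namespace Cfsg.Agent.Lib.Helper5.Chev.CmF4

open Cfsg.Lie Cfsg.Agent.Lib.Helper5.Chev

theorem noThree : noThreeb DataF4.fd = true := by decide +kernel

/-- the dominant roots -/
def base1 : List ℕ := [44, 47]
/-- the packed generators towards the dominant roots -/
def g1 : ℕ := 0x32012301231321023032132322123112002313210020123

theorem rb1 : reachb DataF4.fd BsF4.Bs g1 base1 15 = true := by decide +kernel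

/-- orbit representatives for the stabiliser of the root 44 -/
def base2_44 : List ℕ := [44, 3, 0, 7, 15, 18, 33, 41]
/-- the packed generators towards the representatives -/
def g2_44 : ℕ := 0x321023012313210211321223231230320123132103210230

theorem rb2_44 : reachFb DataF4.fd BsF4.Bs g2_44 base2_44 44 7 = true := by decide +kernel

theorem cb_44_0 : commb DataF4.fd 44 0 = true := by decide +kernel
theorem cb_44_7 : commb DataF4.fd 44 7 = true := by decide +kernel
theorem cb_44_15 : commb DataF4.fd 44 15 = true := by decide +kernel
theorem cb_44_18 : commb DataF4.fd 44 18 = true := by decide +kernel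
theorem cb_44_33 : commb DataF4.fd 44 33 = true := by decide +kernel
theorem cb_44_41 : commb DataF4.fd 44 41 = true := by decide +kernel

theorem row_44 {F : Type*} [Field F] : ∀ s < chevF4.nroots, CommOK' F chevF4 44 s := by
  apply comm_row_of DataF4.agrees BsF4.Bs HsF4.reflBs' BsF4.additive
    (simple_lt_of DataF4.agrees) (noThree_of_check DataF4.agrees noThree) 44 (by decide)
    g2_44 base2_44 7 rb2_44
  intro s hs
  simp only [base2_44, List.mem_cons, List.not_mem_nil, or_false] at hs
  rcases hs with rfl | rfl | rfl | rfl | rfl | rfl | rfl | rfl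
  · exact Or.inl rfl
  · exact Or.inr (Or.inl (by decide +kernel))
  · exact commOK'_of_check DataF4.agrees 44 0 (by decide) (by decide) cb_44_0
  · exact commOK'_of_check DataF4.agrees 44 7 (by decide) (by decide) cb_44_7
  · exact commOK'_of_check DataF4.agrees 44 15 (by decide) (by decide) cb_44_15
  · exact commOK'_of_check DataF4.agrees 44 18 (by decide) (by decide) cb_44_18
  · exact commOK'_of_check DataF4.agrees 44 33 (by decide) (by decide) cb_44_33
  · exact commOK'_of_check DataF4.agrees 44 41 (by decide) (by decide) cb_44_41

/-- orbit representatives for the stabiliser of the root 47 -/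
def base2_47 : List ℕ := [47, 0, 1, 3, 6, 10, 24, 29]
/-- the packed generators towards the representatives -/
def g2_47 : ℕ := 0x21020012110200211021220211200020121102100210200

theorem rb2_47 : reachFb DataF4.fd BsF4.Bs g2_47 base2_47 47 7 = true := by decide +kernel

theorem cb_47_1 : commb DataF4.fd 47 1 = true := by decide +kernel
theorem cb_47_3 : commb DataF4.fd 47 3 = true := by decide +kernel
theorem cb_47_6 : commb DataF4.fd 47 6 = true := by decide +kernel
theorem cb_47_10 : commb DataF4.fd 47 10 = true := by decide +kernel
theorem cb_47_24 : commb DataF4.fd 47 24 = true := by decide +kernel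
theorem cb_47_29 : commb DataF4.fd 47 29 = true := by decide +kernel

theorem row_47 {F : Type*} [Field F] : ∀ s < chevF4.nroots, CommOK' F chevF4 47 s := by
  apply comm_row_of DataF4.agrees BsF4.Bs HsF4.reflBs' BsF4.additive
    (simple_lt_of DataF4.agrees) (noThree_of_check DataF4.agrees noThree) 47 (by decide)
    g2_47 base2_47 7 rb2_47
  intro s hs
  simp only [base2_47, List.mem_cons, List.not_mem_nil, or_false] at hs
  rcases hs with rfl | rfl | rfl | rfl | rfl | rfl | rfl | rfl
  · exact Or.inl rfl
  · exact Or.inr (Or.inl (by decide +kernel))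
  · exact commOK'_of_check DataF4.agrees 47 1 (by decide) (by decide) cb_47_1
  · exact commOK'_of_check DataF4.agrees 47 3 (by decide) (by decide) cb_47_3
  · exact commOK'_of_check DataF4.agrees 47 6 (by decide) (by decide) cb_47_6
  · exact commOK'_of_check DataF4.agrees 47 10 (by decide) (by decide) cb_47_10
  · exact commOK'_of_check DataF4.agrees 47 24 (by decide) (by decide) cb_47_24
  · exact commOK'_of_check DataF4.agrees 47 29 (by decide) (by decide) cb_47_29

/-- the commutator formula for all pairs of roots -/
theorem comm_all {F : Type*} [Field F] :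
    ∀ r < chevF4.nroots, ∀ s < chevF4.nroots, CommOK' F chevF4 r s := by
  apply comm_all_of DataF4.agrees BsF4.Bs HsF4.reflBs' BsF4.additive
    (simple_lt_of DataF4.agrees) (noThree_of_check DataF4.agrees noThree) g1 base1 15 rb1
  intro r0 hr0
  simp only [base1, List.mem_cons, List.not_mem_nil, or_false] at hr0
  rcases hr0 with rfl | rfl
  · exact row_44
  · exact row_47

end Cfsg.Agent.Lib.Helper5.Chev.CmF4
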