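import Cfsg.Agent.Lib.Helper5.Chev.CmG2
import Cfsg.Agent.Lib.Helper5.Chev.CmB2
import Cfsg.Agent.Lib.Helper5.Chev.CmD4
import Cfsg.Agent.Lib.Helper5.Chev.CmF4
import Cfsg.Agent.Lib.Helper5.Chev.CmE6
import Cfsg.Agent.Lib.Helper5.Chev.CmE7
import Cfsg.Agent.Lib.Helper5.Chev.CmE8
import Mathlib

/-!
# The commutator formula: all types (helper5)
-/

set_option autoImplicit false

namespace Cfsg.Agent.Lib.Helper5.Chev

open Cfsg.Lie
open scoped Matrix

/-- the commutator formula for all pairs of roots, all types -/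
theorem comm_known {F : Type*} [Field F] (D : ChevalleyDatum)
    (hD : D ∈ [chevG2, chevB2, chevD4, chevF4, chevE6, chevE7, chevE8]) :
    ∀ r < D.nroots, ∀ s < D.nroots, CommOK' F D r s := by
  simp only [List.mem_cons, List.not_mem_nil, or_false] at hD
  rcases hD with rfl | rfl | rfl | rfl | rfl | rfl | rfl
  · exact CmG2.comm_all
  · exact CmB2.comm_all
  · exact CmD4.comm_all
  · exact CmF4.comm_all
  · exact CmE6.comm_all
  · exact CmE7.comm_all
  · exact CmE8.comm_all

/-- Chevalley's commutator formula -/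
theorem comm_formula {F : Type*} [Field F] (D : ChevalleyDatum)
    (hD : D ∈ [chevG2, chevB2, chevD4, chevF4, chevE6, chevE7, chevE8]) (r s : ℕ)
    (hr : r < D.nroots) (hs : s < D.nroots) (hrs : s ≠ r) (hneg : s ≠ D.neg r) (t u : F) :
    D.x F s u * D.x F r t = D.x F r t * D.x F s u * D.wordMat F (D.commWord F r s t u) := by
  rcases comm_known (F := F) D hD r hr s hs with h | h | h
  · exact absurd h hrs
  · exact absurd h hneg
  · exact h t u

end Cfsg.Agent.Lib.Helper5.Chev
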