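import Cfsg.Agent.Lib.Helper5.Chev.BsG2
import Cfsg.Agent.Lib.Helper5.Chev.BsB2
import Cfsg.Agent.Lib.Helper5.Chev.BsD4
import Cfsg.Agent.Lib.Helper5.Chev.BsF4
import Cfsg.Agent.Lib.Helper5.Chev.BsE6
import Cfsg.Agent.Lib.Helper5.Chev.BsE7
import Cfsg.Agent.Lib.Helper5.Chev.BsE8
import Mathlib

/-!
# Additivity of all root elements of the seven data (helper5)
-/

set_option autoImplicit false

namespace Cfsg.Agent.Lib.Helper5.Chev

open Cfsg.Lie

/-- everything known about one of the seven data -/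
structure Known (D : ChevalleyDatum) : Prop where
  ex : ∃ (T : FD) (Bs : List ℕ), T.Agrees D ∧ ∀ i < D.rank, ReflChecks T D i (Bs.getD i 0)

theorem additive_all {F : Type*} [Field F] (D : ChevalleyDatum)
    (hD : D ∈ [chevG2, chevB2, chevD4, chevF4, chevE6, chevE7, chevE8]) :
    ∀ s < D.nroots, Additive F D s := by
  simp only [List.mem_cons, List.not_mem_nil, or_false] at hD
  rcases hD with rfl | rfl | rfl | rfl | rfl | rfl | rfl
  · exact BsG2.additive
  · exact BsB2.additive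
  · exact BsD4.additive
  · exact BsF4.additive
  · exact BsE6.additive
  · exact BsE7.additive
  · exact BsE8.additive

theorem known_all (D : ChevalleyDatum)
    (hD : D ∈ [chevG2, chevB2, chevD4, chevF4, chevE6, chevE7, chevE8]) : Known D := by
  simp only [List.mem_cons, List.not_mem_nil, or_false] at hD
  rcases hD with rfl | rfl | rfl | rfl | rfl | rfl | rfl
  · exact ⟨_, _, DataG2.agrees, BsG2.reflBs⟩
  · exact ⟨_, _, DataB2.agrees, BsB2.reflBs⟩
  · exact ⟨_, _, DataD4.agrees, BsD4.reflBs⟩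
  · exact ⟨_, _, DataF4.agrees, BsF4.reflBs⟩
  · exact ⟨_, _, DataE6.agrees, BsE6.reflBs⟩
  · exact ⟨_, _, DataE7.agrees, BsE7.reflBs⟩
  · exact ⟨_, _, DataE8.agrees, BsE8.reflBs⟩

end Cfsg.Agent.Lib.Helper5.Chev
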