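import Cfsg.Agent.Lib.Helper5.Chev.HsG2
import Cfsg.Agent.Lib.Helper5.Chev.HsB2
import Cfsg.Agent.Lib.Helper5.Chev.HsD4
import Cfsg.Agent.Lib.Helper5.Chev.HsF4
import Cfsg.Agent.Lib.Helper5.Chev.HsE6
import Cfsg.Agent.Lib.Helper5.Chev.HsE7
import Cfsg.Agent.Lib.Helper5.Chev.HsE8
import Cfsg.Agent.Lib.Helper5.Chev.AddAll
import Mathlib

/-!
# The diagonal elements `h_s(c)` of the seven data (helper5)
-/

set_option autoImplicit false

namespace Cfsg.Agent.Lib.Helper5.Chev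

open Cfsg.Lie

theorem hform_all' {F : Type*} [Field F] (D : ChevalleyDatum)
    (hD : D ∈ [chevG2, chevB2, chevD4, chevF4, chevE6, chevE7, chevE8]) :
    ∀ s < D.nroots, HForm F D s := by
  simp only [List.mem_cons, List.not_mem_nil, or_false] at hD
  rcases hD with rfl | rfl | rfl | rfl | rfl | rfl | rfl
  · exact HsG2.hform
  · exact HsB2.hform
  · exact HsD4.hform
  · exact HsF4.hform
  · exact HsE6.hform
  · exact HsE7.hform
  · exact HsE8.hform

/-- the fast datum with all its checks -/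
theorem known_h (D : ChevalleyDatum)
    (hD : D ∈ [chevG2, chevB2, chevD4, chevF4, chevE6, chevE7, chevE8]) :
    ∃ (T : FD) (Bs : List ℕ), T.Agrees D ∧ (∀ i < D.rank, ReflChecks T D i (Bs.getD i 0)) ∧
      ∀ i < D.rank, nmatcb T i (Bs.getD i 0) = true := by
  simp only [List.mem_cons, List.not_mem_nil, or_false] at hD
  rcases hD with rfl | rfl | rfl | rfl | rfl | rfl | rfl
  · exact ⟨_, _, DataG2.agrees, HsG2.reflBs', HsG2.hm⟩
  · exact ⟨_, _, DataB2.agrees, HsB2.reflBs', HsB2.hm⟩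
  · exact ⟨_, _, DataD4.agrees, HsD4.reflBs', HsD4.hm⟩
  · exact ⟨_, _, DataF4.agrees, HsF4.reflBs', HsF4.hm⟩
  · exact ⟨_, _, DataE6.agrees, HsE6.reflBs', HsE6.hm⟩
  · exact ⟨_, _, DataE7.agrees, HsE7.reflBs', HsE7.hm⟩
  · exact ⟨_, _, DataE8.agrees, HsE8.reflBs', HsE8.hm⟩

theorem simple_lt_all (D : ChevalleyDatum)
    (hD : D ∈ [chevG2, chevB2, chevD4, chevF4, chevE6, chevE7, chevE8]) (i : ℕ) (hi : i < D.rank) :
    D.simple i < D.nroots ∧ D.neg (D.simple i) < D.nroots := by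
  obtain ⟨T, Bs, hA, -, -⟩ := known_h D hD
  have hp : D.simple i < D.nroots := by
    rw [FD.simple_eq' hA i hi]; exact hA.simple_lt i hi
  refine ⟨hp, ?_⟩
  rw [FD.neg_eq' hA _ hp, FD.simple_eq' hA i hi]
  exact hA.neg_lt _ (hA.simple_lt i hi)

end Cfsg.Agent.Lib.Helper5.Chev
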