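import Cfsg.Agent.Lib.Helper5.Chev.Parabolic
import Cfsg.Agent.Lib.Helper5.Chev.HAll
import Mathlib

/-!
# The standard parabolic subgroups: the checks for all types (helper5)
-/

set_option autoImplicit false
set_option maxRecDepth 100000

namespace Cfsg.Agent.Lib.Helper5.Chev

open Cfsg.Lie
open scoped Matrix

/-- the packed generators, type G2 -/
def gPG2 : ℕ := 0x101001
theorem paraG2 : parab DataG2.fd chevG2 BsG2.Bs gPG2 2 = true := by decide +kernel

/-- the packed generators, type B2 -/
def gPB2 : ℕ := 0x1010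
theorem paraB2 : parab DataB2.fd chevB2 BsB2.Bs gPB2 1 = true := by decide +kernel

/-- the packed generators, type D4 -/
def gPD4 : ℕ := 0x321323013231
theorem paraD4 : parab DataD4.fd chevD4 BsD4.Bs gPD4 4 = true := by decide +kernel

/-- the packed generators, type F4 -/
def gPF4 : ℕ := 0x323123132012313210320123
theorem paraF4 : parab DataF4.fd chevF4 BsF4.Bs gPF4 7 = true := by decide +kernel

/-- the packed generators, type E6 -/
def gPE6 : ℕ := 0x545345234513452453540234514535425431
theorem paraE6 : parab DataE6.fd chevE6 BsE6.Bs gPE6 10 = true := by decide +kernel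

/-- the packed generators, type E7 -/
def gPE7 : ℕ := 0x656456345623456134562456356465023456145635646525646536541654320
theorem paraE7 : parab DataE7.fd chevE7 BsE7.Bs gPE7 16 = true := by decide +kernel

/-- the packed generators, type E8 -/
def gPE8 : ℕ := 0x767567456734567234567134567245673567467576023456714567356746757625674675763675764765167576476537654276543107654321234567
theorem paraE8 : parab DataE8.fd chevE8 BsE8.Bs gPE8 28 = true := by decide +kernel

theorem para_known (D : ChevalleyDatum)
    (hD : D ∈ [chevG2, chevB2, chevD4, chevF4, chevE6, chevE7, chevE8]) :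
    ∃ (T : FD) (Bs : List ℕ) (gB fuel : ℕ), T.Agrees D ∧
      (∀ i < D.rank, ReflChecks T D i (Bs.getD i 0)) ∧ parab T D Bs gB fuel = true := by
  simp only [List.mem_cons, List.not_mem_nil, or_false] at hD
  rcases hD with rfl | rfl | rfl | rfl | rfl | rfl | rfl
  · exact ⟨_, _, _, _, DataG2.agrees, HsG2.reflBs', paraG2⟩
  · exact ⟨_, _, _, _, DataB2.agrees, HsB2.reflBs', paraB2⟩
  · exact ⟨_, _, _, _, DataD4.agrees, HsD4.reflBs', paraD4⟩
  · exact ⟨_, _, _, _, DataF4.agrees, HsF4.reflBs', paraF4⟩
  · exact ⟨_, _, _, _, DataE6.agrees, HsE6.reflBs', paraE6⟩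
  · exact ⟨_, _, _, _, DataE7.agrees, HsE7.reflBs', paraE7⟩
  · exact ⟨_, _, _, _, DataE8.agrees, HsE8.reflBs', paraE8⟩

theorem coroot_neg_simple_all (D : ChevalleyDatum)
    (hD : D ∈ [chevG2, chevB2, chevD4, chevF4, chevE6, chevE7, chevE8]) :
    ∀ j < D.rank, ∀ k < D.rank,
      (D.coroot.getD (D.neg (D.simple j)) #[]).getD k 0 = if k = j then -1 else 0 := by
  simp only [List.mem_cons, List.not_mem_nil, or_false] at hD
  rcases hD with rfl | rfl | rfl | rfl | rfl | rfl | rfl
  · decide +kernel
  · decide +kernel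
  · decide +kernel
  · decide +kernel
  · decide +kernel
  · decide +kernel
  · decide +kernel

section

variable {F : Type*} [Field F]

/-- `P_J = ⟨H, X_r : r ∈ Φ⁺ ∪ Φ_J⟩` -/
theorem parabolic_eq_all (D : ChevalleyDatum)
    (hD : D ∈ [chevG2, chevB2, chevD4, chevF4, chevE6, chevE7, chevE8]) (J : Set ℕ) :
    D.parabolicSubgroup F J = D.diagonalSubgroup F ⊔
      Subgroup.closure {g : GL D.Idx F | ∃ (r : ℕ) (t : F),
        (D.IsPosRoot r ∨ D.InRootSub J r) ∧ (g : Matrix D.Idx D.Idx F) = D.x F r t} := by
  have hadd := allAdd_all (F := F) D hD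
  obtain ⟨T, Bs, gB, fuel, hA, hB, hpara⟩ := para_known D hD
  have hxQ : ∀ r (t : F), (D.IsPosRoot r ∨ D.InRootSub J r) →
      hadd.xU r t ∈ Subgroup.closure {g : GL D.Idx F | ∃ (r : ℕ) (t : F),
        (D.IsPosRoot r ∨ D.InRootSub J r) ∧ (g : Matrix D.Idx D.Idx F) = D.x F r t} :=
    fun r t h => Subgroup.subset_closure ⟨r, t, h, rfl⟩
  apply le_antisymm
  · unfold ChevalleyDatum.parabolicSubgroup ChevalleyDatum.borelSubgroup
    apply sup_le (sup_le ?_ le_sup_left)
    · rw [Subgroup.closure_le]
      rintro g ⟨j, hjJ, hj, hg⟩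
      obtain ⟨hp, hq⟩ := simple_lt_all D hD j hj
      have hg' : g = hadd.xU (D.simple j) 1 * (hadd.xU (D.neg (D.simple j)) (-1) *
          hadd.xU (D.simple j) 1) := by
        apply Units.ext
        rw [Units.val_mul, Units.val_mul, hg]
        exact nMat_one (D.simple j)
      rw [hg']
      apply Subgroup.mem_sup_right
      have h1 := hxQ (D.simple j) 1 (Or.inl (pos_simple_all D hD j hj))
      have h2 := hxQ (D.neg (D.simple j)) (-1) (Or.inr ⟨hq, fun i hi hiJ => by
        rw [coroot_neg_simple_all D hD j hj i hi, if_neg]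
        rintro rfl
        exact hiJ hjJ⟩)
      exact Subgroup.mul_mem _ h1 (Subgroup.mul_mem _ h2 h1)
    · apply le_sup_of_le_right
      unfold ChevalleyDatum.posUnipotent
      apply Subgroup.closure_mono
      rintro g ⟨r, t, hr, hg⟩
      exact ⟨r, t, Or.inl hr, hg⟩
  · have hUP : D.posUnipotent F ≤ D.parabolicSubgroup F J :=
      le_sup_of_le_left le_sup_left
    apply sup_le (le_sup_of_le_left le_sup_right)
    rw [Subgroup.closure_le]
    rintro g ⟨r, t, hr, hg⟩
    have hg' : g = hadd.xU r t := Units.ext hg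
    rw [hg']
    have hpos : ∀ r', D.IsPosRoot r' → ∀ t' : F, hadd.xU r' t' ∈ D.parabolicSubgroup F J :=
      fun r' hr' t' => hUP (Subgroup.subset_closure ⟨r', t', hr', rfl⟩)
    rcases hr with hr | hr
    · exact hpos r hr t
    · rcases pos_or_neg_all D hD r hr.1 with hr2 | hr2
      · exact hpos r hr2 t
      · unfold parab at hpara
        rw [forceNat_eq, forceNat_eq, hA.nroots_eq, hA.rank_eq] at hpara
        have h1 := allBelow_spec _ _ hpara r hr.1
        rw [decide_eq_true hr2, Bool.not_true, Bool.false_or] at h1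
        apply mem_of_reachP hA hadd Bs hB gB J (D.parabolicSubgroup F J) ?_ ?_ fuel r hr.1 h1 hr
        · intro j hj t'
          exact hpos _ (pos_simple_all D hD j hj) t'
        · intro j hj hp hq hjJ
          apply Subgroup.mem_sup_right
          apply Subgroup.subset_closure
          exact ⟨j, hjJ, hj, rfl⟩

end

end Cfsg.Agent.Lib.Helper5.Chev
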