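import Cfsg.Agent.Lib.Helper5.Chev.LvG2
import Cfsg.Agent.Lib.Helper5.Chev.LvB2
import Cfsg.Agent.Lib.Helper5.Chev.LvD4
import Cfsg.Agent.Lib.Helper5.Chev.LvF4
import Cfsg.Agent.Lib.Helper5.Chev.LvE6
import Cfsg.Agent.Lib.Helper5.Chev.LvE7
import Cfsg.Agent.Lib.Helper5.Chev.LvE8
import Cfsg.Agent.Lib.Helper5.Chev.ParabolicAll
import Cfsg.Agent.Lib.Helper5.Chev.CmAll
import Mathlib

/-!
# The Levi decomposition of the standard parabolic subgroups (helper5)
-/

set_option autoImplicit false

namespace Cfsg.Agent.Lib.Helper5.Chev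

open Cfsg.Lie
open scoped Matrix

theorem levi_known (D : ChevalleyDatum)
    (hD : D ∈ [chevG2, chevB2, chevD4, chevF4, chevE6, chevE7, chevE8]) :
    ∃ (T : FD) (mT : BT (List ℤ)), T.Agrees D ∧ (∀ r < D.nroots, LeviOK T D r) ∧
      (∀ r < D.nroots, RootCoordOK T D mT r) ∧
      (∀ r < D.nroots, (D.IsPosRoot r ↔ D.nroots / 2 ≤ r)) := by
  simp only [List.mem_cons, List.not_mem_nil, or_false] at hD
  rcases hD with rfl | rfl | rfl | rfl | rfl | rfl | rfl
  · exact ⟨_, _, DataG2.agrees, LvG2.leviOK, LvG2.rcOK, LvG2.posIff⟩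
  · exact ⟨_, _, DataB2.agrees, LvB2.leviOK, LvB2.rcOK, LvB2.posIff⟩
  · exact ⟨_, _, DataD4.agrees, LvD4.leviOK, LvD4.rcOK, LvD4.posIff⟩
  · exact ⟨_, _, DataF4.agrees, LvF4.leviOK, LvF4.rcOK, LvF4.posIff⟩
  · exact ⟨_, _, DataE6.agrees, LvE6.leviOK, LvE6.rcOK, LvE6.posIff⟩
  · exact ⟨_, _, DataE7.agrees, LvE7.leviOK, LvE7.rcOK, LvE7.posIff⟩
  · exact ⟨_, _, DataE8.agrees, LvE8.leviOK, LvE8.rcOK, LvE8.posIff⟩

section

variable {F : Type*} [Field F]

/-- `U_J ⊴ P_J`, `P_J = U_J L_J` and `U_J ∩ L_J = 1` -/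
theorem levi_decomposition_all (D : ChevalleyDatum)
    (hD : D ∈ [chevG2, chevB2, chevD4, chevF4, chevE6, chevE7, chevE8]) (J : Set ℕ) :
    D.parabolicSubgroup F J ≤ Subgroup.normalizer (D.unipotentRadical F J : Set (GL D.Idx F)) ∧
      D.unipotentRadical F J ⊔ D.leviSubgroup F J = D.parabolicSubgroup F J ∧
      D.unipotentRadical F J ⊓ D.leviSubgroup F J = ⊥ := by
  have hadd := allAdd_all (F := F) D hD
  have hcomm := comm_known (F := F) D hD
  obtain ⟨T, mT, hA, hlevi, hrc, hpos⟩ := levi_known D hD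
  refine ⟨?_, ?_, radical_inf_levi hD hA hadd mT hrc hpos J⟩
  · rw [parabolic_eq_all D hD J]
    apply sup_le
    · have h1 := diagonal_le_normalizer (F := F) hD (fun r => D.IsPosRoot r ∧ ¬ D.InRootSub J r)
        (fun r hr => hr.1.1)
      have e : {g : GL D.Idx F | ∃ (r : ℕ) (t : F), (D.IsPosRoot r ∧ ¬ D.InRootSub J r) ∧
          (g : Matrix D.Idx D.Idx F) = D.x F r t} = radSet F D J := by
        ext g
        constructor
        · rintro ⟨r, t, ⟨h2, h3⟩, h4⟩
          exact ⟨r, t, h2, h3, h4⟩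
        · rintro ⟨r, t, h2, h3, h4⟩
          exact ⟨r, t, ⟨h2, h3⟩, h4⟩
      rw [e] at h1
      exact h1
    · rw [Subgroup.closure_le]
      rintro g ⟨r, t, hr, hg⟩
      have hg' : g = hadd.xU r t := Units.ext hg
      rw [hg']
      have hrlt : r < D.nroots := by
        rcases hr with h | h
        · exact h.1
        · exact h.1
      exact xU_mem_normalizer_rad hA hadd J r hrlt (hlevi r hrlt) (hcomm r hrlt) hr t
  · rw [parabolic_eq_all D hD J]
    apply le_antisymm
    · apply sup_le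
      · apply le_sup_of_le_right
        unfold ChevalleyDatum.unipotentRadical
        apply Subgroup.closure_mono
        rintro g ⟨r, t, hr, -, hg⟩
        exact ⟨r, t, Or.inl hr, hg⟩
      · unfold ChevalleyDatum.leviSubgroup
        apply sup_le_sup_left
        apply Subgroup.closure_mono
        rintro g ⟨r, t, hr, hg⟩
        exact ⟨r, t, Or.inr hr, hg⟩
    · apply sup_le
      · apply le_sup_of_le_right
        unfold ChevalleyDatum.leviSubgroup
        exact le_sup_left
      · rw [Subgroup.closure_le]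
        rintro g ⟨r, t, hr, hg⟩
        by_cases hJ : D.InRootSub J r
        · apply Subgroup.mem_sup_right
          unfold ChevalleyDatum.leviSubgroup
          apply Subgroup.mem_sup_right
          apply Subgroup.subset_closure
          exact ⟨r, t, hJ, hg⟩
        · apply Subgroup.mem_sup_left
          apply Subgroup.subset_closure
          rcases hr with h | h
          · exact ⟨r, t, h, hJ, hg⟩
          · exact absurd h hJ

end

end Cfsg.Agent.Lib.Helper5.Chev
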