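import Cfsg.Agent.Lib.Helper5.Chev.BNPairChev
import Cfsg.Agent.Lib.Helper5.Chev.LeviAll
import Cfsg.Agent.S0311
import Mathlib

/-!
# The normaliser of the unipotent radical `U_J` is `P_J` (helper5)
-/

set_option autoImplicit false

namespace Cfsg.Agent.Lib.Helper5.Chev

open Cfsg.Lie
open scoped Matrix

section

variable {F : Type*} [Field F]

theorem parabolic_le_group (D : ChevalleyDatum)
    (hD : D ∈ [chevG2, chevB2, chevD4, chevF4, chevE6, chevE7, chevE8]) (J : Set ℕ) :
    D.parabolicSubgroup F J ≤ D.group F := by
  have hadd := allAdd_all (F := F) D hD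
  unfold ChevalleyDatum.parabolicSubgroup
  apply sup_le hadd.borel_le
  rw [Subgroup.closure_le]
  rintro g ⟨j, -, hj, hg⟩
  apply hadd.monomial_le
  apply Subgroup.mem_sup_right
  apply Subgroup.subset_closure
  exact ⟨_, (simple_lt_all D hD j hj).1, hg⟩

/-- `N_G(U_J) = P_J` -/
theorem normalizer_radical_all (D : ChevalleyDatum)
    (hD : D ∈ [chevG2, chevB2, chevD4, chevF4, chevE6, chevE7, chevE8]) (J : Set ℕ) :
    Subgroup.normalizer (D.unipotentRadical F J : Set (GL D.Idx F)) ⊓ D.group F
      = D.parabolicSubgroup F J := by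
  have hadd := allAdd_all (F := F) D hD
  obtain ⟨P, hPB, -, hPS⟩ := bnPair_all (F := F) D hD
  obtain ⟨T, Bs, mLL, gH, baseH, fuel, hA, hB, hr, hbase, hcox⟩ := cox_known D hD
  obtain ⟨hc1, -⟩ := cox_of_check T Bs mLL hcox
  have hPN := (levi_decomposition_all (F := F) D hD J).1
  have hPG := parabolic_le_group (F := F) D hD J
  have hBP : D.borelSubgroup F ≤ D.parabolicSubgroup F J := le_sup_left
  have hBG : D.borelSubgroup F ≤ D.group F := hadd.borel_le
  have hUB : D.posUnipotent F ≤ D.borelSubgroup F := le_sup_left
  apply le_antisymm _ (le_inf hPN hPG)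
  -- the subgroup of `G`
  set M : Subgroup ↥(D.group F) :=
    (Subgroup.normalizer (D.unipotentRadical F J : Set (GL D.Idx F)) ⊓ D.group F).subgroupOf
      (D.group F) with hM
  have hBM : P.B ≤ M := by
    rw [hPB]
    intro x hx
    rw [Subgroup.mem_subgroupOf] at hx ⊢
    exact ⟨hPN (hBP hx), x.2⟩
  obtain ⟨K, hK, hMK⟩ := Cfsg.Agent.S0311.result P M hBM
  have hle : M ≤ (D.parabolicSubgroup F J).subgroupOf (D.group F) := by
    rw [hMK]
    unfold BNPair.parabolic
    apply sup_le
    · rw [hPB]
      intro x hx
      rw [Subgroup.mem_subgroupOf] at hx ⊢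
      exact hBP hx
    · rw [Subgroup.closure_le]
      intro s hs
      have hsS := hK hs
      rw [hPS] at hsS
      obtain ⟨k, hk, hsk⟩ := hsS
      have hsM : s ∈ M := by
        rw [hMK]
        unfold BNPair.parabolic
        exact Subgroup.mem_sup_right (Subgroup.subset_closure hs)
      rw [hM, Subgroup.mem_subgroupOf] at hsM
      have hsN := hsM.1
      rw [SetLike.mem_coe, Subgroup.mem_subgroupOf]
      by_cases hkJ : k ∈ J
      · unfold ChevalleyDatum.parabolicSubgroup
        apply Subgroup.mem_sup_right
        apply Subgroup.subset_closure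
        exact ⟨k, hkJ, hk, hsk⟩
      · exfalso
        obtain ⟨hp, hq⟩ := simple_lt_all D hD k hk
        have hs' : (s : GL D.Idx F) = hadd.nU (D.simple k) hp hq := Units.ext hsk
        have hpos := pos_simple_all D hD k hk
        have hnot : ¬ D.InRootSub J (D.simple k) := by
          intro h
          have := h.2 k hk hkJ
          rw [coroot_simple_all D hD k hk k hk, if_pos rfl] at this
          exact one_ne_zero this
        have hxU : hadd.xU (D.simple k) 1 ∈ D.unipotentRadical F J :=
          Subgroup.subset_closure ⟨_, 1, hpos, hnot, rfl⟩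
        have hconj := (Subgroup.mem_normalizer_iff.1 hsN (hadd.xU (D.simple k) 1)).1 hxU
        rw [hs', nU_conj_xU hA hadd k _ hk (hB k hk) hp hq (1 : F)] at hconj
        have hRU : D.unipotentRadical F J ≤ D.posUnipotent F := by
          unfold ChevalleyDatum.unipotentRadical ChevalleyDatum.posUnipotent
          apply Subgroup.closure_mono
          rintro g ⟨r, t, h1, -, h3⟩
          exact ⟨r, t, h1, h3⟩
        have hx : hadd.xU (D.neg (D.simple k)) (((etaOf (Bs.getD k 0) (D.simple k) : ℤ) : F) * 1)
            ∈ D.borelSubgroup F ⊓ D.negUnipotent F := by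
          constructor
          · exact hUB (hRU hconj)
          · apply Subgroup.subset_closure
            refine ⟨_, _, ?_, rfl⟩
            apply neg_of_lt_half D hD _ hq
            have hl : T.rank = D.rank := hA.rank_eq
            have hn : T.nroots = D.nroots := hA.nroots_eq
            have := (hc1.neg_sign _ (hn ▸ hA.simple_lt k hk)).2 (hc1.p_pos k (hl ▸ hk))
            rw [FD.neg_eq' hA _ hp, FD.simple_eq' hA k hk, ← hn]
            exact this
        rw [(borel_inf_neg_all D hD).1, Subgroup.mem_bot] at hx
        have := xInj_all (F := F) D hD _ hq _ (congrArg Units.val hx)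
        rw [mul_one] at this
        rcases etaOf_pm (Bs.getD k 0) (D.simple k) with h3 | h3 <;> rw [h3] at this <;>
          simp at this
  intro g hg
  have hgM : (⟨g, hg.2⟩ : ↥(D.group F)) ∈ M := by
    rw [hM, Subgroup.mem_subgroupOf]
    exact hg
  have := hle hgM
  rw [Subgroup.mem_subgroupOf] at this
  exact this

end

end Cfsg.Agent.Lib.Helper5.Chev
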