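import Cfsg.Agent.Lib.Helper5.Chev.CoxPerm
import Mathlib

/-!
# The sum of `q ^ l(w)` over the group generated by a set of fundamental reflections (helper5)
-/

set_option autoImplicit false

namespace Cfsg.Agent.Lib.Helper5.Chev

namespace WD

open Classical

variable (W : WD)

/-- a word with letters in `K` -/
def IsWordIn (K : Set ℕ) (u : List ℕ) : Prop := ∀ x ∈ u, x < W.l ∧ x ∈ K

theorem IsWordIn.isWord {K : Set ℕ} {u : List ℕ} (h : W.IsWordIn K u) : W.IsWord u :=
  fun x hx => (h x hx).1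

theorem isWordIn_univ {u : List ℕ} (h : W.IsWord u) : W.IsWordIn Set.univ u :=
  fun x hx => ⟨h x hx, Set.mem_univ x⟩

theorem isWordIn_nil (K : Set ℕ) : W.IsWordIn K [] := fun x hx => by simp at hx

theorem IsWordIn.append {K : Set ℕ} {u v : List ℕ} (hu : W.IsWordIn K u) (hv : W.IsWordIn K v) :
    W.IsWordIn K (u ++ v) := by
  intro x hx
  rw [List.mem_append] at hx
  rcases hx with hx | hx
  · exact hu x hx
  · exact hv x hx

theorem IsWordIn.mono {K K' : Set ℕ} (h : K ⊆ K') {u : List ℕ} (hu : W.IsWordIn K u) :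
    W.IsWordIn K' u := fun x hx => ⟨(hu x hx).1, h (hu x hx).2⟩

theorem IsWordIn.cons {K : Set ℕ} {u : List ℕ} {i : ℕ} (hi : i < W.l) (hiK : i ∈ K)
    (hu : W.IsWordIn K u) : W.IsWordIn K (i :: u) := by
  intro x hx
  rw [List.mem_cons] at hx
  rcases hx with rfl | hx
  · exact ⟨hi, hiK⟩
  · exact hu x hx

theorem IsWordIn.singleton {K : Set ℕ} {i : ℕ} (hi : i < W.l) (hiK : i ∈ K) :
    W.IsWordIn K [i] := IsWordIn.cons W hi hiK (isWordIn_nil W K)

theorem IsWordIn.reverse {K : Set ℕ} {u : List ℕ} (hu : W.IsWordIn K u) :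
    W.IsWordIn K u.reverse := fun x hx => hu x (List.mem_reverse.1 hx)

/-- the map is the action of the word -/
def IsAct (a : Fin W.n → Fin W.n) (u : List ℕ) : Prop := ∀ r : Fin W.n, (a r).val = W.act u r.val

/-- the actions of the words with letters in `K` -/
def WSet (K : Set ℕ) : Set (Fin W.n → Fin W.n) := {a | ∃ u, W.IsWordIn K u ∧ W.IsAct a u}

/-- the finite set of the actions of the words with letters in `K` -/
noncomputable def WFin (K : Set ℕ) : Finset (Fin W.n → Fin W.n) :=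
  Finset.univ.filter fun a => a ∈ W.WSet K

theorem mem_WFin {K : Set ℕ} {a : Fin W.n → Fin W.n} :
    a ∈ W.WFin K ↔ ∃ u, W.IsWordIn K u ∧ W.IsAct a u := by
  unfold WFin
  rw [Finset.mem_filter]
  exact ⟨fun h => h.2, fun h => ⟨Finset.mem_univ _, h⟩⟩

/-- the number of inversions of a map -/
noncomputable def invF (a : Fin W.n → Fin W.n) : ℕ :=
  (Finset.univ.filter fun r : Fin W.n => W.h ≤ r.val ∧ (a r).val < W.h).card

theorem invF_eq {a : Fin W.n → Fin W.n} {u : List ℕ} (h : W.IsAct a u) : W.invF a = W.inv u := by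
  unfold invF inv
  rw [Finset.card_filter, Finset.card_filter,
    ← Fin.sum_univ_eq_sum_range (fun r => if W.h ≤ r ∧ W.act u r < W.h then 1 else 0) W.n]
  apply Finset.sum_congr rfl
  intro r _
  rw [h r]

/-- the sum of `q ^ l(w)` -/
noncomputable def psum (K : Set ℕ) (q : ℕ) : ℕ := ∑ a ∈ W.WFin K, q ^ W.invF a

/-- the action of a word, as a map -/
def actF {W : WD} (hV : W.Valid) (u : List ℕ) (hu : W.IsWord u) : Fin W.n → Fin W.n :=
  fun r => ⟨W.act u r.val, hV.act_lt hu r.isLt⟩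

theorem isAct_actF {W : WD} (hV : W.Valid) (u : List ℕ) (hu : W.IsWord u) :
    W.IsAct (actF hV u hu) u := fun _ => rfl

theorem IsAct.ext {a a' : Fin W.n → Fin W.n} {u u' : List ℕ} (h : W.IsAct a u)
    (h' : W.IsAct a' u') (he : ∀ r < W.n, W.act u r = W.act u' r) : a = a' := by
  funext r
  apply Fin.ext
  rw [h r, h' r, he r.val r.isLt]

end WD

end Cfsg.Agent.Lib.Helper5.Chev
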