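import Cfsg.Agent.Lib.Helper5.Chev.ChevCount
import Cfsg.Agent.Lib.Helper5.Chev.WeylSum
import Mathlib

/-!
# The order of a Chevalley group as `|B| ∑ q ^ l(w)` (helper5)
-/

set_option autoImplicit false

namespace Cfsg.Agent.Lib.Helper5.Chev

open Cfsg.Lie
open scoped Matrix

section

variable {F : Type*} [Field F] {T : FD} {D : ChevalleyDatum}

/-- two words with the same action on the roots agree modulo `H` -/
theorem nWordU_inv_mul_mem_of_act_eq
    (hD : D ∈ [chevG2, chevB2, chevD4, chevF4, chevE6, chevE7, chevE8])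
    (hA : T.Agrees D) (hadd : AllAdd F D) (Bs : List ℕ) (mLL : List (List ℕ))
    (hB : ∀ i < D.rank, ReflChecks T D i (Bs.getD i 0)) (hc1 : Cox1 T Bs)
    (hc2 : ∀ i < T.rank, ∀ j < T.rank, i ≠ j → Cox2 T Bs mLL i j) (u u' : List ℕ)
    (hu : (wdOf T Bs mLL).IsWord u) (hu' : (wdOf T Bs mLL).IsWord u')
    (h : ∀ r < (wdOf T Bs mLL).n, (wdOf T Bs mLL).act u r = (wdOf T Bs mLL).act u' r) :
    (nWordU hA hadd u)⁻¹ * nWordU hA hadd u' ∈ D.diagonalSubgroup F := by
  have := diagonal_normal_all (F := F) D hD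
  have key := WD.gW_eq_of_act_eq (gQ hA hadd) (wdOf_valid hA Bs mLL hB hc1 hc2)
    (wdOf_rankTwo hA Bs mLL hB hc1 hc2) (rel_gQ hA hadd Bs mLL hB hc2) u u' hu hu' h
  rw [gW_gQ, gW_gQ, QuotientGroup.eq, Subgroup.mem_subgroupOf] at key
  exact key

/-- two words which agree modulo `H` have the same action on the roots -/
theorem act_eq_of_inv_mul_mem
    (hD : D ∈ [chevG2, chevB2, chevD4, chevF4, chevE6, chevE7, chevE8])
    (hA : T.Agrees D) (hadd : AllAdd F D) (Bs : List ℕ) (mLL : List (List ℕ))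
    (hB : ∀ i < D.rank, ReflChecks T D i (Bs.getD i 0)) (hc1 : Cox1 T Bs)
    (hc2 : ∀ i < T.rank, ∀ j < T.rank, i ≠ j → Cox2 T Bs mLL i j)
    (hH : ∀ s < D.nroots, HForm F D s) (u u' : List ℕ)
    (hu : (wdOf T Bs mLL).IsWord u) (hu' : (wdOf T Bs mLL).IsWord u')
    (h : (nWordU hA hadd u)⁻¹ * nWordU hA hadd u' ∈ D.diagonalSubgroup F) :
    ∀ r < (wdOf T Bs mLL).n, (wdOf T Bs mLL).act u r = (wdOf T Bs mLL).act u' r := by
  have hl : T.rank = D.rank := hA.rank_eq
  have hn : T.nroots = D.nroots := hA.nroots_eq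
  have hV := wdOf_valid hA Bs mLL hB hc1 hc2
  have hR := wdOf_rankTwo hA Bs mLL hB hc1 hc2
  have hm : ∀ i < (wdOf T Bs mLL).l, ∀ j < (wdOf T Bs mLL).l, i ≠ j →
      1 ≤ (wdOf T Bs mLL).m i j := fun i hi j hj hij => (hc2 i hi j hj hij).m_pos
  have hHB : D.diagonalSubgroup F ≤ D.borelSubgroup F := le_sup_right
  have hNH : D.monomialSubgroup F ≤ Subgroup.normalizer (D.diagonalSubgroup F : Set (GL D.Idx F)) :=
    (Subgroup.normal_subgroupOf_iff_le_normalizer le_sup_left).1 (diagonal_normal_all D hD)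
  have huD : ∀ x ∈ u, x < D.rank := fun x hx => hl ▸ hu x hx
  have huD' : ∀ x ∈ u', x < D.rank := fun x hx => hl ▸ hu' x hx
  have hvD : ∀ x ∈ u.reverse ++ u', x < D.rank := by
    intro x hx
    rw [List.mem_append, List.mem_reverse] at hx
    rcases hx with hx | hx
    · exact huD x hx
    · exact huD' x hx
  obtain ⟨h0, hh0, e0⟩ := nWordU_inv hA hadd Bs hB hH u huD
  have hvH : nWordU hA hadd (u.reverse ++ u') ∈ D.diagonalSubgroup F := by
    have e1 : nWordU hA hadd (u.reverse ++ u')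
        = (nWordU hA hadd u)⁻¹ * nWordU hA hadd u' *
          ((nWordU hA hadd u')⁻¹ * h0⁻¹ * nWordU hA hadd u') := by
      rw [nWordU_append]
      have : nWordU hA hadd u.reverse = (nWordU hA hadd u)⁻¹ * h0⁻¹ := by
        rw [e0]
        group
      rw [this]
      group
    rw [e1]
    exact Subgroup.mul_mem _ h (conj_mem_of_normalizer _ _ _ (hNH (nWordU_mem hA hadd u'))
      (Subgroup.inv_mem _ hh0)).2
  have hnd := no_desc_of_mem_borel D hD hA hadd Bs hB (u.reverse ++ u') hvD 1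
    (Subgroup.one_mem _) (by rw [mul_one]; exact hHB hvH)
  have hvw : (wdOf T Bs mLL).IsWord (u.reverse ++ u') := hu.reverse.append _ hu'
  have hid := hV.act_eq_of_no_desc hR hm hvw (by
    intro i hi
    have hi' : i < D.rank := hl ▸ hi
    show T.nroots / 2 ≤ (wdOf T Bs mLL).act (u.reverse ++ u') (T.simple i)
    rw [act_eq_wW, hn, ← FD.simple_eq' hA i hi']
    exact hnd i hi')
  intro r hr
  have h2 := hid r hr
  rw [WD.act_append] at h2
  have h3 : (wdOf T Bs mLL).act u ((wdOf T Bs mLL).act u.reverse ((wdOf T Bs mLL).act u' r))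
      = (wdOf T Bs mLL).act u r := by rw [h2]
  rw [hV.act_reverse' hu (hV.act_lt hu' hr)] at h3
  exact h3.symm

end

section

variable {F : Type*} [Field F] [Finite F] {T : FD} {D : ChevalleyDatum}

open Classical in
/-- the order of the group is `|B| ∑ q ^ l(w)` -/
theorem card_group_eq_psum (hD : D ∈ [chevG2, chevB2, chevD4, chevF4, chevE6, chevE7, chevE8])
    (hA : T.Agrees D) (Bs : List ℕ) (mLL : List (List ℕ))
    (hB : ∀ i < D.rank, ReflChecks T D i (Bs.getD i 0)) (gH : ℕ) (baseH : List ℕ) (fuel : ℕ)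
    (hr : reachb T Bs gH baseH fuel = true) (hbase : ∀ s ∈ baseH, ∃ j < D.rank, s = D.simple j)
    (hc1 : Cox1 T Bs) (hc2 : ∀ i < T.rank, ∀ j < T.rank, i ≠ j → Cox2 T Bs mLL i j) :
    Nat.card (D.group F)
      = Nat.card (D.borelSubgroup F) * (wdOf T Bs mLL).psum Set.univ (Nat.card F) := by
  have hadd := allAdd_all (F := F) D hD
  have hH := hform_all' (F := F) D hD
  have hl : T.rank = D.rank := hA.rank_eq
  have hn : T.nroots = D.nroots := hA.nroots_eq
  have hV := wdOf_valid hA Bs mLL hB hc1 hc2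
  have hBG : D.borelSubgroup F ≤ D.group F := hadd.borel_le
  have hNG : D.monomialSubgroup F ≤ D.group F := hadd.monomial_le
  have hHB : D.diagonalSubgroup F ≤ D.borelSubgroup F := le_sup_right
  set W := wdOf T Bs mLL with hW
  -- the chosen words
  have hex : ∀ a : ↥(W.WFin Set.univ), ∃ u, W.IsWordIn Set.univ u ∧ W.IsAct a.1 u :=
    fun a => (W.mem_WFin).1 a.2
  choose ω hω using hex
  have hωD : ∀ a, ∀ x ∈ ω a, x < D.rank := fun a x hx => hl ▸ ((hω a).1 x hx).1
  have hfinG : Finite (D.group F) := inferInstance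
  have hsum := card_eq_sum_dc (D.borelSubgroup F) (D.group F)
    (fun a : ↥(W.WFin Set.univ) => nWordU hA hadd (ω a)) ?_ ?_ ?_
  · rw [hsum]
    unfold WD.psum
    rw [Finset.mul_sum, ← Finset.sum_coe_sort (W.WFin Set.univ)]
    apply Finset.sum_congr rfl
    intro a _
    have h1 := card_dc_word hD hA hadd Bs mLL hB hc1 hc2 _ (ω a) (hωD a) rfl 1
      (Subgroup.one_mem _)
    rw [mul_one] at h1
    rw [h1, W.invF_eq (hω a).2]
  · -- covering
    intro g hg
    obtain ⟨n, hnN, hgn⟩ := exists_monomial_dc D hD g hg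
    obtain ⟨L, hL, h0, hh0, rfl⟩ := monomial_le_NWH hA hadd Bs hB hH gH baseH fuel hr hbase hnN
    have hLw : W.IsWord L := fun x hx => by
      show x < T.rank
      rw [hl]
      exact hL x hx
    have haL : WD.actF hV L hLw ∈ W.WFin Set.univ :=
      (W.mem_WFin).2 ⟨L, W.isWordIn_univ hLw, WD.isAct_actF hV L hLw⟩
    refine ⟨⟨_, haL⟩, ?_⟩
    have hact : ∀ r < W.n, W.act (ω ⟨_, haL⟩) r = W.act L r := by
      intro r hr'
      have := (hω ⟨_, haL⟩).2 ⟨r, hr'⟩
      rw [← this]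
      rfl
    have hmem := nWordU_inv_mul_mem_of_act_eq hD hA hadd Bs mLL hB hc1 hc2 _ L
      (hω ⟨_, haL⟩).1.isWord hLw hact
    have e : nWordU hA hadd L * h0 = nWordU hA hadd (ω ⟨_, haL⟩) *
        ((nWordU hA hadd (ω ⟨_, haL⟩))⁻¹ * nWordU hA hadd L * h0) := by group
    rw [e, dc_mul_B _ (hHB (Subgroup.mul_mem _ hmem hh0))] at hgn
    exact hgn
  · -- inside the group
    intro a x hx
    rw [mem_dc] at hx
    obtain ⟨b, hb, b', hb', rfl⟩ := hx
    exact Subgroup.mul_mem _ (Subgroup.mul_mem _ (hBG hb) (hNG (nWordU_mem hA hadd _))) (hBG hb')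
  · -- distinct
    intro a a' x hx hx'
    have heq := dc_eq_of_inter _ hx hx'
    have hmem : nWordU hA hadd (ω a') ∈ dc (D.borelSubgroup F) (nWordU hA hadd (ω a)) := by
      rw [heq]
      exact self_mem_dc _ _
    have h1 := monomial_dc D hD _ _ (nWordU_mem hA hadd _) (nWordU_mem hA hadd _) hmem
    have h2 := act_eq_of_inv_mul_mem hD hA hadd Bs mLL hB hc1 hc2 hH _ _ (hω a).1.isWord
      (hω a').1.isWord h1
    exact Subtype.ext (WD.IsAct.ext W (hω a).2 (hω a').2 h2)

end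

end Cfsg.Agent.Lib.Helper5.Chev
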