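import Cfsg.Agent.Lib.Helper5.Chev.CoxLin
import Cfsg.Agent.Lib.Helper5.Chev.ChevCard
import Mathlib

/-!
# The sum of `q ^ l(w)` along a chain of parabolic subgroups of the Weyl group (helper5)
-/

set_option autoImplicit false

namespace Cfsg.Agent.Lib.Helper5.Chev

open Cfsg.Lie
open scoped Matrix

theorem array_getD_nonneg (a : Array ℤ) (k : ℕ) (H : ∀ c ∈ a.toList, 0 ≤ c) : 0 ≤ a.getD k 0 := by
  unfold Array.getD
  split_ifs with h
  · apply H
    simp
  · exact le_refl 0

section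

variable {T : FD} {D : ChevalleyDatum}

/-- the coordinates of a positive root are non-negative -/
theorem v_nonneg (hD : D ∈ [chevG2, chevB2, chevD4, chevF4, chevE6, chevE7, chevE8])
    (hA : T.Agrees D) (r : ℕ) (hr : r < D.nroots) (hpos : D.nroots / 2 ≤ r) :
    ∀ k < T.rank, 0 ≤ vOf T r k := by
  intro k hk
  have hp := (pos_iff_all D hD r hr).2 hpos
  unfold vOf
  rw [hA.coroot_eq r hr k (hA.rank_eq ▸ hk)]
  exact array_getD_nonneg _ k hp.2

variable (hD : D ∈ [chevG2, chevB2, chevD4, chevF4, chevE6, chevE7, chevE8])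
  (hA : T.Agrees D) (Bs : List ℕ) (mLL : List (List ℕ))
  (hB : ∀ i < D.rank, ReflChecks T D i (Bs.getD i 0)) (h1 : Cox1 T Bs)
  (h2 : ∀ i < T.rank, ∀ j < T.rank, i ≠ j → Cox2 T Bs mLL i j)

include hA hB in
/-- a word with letters in `K` does not change the coordinates outside `K` -/
theorem vOf_act_off (K : Set ℕ) (v : List ℕ) (hv : (wdOf T Bs mLL).IsWordIn K v) (r : ℕ)
    (hr : r < D.nroots) (k : ℕ) (hk : k < T.rank) (hkK : k ∉ K) :
    (wdOf T Bs mLL).act v r < D.nroots ∧ vOf T ((wdOf T Bs mLL).act v r) k = vOf T r k := by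
  have hl : T.rank = D.rank := hA.rank_eq
  induction v with
  | nil => exact ⟨hr, rfl⟩
  | cons i v ih =>
    obtain ⟨h3, h4⟩ := ih (fun x hx => hv x (List.mem_cons_of_mem _ hx))
    obtain ⟨hi, hiK⟩ := hv i List.mem_cons_self
    have hi' : i < D.rank := hl ▸ hi
    have hc := (hB i hi').cert hA
    refine ⟨hc.w_lt _ h3, ?_⟩
    show vOf T (wOf (Bs.getD i 0) ((wdOf T Bs mLL).act v r)) k = vOf T r k
    unfold vOf at h4 ⊢
    rw [hc.coroot_w k (hl ▸ hk) _ h3, if_neg (fun h : k = i => hkK (h ▸ hiK)), sub_zero, h4]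

include hA hB h1 in
/-- a descent of a word with letters in `K` lies in `K` -/
theorem desc_mem (K : Set ℕ) (v : List ℕ) (hv : (wdOf T Bs mLL).IsWordIn K v) (i : ℕ)
    (hi : i < T.rank) (hd : (wdOf T Bs mLL).act v (T.simple i) < T.nroots / 2) : i ∈ K := by
  have hl : T.rank = D.rank := hA.rank_eq
  have hn : T.nroots = D.nroots := hA.nroots_eq
  by_contra hiK
  have hp : T.simple i < D.nroots := hA.simple_lt i (hl ▸ hi)
  obtain ⟨h3, h4⟩ := vOf_act_off hA Bs mLL hB K v hv (T.simple i) hp i hi hiK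
  have h5 := h1.v_neg _ (hn ▸ h3) hd i hi
  rw [h4, h1.v_p i hi i hi, if_pos rfl] at h5
  omega

include hD hA hB h1 h2 in
/-- a word mapping the fundamental roots of `K` to positive roots maps the positive roots of the
subsystem of `K` to positive roots -/
theorem pos_of_minimal (K : Set ℕ) (x : List ℕ) (hx : (wdOf T Bs mLL).IsWord x)
    (hmin : ∀ j < T.rank, j ∈ K → T.nroots / 2 ≤ (wdOf T Bs mLL).act x (T.simple j)) (β : ℕ)
    (hβ : β < T.nroots) (hpos : T.nroots / 2 ≤ β)
    (hsupp : ∀ k < T.rank, k ∉ K → vOf T β k = 0) :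
    T.nroots / 2 ≤ (wdOf T Bs mLL).act x β := by
  have hl : T.rank = D.rank := hA.rank_eq
  have hn : T.nroots = D.nroots := hA.nroots_eq
  have hV := wdOf_valid hA Bs mLL hB h1 h2
  have hxD : ∀ i ∈ x, i < D.rank := fun i hi => hl ▸ hx i hi
  by_contra hcon
  rw [not_le] at hcon
  set s := (wdOf T Bs mLL).act x β with hs
  have hslt : s < T.nroots := hV.act_lt hx hβ
  -- the coordinates of `s` vanish
  have hzero : ∀ k < T.rank, vOf T s k = 0 := by
    intro k hk
    apply le_antisymm (h1.v_neg s hslt hcon k hk)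
    rw [hs, vOf_act_sum hA Bs mLL hB h1 x hxD β (hn ▸ hβ) k hk]
    apply List.sum_nonneg
    intro t ht
    rw [List.mem_map] at ht
    obtain ⟨j, hj, rfl⟩ := ht
    rw [List.mem_range] at hj
    by_cases hjK : j ∈ K
    · apply mul_nonneg (v_nonneg hD hA β (hn ▸ hβ) (hn ▸ hpos) j hj)
      have hpj : T.simple j < T.nroots := hV.p_lt j hj
      exact v_nonneg hD hA _ (hn ▸ hV.act_lt hx hpj) (hn ▸ hmin j hj hjK) k hk
    · rw [hsupp j hj hjK, zero_mul]
  -- apply the inverse word
  have hxr : ∀ i ∈ x.reverse, i < D.rank := fun i hi => hxD i (List.mem_reverse.1 hi)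
  obtain ⟨-, -, -, h4⟩ := lin_act hA Bs mLL hB x.reverse hxr s s s (hn ▸ hslt) (hn ▸ hslt)
    (hn ▸ hslt) 0 0 (by
      intro k hk
      rw [hzero k (hl ▸ hk)]
      ring)
  rw [hs, hV.act_reverse hx hβ] at h4
  obtain ⟨k, hk, hkpos⟩ := h1.v_pos β hβ hpos
  have := h4 k (hl ▸ hk)
  rw [this] at hkpos
  simp at hkpos


include hA hB h1 h2 in
/-- the image of the opposite of a fundamental root of `K` at a descent of a word with letters in
`K`: a positive root of the subsystem of `K` -/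
theorem desc_root (K : Set ℕ) (v : List ℕ) (hv : (wdOf T Bs mLL).IsWordIn K v) (i : ℕ)
    (hi : i < T.rank) (hiK : i ∈ K) (hd : (wdOf T Bs mLL).act v (T.simple i) < T.nroots / 2) :
    (wdOf T Bs mLL).act (v ++ [i]) (T.simple i) < T.nroots ∧
      T.nroots / 2 ≤ (wdOf T Bs mLL).act (v ++ [i]) (T.simple i) ∧
      ∀ k < T.rank, k ∉ K → vOf T ((wdOf T Bs mLL).act (v ++ [i]) (T.simple i)) k = 0 := by
  have hl : T.rank = D.rank := hA.rank_eq
  have hn : T.nroots = D.nroots := hA.nroots_eq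
  have hV := wdOf_valid hA Bs mLL hB h1 h2
  have hpi : T.simple i < T.nroots := hV.p_lt i hi
  have hvi : (wdOf T Bs mLL).IsWordIn K (v ++ [i]) :=
    hv.append _ (WD.IsWordIn.singleton _ hi hiK)
  refine ⟨hV.act_lt hvi.isWord hpi, ?_, ?_⟩
  · rw [WD.act_concat]
    show T.nroots / 2 ≤ (wdOf T Bs mLL).act v (wOf (Bs.getD i 0) (T.simple i))
    rw [h1.w_p i hi]
    have h3 := hV.act_neg hv.isWord hpi
    have h4 : (wdOf T Bs mLL).act v (T.neg (T.simple i))
        = T.neg ((wdOf T Bs mLL).act v (T.simple i)) := h3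
    rw [h4]
    by_contra hcon
    rw [not_le] at hcon
    have := (h1.neg_sign _ (hV.act_lt hv.isWord hpi)).1 hcon
    omega
  · intro k hk hkK
    obtain ⟨-, h4⟩ := vOf_act_off hA Bs mLL hB K (v ++ [i]) hvi (T.simple i) (hn ▸ hpi) k hk hkK
    rw [h4, h1.v_p i hi k hk, if_neg (fun h : k = i => hkK (h ▸ hiK))]

include hD hA hB h1 h2 in
/-- the lengths add: `l(x v) = l(x) + l(v)` for `x` minimal and `v` in the subgroup of `K` -/
theorem inv_append_of_minimal (K : Set ℕ) (x : List ℕ) (hx : (wdOf T Bs mLL).IsWord x)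
    (hmin : ∀ j < T.rank, j ∈ K → T.nroots / 2 ≤ (wdOf T Bs mLL).act x (T.simple j)) :
    ∀ (m : ℕ) (v : List ℕ), (wdOf T Bs mLL).IsWordIn K v → (wdOf T Bs mLL).inv v = m →
      (wdOf T Bs mLL).inv (x ++ v) = (wdOf T Bs mLL).inv x + m := by
  have hV := wdOf_valid hA Bs mLL hB h1 h2
  have hR := wdOf_rankTwo hA Bs mLL hB h1 h2
  have hm : ∀ i < (wdOf T Bs mLL).l, ∀ j < (wdOf T Bs mLL).l, i ≠ j →
      1 ≤ (wdOf T Bs mLL).m i j := fun i hi j hj hij => (h2 i hi j hj hij).m_pos
  intro m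
  induction m using Nat.strong_induction_on with
  | _ m ih =>
    intro v hv hvm
    by_cases hnd : ∀ i < T.rank, T.nroots / 2 ≤ (wdOf T Bs mLL).act v (T.simple i)
    · have hid := hV.act_eq_of_no_desc hR hm hv.isWord hnd
      have h0 := hV.inv_eq_zero_of_no_desc hR hm hv.isWord hnd
      rw [← hvm, h0, add_zero]
      apply WD.inv_congr
      intro r hr
      rw [WD.act_append, hid r hr]
    · push Not at hnd
      obtain ⟨i, hi, hd⟩ := hnd
      have hiK := desc_mem hA Bs mLL hB h1 K v hv i hi hd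
      have hvi : (wdOf T Bs mLL).IsWordIn K (v ++ [i]) :=
        hv.append _ (WD.IsWordIn.singleton _ hi hiK)
      have hinv := hV.inv_desc_eq hv.isWord hi hd
      have hlt : (wdOf T Bs mLL).inv (v ++ [i]) < m := by omega
      have hIH := ih _ hlt (v ++ [i]) hvi rfl
      obtain ⟨hβ, hβpos, hβsupp⟩ := desc_root hA Bs mLL hB h1 h2 K v hv i hi hiK hd
      have hasc := pos_of_minimal hD hA Bs mLL hB h1 h2 K x hx hmin _ hβ hβpos hβsupp
      rw [← WD.act_append] at hasc
      have hxw : (wdOf T Bs mLL).IsWord (x ++ (v ++ [i])) := hx.append _ hvi.isWord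
      have h3 := hV.inv_asc_eq hxw hi hasc
      have h4 : (wdOf T Bs mLL).inv (x ++ (v ++ [i]) ++ [i]) = (wdOf T Bs mLL).inv (x ++ v) := by
        apply WD.inv_congr
        intro r hr
        rw [WD.act_concat, WD.act_append, WD.act_concat, hV.w_w i hi r hr, WD.act_append]
      omega

include hD hA hB h1 h2 in
/-- the minimal element of a coset is unique -/
theorem act_eq_of_minimal (K : Set ℕ) (x x' : List ℕ) (hx : (wdOf T Bs mLL).IsWord x)
    (hx' : (wdOf T Bs mLL).IsWord x')
    (hmin : ∀ j < T.rank, j ∈ K → T.nroots / 2 ≤ (wdOf T Bs mLL).act x (T.simple j))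
    (hmin' : ∀ j < T.rank, j ∈ K → T.nroots / 2 ≤ (wdOf T Bs mLL).act x' (T.simple j))
    (v v' : List ℕ) (hv : (wdOf T Bs mLL).IsWordIn K v) (hv' : (wdOf T Bs mLL).IsWordIn K v')
    (h : ∀ r < T.nroots, (wdOf T Bs mLL).act (x ++ v) r = (wdOf T Bs mLL).act (x' ++ v') r) :
    ∀ r < T.nroots, (wdOf T Bs mLL).act x r = (wdOf T Bs mLL).act x' r := by
  have hV := wdOf_valid hA Bs mLL hB h1 h2
  have hR := wdOf_rankTwo hA Bs mLL hB h1 h2
  have hm : ∀ i < (wdOf T Bs mLL).l, ∀ j < (wdOf T Bs mLL).l, i ≠ j →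
      1 ≤ (wdOf T Bs mLL).m i j := fun i hi j hj hij => (h2 i hi j hj hij).m_pos
  -- `z = v v'⁻¹`
  have hz : (wdOf T Bs mLL).IsWordIn K (v ++ v'.reverse) := hv.append _ hv'.reverse
  have hxz : ∀ r < T.nroots, (wdOf T Bs mLL).act x ((wdOf T Bs mLL).act (v ++ v'.reverse) r)
      = (wdOf T Bs mLL).act x' r := by
    intro r hr
    have hr' : (wdOf T Bs mLL).act v'.reverse r < T.nroots := hV.act_lt hv'.isWord.reverse hr
    have := h _ hr'
    rw [WD.act_append, WD.act_append, hV.act_reverse' hv'.isWord hr] at this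
    rw [WD.act_append]
    exact this
  have hnd : ∀ i < T.rank, T.nroots / 2 ≤ (wdOf T Bs mLL).act (v ++ v'.reverse) (T.simple i) := by
    intro i hi
    by_contra hd
    rw [not_le] at hd
    have hiK := desc_mem hA Bs mLL hB h1 K _ hz i hi hd
    obtain ⟨hβ, hβpos, hβsupp⟩ := desc_root hA Bs mLL hB h1 h2 K _ hz i hi hiK hd
    have hasc := pos_of_minimal hD hA Bs mLL hB h1 h2 K x hx hmin _ hβ hβpos hβsupp
    -- the image of `p_i` under `x'` is the opposite
    have hpi : T.simple i < T.nroots := hV.p_lt i hi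
    have e1 : (wdOf T Bs mLL).act (v ++ v'.reverse ++ [i]) (T.simple i)
        = T.neg ((wdOf T Bs mLL).act (v ++ v'.reverse) (T.simple i)) := by
      rw [WD.act_concat]
      show (wdOf T Bs mLL).act (v ++ v'.reverse) (wOf (Bs.getD i 0) (T.simple i)) = _
      rw [h1.w_p i hi]
      exact hV.act_neg hz.isWord hpi
    rw [e1] at hasc
    have hlt := hV.act_lt hz.isWord hpi
    have e2 : (wdOf T Bs mLL).act x (T.neg ((wdOf T Bs mLL).act (v ++ v'.reverse) (T.simple i)))
        = T.neg ((wdOf T Bs mLL).act x ((wdOf T Bs mLL).act (v ++ v'.reverse) (T.simple i))) :=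
      hV.act_neg hx hlt
    rw [e2, hxz _ hpi] at hasc
    have h5 := hmin' i hi hiK
    have h6 := (h1.neg_sign _ (hV.act_lt hx' hpi)).2 h5
    omega
  have hid := hV.act_eq_of_no_desc hR hm hz.isWord hnd
  intro r hr
  rw [← hxz r hr, hid r hr]


include hD hA hB h1 h2 in
/-- if `x` maps `p_j` to `p_i` then `s_i x = x s_j` -/
theorem act_conj_simple (x : List ℕ) (hx : (wdOf T Bs mLL).IsWord x) (i j : ℕ) (hi : i < T.rank)
    (hj : j < T.rank) (h : (wdOf T Bs mLL).act x (T.simple j) = T.simple i) :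
    ∀ r < T.nroots, (wdOf T Bs mLL).act (i :: x) r = (wdOf T Bs mLL).act (x ++ [j]) r := by
  have hl : T.rank = D.rank := hA.rank_eq
  have hn : T.nroots = D.nroots := hA.nroots_eq
  have hi' : i < D.rank := hl ▸ hi
  have hj' : j < D.rank := hl ▸ hj
  have hadd := allAdd_all (F := ℚ) D hD
  have hH := hform_all' (F := ℚ) D hD
  have hxD : ∀ k ∈ x, k < D.rank := fun k hk => hl ▸ hx k hk
  have hNH : D.monomialSubgroup ℚ ≤ Subgroup.normalizer (D.diagonalSubgroup ℚ : Set (GL D.Idx ℚ)) :=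
    (Subgroup.normal_subgroupOf_iff_le_normalizer le_sup_left).1 (diagonal_normal_all D hD)
  obtain ⟨ε, hε, -, hconj⟩ := conj_nMat_word hA hadd Bs hB x hxD (D.simple j)
    (simple_lt' hA hj') (1 : ℚ)
  have hlast : wW Bs x (D.simple j) = D.simple i := by
    rw [FD.simple_eq' hA i hi', FD.simple_eq' hA j hj', ← act_eq_wW T Bs mLL]
    exact h
  rw [hlast, mul_one] at hconj
  have hw1 : (wdOf T Bs mLL).IsWord (i :: x) := by
    intro k hk
    rw [List.mem_cons] at hk
    rcases hk with rfl | hk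
    · exact hi
    · exact hx k hk
  have hw2 : (wdOf T Bs mLL).IsWord (x ++ [j]) := WD.IsWord.concat _ hx hj
  apply act_eq_of_inv_mul_mem hD hA hadd Bs mLL hB h1 h2 hH _ _ hw1 hw2
  rw [nWordU_cons, nWordU_append, nWordU_singleton]
  rcases hε with rfl | rfl
  · have e : nWordU hA hadd x * nUi hA hadd j = nUi hA hadd i * nWordU hA hadd x := by
      apply Units.ext
      rw [Units.val_mul, Units.val_mul, nUi_val hA hadd hj', nUi_val hA hadd hi', hconj]
      simp
    rw [e, inv_mul_cancel]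
    exact Subgroup.one_mem _
  · have e : nWordU hA hadd x * nUi hA hadd j = (nUi hA hadd i)⁻¹ * nWordU hA hadd x := by
      apply Units.ext
      rw [Units.val_mul, Units.val_mul, nUi_val hA hadd hj', hconj]
      congr 1
      rw [nUi_pos hA hadd hi']
      show D.nMat ℚ (D.simple i) (((-1 : ℤ) : ℚ)) = nInv ℚ D (D.simple i)
      rw [nInv_eq]
      simp
    rw [e]
    have hsq : (nUi hA hadd i * nUi hA hadd i)⁻¹ ∈ D.diagonalSubgroup ℚ := by
      apply Subgroup.inv_mem
      rw [nUi_pos hA hadd hi']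
      exact nU_sq_mem hadd _ _ _
    have := (conj_mem_of_normalizer _ _ _ (hNH (nWordU_mem hA hadd x)) hsq).2
    have e2 : (nUi hA hadd i * nWordU hA hadd x)⁻¹ * ((nUi hA hadd i)⁻¹ * nWordU hA hadd x)
        = (nWordU hA hadd x)⁻¹ * (nUi hA hadd i * nUi hA hadd i)⁻¹ * nWordU hA hadd x := by group
    rw [e2]
    exact this

/-- the hypotheses on a list of representatives of the cosets of the subgroup of `K` in the
subgroup of `K'` -/
structure RepsOK (T : FD) (Bs : List ℕ) (mLL : List (List ℕ)) (K K' : Set ℕ)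
    (reps : List (List ℕ)) : Prop where
  sub : K ⊆ K'
  nil_mem : [] ∈ reps
  word : ∀ x ∈ reps, (wdOf T Bs mLL).IsWordIn K' x
  minimal : ∀ x ∈ reps, ∀ j < T.rank, j ∈ K →
    T.nroots / 2 ≤ (wdOf T Bs mLL).act x (T.simple j)
  closed : ∀ x ∈ reps, ∀ i < T.rank, i ∈ K' →
    (∃ x' ∈ reps, ∀ k < T.rank,
      (wdOf T Bs mLL).act (i :: x) (T.simple k) = (wdOf T Bs mLL).act x' (T.simple k)) ∨
    (∃ j < T.rank, j ∈ K ∧ (wdOf T Bs mLL).act x (T.simple j) = T.simple i)
  distinct : reps.Pairwise fun x x' => ∃ k < T.rank,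
    (wdOf T Bs mLL).act x (T.simple k) ≠ (wdOf T Bs mLL).act x' (T.simple k)

include hD hA hB h1 h2 in
/-- every element of the subgroup of `K'` is a representative times an element of the subgroup
of `K` -/
theorem exists_rep (K K' : Set ℕ) (reps : List (List ℕ)) (hok : RepsOK T Bs mLL K K' reps)
    (u : List ℕ) (hu : (wdOf T Bs mLL).IsWordIn K' u) :
    ∃ x ∈ reps, ∃ v, (wdOf T Bs mLL).IsWordIn K v ∧
      ∀ r < T.nroots, (wdOf T Bs mLL).act u r = (wdOf T Bs mLL).act (x ++ v) r := by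
  have hV := wdOf_valid hA Bs mLL hB h1 h2
  have hR := wdOf_rankTwo hA Bs mLL hB h1 h2
  have hm : ∀ i < (wdOf T Bs mLL).l, ∀ j < (wdOf T Bs mLL).l, i ≠ j →
      1 ≤ (wdOf T Bs mLL).m i j := fun i hi j hj hij => (h2 i hi j hj hij).m_pos
  induction u with
  | nil => exact ⟨[], hok.nil_mem, [], WD.isWordIn_nil _ K, fun r _ => rfl⟩
  | cons i u ih =>
    obtain ⟨x, hxr, v, hv, hact⟩ := ih (fun k hk => hu k (List.mem_cons_of_mem _ hk))
    obtain ⟨hi, hiK'⟩ := hu i List.mem_cons_self
    have hxw := (hok.word x hxr).isWord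
    have hixw : (wdOf T Bs mLL).IsWord (i :: x) := by
      intro k hk
      rw [List.mem_cons] at hk
      rcases hk with rfl | hk
      · exact hi
      · exact hxw k hk
    rcases hok.closed x hxr i hi hiK' with ⟨x', hx'r, hx'⟩ | ⟨j, hj, hjK, hxj⟩
    · refine ⟨x', hx'r, v, hv, ?_⟩
      have hall := hV.act_eq_of_simple hR hm hixw (hok.word x' hx'r).isWord hx'
      intro r hr
      show (wdOf T Bs mLL).w i ((wdOf T Bs mLL).act u r) = _
      rw [hact r hr, WD.act_append, WD.act_append, ← hall _ (hV.act_lt hv.isWord hr)]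
      rfl
    · refine ⟨x, hxr, j :: v, WD.IsWordIn.cons _ hj hjK hv, ?_⟩
      have hall := act_conj_simple hD hA Bs mLL hB h1 h2 x hxw i j hi hj hxj
      intro r hr
      show (wdOf T Bs mLL).w i ((wdOf T Bs mLL).act u r) = _
      rw [hact r hr, WD.act_append]
      have := hall _ (hV.act_lt hv.isWord hr)
      rw [WD.act_concat] at this
      rw [WD.act_append]
      exact this


/-- the composition of the action of a word with a map -/
def compW (W : WD) (x : List ℕ) (b : Fin W.n → Fin W.n) : Fin W.n → Fin W.n :=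
  fun r => if h : W.act x (b r).val < W.n then ⟨W.act x (b r).val, h⟩ else b r

theorem isAct_compW {W : WD} (hV : W.Valid) {x v : List ℕ} (hx : W.IsWord x)
    {b : Fin W.n → Fin W.n} (hb : W.IsAct b v) : W.IsAct (compW W x b) (x ++ v) := by
  intro r
  unfold compW
  rw [dif_pos (hV.act_lt hx (b r).isLt), WD.act_append, ← hb r]

include hD hA hB h1 h2 in
open Classical in
/-- the sum over the subgroup of `K'` is the sum over the representatives times the sum over the
subgroup of `K` -/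
theorem psum_step (K K' : Set ℕ) (reps : List (List ℕ)) (hok : RepsOK T Bs mLL K K' reps)
    (q : ℕ) :
    (wdOf T Bs mLL).psum K' q
      = (reps.map fun x => q ^ (wdOf T Bs mLL).inv x).sum * (wdOf T Bs mLL).psum K q := by
  have hV := wdOf_valid hA Bs mLL hB h1 h2
  set W := wdOf T Bs mLL with hW
  have hsymm : Std.Symm (fun x x' : List ℕ => ∃ k < T.rank,
      W.act x (T.simple k) ≠ W.act x' (T.simple k)) :=
    ⟨fun a b ⟨k, hk, hne⟩ => ⟨k, hk, hne.symm⟩⟩
  have hnodup : reps.Nodup := by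
    apply hok.distinct.imp
    rintro a b ⟨k, -, hne⟩ rfl
    exact hne rfl
  -- the decomposition of the set
  have hunion : W.WFin K' = reps.toFinset.biUnion fun x => (W.WFin K).image (compW W x) := by
    ext a
    rw [Finset.mem_biUnion, W.mem_WFin]
    constructor
    · rintro ⟨u, hu, hau⟩
      obtain ⟨x, hxr, v, hv, hact⟩ := exists_rep hD hA Bs mLL hB h1 h2 K K' reps hok u hu
      refine ⟨x, List.mem_toFinset.2 hxr, ?_⟩
      rw [Finset.mem_image]
      refine ⟨WD.actF hV v hv.isWord, (W.mem_WFin).2 ⟨v, hv, WD.isAct_actF hV v hv.isWord⟩, ?_⟩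
      exact WD.IsAct.ext W (isAct_compW hV (hok.word x hxr).isWord (WD.isAct_actF hV v hv.isWord))
        hau (fun r hr => (hact r hr).symm)
    · rintro ⟨x, hxr, hax⟩
      rw [List.mem_toFinset] at hxr
      rw [Finset.mem_image] at hax
      obtain ⟨b, hb, rfl⟩ := hax
      obtain ⟨v, hv, hbv⟩ := (W.mem_WFin).1 hb
      exact ⟨x ++ v, (hok.word x hxr).append _ (hv.mono _ hok.sub),
        isAct_compW hV (hok.word x hxr).isWord hbv⟩
  -- disjointness
  have hdisj : (reps.toFinset : Set (List ℕ)).PairwiseDisjoint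
      fun x => (W.WFin K).image (compW W x) := by
    intro x hx x' hx' hne
    rw [Finset.mem_coe, List.mem_toFinset] at hx hx'
    rw [Function.onFun, Finset.disjoint_left]
    intro a ha ha'
    rw [Finset.mem_image] at ha ha'
    obtain ⟨b, hb, rfl⟩ := ha
    obtain ⟨b', hb', e⟩ := ha'
    obtain ⟨v, hv, hbv⟩ := (W.mem_WFin).1 hb
    obtain ⟨v', hv', hbv'⟩ := (W.mem_WFin).1 hb'
    have hact : ∀ r < T.nroots, W.act (x ++ v) r = W.act (x' ++ v') r := by
      intro r hr
      have e1 := isAct_compW hV (hok.word x hx).isWord hbv ⟨r, hr⟩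
      have e2 := isAct_compW hV (hok.word x' hx').isWord hbv' ⟨r, hr⟩
      rw [← e1, ← e2, e]
    have hxx := act_eq_of_minimal hD hA Bs mLL hB h1 h2 K x x' (hok.word x hx).isWord
      (hok.word x' hx').isWord (hok.minimal x hx) (hok.minimal x' hx') v v' hv hv' hact
    obtain ⟨k, hk, hkne⟩ := hok.distinct.forall hx hx' hne
    exact hkne (hxx _ (hV.p_lt k hk))
  -- injectivity
  have hinj : ∀ x ∈ reps, Set.InjOn (compW W x) (W.WFin K : Set (Fin W.n → Fin W.n)) := by
    intro x hx b _ b' _ e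
    have hxw := (hok.word x hx).isWord
    funext r
    have e1 : (compW W x b r).val = (compW W x b' r).val := by rw [e]
    unfold compW at e1
    rw [dif_pos (hV.act_lt hxw (b r).isLt), dif_pos (hV.act_lt hxw (b' r).isLt)] at e1
    have e2 : W.act x (b r).val = W.act x (b' r).val := e1
    apply Fin.ext
    rw [← hV.act_reverse hxw (b r).isLt, e2, hV.act_reverse hxw (b' r).isLt]
  -- the lengths
  have hlen : ∀ x ∈ reps, ∀ b ∈ W.WFin K, W.invF (compW W x b) = W.inv x + W.invF b := by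
    intro x hx b hb
    obtain ⟨v, hv, hbv⟩ := (W.mem_WFin).1 hb
    rw [W.invF_eq (isAct_compW hV (hok.word x hx).isWord hbv), W.invF_eq hbv]
    exact inv_append_of_minimal hD hA Bs mLL hB h1 h2 K x (hok.word x hx).isWord
      (hok.minimal x hx) _ v hv rfl
  unfold WD.psum
  rw [hunion, Finset.sum_biUnion hdisj, ← List.sum_toFinset _ hnodup, Finset.sum_mul]
  apply Finset.sum_congr rfl
  intro x hx
  rw [List.mem_toFinset] at hx
  rw [Finset.sum_image (hinj x hx), Finset.mul_sum]
  apply Finset.sum_congr rfl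
  intro b hb
  rw [hlen x hx b hb, pow_add]


end

section base

open Classical

theorem psum_empty (W : WD) (q : ℕ) : W.psum ∅ q = 1 := by
  have hW : W.WFin ∅ = {fun r => r} := by
    ext a
    rw [W.mem_WFin, Finset.mem_singleton]
    constructor
    · rintro ⟨u, hu, hau⟩
      have : u = [] := by
        cases u with
        | nil => rfl
        | cons i u => exact absurd (hu i List.mem_cons_self).2 (Set.notMem_empty i)
      subst this
      funext r
      exact Fin.ext (hau r)
    · rintro rfl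
      exact ⟨[], W.isWordIn_nil ∅, fun _ => rfl⟩
  unfold WD.psum
  rw [hW, Finset.sum_singleton]
  have : W.invF (fun r => r) = 0 := by
    unfold WD.invF
    rw [Finset.card_eq_zero, Finset.filter_eq_empty_iff]
    intro r _
    show ¬ (W.h ≤ r.val ∧ r.val < W.h)
    omega
  rw [this, pow_zero]

theorem psum_congr (W : WD) (K K' : Set ℕ) (h : ∀ i < W.l, (i ∈ K ↔ i ∈ K')) (q : ℕ) :
    W.psum K q = W.psum K' q := by
  have hW : W.WFin K = W.WFin K' := by
    ext a
    rw [W.mem_WFin, W.mem_WFin]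
    constructor
    · rintro ⟨u, hu, hau⟩
      exact ⟨u, fun x hx => ⟨(hu x hx).1, (h x (hu x hx).1).1 (hu x hx).2⟩, hau⟩
    · rintro ⟨u, hu, hau⟩
      exact ⟨u, fun x hx => ⟨(hu x hx).1, (h x (hu x hx).1).2 (hu x hx).2⟩, hau⟩
  unfold WD.psum
  rw [hW]

end base

end Cfsg.Agent.Lib.Helper5.Chev
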