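import Cfsg.Agent.Lib.Helper5.Chev.Cox
import Mathlib

/-!
# The action of the words as permutations; the number of inversions (helper5)
-/

set_option autoImplicit false

namespace Cfsg.Agent.Lib.Helper5.Chev

namespace WD

variable {W : WD}

/-- the number of inversions depends only on the action -/
theorem inv_congr {u u' : List ℕ} (h : ∀ r < W.n, W.act u r = W.act u' r) : W.inv u = W.inv u' := by
  unfold inv
  congr 1
  apply Finset.filter_congr
  intro r hr
  rw [Finset.mem_range] at hr
  rw [h r hr]

/-- appending a descent lowers the number of inversions by one -/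
theorem Valid.inv_desc_eq (hV : W.Valid) {u : List ℕ} (hu : W.IsWord u) {i : ℕ} (hi : i < W.l)
    (hd : W.act u (W.p i) < W.h) : W.inv (u ++ [i]) + 1 = W.inv u := by
  unfold inv
  have hpi := hV.p_lt i hi
  have hmem : W.p i ∈ (Finset.range W.n).filter fun r => W.h ≤ r ∧ W.act u r < W.h := by
    rw [Finset.mem_filter, Finset.mem_range]
    exact ⟨hpi, hV.p_pos i hi, hd⟩
  have heq : ((Finset.range W.n).filter fun r => W.h ≤ r ∧ W.act (u ++ [i]) r < W.h).card
      = (((Finset.range W.n).filter fun r => W.h ≤ r ∧ W.act u r < W.h).erase (W.p i)).card := by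
    apply Finset.card_bij (fun r _ => W.w i r)
    · intro r hr
      rw [Finset.mem_filter, Finset.mem_range, act_concat] at hr
      obtain ⟨hrn, hrh, hrd⟩ := hr
      have hne : r ≠ W.p i := by
        rintro rfl
        rw [hV.w_p i hi, hV.act_neg hu hpi, hV.neg_sign _ (hV.act_lt hu hpi)] at hrd
        omega
      rw [Finset.mem_erase, Finset.mem_filter, Finset.mem_range]
      refine ⟨?_, hV.w_lt i hi r hrn, hV.w_pos i hi r hrn hrh hne, hrd⟩
      intro he
      have : r = W.neg (W.p i) := by
        rw [← hV.w_w i hi r hrn, he, hV.w_p i hi]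
      have h2 := (hV.neg_sign _ hpi).2 (hV.p_pos i hi)
      omega
    · intro r hr s hs he
      rw [Finset.mem_filter, Finset.mem_range] at hr hs
      rw [← hV.w_w i hi r hr.1, he, hV.w_w i hi s hs.1]
    · intro s hs
      rw [Finset.mem_erase, Finset.mem_filter, Finset.mem_range] at hs
      obtain ⟨hne, hsn, hsh, hsd⟩ := hs
      refine ⟨W.w i s, ?_, hV.w_w i hi s hsn⟩
      rw [Finset.mem_filter, Finset.mem_range, act_concat, hV.w_w i hi s hsn]
      exact ⟨hV.w_lt i hi s hsn, hV.w_pos i hi s hsn hsh hne, hsd⟩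
  rw [heq, Finset.card_erase_of_mem hmem]
  have hpos : 0 < ((Finset.range W.n).filter fun r => W.h ≤ r ∧ W.act u r < W.h).card :=
    Finset.card_pos.2 ⟨_, hmem⟩
  omega

/-- appending an ascent raises the number of inversions by one -/
theorem Valid.inv_asc_eq (hV : W.Valid) {u : List ℕ} (hu : W.IsWord u) {i : ℕ} (hi : i < W.l)
    (ha : W.h ≤ W.act u (W.p i)) : W.inv (u ++ [i]) = W.inv u + 1 := by
  have hpi := hV.p_lt i hi
  have hu' : W.IsWord (u ++ [i]) := IsWord.concat W hu hi
  have hd : W.act (u ++ [i]) (W.p i) < W.h := by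
    rw [act_concat, hV.w_p i hi, hV.act_neg hu hpi, hV.neg_sign _ (hV.act_lt hu hpi)]
    exact ha
  have h1 := hV.inv_desc_eq hu' hi hd
  have h2 : W.inv (u ++ [i] ++ [i]) = W.inv u := by
    apply inv_congr
    intro r hr
    rw [act_concat, act_concat, hV.w_w i hi r hr]
  omega

/-- the action of the reversed word is the inverse -/
theorem Valid.act_reverse (hV : W.Valid) {u : List ℕ} (hu : W.IsWord u) {r : ℕ} (hr : r < W.n) :
    W.act u.reverse (W.act u r) = r := by
  induction u with
  | nil => rfl
  | cons i u ih =>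
    have hu' : W.IsWord u := fun x hx => hu x (List.mem_cons_of_mem _ hx)
    have hi := hu i List.mem_cons_self
    rw [List.reverse_cons, act_concat]
    show W.act u.reverse (W.w i (W.w i (W.act u r))) = r
    rw [hV.w_w i hi _ (hV.act_lt hu' hr), ih hu']

theorem IsWord.reverse {u : List ℕ} (hu : W.IsWord u) : W.IsWord u.reverse :=
  fun x hx => hu x (List.mem_reverse.1 hx)

theorem Valid.act_reverse' (hV : W.Valid) {u : List ℕ} (hu : W.IsWord u) {r : ℕ} (hr : r < W.n) :
    W.act u (W.act u.reverse r) = r := by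
  have := hV.act_reverse hu.reverse hr
  rwa [List.reverse_reverse] at this

/-- a word and its reverse have the same number of inversions -/
theorem Valid.inv_reverse (hV : W.Valid) {u : List ℕ} (hu : W.IsWord u) :
    W.inv u.reverse = W.inv u := by
  classical
  set S := Finset.range W.n with hS
  set π := W.act u.reverse with hπ
  have hπlt : ∀ s ∈ S, π s ∈ S := by
    intro s hs
    rw [Finset.mem_range] at hs ⊢
    exact hV.act_lt hu.reverse hs
  have hρπ : ∀ s ∈ S, W.act u (π s) = s := fun s hs =>
    hV.act_reverse' hu (Finset.mem_range.1 hs)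
  have hπρ : ∀ s ∈ S, π (W.act u s) = s := fun s hs =>
    hV.act_reverse hu (Finset.mem_range.1 hs)
  have hρlt : ∀ s ∈ S, W.act u s ∈ S := by
    intro s hs
    rw [Finset.mem_range] at hs ⊢
    exact hV.act_lt hu hs
  -- claim 1
  have c1 : (S.filter fun s => π s < W.h).card = (S.filter fun s => s < W.h).card := by
    apply Finset.card_bij (fun s _ => π s)
    · intro s hs
      rw [Finset.mem_filter] at hs ⊢
      exact ⟨hπlt s hs.1, hs.2⟩
    · intro s hs t ht he
      rw [Finset.mem_filter] at hs ht
      have he' : π s = π t := he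
      rw [← hρπ s hs.1, he', hρπ t ht.1]
    · intro t ht
      rw [Finset.mem_filter] at ht
      refine ⟨W.act u t, ?_, hπρ t ht.1⟩
      rw [Finset.mem_filter, hπρ t ht.1]
      exact ⟨hρlt t ht.1, ht.2⟩
  -- claims 2 and 3
  have c2 := Finset.card_filter_add_card_filter_not (s := S.filter fun s => s < W.h)
    (fun s => π s < W.h)
  have c3 := Finset.card_filter_add_card_filter_not (s := S.filter fun s => π s < W.h)
    (fun s => s < W.h)
  rw [Finset.filter_filter, Finset.filter_filter] at c2 c3
  have e23 : (S.filter fun s => s < W.h ∧ π s < W.h) = S.filter fun s => π s < W.h ∧ s < W.h := by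
    apply Finset.filter_congr
    intro s _
    exact and_comm
  rw [e23] at c2
  -- claim 4
  have c4 : (S.filter fun s => s < W.h ∧ ¬ π s < W.h).card = W.inv u := by
    unfold inv
    apply Finset.card_bij (fun s _ => π s)
    · intro s hs
      rw [Finset.mem_filter] at hs ⊢
      refine ⟨hπlt s hs.1, not_lt.1 hs.2.2, ?_⟩
      rw [hρπ s hs.1]
      exact hs.2.1
    · intro s hs t ht he
      rw [Finset.mem_filter] at hs ht
      have he' : π s = π t := he
      rw [← hρπ s hs.1, he', hρπ t ht.1]
    · intro r hr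
      rw [Finset.mem_filter] at hr
      refine ⟨W.act u r, ?_, hπρ r hr.1⟩
      rw [Finset.mem_filter, hπρ r hr.1]
      exact ⟨hρlt r hr.1, hr.2.2, not_lt.2 hr.2.1⟩
  have c5 : W.inv u.reverse = (S.filter fun s => π s < W.h ∧ ¬ s < W.h).card := by
    unfold inv
    congr 1
    apply Finset.filter_congr
    intro s _
    rw [not_lt]
    exact and_comm
  rw [c5, ← c4]
  omega

/-! ### the reflections as permutations -/

/-- the fundamental reflection as a permutation of the indices of the roots -/
def permW (hV : W.Valid) (i : ℕ) : Equiv.Perm (Fin W.n) :=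
  if hi : i < W.l then
    { toFun := fun r => ⟨W.w i r.val, hV.w_lt i hi r.val r.isLt⟩
      invFun := fun r => ⟨W.w i r.val, hV.w_lt i hi r.val r.isLt⟩
      left_inv := fun r => Fin.ext (hV.w_w i hi r.val r.isLt)
      right_inv := fun r => Fin.ext (hV.w_w i hi r.val r.isLt) }
  else 1

theorem permW_apply (hV : W.Valid) {i : ℕ} (hi : i < W.l) (r : Fin W.n) :
    (permW hV i r).val = W.w i r.val := by
  unfold permW
  rw [dif_pos hi]
  rfl

theorem gW_permW (hV : W.Valid) {u : List ℕ} (hu : W.IsWord u) (r : Fin W.n) :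
    (gW (permW hV) u r).val = W.act u r.val := by
  induction u with
  | nil => rfl
  | cons i u ih =>
    have hu' : W.IsWord u := fun x hx => hu x (List.mem_cons_of_mem _ hx)
    have hi := hu i List.mem_cons_self
    have e : gW (permW hV) (i :: u) = permW hV i * gW (permW hV) u := by
      unfold gW
      rw [List.map_cons, List.prod_cons]
    rw [e, Equiv.Perm.mul_apply, permW_apply hV hi, ih hu']
    rfl

theorem rel_permW (hV : W.Valid) (hm : ∀ i < W.l, ∀ j < W.l, i ≠ j → 1 ≤ W.m i j) :
    Rel W (permW hV) := by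
  refine ⟨?_, ?_, hm⟩
  · intro i hi
    ext r
    rw [Equiv.Perm.mul_apply, permW_apply hV hi, permW_apply hV hi, hV.w_w i hi r.val r.isLt]
    rfl
  · intro i hi j hj hij
    ext r
    rw [gW_permW hV (alt_lt i j W.l hi hj _), gW_permW hV (alt_lt j i W.l hj hi _)]
    exact hV.braid i hi j hj hij r.val r.isLt

/-- a word without descent acts trivially -/
theorem Valid.act_eq_of_no_desc (hV : W.Valid) (hR : W.RankTwo)
    (hm : ∀ i < W.l, ∀ j < W.l, i ≠ j → 1 ≤ W.m i j) {u : List ℕ} (hu : W.IsWord u)
    (h : ∀ i < W.l, W.h ≤ W.act u (W.p i)) : ∀ r < W.n, W.act u r = r := by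
  intro r hr
  have key := gW_eq_one (permW hV) hV hR (rel_permW hV hm) u hu h
  have := gW_permW hV hu ⟨r, hr⟩
  rw [key] at this
  exact this.symm

/-- a word without descent has no inversion -/
theorem Valid.inv_eq_zero_of_no_desc (hV : W.Valid) (hR : W.RankTwo)
    (hm : ∀ i < W.l, ∀ j < W.l, i ≠ j → 1 ≤ W.m i j) {u : List ℕ} (hu : W.IsWord u)
    (h : ∀ i < W.l, W.h ≤ W.act u (W.p i)) : W.inv u = 0 := by
  have hid := hV.act_eq_of_no_desc hR hm hu h
  unfold inv
  rw [Finset.card_eq_zero, Finset.filter_eq_empty_iff]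
  intro r hr
  rw [Finset.mem_range] at hr
  rw [hid r hr]
  omega

/-- two words with the same images of the fundamental roots have the same action -/
theorem Valid.act_eq_of_simple (hV : W.Valid) (hR : W.RankTwo)
    (hm : ∀ i < W.l, ∀ j < W.l, i ≠ j → 1 ≤ W.m i j) {u u' : List ℕ} (hu : W.IsWord u)
    (hu' : W.IsWord u') (h : ∀ i < W.l, W.act u (W.p i) = W.act u' (W.p i)) :
    ∀ r < W.n, W.act u r = W.act u' r := by
  intro r hr
  have hv : W.IsWord (u.reverse ++ u') := hu.reverse.append W hu'
  have hid := hV.act_eq_of_no_desc hR hm hv (by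
    intro i hi
    rw [act_append, ← h i hi, hV.act_reverse hu (hV.p_lt i hi)]
    exact hV.p_pos i hi)
  have := hid r hr
  rw [act_append] at this
  have h2 : W.act u (W.act u.reverse (W.act u' r)) = W.act u r := by rw [this]
  rw [hV.act_reverse' hu (hV.act_lt hu' hr)] at h2
  exact h2.symm

end WD

end Cfsg.Agent.Lib.Helper5.Chev
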