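import Mathlib

/-!
# The orders of double cosets of a subgroup (helper5)
-/

set_option autoImplicit false

namespace Cfsg.Agent.Lib.Helper5.Chev

open DoubleCoset

section

variable {G : Type*} [Group G] (B : Subgroup G)

/-- the double coset `B g B` -/
def dc (g : G) : Set G := doubleCoset g (B : Set G) B

theorem mem_dc {g x : G} : x ∈ dc B g ↔ ∃ b ∈ B, ∃ b' ∈ B, x = b * g * b' := by
  unfold dc
  rw [mem_doubleCoset]
  rfl

theorem self_mem_dc (g : G) : g ∈ dc B g := mem_doubleCoset_self _ _ g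

theorem dc_eq_of_mem {g x : G} (h : x ∈ dc B g) : dc B x = dc B g := doubleCoset_eq_of_mem h

theorem dc_eq_of_inter {g h x : G} (h1 : x ∈ dc B g) (h2 : x ∈ dc B h) : dc B g = dc B h := by
  rw [← dc_eq_of_mem B h1, dc_eq_of_mem B h2]

theorem B_mul_mem_dc {g x b : G} (hb : b ∈ B) (h : x ∈ dc B g) : b * x ∈ dc B g := by
  rw [mem_dc] at h ⊢
  obtain ⟨b1, hb1, b2, hb2, rfl⟩ := h
  exact ⟨b * b1, mul_mem hb hb1, b2, hb2, by group⟩

theorem mul_B_mem_dc {g x b : G} (hb : b ∈ B) (h : x ∈ dc B g) : x * b ∈ dc B g := by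
  rw [mem_dc] at h ⊢
  obtain ⟨b1, hb1, b2, hb2, rfl⟩ := h
  exact ⟨b1, hb1, b2 * b, mul_mem hb2 hb, by group⟩

theorem dc_mul_B {g b : G} (hb : b ∈ B) : dc B (g * b) = dc B g :=
  dc_eq_of_mem B (mul_B_mem_dc B hb (self_mem_dc B g))

theorem inv_mem_dc {g x : G} (h : x ∈ dc B g) : x⁻¹ ∈ dc B g⁻¹ := by
  rw [mem_dc] at h ⊢
  obtain ⟨b1, hb1, b2, hb2, rfl⟩ := h
  exact ⟨b2⁻¹, inv_mem hb2, b1⁻¹, inv_mem hb1, by group⟩

theorem dc_of_mem {b : G} (hb : b ∈ B) : dc B b = (B : Set G) := by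
  ext x
  rw [mem_dc]
  constructor
  · rintro ⟨b1, hb1, b2, hb2, rfl⟩
    exact mul_mem (mul_mem hb1 hb) hb2
  · intro hx
    exact ⟨x * b⁻¹, mul_mem hx (inv_mem hb), 1, one_mem _, by group⟩

/-- if `B n B s B = B n s B ≠ B n B`, where `B s B s B ⊆ B ∪ B s B`, then
`|B n s B| |B| = |B n B| |B s B|` -/
theorem card_dc_mul (n s : G) (hsinv : s⁻¹ ∈ dc B s)
    (hss : ∀ x ∈ dc B s, ∀ y ∈ dc B s, x * y ∈ B ∨ x * y ∈ dc B s)
    (hsub : ∀ x ∈ dc B n, ∀ y ∈ dc B s, x * y ∈ dc B (n * s)) (hne : dc B (n * s) ≠ dc B n) :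
    Nat.card (dc B (n * s)) * Nat.card B = Nat.card (dc B n) * Nat.card (dc B s) := by
  have hdec : ∀ z : dc B (n * s), ∃ p : dc B n × dc B s, (p.1 : G) * (p.2 : G) = z := by
    rintro ⟨z, hz⟩
    rw [mem_dc] at hz
    obtain ⟨b, hb, b', hb', rfl⟩ := hz
    refine ⟨(⟨b * n, B_mul_mem_dc B hb (self_mem_dc B n)⟩,
      ⟨s * b', mul_B_mem_dc B hb' (self_mem_dc B s)⟩), ?_⟩
    show b * n * (s * b') = b * (n * s) * b'
    group
  choose σ hσ using hdec
  have hclaim : ∀ x x' : dc B n, ∀ y y' : dc B s, (x : G) * y = x' * y' →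
      (x : G)⁻¹ * x' ∈ B := by
    rintro ⟨x, hx⟩ ⟨x', hx'⟩ ⟨y, hy⟩ ⟨y', hy'⟩ h
    have h' : x * y = x' * y' := h
    have e : x⁻¹ * x' = y * y'⁻¹ := by
      calc x⁻¹ * x' = x⁻¹ * (x' * y') * y'⁻¹ := by group
        _ = _ := by
          rw [← h']
          group
    have hy'' : y'⁻¹ ∈ dc B s := by
      have := inv_mem_dc B hy'
      rwa [dc_eq_of_mem B hsinv] at this
    rcases hss y hy _ hy'' with h1 | h1
    · show x⁻¹ * x' ∈ B
      rw [e]
      exact h1
    · exfalso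
      apply hne
      have h2 := hsub x hx _ h1
      have e2 : x * (y * y'⁻¹) = x' := by
        rw [← e]
        group
      rw [e2] at h2
      exact dc_eq_of_inter B h2 hx'
  have hcard : Nat.card (↥(dc B (n * s)) × ↥B) = Nat.card (↥(dc B n) × ↥(dc B s)) := by
    apply Nat.card_congr
    refine Equiv.ofBijective
      (fun q => (⟨((σ q.1).1 : G) * q.2, mul_B_mem_dc B q.2.2 (σ q.1).1.2⟩,
        ⟨(q.2 : G)⁻¹ * (σ q.1).2, B_mul_mem_dc B (inv_mem q.2.2) (σ q.1).2.2⟩)) ⟨?_, ?_⟩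
    · rintro ⟨z, b⟩ ⟨z', b'⟩ h
      have h1 : ((σ z).1 : G) * b = ((σ z').1 : G) * b' := congrArg (fun p => (p.1 : G)) h
      have h2 : (b : G)⁻¹ * (σ z).2 = (b' : G)⁻¹ * (σ z').2 := congrArg (fun p => (p.2 : G)) h
      have hz : (z : G) = z' := by
        rw [← hσ z, ← hσ z']
        calc ((σ z).1 : G) * (σ z).2 = ((σ z).1 : G) * b * ((b : G)⁻¹ * (σ z).2) := by group
          _ = ((σ z').1 : G) * b' * ((b' : G)⁻¹ * (σ z').2) := by rw [h1, h2]
          _ = _ := by group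
      have hz' : z = z' := Subtype.ext hz
      subst hz'
      have hb : (b : G) = b' := mul_left_cancel h1
      rw [Subtype.ext hb]
    · rintro ⟨x, y⟩
      have hxy : (x : G) * y ∈ dc B (n * s) := hsub x x.2 y y.2
      set z : dc B (n * s) := ⟨(x : G) * y, hxy⟩ with hz
      have h1 : ((σ z).1 : G) * (σ z).2 = (x : G) * y := hσ z
      have hb := hclaim (σ z).1 x (σ z).2 y h1
      refine ⟨(z, ⟨((σ z).1 : G)⁻¹ * x, hb⟩), ?_⟩
      apply Prod.ext
      · apply Subtype.ext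
        show ((σ z).1 : G) * (((σ z).1 : G)⁻¹ * x) = x
        group
      · apply Subtype.ext
        show (((σ z).1 : G)⁻¹ * x)⁻¹ * ((σ z).2 : G) = y
        calc (((σ z).1 : G)⁻¹ * x)⁻¹ * ((σ z).2 : G)
            = (x : G)⁻¹ * (((σ z).1 : G) * (σ z).2) := by group
          _ = _ := by
            rw [h1]
            group
  rw [Nat.card_prod, Nat.card_prod] at hcard
  exact hcard

/-- the order of a finite subgroup which is the disjoint union of double cosets -/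
theorem card_eq_sum_dc (K : Subgroup G) [Finite K] {ι : Type*} [Fintype ι] (f : ι → G)
    (hcov : ∀ g ∈ K, ∃ i, g ∈ dc B (f i)) (hsubset : ∀ i, dc B (f i) ⊆ K)
    (hinj : ∀ i j, ∀ x, x ∈ dc B (f i) → x ∈ dc B (f j) → i = j) :
    Nat.card K = ∑ i, Nat.card (dc B (f i)) := by
  classical
  have hdisj : ∀ i j, i ≠ j → Disjoint (dc B (f i)) (dc B (f j)) := by
    intro i j hij
    rw [Set.disjoint_left]
    intro x hx hx'
    exact hij (hinj i j x hx hx')
  have hunion : (⋃ i, dc B (f i)) = (K : Set G) := by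
    ext g
    rw [Set.mem_iUnion]
    constructor
    · rintro ⟨i, hi⟩
      exact hsubset i hi
    · intro hg
      exact hcov g hg
  have hfin : ∀ i, (dc B (f i)).Finite := fun i =>
    Set.Finite.subset (Set.toFinite (K : Set G)) (hsubset i)
  have h1 : Nat.card K = Nat.card ((K : Set G)) := rfl
  rw [h1, ← hunion, Nat.card_coe_set_eq,
    Set.ncard_iUnion_of_finite (s := fun i => dc B (f i)) (fun i => hfin i)
      (fun i j hij => hdisj i j hij), finsum_eq_sum_of_fintype]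
  apply Finset.sum_congr rfl
  intro i _
  exact (Nat.card_coe_set_eq (dc B (f i))).symm

end

end Cfsg.Agent.Lib.Helper5.Chev
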