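import Cfsg.Agent.Lib.Helper5.Chev.Bruhat
import Cfsg.Agent.Lib.Helper5.Chev.DCount
import Cfsg.Agent.Lib.Helper5.Chev.CoxPerm
import Mathlib

/-!
# The orders of the double cosets `B n B` of a Chevalley group (helper5)
-/

set_option autoImplicit false

namespace Cfsg.Agent.Lib.Helper5.Chev

open Cfsg.Lie
open scoped Matrix

section

variable {F : Type*} [Field F]

/-- every element of the group lies in a double coset `B n B` -/
theorem exists_monomial_dc (D : ChevalleyDatum)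
    (hD : D ∈ [chevG2, chevB2, chevD4, chevF4, chevE6, chevE7, chevE8]) (g : GL D.Idx F)
    (hg : g ∈ D.group F) : ∃ n ∈ D.monomialSubgroup F, g ∈ dc (D.borelSubgroup F) n := by
  obtain ⟨b, hb, n, hn, u, hu, e⟩ := bruhat_exists_all D hD g hg
  refine ⟨n, hn, ?_⟩
  rw [mem_dc]
  exact ⟨b, hb, u, (le_sup_left : D.posUnipotent F ≤ D.borelSubgroup F) (uneg_le_pos D n hu), e⟩

/-- two elements of `N` in the same double coset agree modulo `H` -/
theorem monomial_dc (D : ChevalleyDatum)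
    (hD : D ∈ [chevG2, chevB2, chevD4, chevF4, chevE6, chevE7, chevE8]) (n n' : GL D.Idx F)
    (hn : n ∈ D.monomialSubgroup F) (hn' : n' ∈ D.monomialSubgroup F)
    (h : n' ∈ dc (D.borelSubgroup F) n) : n⁻¹ * n' ∈ D.diagonalSubgroup F := by
  have hadd := allAdd_all (F := F) D hD
  have hBG : D.borelSubgroup F ≤ D.group F := hadd.borel_le
  have hNG : D.monomialSubgroup F ≤ D.group F := hadd.monomial_le
  obtain ⟨P, hPB, hPN, -⟩ := bnPair_all (F := F) D hD
  rw [mem_dc] at h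
  obtain ⟨b, hb, b', hb', e⟩ := h
  have hnP : (⟨n, hNG hn⟩ : ↥(D.group F)) ∈ P.N := by
    rw [hPN, Subgroup.mem_subgroupOf]; exact hn
  have hnP' : (⟨n', hNG hn'⟩ : ↥(D.group F)) ∈ P.N := by
    rw [hPN, Subgroup.mem_subgroupOf]; exact hn'
  have hmem : (⟨n', hNG hn'⟩ : ↥(D.group F)) ∈
      DoubleCoset.doubleCoset (⟨n, hNG hn⟩ : ↥(D.group F)) (P.B : Set ↥(D.group F)) P.B := by
    rw [DoubleCoset.mem_doubleCoset]
    refine ⟨⟨b, hBG hb⟩, ?_, ⟨b', hBG hb'⟩, ?_, Subtype.ext e⟩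
    · rw [hPB, SetLike.mem_coe, Subgroup.mem_subgroupOf]
      exact hb
    · rw [hPB, SetLike.mem_coe, Subgroup.mem_subgroupOf]
      exact hb'
  have heq := DoubleCoset.doubleCoset_eq_of_mem hmem
  have hmemB := (Cfsg.Agent.S0309.result P hnP hnP').1 heq.symm
  rw [hPB, Subgroup.mem_subgroupOf] at hmemB
  have hmemB' : n⁻¹ * n' ∈ D.borelSubgroup F := hmemB
  rw [← (borel_inf_monomial_all (F := F) D hD).2]
  exact ⟨hmemB', Subgroup.mul_mem _ (Subgroup.inv_mem _ hn) hn'⟩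

variable {T : FD} {D : ChevalleyDatum}

theorem xU_mul (hadd : AllAdd F D) (r : ℕ) (t u : F) :
    hadd.xU r t * hadd.xU r u = hadd.xU r (t + u) := by
  apply Units.ext
  rw [Units.val_mul]
  exact hadd.x_add r t u

theorem xU_inv (hadd : AllAdd F D) (r : ℕ) (t : F) : (hadd.xU r t)⁻¹ = hadd.xU r (-t) := by
  rw [inv_eq_iff_mul_eq_one]
  apply Units.ext
  rw [Units.val_mul]
  exact hadd.x_mul_neg r t

/-- an element of `B` as a product `x_p(t) c h` with `c ∈ U_p` -/
theorem borel_decomp (hD : D ∈ [chevG2, chevB2, chevD4, chevF4, chevE6, chevE7, chevE8])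
    (hadd : AllAdd F D) (i : ℕ) (hi : i < D.rank) (b : GL D.Idx F) (hb : b ∈ D.borelSubgroup F) :
    ∃ (t : F) (c : GL D.Idx F) (h : GL D.Idx F),
      c ∈ Subgroup.closure (compSet F D (D.simple i)) ∧ h ∈ D.diagonalSubgroup F ∧
        b = hadd.xU (D.simple i) t * c * h := by
  obtain ⟨hnorm, hU⟩ := simple_complement (F := F) D hD i hi
  have hHU := (borel_semidirect_all (F := F) D hD).1
  unfold ChevalleyDatum.borelSubgroup at hb
  rw [← SetLike.mem_coe, Subgroup.coe_mul_of_right_le_normalizer_left _ _ hHU,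
    Set.mem_mul] at hb
  obtain ⟨u, hu, h, hh, rfl⟩ := hb
  rw [SetLike.mem_coe, ← hU, ← SetLike.mem_coe,
    Subgroup.coe_mul_of_right_le_normalizer_left _ _ (le_sup_left.trans hnorm),
    Set.mem_mul] at hu
  obtain ⟨c, hc, x, hx, rfl⟩ := hu
  have hxn := (le_sup_left.trans hnorm) hx
  rw [SetLike.mem_coe, mem_rootSubgroup_iff hadd] at hx
  obtain ⟨t, rfl⟩ := hx
  refine ⟨t, (hadd.xU (D.simple i) t)⁻¹ * c * hadd.xU (D.simple i) t, h,
    (conj_mem_of_normalizer _ _ _ hxn hc).2, hh, ?_⟩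
  group

/-- `n_i` normalises `U_{p_i}` -/
theorem nUi_mem_normalizer_comp (hD : D ∈ [chevG2, chevB2, chevD4, chevF4, chevE6, chevE7, chevE8])
    (hA : T.Agrees D) (hadd : AllAdd F D) (i : ℕ) (hi : i < D.rank) :
    nUi hA hadd i ∈ Subgroup.normalizer
      (Subgroup.closure (compSet F D (D.simple i)) : Set (GL D.Idx F)) := by
  obtain ⟨hnorm, -⟩ := simple_complement (F := F) D hD i hi
  apply hnorm
  have : nUi hA hadd i = hadd.xU (D.simple i) 1 * (hadd.xU (D.neg (D.simple i)) (-1) *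
      hadd.xU (D.simple i) 1) := by
    rw [nUi_pos hA hadd hi]
    apply Units.ext
    rw [Units.val_mul, Units.val_mul]
    exact nMat_one (D.simple i)
  rw [this]
  exact Subgroup.mul_mem _ (Subgroup.mem_sup_left (xU_mem_rootSubgroup hadd _ _))
    (Subgroup.mul_mem _ (Subgroup.mem_sup_right (xU_mem_rootSubgroup hadd _ _))
      (Subgroup.mem_sup_left (xU_mem_rootSubgroup hadd _ _)))


/-- `n_i⁻¹ ∈ B n_i B` -/
theorem nUi_inv_mem_dc (hA : T.Agrees D) (hadd : AllAdd F D) {i : ℕ} (hi : i < D.rank) :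
    (nUi hA hadd i)⁻¹ ∈ dc (D.borelSubgroup F) (nUi hA hadd i) := by
  obtain ⟨k, hk, ek⟩ := nUi_inv hA hadd hi
  rw [ek]
  exact mul_B_mem_dc _ ((le_sup_right : D.diagonalSubgroup F ≤ D.borelSubgroup F) hk)
    (self_mem_dc _ _)

/-- `B n_i B n_i B ⊆ B ∪ B n_i B` -/
theorem nUi_dc_mul_dc (hD : D ∈ [chevG2, chevB2, chevD4, chevF4, chevE6, chevE7, chevE8])
    (hA : T.Agrees D) (hadd : AllAdd F D) {i : ℕ} (hi : i < D.rank) :
    ∀ x ∈ dc (D.borelSubgroup F) (nUi hA hadd i), ∀ y ∈ dc (D.borelSubgroup F) (nUi hA hadd i),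
      x * y ∈ D.borelSubgroup F ∨ x * y ∈ dc (D.borelSubgroup F) (nUi hA hadd i) := by
  intro x hx y hy
  rw [mem_dc] at hx hy
  obtain ⟨b1, hb1, b2, hb2, rfl⟩ := hx
  obtain ⟨b3, hb3, b4, hb4, rfl⟩ := hy
  have hss : nUi hA hadd i * nUi hA hadd i ∈ D.borelSubgroup F := by
    rw [nUi_pos hA hadd hi]
    exact (le_sup_right : D.diagonalSubgroup F ≤ D.borelSubgroup F) (nU_sq_mem hadd _ _ _)
  have e : b1 * nUi hA hadd i * b2 * (b3 * nUi hA hadd i * b4)
      = b1 * (nUi hA hadd i * (b2 * b3) * nUi hA hadd i) * b4 := by group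
  rw [e]
  rcases bn_axiom_all D hD i hi (nUi hA hadd i) (nUi_val hA hadd hi) (nUi hA hadd i)
    (nUi_mem hA hadd i) (b2 * b3) (Subgroup.mul_mem _ hb2 hb3) with
    ⟨c1, hc1, c2, hc2, e2⟩ | ⟨c1, hc1, c2, hc2, e2⟩
  · left
    rw [e2]
    exact Subgroup.mul_mem _ (Subgroup.mul_mem _ hb1
      (Subgroup.mul_mem _ (Subgroup.mul_mem _ hc1 hss) hc2)) hb4
  · right
    rw [e2, mem_dc]
    exact ⟨b1 * c1, Subgroup.mul_mem _ hb1 hc1, c2 * b4, Subgroup.mul_mem _ hc2 hb4, by group⟩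

/-- conjugation of `x_{p_i}(t)` by `n_i⁻¹` -/
theorem nUi_inv_conj (hA : T.Agrees D) (hadd : AllAdd F D) (Bs : List ℕ)
    (hB : ∀ i < D.rank, ReflChecks T D i (Bs.getD i 0)) {i : ℕ} (hi : i < D.rank) (t : F) :
    (nUi hA hadd i)⁻¹ * hadd.xU (D.simple i) t * nUi hA hadd i
      = hadd.xU (D.neg (D.simple i))
        (((etaOf (Bs.getD i 0) (D.neg (D.simple i)) : ℤ) : F) * t) := by
  have := conjU' hA hadd hi (hB i hi) (D.simple i) (simple_lt' hA hi) t
  rw [wOf_simple hA Bs hB hi] at this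
  exact this

/-- the opposite of a fundamental root is a negative root -/
theorem neg_simple_isNeg (hD : D ∈ [chevG2, chevB2, chevD4, chevF4, chevE6, chevE7, chevE8])
    (hA : T.Agrees D) (Bs : List ℕ) (h1 : Cox1 T Bs) {i : ℕ} (hi : i < D.rank) :
    D.IsNegRoot (D.neg (D.simple i)) := by
  obtain ⟨hp, hq⟩ := simple_lt_all D hD i hi
  apply neg_of_lt_half D hD _ hq
  have hl : T.rank = D.rank := hA.rank_eq
  have hn : T.nroots = D.nroots := hA.nroots_eq
  have := (h1.neg_sign _ (hn ▸ hA.simple_lt i hi)).2 (h1.p_pos i (hl ▸ hi))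
  rw [FD.neg_eq' hA _ hp, FD.simple_eq' hA i hi, ← hn]
  exact this

/-- the double coset `B n_i B` has `q |B|` elements -/
theorem card_dc_nUi [Finite F] (hD : D ∈ [chevG2, chevB2, chevD4, chevF4, chevE6, chevE7, chevE8])
    (hA : T.Agrees D) (hadd : AllAdd F D) (Bs : List ℕ)
    (hB : ∀ i < D.rank, ReflChecks T D i (Bs.getD i 0)) (hc1 : Cox1 T Bs) {i : ℕ}
    (hi : i < D.rank) :
    Nat.card (dc (D.borelSubgroup F) (nUi hA hadd i))
      = Nat.card F * Nat.card (D.borelSubgroup F) := by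
  have hUB : D.posUnipotent F ≤ D.borelSubgroup F := le_sup_left
  have hHB : D.diagonalSubgroup F ≤ D.borelSubgroup F := le_sup_right
  obtain ⟨hp, hq⟩ := simple_lt_all D hD i hi
  obtain ⟨-, hU⟩ := simple_complement (F := F) D hD i hi
  have hsUp := nUi_mem_normalizer_comp hD hA hadd i hi
  have hNH : D.monomialSubgroup F ≤ Subgroup.normalizer (D.diagonalSubgroup F : Set (GL D.Idx F)) :=
    (Subgroup.normal_subgroupOf_iff_le_normalizer le_sup_left).1 (diagonal_normal_all D hD)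
  have hxB : ∀ t : F, hadd.xU (D.simple i) t ∈ D.borelSubgroup F := fun t =>
    hUB (Subgroup.subset_closure ⟨_, t, pos_simple_all D hD i hi, rfl⟩)
  rw [← Nat.card_prod]
  symm
  apply Nat.card_congr
  refine Equiv.ofBijective
    (fun q : F × ↥(D.borelSubgroup F) =>
      (⟨hadd.xU (D.simple i) q.1 * nUi hA hadd i * q.2, by
        rw [mem_dc]
        exact ⟨_, hxB q.1, _, q.2.2, rfl⟩⟩ : ↥(dc (D.borelSubgroup F) (nUi hA hadd i)))) ⟨?_, ?_⟩
  · rintro ⟨t, b⟩ ⟨t', b'⟩ h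
    have h1 : hadd.xU (D.simple i) t * nUi hA hadd i * (b : GL D.Idx F)
        = hadd.xU (D.simple i) t' * nUi hA hadd i * (b' : GL D.Idx F) := congrArg Subtype.val h
    -- `n_i⁻¹ x_p(t - t') n_i ∈ B ∩ V`
    have e1 : (nUi hA hadd i)⁻¹ * hadd.xU (D.simple i) (-t' + t) * nUi hA hadd i
        = (b' : GL D.Idx F) * (b : GL D.Idx F)⁻¹ := by
      rw [← xU_mul, ← xU_inv]
      calc (nUi hA hadd i)⁻¹ * ((hadd.xU (D.simple i) t')⁻¹ * hadd.xU (D.simple i) t) *
            nUi hA hadd i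
          = (nUi hA hadd i)⁻¹ * (hadd.xU (D.simple i) t')⁻¹ *
            (hadd.xU (D.simple i) t * nUi hA hadd i * (b : GL D.Idx F)) *
              (b : GL D.Idx F)⁻¹ := by group
        _ = _ := by
          rw [h1]
          group
    rw [nUi_inv_conj hA hadd Bs hB hi] at e1
    have hbot : hadd.xU (D.neg (D.simple i))
        (((etaOf (Bs.getD i 0) (D.neg (D.simple i)) : ℤ) : F) * (-t' + t))
        ∈ D.borelSubgroup F ⊓ D.negUnipotent F := by
      constructor
      · rw [e1]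
        exact Subgroup.mul_mem _ b'.2 (Subgroup.inv_mem _ b.2)
      · exact Subgroup.subset_closure ⟨_, _, neg_simple_isNeg hD hA Bs hc1 hi, rfl⟩
    rw [(borel_inf_neg_all D hD).1, Subgroup.mem_bot] at hbot
    have h0 := xInj_all (F := F) D hD _ hq _ (congrArg Units.val hbot)
    have hη : ((etaOf (Bs.getD i 0) (D.neg (D.simple i)) : ℤ) : F) ≠ 0 := by
      rcases etaOf_pm (Bs.getD i 0) (D.neg (D.simple i)) with h3 | h3 <;> rw [h3] <;> simp
    have h4 := (mul_eq_zero.1 h0).resolve_left hη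
    have ht : t = t' := by linear_combination h4
    subst ht
    have hb : (b : GL D.Idx F) = b' := mul_left_cancel h1
    rw [Subtype.ext hb]
  · rintro ⟨z, hz⟩
    rw [mem_dc] at hz
    obtain ⟨b1, hb1, b2, hb2, rfl⟩ := hz
    obtain ⟨t, c, h, hc, hh, rfl⟩ := borel_decomp hD hadd i hi b1 hb1
    have hc' : (nUi hA hadd i)⁻¹ * c * nUi hA hadd i ∈ D.borelSubgroup F := by
      apply hUB
      rw [← hU]
      exact Subgroup.mem_sup_left (conj_mem_of_normalizer _ _ _ hsUp hc).2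
    have hh' : (nUi hA hadd i)⁻¹ * h * nUi hA hadd i ∈ D.borelSubgroup F :=
      hHB (conj_mem_of_normalizer _ _ _ (hNH (nUi_mem hA hadd i)) hh).2
    refine ⟨(t, ⟨(nUi hA hadd i)⁻¹ * c * nUi hA hadd i *
      ((nUi hA hadd i)⁻¹ * h * nUi hA hadd i) * b2,
      Subgroup.mul_mem _ (Subgroup.mul_mem _ hc' hh') hb2⟩), ?_⟩
    apply Subtype.ext
    show hadd.xU (D.simple i) t * nUi hA hadd i * ((nUi hA hadd i)⁻¹ * c * nUi hA hadd i *
      ((nUi hA hadd i)⁻¹ * h * nUi hA hadd i) * b2)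
      = hadd.xU (D.simple i) t * c * h * nUi hA hadd i * b2
    group


/-- at an ascent, `B n B n_i B ⊆ B n n_i B` -/
theorem dc_mul_of_ascent (hD : D ∈ [chevG2, chevB2, chevD4, chevF4, chevE6, chevE7, chevE8])
    (hA : T.Agrees D) (hadd : AllAdd F D) (Bs : List ℕ)
    (hB : ∀ i < D.rank, ReflChecks T D i (Bs.getD i 0)) (L : List ℕ) (hL : ∀ j ∈ L, j < D.rank)
    (h : GL D.Idx F) (hh : h ∈ D.diagonalSubgroup F) {i : ℕ} (hi : i < D.rank)
    (hasc : D.nroots / 2 ≤ wW Bs L (D.simple i)) :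
    ∀ x ∈ dc (D.borelSubgroup F) (nWordU hA hadd L * h),
      ∀ y ∈ dc (D.borelSubgroup F) (nUi hA hadd i),
        x * y ∈ dc (D.borelSubgroup F) (nWordU hA hadd L * h * nUi hA hadd i) := by
  have hUB : D.posUnipotent F ≤ D.borelSubgroup F := le_sup_left
  have hHB : D.diagonalSubgroup F ≤ D.borelSubgroup F := le_sup_right
  obtain ⟨hp, hq⟩ := simple_lt_all D hD i hi
  obtain ⟨-, hU⟩ := simple_complement (F := F) D hD i hi
  have hsUp := nUi_mem_normalizer_comp hD hA hadd i hi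
  have hNH : D.monomialSubgroup F ≤ Subgroup.normalizer (D.diagonalSubgroup F : Set (GL D.Idx F)) :=
    (Subgroup.normal_subgroupOf_iff_le_normalizer le_sup_left).1 (diagonal_normal_all D hD)
  intro x hx y hy
  rw [mem_dc] at hx hy
  obtain ⟨b1, hb1, b2, hb2, rfl⟩ := hx
  obtain ⟨b3, hb3, b4, hb4, rfl⟩ := hy
  obtain ⟨t, c, k, hc, hk, e⟩ := borel_decomp hD hadd i hi (b2 * b3) (Subgroup.mul_mem _ hb2 hb3)
  obtain ⟨t', e'⟩ := conj_word_diag hD hA hadd Bs hB L hL h hh (D.simple i) hp t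
  have hc' : (nUi hA hadd i)⁻¹ * c * nUi hA hadd i ∈ D.borelSubgroup F := by
    apply hUB
    rw [← hU]
    exact Subgroup.mem_sup_left (conj_mem_of_normalizer _ _ _ hsUp hc).2
  have hk' : (nUi hA hadd i)⁻¹ * k * nUi hA hadd i ∈ D.borelSubgroup F :=
    hHB (conj_mem_of_normalizer _ _ _ (hNH (nUi_mem hA hadd i)) hk).2
  have hxB : hadd.xU (wW Bs L (D.simple i)) t' ∈ D.borelSubgroup F := by
    apply hUB
    exact Subgroup.subset_closure ⟨_, t',
      (pos_iff_all D hD _ (wW_lt hA Bs hB L hL _ hp)).2 hasc, rfl⟩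
  rw [mem_dc]
  refine ⟨b1 * hadd.xU (wW Bs L (D.simple i)) t', Subgroup.mul_mem _ hb1 hxB,
    (nUi hA hadd i)⁻¹ * c * nUi hA hadd i * ((nUi hA hadd i)⁻¹ * k * nUi hA hadd i) * b4,
    Subgroup.mul_mem _ (Subgroup.mul_mem _ hc' hk') hb4, ?_⟩
  calc b1 * (nWordU hA hadd L * h) * b2 * (b3 * nUi hA hadd i * b4)
      = b1 * (nWordU hA hadd L * h) * (b2 * b3) * nUi hA hadd i * b4 := by group
    _ = b1 * (nWordU hA hadd L * h * hadd.xU (D.simple i) t * (nWordU hA hadd L * h)⁻¹) *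
          (nWordU hA hadd L * h) * c * k * nUi hA hadd i * b4 := by
        rw [e]
        group
    _ = _ := by
        rw [e']
        group

/-- `B n n_i B ≠ B n B` -/
theorem dc_mul_nUi_ne (hD : D ∈ [chevG2, chevB2, chevD4, chevF4, chevE6, chevE7, chevE8])
    (hA : T.Agrees D) (hadd : AllAdd F D) (Bs : List ℕ)
    (hB : ∀ i < D.rank, ReflChecks T D i (Bs.getD i 0)) (hc1 : Cox1 T Bs)
    (n : GL D.Idx F) (hn : n ∈ D.monomialSubgroup F) {i : ℕ} (hi : i < D.rank) :
    dc (D.borelSubgroup F) (n * nUi hA hadd i) ≠ dc (D.borelSubgroup F) n := by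
  intro heq
  obtain ⟨hp, hq⟩ := simple_lt_all D hD i hi
  have hUB : D.posUnipotent F ≤ D.borelSubgroup F := le_sup_left
  have hHB : D.diagonalSubgroup F ≤ D.borelSubgroup F := le_sup_right
  have hmem : n * nUi hA hadd i ∈ dc (D.borelSubgroup F) n := by
    rw [← heq]
    exact self_mem_dc _ _
  have h1 := monomial_dc D hD n (n * nUi hA hadd i) hn
    (Subgroup.mul_mem _ hn (nUi_mem hA hadd i)) hmem
  rw [inv_mul_cancel_left] at h1
  -- `n_i ∈ H` normalises `U`, but maps `x_p(1)` into `V`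
  have hHU := (borel_semidirect_all (F := F) D hD).1
  have hxU : hadd.xU (D.simple i) (1 : F) ∈ D.posUnipotent F :=
    Subgroup.subset_closure ⟨_, 1, pos_simple_all D hD i hi, rfl⟩
  have h2 := (Subgroup.mem_normalizer_iff.1 (hHU (Subgroup.inv_mem _ h1)) _).1 hxU
  rw [inv_inv, nUi_inv_conj hA hadd Bs hB hi] at h2
  have hbot : hadd.xU (D.neg (D.simple i))
      (((etaOf (Bs.getD i 0) (D.neg (D.simple i)) : ℤ) : F) * 1)
      ∈ D.borelSubgroup F ⊓ D.negUnipotent F :=
    ⟨hUB h2, Subgroup.subset_closure ⟨_, _, neg_simple_isNeg hD hA Bs hc1 hi, rfl⟩⟩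
  rw [(borel_inf_neg_all D hD).1, Subgroup.mem_bot] at hbot
  have h0 := xInj_all (F := F) D hD _ hq _ (congrArg Units.val hbot)
  rw [mul_one] at h0
  rcases etaOf_pm (Bs.getD i 0) (D.neg (D.simple i)) with h3 | h3 <;> rw [h3] at h0 <;>
    simp at h0

/-- the double coset `B n B` of `n = n_{i_1} ⋯ n_{i_k} h` has `|B| q^{l(n)}` elements -/
theorem card_dc_word [Finite F] (hD : D ∈ [chevG2, chevB2, chevD4, chevF4, chevE6, chevE7, chevE8])
    (hA : T.Agrees D) (hadd : AllAdd F D) (Bs : List ℕ) (mLL : List (List ℕ))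
    (hB : ∀ i < D.rank, ReflChecks T D i (Bs.getD i 0)) (hc1 : Cox1 T Bs)
    (hc2 : ∀ i < T.rank, ∀ j < T.rank, i ≠ j → Cox2 T Bs mLL i j) :
    ∀ (k : ℕ) (L : List ℕ), (∀ i ∈ L, i < D.rank) → (wdOf T Bs mLL).inv L = k →
      ∀ h ∈ D.diagonalSubgroup F,
        Nat.card (dc (D.borelSubgroup F) (nWordU hA hadd L * h))
          = Nat.card (D.borelSubgroup F) * Nat.card F ^ k := by
  have hl : T.rank = D.rank := hA.rank_eq
  have hn : T.nroots = D.nroots := hA.nroots_eq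
  have hV := wdOf_valid hA Bs mLL hB hc1 hc2
  have hR := wdOf_rankTwo hA Bs mLL hB hc1 hc2
  have hm : ∀ i < (wdOf T Bs mLL).l, ∀ j < (wdOf T Bs mLL).l, i ≠ j →
      1 ≤ (wdOf T Bs mLL).m i j := fun i hi j hj hij => (hc2 i hi j hj hij).m_pos
  have hHB : D.diagonalSubgroup F ≤ D.borelSubgroup F := le_sup_right
  have hNH : D.monomialSubgroup F ≤ Subgroup.normalizer (D.diagonalSubgroup F : Set (GL D.Idx F)) :=
    (Subgroup.normal_subgroupOf_iff_le_normalizer le_sup_left).1 (diagonal_normal_all D hD)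
  have hBfin : Finite (D.borelSubgroup F) := inferInstance
  have hBpos : 0 < Nat.card (D.borelSubgroup F) := Nat.card_pos
  intro k
  induction k using Nat.strong_induction_on with
  | _ k ih =>
    intro L hL hk h hh
    have hLw : (wdOf T Bs mLL).IsWord L := fun x hx => by
      show x < T.rank
      rw [hl]
      exact hL x hx
    by_cases hnd : ∀ i < D.rank, D.nroots / 2 ≤ wW Bs L (D.simple i)
    · -- no descent
      have hν := nWordU_mem_diagonal hD hA hadd Bs mLL hB hc1 hc2 L hL hnd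
      have hnB : nWordU hA hadd L * h ∈ D.borelSubgroup F := hHB (Subgroup.mul_mem _ hν hh)
      have h0 : (wdOf T Bs mLL).inv L = 0 := by
        apply hV.inv_eq_zero_of_no_desc hR hm hLw
        intro i hi
        have hi' : i < D.rank := hl ▸ hi
        show T.nroots / 2 ≤ (wdOf T Bs mLL).act L (T.simple i)
        rw [act_eq_wW, hn, ← FD.simple_eq' hA i hi']
        exact hnd i hi'
      rw [← hk, h0, pow_zero, mul_one, dc_of_mem _ hnB]
      rfl
    · -- a descent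
      push Not at hnd
      obtain ⟨i, hi, hdesc⟩ := hnd
      obtain ⟨hp, hq⟩ := simple_lt_all D hD i hi
      have hi' : i < T.rank := by rw [hl]; exact hi
      have hL' : ∀ j ∈ L ++ [i], j < D.rank := by
        intro j hj
        rw [List.mem_append, List.mem_singleton] at hj
        rcases hj with hj | rfl
        · exact hL j hj
        · exact hi
      have hd' : (wdOf T Bs mLL).act L ((wdOf T Bs mLL).p i) < (wdOf T Bs mLL).h := by
        show (wdOf T Bs mLL).act L (T.simple i) < T.nroots / 2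
        rw [act_eq_wW, hn, ← FD.simple_eq' hA i hi]
        exact hdesc
      have hinv := hV.inv_desc_eq hLw hi' hd'
      have hlt : (wdOf T Bs mLL).inv (L ++ [i]) < k := by omega
      -- `n = n' n_i` with `n' = ν(L ++ [i]) h'`
      obtain ⟨k0, hk0, ek0⟩ := nUi_inv hA hadd hi
      set s := nUi hA hadd i with hs
      have hsN : s ∈ D.monomialSubgroup F := nUi_mem hA hadd i
      have hh' : s * (k0 * h) * s⁻¹ ∈ D.diagonalSubgroup F :=
        (conj_mem_of_normalizer _ _ _ (hNH hsN) (Subgroup.mul_mem _ hk0 hh)).1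
      have en : nWordU hA hadd L * h
          = nWordU hA hadd (L ++ [i]) * (s * (k0 * h) * s⁻¹) * s := by
        rw [nWordU_append, nWordU_singleton, ← hs]
        calc nWordU hA hadd L * h = nWordU hA hadd L * s * (s⁻¹ * s⁻¹ * s) * h := by group
          _ = nWordU hA hadd L * s * (s * k0 * s⁻¹ * s) * h := by rw [ek0]
          _ = _ := by group
      have hasc : D.nroots / 2 ≤ wW Bs (L ++ [i]) (D.simple i) := by
        rw [wW_concat, wOf_simple hA Bs hB hi, wW_neg hA Bs hB L hL _ hp]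
        exact neg_ge_half_all D hD _ (wW_lt hA Bs hB L hL _ hp) hdesc
      have key := card_dc_mul (D.borelSubgroup F)
        (nWordU hA hadd (L ++ [i]) * (s * (k0 * h) * s⁻¹)) s
        (nUi_inv_mem_dc hA hadd hi) (nUi_dc_mul_dc hD hA hadd hi)
        (dc_mul_of_ascent hD hA hadd Bs hB (L ++ [i]) hL' _ hh' hi hasc)
        (dc_mul_nUi_ne hD hA hadd Bs hB hc1 _
          (Subgroup.mul_mem _ (nWordU_mem hA hadd _) ((le_sup_left :
            D.diagonalSubgroup F ≤ D.monomialSubgroup F) hh')) hi)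
      rw [← en, ih _ hlt (L ++ [i]) hL' rfl _ hh', card_dc_nUi hD hA hadd Bs hB hc1 hi] at key
      have e3 : k = (wdOf T Bs mLL).inv (L ++ [i]) + 1 := by omega
      rw [e3, pow_succ]
      apply Nat.eq_of_mul_eq_mul_right hBpos
      rw [key]
      ring

end

end Cfsg.Agent.Lib.Helper5.Chev
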