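import Cfsg.Agent.Lib.Helper5.Chev.Longest
import Cfsg.Agent.Lib.Helper5.Chev.PosAll
import Mathlib

/-!
# The longest element of the Weyl group of the seven data (helper5)
-/

set_option autoImplicit false
set_option maxRecDepth 100000

namespace Cfsg.Agent.Lib.Helper5.Chev

open Cfsg.Lie

/-- a reduced word of the longest element -/
def w0G2 : List ℕ := [0, 1, 0, 1, 0, 1]
theorem w0G2_lt : ∀ i ∈ w0G2, i < chevG2.rank := by decide
theorem w0G2_check : w0b chevG2 BsG2.Bs w0G2 = true := by decide +kernel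

/-- a reduced word of the longest element -/
def w0B2 : List ℕ := [0, 1, 0, 1]
theorem w0B2_lt : ∀ i ∈ w0B2, i < chevB2.rank := by decide
theorem w0B2_check : w0b chevB2 BsB2.Bs w0B2 = true := by decide +kernel

/-- a reduced word of the longest element -/
def w0D4 : List ℕ := [0, 1, 0, 2, 1, 0, 3, 1, 0, 2, 1, 3]
theorem w0D4_lt : ∀ i ∈ w0D4, i < chevD4.rank := by decide
theorem w0D4_check : w0b chevD4 BsD4.Bs w0D4 = true := by decide +kernel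

/-- a reduced word of the longest element -/
def w0F4 : List ℕ := [0, 1, 0, 2, 1, 0, 2, 1, 2, 3, 2, 1, 0, 2, 1, 2, 3, 2, 1, 0, 2, 1, 2, 3]
theorem w0F4_lt : ∀ i ∈ w0F4, i < chevF4.rank := by decide
theorem w0F4_check : w0b chevF4 BsF4.Bs w0F4 = true := by decide +kernel

/-- a reduced word of the longest element -/
def w0E6 : List ℕ := [0, 1, 2, 0, 3, 1, 2, 0, 3, 2, 4, 3, 1, 2, 0, 3, 2, 4, 3, 1, 5, 4, 3, 1, 2, 0, 3, 2, 4, 3, 1, 5, 4, 3, 2, 0]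
theorem w0E6_lt : ∀ i ∈ w0E6, i < chevE6.rank := by decide
theorem w0E6_check : w0b chevE6 BsE6.Bs w0E6 = true := by decide +kernel

/-- a reduced word of the longest element -/
def w0E7 : List ℕ := [0, 1, 2, 0, 3, 1, 2, 0, 3, 2, 4, 3, 1, 2, 0, 3, 2, 4, 3, 1, 5, 4, 3, 1, 2, 0, 3, 2, 4, 3, 1, 5, 4, 3, 2, 0, 6, 5, 4, 3, 1, 2, 0, 3, 2, 4, 3, 1, 5, 4, 3, 2, 0, 6, 5, 4, 3, 1, 2, 3, 4, 5, 6]
theorem w0E7_lt : ∀ i ∈ w0E7, i < chevE7.rank := by decide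
theorem w0E7_check : w0b chevE7 BsE7.Bs w0E7 = true := by decide +kernel

/-- a reduced word of the longest element -/
def w0E8 : List ℕ := [0, 1, 2, 0, 3, 1, 2, 0, 3, 2, 4, 3, 1, 2, 0, 3, 2, 4, 3, 1, 5, 4, 3, 1, 2, 0, 3, 2, 4, 3, 1, 5, 4, 3, 2, 0, 6, 5, 4, 3, 1, 2, 0, 3, 2, 4, 3, 1, 5, 4, 3, 2, 0, 6, 5, 4, 3, 1, 2, 3, 4, 5, 6, 7, 6, 5, 4, 3, 1, 2, 0, 3, 2, 4, 3, 1, 5, 4, 3, 2, 0, 6, 5, 4, 3, 1, 2, 3, 4, 5, 6, 7, 6, 5, 4, 3, 1, 2, 0, 3, 2, 4, 3, 1, 5, 4, 3, 2, 0, 6, 5, 4, 3, 1, 2, 3, 4, 5, 6, 7]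
theorem w0E8_lt : ∀ i ∈ w0E8, i < chevE8.rank := by decide
theorem w0E8_check : w0b chevE8 BsE8.Bs w0E8 = true := by decide +kernel

/-- conjugation of `U` onto `V` by an element of `N` -/
theorem longest_all {F : Type*} [Field F] (D : ChevalleyDatum)
    (hD : D ∈ [chevG2, chevB2, chevD4, chevF4, chevE6, chevE7, chevE8]) :
    ∃ n ∈ D.monomialSubgroup F,
      (D.posUnipotent F).map (MulAut.conj n).toMonoidHom = D.negUnipotent F := by
  have hadd := allAdd_all (F := F) D hD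
  simp only [List.mem_cons, List.not_mem_nil, or_false] at hD
  rcases hD with rfl | rfl | rfl | rfl | rfl | rfl | rfl
  · exact longest_of DataG2.agrees hadd BsG2.Bs HsG2.reflBs' w0G2 w0G2_lt w0G2_check
  · exact longest_of DataB2.agrees hadd BsB2.Bs HsB2.reflBs' w0B2 w0B2_lt w0B2_check
  · exact longest_of DataD4.agrees hadd BsD4.Bs HsD4.reflBs' w0D4 w0D4_lt w0D4_check
  · exact longest_of DataF4.agrees hadd BsF4.Bs HsF4.reflBs' w0F4 w0F4_lt w0F4_check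
  · exact longest_of DataE6.agrees hadd BsE6.Bs HsE6.reflBs' w0E6 w0E6_lt w0E6_check
  · exact longest_of DataE7.agrees hadd BsE7.Bs HsE7.reflBs' w0E7 w0E7_lt w0E7_check
  · exact longest_of DataE8.agrees hadd BsE8.Bs HsE8.reflBs' w0E8 w0E8_lt w0E8_check

end Cfsg.Agent.Lib.Helper5.Chev
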