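import Cfsg.Agent.Lib.Helper5.BNFix
import Cfsg.Agent.Lib.Helper5.Chev.BNPairChev
import Cfsg.Agent.Lib.Helper5.Chev.W0All
import Cfsg.Agent.Lib.Helper5.Chev.TriAll
import Cfsg.Agent.Lib.Helper5.Chev.ChevCount
import Cfsg.Agent.Lib.Helper5.Chev.BorelCard
import Cfsg.Prelude.Def_ParabolicCharacters
import Mathlib

/-!
# The Steinberg character of a Chevalley group on the subgroup `B` (helper5)
-/

set_option autoImplicit false

namespace Cfsg.Agent.Lib.Helper5.Chev

open Cfsg Cfsg.Lie Cfsg.Agent.Lib.Helper5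

variable {F : Type*} [Field F]

/-- a left descent from a product of double cosets -/
theorem BN.len_lt_of_mul_mem {G : Type*} [Group G] (P : BNPair G) {σ w : BN.W P}
    (hσ : σ ∈ BN.Sbar P) {y x : G} (hy : y ∈ BN.C P σ) (hx : x ∈ BN.C P w)
    (hyx : y * x ∈ BN.C P w) : BN.len P (σ * w) < BN.len P w := by
  by_contra hcon
  push Not at hcon
  have h1 := BN.L2 P hσ hcon hy hx
  have h2 := BN.bruhat P (BN.C_inj_of_inter P h1 hyx)
  have : σ = 1 := by
    have h3 : σ * w = 1 * w := by rw [one_mul]; exact h2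
    exact mul_right_cancel h3
  exact BN.Sbar_ne_one P hσ this

/-- the subgroup of `G` of a join of subgroups of `G` -/
theorem sup_subgroupOf {Γ : Type*} [Group Γ] (A B K : Subgroup Γ) (hA : A ≤ K) (hB : B ≤ K) :
    (A ⊔ B).subgroupOf K = A.subgroupOf K ⊔ B.subgroupOf K := by
  apply Subgroup.map_injective K.subtype_injective
  rw [Subgroup.map_sup, Subgroup.subgroupOf_map_subtype, Subgroup.subgroupOf_map_subtype,
    Subgroup.subgroupOf_map_subtype, inf_of_le_left hA, inf_of_le_left hB,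
    inf_of_le_left (sup_le hA hB)]

theorem closure_subgroupOf {Γ : Type*} [Group Γ] (S : Set Γ) (K : Subgroup Γ)
    (hS : S ⊆ (K : Set Γ)) :
    (Subgroup.closure S).subgroupOf K = Subgroup.closure {x : K | (x : Γ) ∈ S} := by
  apply Subgroup.map_injective K.subtype_injective
  rw [Subgroup.subgroupOf_map_subtype, MonoidHom.map_closure,
    inf_of_le_left ((Subgroup.closure_le K).2 hS)]
  congr 1
  ext x
  constructor
  · intro hx
    exact ⟨⟨x, hS hx⟩, hx, rfl⟩
  · rintro ⟨y, hy, rfl⟩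
    exact hy

section main

variable [Fintype F]

open Classical in
/-- the Steinberg character on `B` is the permutation character on the cosets of `H` -/
theorem steinberg_restrict_borel (D : ChevalleyDatum)
    (hD : D ∈ [chevG2, chevB2, chevD4, chevF4, chevE6, chevE7, chevE8])
    (b : ↥((D.borelSubgroup F).subgroupOf (D.group F))) :
    D.steinbergCharacter F ((((D.borelSubgroup F).subgroupOf (D.group F)).subtype) b) =
      Cfsg.fixedPointCharacter (((D.diagonalSubgroup F).subgroupOf (D.group F)).subgroupOf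
        ((D.borelSubgroup F).subgroupOf (D.group F))) b := by
  have hadd := allAdd_all (F := F) D hD
  obtain ⟨P, hPB, hPN, hPS⟩ := bnPair_all (F := F) D hD
  obtain ⟨T, Bs, mLL, gH, baseH, fuel, hA, hB, hr, hbase, hcox⟩ := cox_known D hD
  obtain ⟨hc1, hc2⟩ := cox_of_check T Bs mLL hcox
  have hBG : D.borelSubgroup F ≤ D.group F := hadd.borel_le
  have hNG : D.monomialSubgroup F ≤ D.group F := hadd.monomial_le
  have hHB : D.diagonalSubgroup F ≤ D.borelSubgroup F := le_sup_right
  have hUB : D.posUnipotent F ≤ D.borelSubgroup F := le_sup_left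
  have hNH : D.monomialSubgroup F ≤ Subgroup.normalizer (D.diagonalSubgroup F : Set (GL D.Idx F)) :=
    (Subgroup.normal_subgroupOf_iff_le_normalizer le_sup_left).1 (diagonal_normal_all D hD)
  have hfinG : Finite ↥(D.group F) := inferInstance
  -- the generators
  have hmemN : ∀ n ∈ D.monomialSubgroup F, ∀ h : n ∈ D.group F, (⟨n, h⟩ : ↥(D.group F)) ∈ P.N := by
    intro n hn h
    rw [hPN, Subgroup.mem_subgroupOf]
    exact hn
  let nN : ℕ → P.N := fun j =>
    ⟨⟨nUi hA hadd j, hNG (nUi_mem hA hadd j)⟩, hmemN _ (nUi_mem hA hadd j) _⟩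
  let τ : ℕ → BN.W P := fun j => BN.proj P (nN j)
  have hnS : ∀ j < D.rank, ((nN j : P.N) : ↥(D.group F)) ∈ P.S := by
    intro j hj
    rw [hPS]
    exact ⟨j, hj, nUi_val hA hadd hj⟩
  have hτ : ∀ j < D.rank, τ j ∈ BN.Sbar P := fun j hj => ⟨nN j, hnS j hj, rfl⟩
  have hSeq : ∀ s ∈ P.S, ∃ j < D.rank, s = ((nN j : P.N) : ↥(D.group F)) := by
    intro s hs
    rw [hPS] at hs
    obtain ⟨j, hj, hsj⟩ := hs
    refine ⟨j, hj, ?_⟩
    apply Subtype.ext
    apply Units.ext
    rw [hsj]
    exact (nUi_val hA hadd hj).symm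
  have hτs : ∀ σ ∈ BN.Sbar P, ∃ j < D.rank, τ j = σ := by
    rintro σ ⟨n, hn, rfl⟩
    obtain ⟨j, hj, e⟩ := hSeq _ hn
    exact ⟨j, hj, congrArg (BN.proj P) (Subtype.ext e.symm)⟩
  -- the parabolic subgroups
  have hQ : ∀ J ⊆ Finset.range D.rank, ∃ JG ⊆ P.S, D.parabolicIn F J = P.parabolic JG ∧
      BN.bar P JG = τ '' (J : Set ℕ) := by
    intro J hJ
    refine ⟨{s | ∃ j ∈ J, s = ((nN j : P.N) : ↥(D.group F))}, ?_, ?_, ?_⟩
    · rintro s ⟨j, hj, rfl⟩
      exact hnS j (Finset.mem_range.1 (hJ hj))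
    · unfold ChevalleyDatum.parabolicIn ChevalleyDatum.parabolicSubgroup BNPair.parabolic
      have hcl : Subgroup.closure {g : GL D.Idx F | ∃ j ∈ (J : Set ℕ), j < D.rank ∧
          (g : Matrix D.Idx D.Idx F) = D.nMat F (D.simple j) 1} ≤ D.group F := by
        rw [Subgroup.closure_le]
        rintro g ⟨j, -, hj, hg⟩
        have : g = nUi hA hadd j := Units.ext (by rw [hg, nUi_val hA hadd hj])
        rw [this]
        exact hNG (nUi_mem hA hadd j)
      rw [sup_subgroupOf _ _ _ hBG hcl, hPB]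
      congr 1
      rw [closure_subgroupOf _ _ ((Subgroup.closure_le _).1 hcl)]
      congr 1
      ext s
      constructor
      · rintro ⟨j, hj, hjr, hs⟩
        refine ⟨j, hj, ?_⟩
        apply Subtype.ext
        apply Units.ext
        rw [hs]
        exact (nUi_val hA hadd hjr).symm
      · rintro ⟨j, hj, rfl⟩
        have hjr := Finset.mem_range.1 (hJ hj)
        exact ⟨j, hj, hjr, nUi_val hA hadd hjr⟩
    · ext σ
      constructor
      · rintro ⟨n, ⟨j, hj, e⟩, rfl⟩
        exact ⟨j, hj, congrArg (BN.proj P) (Subtype.ext e.symm)⟩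
      · rintro ⟨j, hj, rfl⟩
        exact ⟨nN j, ⟨j, hj, rfl⟩, rfl⟩
  -- the longest element
  obtain ⟨n0, hn0N, hn0⟩ := longest_all (F := F) D hD
  let n0N : P.N := ⟨⟨n0, hNG hn0N⟩, hmemN n0 hn0N _⟩
  have hw0 : BN.NoAscent P (BN.proj P n0N⁻¹) := by
    intro σ hσ
    obtain ⟨j, hj, rfl⟩ := hτs σ hσ
    -- `τ j` is a left descent of `proj n0`
    have hleft : BN.len P (τ j * BN.proj P n0N) < BN.len P (BN.proj P n0N) := by
      obtain ⟨hp, hq⟩ := simple_lt_all D hD j hj
      -- y = x_{-p}(-1)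
      have hyV : hadd.xU (D.neg (D.simple j)) (-1) ∈ D.negUnipotent F :=
        Subgroup.subset_closure ⟨_, _, neg_simple_isNeg hD hA Bs hc1 hj, rfl⟩
      have hconj : n0⁻¹ * hadd.xU (D.neg (D.simple j)) (-1) * n0 ∈ D.posUnipotent F := by
        rw [← hn0] at hyV
        obtain ⟨u, hu, hue⟩ := hyV
        have : hadd.xU (D.neg (D.simple j)) (-1) = n0 * u * n0⁻¹ := by
          rw [← hue]; rfl
        rw [this]
        have e : n0⁻¹ * (n0 * u * n0⁻¹) * n0 = u := by group
        rw [e]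
        exact hu
      have hyG : hadd.xU (D.neg (D.simple j)) (-1) ∈ D.group F := hadd.xU_mem_group _ _
      apply BN.len_lt_of_mul_mem P (hτ j hj)
        (y := ⟨hadd.xU (D.neg (D.simple j)) (-1), hyG⟩) (x := (n0N : ↥(D.group F)))
      · -- y ∈ C (τ j)
        show _ ∈ BN.C P (BN.proj P (nN j))
        rw [BN.C_proj, BN.mem_D]
        have hx1 : hadd.xU (D.simple j) (-1) ∈ D.borelSubgroup F :=
          hUB (Subgroup.subset_closure ⟨_, _, pos_simple_all D hD j hj, rfl⟩)
        refine ⟨⟨hadd.xU (D.simple j) (-1), hBG hx1⟩, ?_, ⟨hadd.xU (D.simple j) (-1), hBG hx1⟩, ?_, ?_⟩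
        · rw [hPB, Subgroup.mem_subgroupOf]; exact hx1
        · rw [hPB, Subgroup.mem_subgroupOf]; exact hx1
        · apply Subtype.ext
          apply Units.ext
          show D.x F (D.neg (D.simple j)) (-1)
            = D.x F (D.simple j) (-1) * ((nUi hA hadd j : GL D.Idx F) : Matrix D.Idx D.Idx F)
              * D.x F (D.simple j) (-1)
          rw [nUi_val hA hadd hj, nMat_one]
          have h1 : D.x F (D.simple j) (-1) * D.x F (D.simple j) 1 = 1 := by
            rw [hadd.x_add, neg_add_cancel, x_zero]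
          have h2 : D.x F (D.simple j) 1 * D.x F (D.simple j) (-1) = 1 := by
            rw [hadd.x_add, add_neg_cancel, x_zero]
          calc D.x F (D.neg (D.simple j)) (-1)
              = (D.x F (D.simple j) (-1) * D.x F (D.simple j) 1) * D.x F (D.neg (D.simple j)) (-1)
                * (D.x F (D.simple j) 1 * D.x F (D.simple j) (-1)) := by
                rw [h1, h2, Matrix.one_mul, Matrix.mul_one]
            _ = _ := by simp only [Matrix.mul_assoc]
      · rw [BN.C_proj]; exact BN.self_mem_D P _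
      · rw [BN.C_proj, BN.mem_D]
        refine ⟨1, one_mem _, ⟨n0⁻¹ * hadd.xU (D.neg (D.simple j)) (-1) * n0, hBG (hUB hconj)⟩, ?_, ?_⟩
        · rw [hPB, Subgroup.mem_subgroupOf]; exact hUB hconj
        · apply Subtype.ext
          show hadd.xU (D.neg (D.simple j)) (-1) * n0
            = 1 * n0 * (n0⁻¹ * hadd.xU (D.neg (D.simple j)) (-1) * n0)
          group
    rw [map_inv, ← BN.Sbar_inv P (hτ j hj), ← mul_inv_rev, BN.len_inv, BN.len_inv]
    exact hleft
  -- the stabilizer of the big cell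
  have hK : ∀ β ∈ P.B, β ∈ (D.diagonalSubgroup F).subgroupOf (D.group F) ↔
      (((n0N⁻¹ : P.N) : ↥(D.group F)))⁻¹ * β * ((n0N⁻¹ : P.N) : ↥(D.group F)) ∈ P.B := by
    intro β hβ
    rw [hPB, Subgroup.mem_subgroupOf] at hβ ⊢
    rw [Subgroup.mem_subgroupOf]
    have e : (((((n0N⁻¹ : P.N) : ↥(D.group F)))⁻¹ * β * ((n0N⁻¹ : P.N) : ↥(D.group F)) :
        ↥(D.group F)) : GL D.Idx F) = n0 * (β : GL D.Idx F) * n0⁻¹ := by
      simp only [Subgroup.coe_mul, Subgroup.coe_inv, inv_inv]
      rfl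
    rw [e]
    constructor
    · intro h
      exact hHB ((conj_mem_of_normalizer _ _ _ (hNH hn0N) h).1)
    · intro h
      -- n0 β n0⁻¹ ∈ B ⊓ (V ⊔ H)
      have hVH : n0 * (β : GL D.Idx F) * n0⁻¹ ∈ D.negUnipotent F ⊔ D.diagonalSubgroup F := by
        have hHU := (borel_semidirect_all (F := F) D hD).1
        unfold ChevalleyDatum.borelSubgroup at hβ
        rw [← SetLike.mem_coe, Subgroup.coe_mul_of_right_le_normalizer_left _ _ hHU,
          Set.mem_mul] at hβ
        obtain ⟨u, hu, d, hd, hud⟩ := hβ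
        rw [← hud]
        have e2 : n0 * (u * d) * n0⁻¹ = (n0 * u * n0⁻¹) * (n0 * d * n0⁻¹) := by group
        rw [e2]
        apply Subgroup.mul_mem_sup
        · rw [← hn0]
          exact ⟨u, hu, rfl⟩
        · exact (conj_mem_of_normalizer _ _ _ (hNH hn0N) hd).1
      have h3 : n0 * (β : GL D.Idx F) * n0⁻¹ ∈ D.diagonalSubgroup F := by
        rw [← (borel_inf_neg_all (F := F) D hD).2]
        exact ⟨h, hVH⟩
      have h4 := (conj_mem_of_normalizer _ _ _ (hNH hn0N) h3).2
      have e3 : n0⁻¹ * (n0 * (β : GL D.Idx F) * n0⁻¹) * n0 = β := by group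
      rwa [e3] at h4
  -- the count
  have hsum := BN.alternating_sum_fixedBy P D.rank τ hτs (fun J => D.parabolicIn F J) hQ
    (BN.proj P n0N⁻¹) hw0 (b : ↥(D.group F)) (by rw [hPB]; exact b.2)
  have hbig : ∀ (B' : Subgroup ↥(D.group F)) (hB' : P.B = B') (b' : B'),
      Nat.card {c : ↥(D.group F) ⧸ P.B // BN.cellQ P c = BN.proj P n0N⁻¹ ∧
          (b' : ↥(D.group F)) • c = c}
        = Nat.card (MulAction.fixedBy
          (↥B' ⧸ ((D.diagonalSubgroup F).subgroupOf (D.group F)).subgroupOf B') b') := by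
    intro B' hB' b'
    subst hB'
    exact BN.card_fixedBy_bigCell P n0N⁻¹ _ hK b'
  have hbig' := hbig _ hPB b
  unfold ChevalleyDatum.steinbergCharacter fixedPointCharacter
  rw [← hbig']
  have hcast := congrArg (fun z : ℤ => (z : ℂ)) hsum
  simp only [Int.cast_sum, Int.cast_mul, Int.cast_pow, Int.cast_neg, Int.cast_one,
    Int.cast_natCast] at hcast
  exact hcast

end main

end Cfsg.Agent.Lib.Helper5.Chev
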