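import Cfsg.Agent.Lib.Helper5.Chev.Bruhat
import Mathlib

/-!
# `N_G(U) = B`, and the diagonal matrices of characters in the group lie in `H` (helper5)
-/

set_option autoImplicit false

namespace Cfsg.Agent.Lib.Helper5.Chev

open Cfsg.Lie
open scoped Matrix

section

variable {F : Type*} [Field F]

/-- an element of the group normalising `U` lies in `B` -/
theorem mem_borel_of_normalizer (D : ChevalleyDatum)
    (hD : D ∈ [chevG2, chevB2, chevD4, chevF4, chevE6, chevE7, chevE8]) (g : GL D.Idx F)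
    (hg : g ∈ D.group F)
    (hgn : g ∈ Subgroup.normalizer (D.posUnipotent F : Set (GL D.Idx F))) :
    g ∈ D.borelSubgroup F := by
  have hadd := allAdd_all (F := F) D hD
  have hH := hform_all' (F := F) D hD
  obtain ⟨T, Bs, mLL, gH, baseH, fuel, hA, hB, hr, hbase, hcox⟩ := cox_known D hD
  obtain ⟨h1, h2⟩ := cox_of_check T Bs mLL hcox
  have hUB : D.posUnipotent F ≤ D.borelSubgroup F := le_sup_left
  have hHB : D.diagonalSubgroup F ≤ D.borelSubgroup F := le_sup_right
  obtain ⟨b, hb, n, hn, u, hu, e⟩ := bruhat_exists_all D hD g hg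
  have huU := uneg_le_pos D n hu
  have hnn : n ∈ Subgroup.normalizer (D.posUnipotent F : Set (GL D.Idx F)) := by
    have : n = b⁻¹ * g * u⁻¹ := by rw [e]; group
    rw [this]
    exact Subgroup.mul_mem _ (Subgroup.mul_mem _
      (Subgroup.inv_mem _ (borel_le_normalizer_all D hD hb)) hgn)
      (Subgroup.inv_mem _ (Subgroup.le_normalizer huU))
  obtain ⟨L, hL, h0, hh0, rfl⟩ := monomial_le_NWH hA hadd Bs hB hH gH baseH fuel hr hbase hn
  have hnd : ∀ i < D.rank, D.nroots / 2 ≤ wW Bs L (D.simple i) := by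
    intro i hi
    by_contra hcon
    rw [not_le] at hcon
    obtain ⟨hp, -⟩ := simple_lt_all D hD i hi
    have hmap := (map_root_le_neg_iff hD hA hadd Bs hB L hL h0 hh0 _ hp).2 hcon
    have hxU : hadd.xU (D.simple i) 1 ∈ D.posUnipotent F :=
      Subgroup.subset_closure ⟨_, 1, pos_simple_all D hD i hi, rfl⟩
    have hconjU := (Subgroup.mem_normalizer_iff.1 hnn (hadd.xU (D.simple i) 1)).1 hxU
    have hconjV : nWordU hA hadd L * h0 * hadd.xU (D.simple i) 1 * (nWordU hA hadd L * h0)⁻¹
        ∈ D.negUnipotent F := by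
      apply hmap
      rw [Subgroup.mem_map]
      exact ⟨_, xU_mem_rootSubgroup hadd _ _, rfl⟩
    have hbot : nWordU hA hadd L * h0 * hadd.xU (D.simple i) 1 * (nWordU hA hadd L * h0)⁻¹
        ∈ D.borelSubgroup F ⊓ D.negUnipotent F := ⟨hUB hconjU, hconjV⟩
    rw [(borel_inf_neg_all D hD).1, Subgroup.mem_bot] at hbot
    have e4 : hadd.xU (D.simple i) (1 : F) = 1 := by
      have e5 : hadd.xU (D.simple i) (1 : F) = (nWordU hA hadd L * h0)⁻¹ *
          (nWordU hA hadd L * h0 * hadd.xU (D.simple i) 1 * (nWordU hA hadd L * h0)⁻¹) *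
          (nWordU hA hadd L * h0) := by group
      rw [e5, hbot]
      group
    have := xInj_all (F := F) D hD (D.simple i) hp 1 (congrArg Units.val e4)
    exact one_ne_zero this
  have hν := nWordU_mem_diagonal hD hA hadd Bs mLL hB h1 h2 L hL hnd
  rw [e]
  exact Subgroup.mul_mem _ (Subgroup.mul_mem _ hb (hHB (Subgroup.mul_mem _ hν hh0))) (hUB huU)

/-- an element of the group whose matrix is the diagonal matrix of a character lies in `H` -/
theorem charDiag_mem_diagonal (D : ChevalleyDatum)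
    (hD : D ∈ [chevG2, chevB2, chevD4, chevF4, chevE6, chevE7, chevE8]) (χ : ℕ → Fˣ)
    (hχ : D.IsRootCharacter χ) (g : GL D.Idx F) (hg : g ∈ D.group F)
    (hgχ : (g : Matrix D.Idx D.Idx F) = D.charDiag F χ) : g ∈ D.diagonalSubgroup F := by
  have hadd := allAdd_all (F := F) D hD
  obtain ⟨T, hA, htri⟩ := tri_known D hD
  have hHU := (borel_semidirect_all (F := F) D hD).1
  -- the inverse of `g`
  have hginv : ((g⁻¹ : GL D.Idx F) : Matrix D.Idx D.Idx F)
      = D.charDiag F (fun s => (χ s)⁻¹) := by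
    have h2 : ((g⁻¹ : GL D.Idx F) : Matrix D.Idx D.Idx F) * (g : Matrix D.Idx D.Idx F) = 1 := by
      rw [← Units.val_mul, inv_mul_cancel, Units.val_one]
    calc ((g⁻¹ : GL D.Idx F) : Matrix D.Idx D.Idx F)
        = ((g⁻¹ : GL D.Idx F) : Matrix D.Idx D.Idx F) * ((g : Matrix D.Idx D.Idx F) *
            D.charDiag F (fun s => (χ s)⁻¹)) := by
          rw [hgχ, charDiag_mul_inv, Matrix.mul_one]
      _ = _ := by rw [← Matrix.mul_assoc, h2, Matrix.one_mul]
  have hχ' : D.IsRootCharacter (fun s => (χ s)⁻¹) := by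
    refine ⟨fun r hr => ?_, fun r s k hr hs hk => ?_⟩
    · show (χ (D.neg r))⁻¹ = ((χ r)⁻¹)⁻¹
      rw [hχ.1 r hr]
    · show (χ k)⁻¹ = (χ r)⁻¹ * (χ s)⁻¹
      rw [hχ.2 r s k hr hs hk, mul_inv]
  -- `g` normalises `U`
  have hgn : g ∈ Subgroup.normalizer (D.posUnipotent F : Set (GL D.Idx F)) := by
    unfold ChevalleyDatum.posUnipotent
    apply mem_normalizer_closure
    · rintro x ⟨r, t, hr, hx⟩
      have : x = hadd.xU r t := Units.ext hx
      subst this
      have e : g * hadd.xU r t * g⁻¹ = hadd.xU r ((χ r : F) * t) := by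
        apply Units.ext
        rw [Units.val_mul, Units.val_mul, hgχ, hginv]
        exact Cfsg.Agent.S2157.result D hD χ hχ r hr.1 t
      rw [e]
      exact Subgroup.subset_closure ⟨r, _, hr, rfl⟩
    · rintro x ⟨r, t, hr, hx⟩
      have : x = hadd.xU r t := Units.ext hx
      subst this
      have e : g⁻¹ * hadd.xU r t * g = hadd.xU r ((((χ r)⁻¹ : Fˣ) : F) * t) := by
        apply Units.ext
        rw [Units.val_mul, Units.val_mul, hgχ, hginv]
        have := Cfsg.Agent.S2157.result D hD (fun s => (χ s)⁻¹) hχ' r hr.1 t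
        simp only [inv_inv] at this
        exact this
      rw [e]
      exact Subgroup.subset_closure ⟨r, _, hr, rfl⟩
  have hgB := mem_borel_of_normalizer D hD g hg hgn
  unfold ChevalleyDatum.borelSubgroup at hgB
  rw [← SetLike.mem_coe, Subgroup.coe_mul_of_right_le_normalizer_left _ _ hHU,
    Set.mem_mul] at hgB
  obtain ⟨u, hu, h, hh, e⟩ := hgB
  obtain ⟨χ2, -, -, hinv2⟩ := exists_char_of_mem hD h hh
  have hu1 : u = 1 := by
    have eu : u = g * h⁻¹ := by rw [← e]; group
    apply eq_one_of_diag_of_UG (grade D) u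
      (fun x => Sum.elim (fun _ => (1 : F)) (fun r => (χ r.val : F)) x *
        Sum.elim (fun _ => (1 : F)) (fun r => (((χ2 r.val)⁻¹ : Fˣ) : F)) x) _
      (posUnipotent_le_UG hA hadd htri hu)
    rw [eu, Units.val_mul, hgχ, hinv2]
    unfold ChevalleyDatum.charDiag
    rw [Matrix.diagonal_mul_diagonal]
  rw [← e, hu1, one_mul]
  exact hh

end

end Cfsg.Agent.Lib.Helper5.Chev
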