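import Cfsg.Agent.Lib.Helper5.Chev.UFilt
import Cfsg.Agent.Lib.Helper5.Chev.DataB2
import Mathlib

/-!
# The filtration of `U`: the check for type B2 (helper5)
-/

set_option autoImplicit false
set_option maxRecDepth 100000

namespace Cfsg.Agent.Lib.Helper5.Chev.UfB2

open Cfsg.Lie Cfsg.Agent.Lib.Helper5.Chev

theorem ufok_check : ufokb DataB2.fd chevB2 = true := by decide +kernel

theorem ufok : UFOK DataB2.fd chevB2 := ufok_of_check DataB2.agrees ufok_check

end Cfsg.Agent.Lib.Helper5.Chev.UfB2
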