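import Cfsg.Agent.Lib.Helper5.Chev.UFilt
import Cfsg.Agent.Lib.Helper5.Chev.DataD4
import Mathlib

/-!
# The filtration of `U`: the check for type D4 (helper5)
-/

set_option autoImplicit false
set_option maxRecDepth 100000

namespace Cfsg.Agent.Lib.Helper5.Chev.UfD4

open Cfsg.Lie Cfsg.Agent.Lib.Helper5.Chev

theorem ufok_check : ufokb DataD4.fd chevD4 = true := by decide +kernel

theorem ufok : UFOK DataD4.fd chevD4 := ufok_of_check DataD4.agrees ufok_check

end Cfsg.Agent.Lib.Helper5.Chev.UfD4
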