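import Cfsg.Agent.Lib.Helper5.Chev.UFilt
import Cfsg.Agent.Lib.Helper5.Chev.DataF4
import Mathlib

/-!
# The filtration of `U`: the check for type F4 (helper5)
-/

set_option autoImplicit false
set_option maxRecDepth 100000

namespace Cfsg.Agent.Lib.Helper5.Chev.UfF4

open Cfsg.Lie Cfsg.Agent.Lib.Helper5.Chev

theorem ufok_check : ufokb DataF4.fd chevF4 = true := by decide +kernel

theorem ufok : UFOK DataF4.fd chevF4 := ufok_of_check DataF4.agrees ufok_check

end Cfsg.Agent.Lib.Helper5.Chev.UfF4
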