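import Cfsg.Agent.Lib.Helper5.Chev.UCard
import Cfsg.Agent.Lib.Helper5.Chev.UfG2
import Cfsg.Agent.Lib.Helper5.Chev.UfB2
import Cfsg.Agent.Lib.Helper5.Chev.UfD4
import Cfsg.Agent.Lib.Helper5.Chev.UfF4
import Cfsg.Agent.Lib.Helper5.Chev.UfE6
import Cfsg.Agent.Lib.Helper5.Chev.UfE7
import Cfsg.Agent.Lib.Helper5.Chev.UfE8
import Mathlib

/-!
# The order of `U`: all types (helper5)
-/

set_option autoImplicit false

namespace Cfsg.Agent.Lib.Helper5.Chev

open Cfsg.Lie
open scoped Matrix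

/-- the data of the filtration of `U` -/
theorem ufok_known (D : ChevalleyDatum)
    (hD : D ∈ [chevG2, chevB2, chevD4, chevF4, chevE6, chevE7, chevE8]) :
    ∃ T : FD, T.Agrees D ∧ UFOK T D ∧ (∀ r < D.nroots, TriOK T D r) ∧ D.nroots % 2 = 0 := by
  simp only [List.mem_cons, List.not_mem_nil, or_false] at hD
  rcases hD with rfl | rfl | rfl | rfl | rfl | rfl | rfl
  · exact ⟨_, DataG2.agrees, UfG2.ufok, TrG2.triOK, by decide⟩
  · exact ⟨_, DataB2.agrees, UfB2.ufok, TrB2.triOK, by decide⟩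
  · exact ⟨_, DataD4.agrees, UfD4.ufok, TrD4.triOK, by decide⟩
  · exact ⟨_, DataF4.agrees, UfF4.ufok, TrF4.triOK, by decide⟩
  · exact ⟨_, DataE6.agrees, UfE6.ufok, TrE6.triOK, by decide⟩
  · exact ⟨_, DataE7.agrees, UfE7.ufok, TrE7.triOK, by decide⟩
  · exact ⟨_, DataE8.agrees, UfE8.ufok, TrE8.triOK, by decide⟩

section

variable {F : Type*} [Field F]

theorem corInj_all (D : ChevalleyDatum)
    (hD : D ∈ [chevG2, chevB2, chevD4, chevF4, chevE6, chevE7, chevE8]) :
    ∀ s < D.nroots, CorInj F D s := by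
  obtain ⟨T, Bs, gH, baseH, fuel, hA, hB, hr, hbase⟩ := reach_known D hD
  apply reach_all hA (CorInj F D) Bs gH baseH fuel hr
  · intro s hs
    obtain ⟨j, hj, rfl⟩ := hbase s hs
    apply corInj_simple j hj
    rw [coroot_simple_all D hD j hj j hj, if_pos rfl]
  · intro i hi s hs
    exact ((hB i hi).cert hA).w_lt s hs
  · intro i hi s hs h
    exact ((hB i hi).cert hA).corInj_transfer hA s hs h

/-- the order of `U` -/
theorem card_posUnipotent_all (D : ChevalleyDatum)
    (hD : D ∈ [chevG2, chevB2, chevD4, chevF4, chevE6, chevE7, chevE8]) :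
    Nat.card (D.posUnipotent F) = Nat.card F ^ (D.nroots / 2) := by
  obtain ⟨T, hA, hok, htri, heven⟩ := ufok_known D hD
  rw [← UF_half (F := F) htri hA]
  exact card_UF hA (allAdd_all D hD) hok htri (comm_known D hD) (corInj_all D hD)
    (xInj_all D hD) (D.nroots / 2) (D.nroots / 2) (le_refl _) (by omega)

end

end Cfsg.Agent.Lib.Helper5.Chev
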