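import Cfsg.Agent.Lib.Helper5.Chev.BNPairChev
import Cfsg.Agent.S0308
import Cfsg.Agent.S0309
import Mathlib

/-!
# The canonical form `g = b n u` in a Chevalley group (helper5)
-/

set_option autoImplicit false

namespace Cfsg.Agent.Lib.Helper5.Chev

open Cfsg.Lie
open scoped Matrix

/-- the generators of `U_n⁻` -/
def unegSet (F : Type*) [Field F] (D : ChevalleyDatum) (n : GL D.Idx F) : Set (GL D.Idx F) :=
  {x : GL D.Idx F | ∃ (r : ℕ) (t : F), D.IsPosRoot r ∧
    (D.rootSubgroup F r).map (MulAut.conj n).toMonoidHom ≤ D.negUnipotent F ∧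
    (x : Matrix D.Idx D.Idx F) = D.x F r t}

section

variable {F : Type*} [Field F]

theorem uneg_le_pos (D : ChevalleyDatum) (n : GL D.Idx F) :
    Subgroup.closure (unegSet F D n) ≤ D.posUnipotent F := by
  apply Subgroup.closure_mono
  rintro x ⟨r, t, hr, -, hx⟩
  exact ⟨r, t, hr, hx⟩

theorem uneg_map_le_neg (D : ChevalleyDatum) (n : GL D.Idx F) :
    (Subgroup.closure (unegSet F D n)).map (MulAut.conj n).toMonoidHom ≤ D.negUnipotent F := by
  rw [Subgroup.map_le_iff_le_comap, Subgroup.closure_le]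
  rintro x ⟨r, t, hr, hmap, hx⟩
  rw [SetLike.mem_coe, Subgroup.mem_comap]
  apply hmap
  exact Subgroup.mem_map_of_mem _ (Subgroup.subset_closure ⟨t, hx⟩)

variable {T : FD} {D : ChevalleyDatum}

theorem wOf_simple (hA : T.Agrees D) (Bs : List ℕ)
    (hB : ∀ i < D.rank, ReflChecks T D i (Bs.getD i 0)) {i : ℕ} (hi : i < D.rank) :
    wOf (Bs.getD i 0) (D.simple i) = D.neg (D.simple i) := by
  have hp := simple_lt' hA hi
  have hs2 := ((hB i hi).side hA).2.2 (D.simple i) hp
  rw [← hs2.2.2, FD.neg_eq' hA _ hp, FD.simple_eq' hA i hi]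
  unfold FD.reflect
  rw [if_pos rfl]

theorem wW_concat (Bs : List ℕ) (L : List ℕ) (i s : ℕ) :
    wW Bs (L ++ [i]) s = wW Bs L (wOf (Bs.getD i 0) s) := by
  induction L with
  | nil => rfl
  | cons j L ih =>
    show wOf (Bs.getD j 0) (wW Bs (L ++ [i]) s) = wOf (Bs.getD j 0) (wW Bs L (wOf (Bs.getD i 0) s))
    rw [ih]

theorem wW_lt (hA : T.Agrees D) (Bs : List ℕ)
    (hB : ∀ i < D.rank, ReflChecks T D i (Bs.getD i 0)) (L : List ℕ) (hL : ∀ i ∈ L, i < D.rank)
    (s : ℕ) (hs : s < D.nroots) : wW Bs L s < D.nroots := by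
  induction L with
  | nil => exact hs
  | cons i L ih =>
    exact ((hB i (hL i List.mem_cons_self)).cert hA).w_lt _
      (ih (fun j hj => hL j (List.mem_cons_of_mem _ hj)))

theorem wW_neg (hA : T.Agrees D) (Bs : List ℕ)
    (hB : ∀ i < D.rank, ReflChecks T D i (Bs.getD i 0)) (L : List ℕ) (hL : ∀ i ∈ L, i < D.rank)
    (s : ℕ) (hs : s < D.nroots) : wW Bs L (D.neg s) = D.neg (wW Bs L s) := by
  induction L with
  | nil => rfl
  | cons i L ih =>
    have hi := hL i List.mem_cons_self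
    have hL' : ∀ j ∈ L, j < D.rank := fun j hj => hL j (List.mem_cons_of_mem _ hj)
    have hc := (hB i hi).cert hA
    have hlt := wW_lt hA Bs hB L hL' s hs
    show wOf (Bs.getD i 0) (wW Bs L (D.neg s)) = D.neg (wOf (Bs.getD i 0) (wW Bs L s))
    rw [ih hL', FD.neg_eq' hA _ hlt, FD.neg_eq' hA _ (hc.w_lt _ hlt), hc.neg_w _ hlt]

/-- conjugation of a root element by an element `n_{i_1} ⋯ n_{i_k} h` -/
theorem conj_word_diag (hD : D ∈ [chevG2, chevB2, chevD4, chevF4, chevE6, chevE7, chevE8])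
    (hA : T.Agrees D) (hadd : AllAdd F D) (Bs : List ℕ)
    (hB : ∀ i < D.rank, ReflChecks T D i (Bs.getD i 0)) (L : List ℕ) (hL : ∀ i ∈ L, i < D.rank)
    (h : GL D.Idx F) (hh : h ∈ D.diagonalSubgroup F) (s : ℕ) (hs : s < D.nroots) (t : F) :
    ∃ t' : F, (nWordU hA hadd L * h) * hadd.xU s t * (nWordU hA hadd L * h)⁻¹
      = hadd.xU (wW Bs L s) t' := by
  obtain ⟨t1, e1⟩ := conj_diag_x hD hadd h hh s hs t
  obtain ⟨-, t2, e2⟩ := conj_word hA hadd Bs hB L hL s hs t1
  refine ⟨t2, ?_⟩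
  rw [← e2, ← e1]
  group

/-- `n X_r n⁻¹ ≤ V` exactly when `n` maps `r` to a negative root -/
theorem map_root_le_neg_iff (hD : D ∈ [chevG2, chevB2, chevD4, chevF4, chevE6, chevE7, chevE8])
    (hA : T.Agrees D) (hadd : AllAdd F D) (Bs : List ℕ)
    (hB : ∀ i < D.rank, ReflChecks T D i (Bs.getD i 0)) (L : List ℕ) (hL : ∀ i ∈ L, i < D.rank)
    (h : GL D.Idx F) (hh : h ∈ D.diagonalSubgroup F) (r : ℕ) (hr : r < D.nroots) :
    (D.rootSubgroup F r).map (MulAut.conj (nWordU hA hadd L * h)).toMonoidHom ≤ D.negUnipotent F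
      ↔ wW Bs L r < D.nroots / 2 := by
  have hlt := wW_lt hA Bs hB L hL r hr
  constructor
  · intro hmap
    by_contra hcon
    rw [not_lt] at hcon
    obtain ⟨t', e⟩ := conj_word_diag hD hA hadd Bs hB L hL h hh r hr (1 : F)
    have hV : hadd.xU (wW Bs L r) t' ∈ D.negUnipotent F := by
      apply hmap
      rw [Subgroup.mem_map]
      exact ⟨hadd.xU r 1, xU_mem_rootSubgroup hadd _ _, e⟩
    have hU : hadd.xU (wW Bs L r) t' ∈ D.borelSubgroup F := by
      apply Subgroup.mem_sup_left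
      exact Subgroup.subset_closure ⟨_, t', (pos_iff_all D hD _ hlt).2 hcon, rfl⟩
    have hbot : hadd.xU (wW Bs L r) t' ∈ D.borelSubgroup F ⊓ D.negUnipotent F := ⟨hU, hV⟩
    rw [(borel_inf_neg_all D hD).1, Subgroup.mem_bot] at hbot
    rw [hbot] at e
    have e4 : hadd.xU r (1 : F) = 1 := by
      have e5 : hadd.xU r (1 : F) = (nWordU hA hadd L * h)⁻¹ *
          (nWordU hA hadd L * h * hadd.xU r 1 * (nWordU hA hadd L * h)⁻¹) *
          (nWordU hA hadd L * h) := by group
      rw [e5, e]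
      group
    have := xInj_all (F := F) D hD r hr 1 (congrArg Units.val e4)
    exact one_ne_zero this
  · intro hneg
    rw [Subgroup.map_le_iff_le_comap]
    unfold ChevalleyDatum.rootSubgroup
    rw [Subgroup.closure_le]
    rintro g ⟨t, hg⟩
    have hg' : g = hadd.xU r t := Units.ext hg
    subst hg'
    obtain ⟨t', e⟩ := conj_word_diag hD hA hadd Bs hB L hL h hh r hr t
    rw [SetLike.mem_coe, Subgroup.mem_comap]
    show (nWordU hA hadd L * h) * hadd.xU r t * (nWordU hA hadd L * h)⁻¹ ∈ D.negUnipotent F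
    rw [e]
    exact Subgroup.subset_closure ⟨_, t', neg_of_lt_half D hD _ hlt hneg, rfl⟩


/-- the inductive step of the canonical form: `n U ⊆ B n U_n⁻` for `n = n_{i_1} ⋯ n_{i_k} h` -/
theorem bruhat_word (hD : D ∈ [chevG2, chevB2, chevD4, chevF4, chevE6, chevE7, chevE8])
    (hA : T.Agrees D) (hadd : AllAdd F D) (Bs : List ℕ) (mLL : List (List ℕ))
    (hB : ∀ i < D.rank, ReflChecks T D i (Bs.getD i 0)) (h1 : Cox1 T Bs)
    (h2 : ∀ i < T.rank, ∀ j < T.rank, i ≠ j → Cox2 T Bs mLL i j) :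
    ∀ (k : ℕ) (L : List ℕ), (∀ i ∈ L, i < D.rank) → (wdOf T Bs mLL).inv L = k →
      ∀ h ∈ D.diagonalSubgroup F, ∀ u ∈ D.posUnipotent F,
        ∃ b ∈ D.borelSubgroup F, ∃ u' ∈ Subgroup.closure (unegSet F D (nWordU hA hadd L * h)),
          nWordU hA hadd L * h * u = b * (nWordU hA hadd L * h) * u' := by
  have hl : T.rank = D.rank := hA.rank_eq
  have hn : T.nroots = D.nroots := hA.nroots_eq
  have hV := wdOf_valid hA Bs mLL hB h1 h2
  have hHU := (borel_semidirect_all (F := F) D hD).1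
  have hUB : D.posUnipotent F ≤ D.borelSubgroup F := le_sup_left
  have hHB : D.diagonalSubgroup F ≤ D.borelSubgroup F := le_sup_right
  have hNH : D.monomialSubgroup F ≤ Subgroup.normalizer (D.diagonalSubgroup F : Set (GL D.Idx F)) :=
    (Subgroup.normal_subgroupOf_iff_le_normalizer le_sup_left).1 (diagonal_normal_all D hD)
  intro k
  induction k using Nat.strong_induction_on with
  | _ k ih =>
    intro L hL hk h hh u hu
    by_cases hnd : ∀ i < D.rank, D.nroots / 2 ≤ wW Bs L (D.simple i)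
    · -- no descent: `n ∈ H`
      have hν := nWordU_mem_diagonal hD hA hadd Bs mLL hB h1 h2 L hL hnd
      have hnH : nWordU hA hadd L * h ∈ D.diagonalSubgroup F := Subgroup.mul_mem _ hν hh
      refine ⟨nWordU hA hadd L * h * u * (nWordU hA hadd L * h)⁻¹,
        hUB ((Subgroup.mem_normalizer_iff.1 (hHU hnH) u).1 hu), 1, Subgroup.one_mem _, ?_⟩
      group
    · -- a descent
      push Not at hnd
      obtain ⟨i, hi, hdesc⟩ := hnd
      obtain ⟨hp, hq⟩ := simple_lt_all D hD i hi
      have hL' : ∀ j ∈ L ++ [i], j < D.rank := by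
        intro j hj
        rw [List.mem_append, List.mem_singleton] at hj
        rcases hj with hj | rfl
        · exact hL j hj
        · exact hi
      have hinv : (wdOf T Bs mLL).inv (L ++ [i]) < k := by
        rw [← hk]
        apply hV.inv_desc (fun x hx => by show x < T.rank; rw [hl]; exact hL x hx)
          (show i < T.rank by rw [hl]; exact hi)
        show (wdOf T Bs mLL).act L (T.simple i) < T.nroots / 2
        rw [act_eq_wW, hn, ← FD.simple_eq' hA i hi]
        exact hdesc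
      set s := nUi hA hadd i with hs
      have hsN : s ∈ D.monomialSubgroup F := nUi_mem hA hadd i
      have hh1 : s⁻¹ * h * s ∈ D.diagonalSubgroup F :=
        (conj_mem_of_normalizer _ _ _ (hNH hsN) hh).2
      have hn' : nWordU hA hadd (L ++ [i]) * (s⁻¹ * h * s) = nWordU hA hadd L * h * s := by
        rw [nWordU_append, nWordU_singleton, ← hs]
        group
      -- decompose `u`
      obtain ⟨hnorm, hU⟩ := simple_complement (F := F) D hD i hi
      have hsUp : s ∈ Subgroup.normalizer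
          (Subgroup.closure (compSet F D (D.simple i)) : Set (GL D.Idx F)) := by
        apply hnorm
        have : s = hadd.xU (D.simple i) 1 * (hadd.xU (D.neg (D.simple i)) (-1) *
            hadd.xU (D.simple i) 1) := by
          rw [hs, nUi_pos hA hadd hi]
          apply Units.ext
          rw [Units.val_mul, Units.val_mul]
          exact nMat_one (D.simple i)
        rw [this]
        exact Subgroup.mul_mem _ (Subgroup.mem_sup_left (xU_mem_rootSubgroup hadd _ _))
          (Subgroup.mul_mem _ (Subgroup.mem_sup_right (xU_mem_rootSubgroup hadd _ _))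
            (Subgroup.mem_sup_left (xU_mem_rootSubgroup hadd _ _)))
      rw [← hU, ← SetLike.mem_coe,
        Subgroup.coe_mul_of_right_le_normalizer_left _ _ (le_sup_left.trans hnorm),
        Set.mem_mul] at hu
      obtain ⟨c, hc, x, hx, rfl⟩ := hu
      rw [SetLike.mem_coe, mem_rootSubgroup_iff hadd] at hx
      obtain ⟨t, rfl⟩ := hx
      have hc' : s⁻¹ * c * s ∈ D.posUnipotent F := by
        rw [← hU]
        exact Subgroup.mem_sup_left (conj_mem_of_normalizer _ _ _ hsUp hc).2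
      obtain ⟨b, hb, u'', hu'', e⟩ := ih _ hinv (L ++ [i]) hL' rfl _ hh1 _ hc'
      rw [hn'] at e hu''
      -- the two factors lie in `U_n⁻`
      have hx1 : hadd.xU (D.simple i) t ∈ Subgroup.closure (unegSet F D (nWordU hA hadd L * h)) := by
        apply Subgroup.subset_closure
        exact ⟨_, t, pos_simple_all D hD i hi,
          (map_root_le_neg_iff hD hA hadd Bs hB L hL h hh _ hp).2 hdesc, rfl⟩
      have hx2 : Subgroup.closure (unegSet F D (nWordU hA hadd L * h * s)) ≤
          (Subgroup.closure (unegSet F D (nWordU hA hadd L * h))).comap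
            (MulAut.conj s).toMonoidHom := by
        rw [Subgroup.closure_le]
        rintro g ⟨r, t', hr, hmap, hg⟩
        have hg' : g = hadd.xU r t' := Units.ext hg
        subst hg'
        rw [← hn'] at hmap
        have hneg := (map_root_le_neg_iff hD hA hadd Bs hB _ hL' _ hh1 r hr.1).1 hmap
        rw [wW_concat] at hneg
        have hrne : r ≠ D.simple i := by
          rintro rfl
          rw [wOf_simple hA Bs hB hi, wW_neg hA Bs hB L hL _ hp] at hneg
          have := neg_ge_half_all D hD _ (wW_lt hA Bs hB L hL _ hp) hdesc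
          omega
        have hwlt := ((hB i hi).cert hA).w_lt r hr.1
        have hwpos : D.nroots / 2 ≤ wOf (Bs.getD i 0) r := by
          rw [← hn]
          apply h1.w_pos i (hl ▸ hi) r (hn ▸ hr.1)
          · rw [hn]; exact (pos_iff_all D hD r hr.1).1 hr
          · rw [← FD.simple_eq' hA i hi]; exact hrne
        rw [SetLike.mem_coe, Subgroup.mem_comap]
        show s * hadd.xU r t' * s⁻¹ ∈ _
        rw [hs, conjU hA hadd hi (hB i hi) r hr.1]
        apply Subgroup.subset_closure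
        exact ⟨_, _, (pos_iff_all D hD _ hwlt).2 hwpos,
          (map_root_le_neg_iff hD hA hadd Bs hB L hL h hh _ hwlt).2 hneg, rfl⟩
      have hx3 : s * u'' * s⁻¹ ∈ Subgroup.closure (unegSet F D (nWordU hA hadd L * h)) :=
        hx2 hu''
      refine ⟨b, hb, s * u'' * s⁻¹ * hadd.xU (D.simple i) t, Subgroup.mul_mem _ hx3 hx1, ?_⟩
      calc nWordU hA hadd L * h * (c * hadd.xU (D.simple i) t)
          = nWordU hA hadd L * h * s * (s⁻¹ * c * s) * s⁻¹ * hadd.xU (D.simple i) t := by group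
        _ = b * (nWordU hA hadd L * h * s) * u'' * s⁻¹ * hadd.xU (D.simple i) t := by rw [e]
        _ = _ := by group


end

section

variable {F : Type*} [Field F]

/-- existence of the canonical form `g = b n u` -/
theorem bruhat_exists_all (D : ChevalleyDatum)
    (hD : D ∈ [chevG2, chevB2, chevD4, chevF4, chevE6, chevE7, chevE8]) :
    ∀ g ∈ D.group F, ∃ b ∈ D.borelSubgroup F, ∃ n ∈ D.monomialSubgroup F,
      ∃ u ∈ Subgroup.closure (unegSet F D n), g = b * n * u := by
  intro g hg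
  have hadd := allAdd_all (F := F) D hD
  have hH := hform_all' (F := F) D hD
  obtain ⟨T, Bs, mLL, gH, baseH, fuel, hA, hB, hr, hbase, hcox⟩ := cox_known D hD
  obtain ⟨h1, h2⟩ := cox_of_check T Bs mLL hcox
  obtain ⟨P, hPB, hPN, -⟩ := bnPair_all (F := F) D hD
  have hHU := (borel_semidirect_all (F := F) D hD).1
  obtain ⟨n, hn, hmem⟩ := Cfsg.Agent.S0308.result P ⟨g, hg⟩
  rw [DoubleCoset.mem_doubleCoset] at hmem
  obtain ⟨b1, hb1, b2, hb2, e⟩ := hmem
  rw [hPB, SetLike.mem_coe, Subgroup.mem_subgroupOf] at hb1 hb2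
  rw [hPN, Subgroup.mem_subgroupOf] at hn
  have e' : g = (b1 : GL D.Idx F) * (n : GL D.Idx F) * (b2 : GL D.Idx F) :=
    congrArg Subtype.val e
  unfold ChevalleyDatum.borelSubgroup at hb2
  rw [← SetLike.mem_coe, Subgroup.coe_mul_of_right_le_normalizer_left _ _ hHU,
    Set.mem_mul] at hb2
  obtain ⟨u2, hu2, k2, hk2, e2⟩ := hb2
  obtain ⟨L, hL, h0, hh0, en⟩ := monomial_le_NWH hA hadd Bs hB hH gH baseH fuel hr hbase hn
  have hu2' : k2⁻¹ * u2 * k2 ∈ D.posUnipotent F :=
    (conj_mem_of_normalizer _ _ _ (hHU hk2) hu2).2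
  obtain ⟨b, hb, u', hu', e3⟩ := bruhat_word hD hA hadd Bs mLL hB h1 h2 _ L hL rfl
    (h0 * k2) (Subgroup.mul_mem _ hh0 hk2) _ hu2'
  refine ⟨(b1 : GL D.Idx F) * b, Subgroup.mul_mem _ hb1 hb, nWordU hA hadd L * (h0 * k2),
    Subgroup.mul_mem _ (nWordU_mem hA hadd L)
      ((le_sup_left : D.diagonalSubgroup F ≤ D.monomialSubgroup F) (Subgroup.mul_mem _ hh0 hk2)),
    u', hu', ?_⟩
  rw [e', en, ← e2]
  calc (b1 : GL D.Idx F) * (nWordU hA hadd L * h0) * (u2 * k2)
      = (b1 : GL D.Idx F) * (nWordU hA hadd L * (h0 * k2) * (k2⁻¹ * u2 * k2)) := by group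
    _ = _ := by
      rw [e3]
      group

/-- uniqueness of the canonical form `g = b n u` -/
theorem bruhat_unique_all (D : ChevalleyDatum)
    (hD : D ∈ [chevG2, chevB2, chevD4, chevF4, chevE6, chevE7, chevE8])
    (b b' n n' u u' : GL D.Idx F) (hb : b ∈ D.borelSubgroup F) (hb' : b' ∈ D.borelSubgroup F)
    (hn : n ∈ D.monomialSubgroup F) (hn' : n' ∈ D.monomialSubgroup F)
    (hu : u ∈ Subgroup.closure (unegSet F D n)) (hu' : u' ∈ Subgroup.closure (unegSet F D n'))
    (e : b * n * u = b' * n' * u') :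
    n⁻¹ * n' ∈ D.diagonalSubgroup F ∧ (n = n' → b = b' ∧ u = u') := by
  have hadd := allAdd_all (F := F) D hD
  have hBG : D.borelSubgroup F ≤ D.group F := hadd.borel_le
  have hNG : D.monomialSubgroup F ≤ D.group F := hadd.monomial_le
  have hUB : D.posUnipotent F ≤ D.borelSubgroup F := le_sup_left
  obtain ⟨P, hPB, hPN, -⟩ := bnPair_all (F := F) D hD
  have huB : u ∈ D.borelSubgroup F := hUB (uneg_le_pos D n hu)
  have huB' : u' ∈ D.borelSubgroup F := hUB (uneg_le_pos D n' hu')
  constructor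
  · have hnP : (⟨n, hNG hn⟩ : ↥(D.group F)) ∈ P.N := by
      rw [hPN, Subgroup.mem_subgroupOf]; exact hn
    have hnP' : (⟨n', hNG hn'⟩ : ↥(D.group F)) ∈ P.N := by
      rw [hPN, Subgroup.mem_subgroupOf]; exact hn'
    have hmem : (⟨n', hNG hn'⟩ : ↥(D.group F)) ∈
        DoubleCoset.doubleCoset (⟨n, hNG hn⟩ : ↥(D.group F)) (P.B : Set ↥(D.group F)) P.B := by
      rw [DoubleCoset.mem_doubleCoset]
      refine ⟨⟨b'⁻¹ * b, hBG (Subgroup.mul_mem _ (Subgroup.inv_mem _ hb') hb)⟩, ?_,
        ⟨u * u'⁻¹, hBG (Subgroup.mul_mem _ huB (Subgroup.inv_mem _ huB'))⟩, ?_, ?_⟩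
      · rw [hPB, SetLike.mem_coe, Subgroup.mem_subgroupOf]
        exact Subgroup.mul_mem _ (Subgroup.inv_mem _ hb') hb
      · rw [hPB, SetLike.mem_coe, Subgroup.mem_subgroupOf]
        exact Subgroup.mul_mem _ huB (Subgroup.inv_mem _ huB')
      · apply Subtype.ext
        show n' = b'⁻¹ * b * n * (u * u'⁻¹)
        calc n' = b'⁻¹ * (b' * n' * u') * u'⁻¹ := by group
          _ = _ := by
            rw [← e]
            group
    have heq := DoubleCoset.doubleCoset_eq_of_mem hmem
    have hmemB := (Cfsg.Agent.S0309.result P hnP hnP').1 heq.symm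
    rw [hPB, Subgroup.mem_subgroupOf] at hmemB
    have hmemB' : n⁻¹ * n' ∈ D.borelSubgroup F := hmemB
    rw [← (borel_inf_monomial_all (F := F) D hD).2]
    exact ⟨hmemB', Subgroup.mul_mem _ (Subgroup.inv_mem _ hn) hn'⟩
  · rintro rfl
    have e1 : n * (u * u'⁻¹) * n⁻¹ = b⁻¹ * b' := by
      calc n * (u * u'⁻¹) * n⁻¹ = b⁻¹ * (b * n * u) * u'⁻¹ * n⁻¹ := by group
        _ = _ := by
          rw [e]
          group
    have hV : n * (u * u'⁻¹) * n⁻¹ ∈ D.negUnipotent F := by
      apply uneg_map_le_neg D n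
      rw [Subgroup.mem_map]
      exact ⟨u * u'⁻¹, Subgroup.mul_mem _ hu (Subgroup.inv_mem _ hu'), rfl⟩
    have hbot : n * (u * u'⁻¹) * n⁻¹ ∈ D.borelSubgroup F ⊓ D.negUnipotent F := by
      refine ⟨?_, hV⟩
      rw [e1]
      exact Subgroup.mul_mem _ (Subgroup.inv_mem _ hb) hb'
    rw [(borel_inf_neg_all D hD).1, Subgroup.mem_bot] at hbot
    constructor
    · rw [hbot] at e1
      exact inv_mul_eq_one.1 e1.symm
    · have : u * u'⁻¹ = 1 := by
        calc u * u'⁻¹ = n⁻¹ * (n * (u * u'⁻¹) * n⁻¹) * n := by group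
          _ = 1 := by
            rw [hbot]
            group
      exact mul_inv_eq_one.1 this

end

end Cfsg.Agent.Lib.Helper5.Chev
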