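import Cfsg.Agent.Lib.Helper5.Chev.ParaCent
import Cfsg.Agent.Lib.Helper5.Chev.Bruhat
import Mathlib

/-!
# Preparations for the centraliser of a root element of a dominant root (helper5)
-/

set_option autoImplicit false
set_option maxRecDepth 100000

namespace Cfsg.Agent.Lib.Helper5.Chev

open Cfsg.Lie
open scoped Matrix Pointwise

section

variable {F : Type*} [Field F]

/-- conjugation of a root element by `n_j`, for the seven data -/
theorem nU_conj_all (D : ChevalleyDatum)
    (hD : D ∈ [chevG2, chevB2, chevD4, chevF4, chevE6, chevE7, chevE8]) (j : ℕ) (hj : j < D.rank)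
    (hp : D.simple j < D.nroots) (hq : D.neg (D.simple j) < D.nroots) (s : ℕ) (hs : s < D.nroots) :
    D.reflectRoot j s < D.nroots ∧ ∃ η : F, η ≠ 0 ∧ ∀ t : F,
      (allAdd_all (F := F) D hD).nU (D.simple j) hp hq * (allAdd_all (F := F) D hD).xU s t *
        ((allAdd_all (F := F) D hD).nU (D.simple j) hp hq)⁻¹
        = (allAdd_all (F := F) D hD).xU (D.reflectRoot j s) (η * t) := by
  obtain ⟨T, Bs, hA, hB, -⟩ := known_h D hD
  rw [FD.reflect_eq hA j s hj hs]
  exact ⟨reflect_lt hA (hB j hj) s hs, _, eta_ne_zero _ _,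
    fun t => nU_conj hA (allAdd_all (F := F) D hD) hj (hB j hj) hp hq s hs t⟩

/-- the elements of `N` map root subgroups to root subgroups -/
theorem monomial_conj_root (D : ChevalleyDatum)
    (hD : D ∈ [chevG2, chevB2, chevD4, chevF4, chevE6, chevE7, chevE8]) (n : GL D.Idx F)
    (hn : n ∈ D.monomialSubgroup F) (s : ℕ) (hs : s < D.nroots) :
    (∃ r' < D.nroots, ∀ a : F, ∃ a' : F,
      n * (allAdd_all (F := F) D hD).xU s a * n⁻¹ = (allAdd_all (F := F) D hD).xU r' a') ∧
    (∃ r'' < D.nroots, ∀ a : F, ∃ a' : F,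
      n⁻¹ * (allAdd_all (F := F) D hD).xU s a * n = (allAdd_all (F := F) D hD).xU r'' a') := by
  have hadd := allAdd_all (F := F) D hD
  have hH := hform_all' (F := F) D hD
  obtain ⟨T, Bs, gH, baseH, fuel, hA, hB, hr, hbase⟩ := reach_known D hD
  obtain ⟨L, hL, h, hh, rfl⟩ := monomial_le_NWH hA hadd Bs hB hH gH baseH fuel hr hbase hn
  constructor
  · refine ⟨wW Bs L s, (conj_word hA hadd Bs hB L hL s hs (0 : F)).1, fun a => ?_⟩
    exact conj_word_diag hD hA hadd Bs hB L hL h hh s hs a
  · refine ⟨wW' Bs L s, (conj_word' hA hadd Bs hB L hL s hs (0 : F)).1, fun a => ?_⟩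
    exact conj_inv_word hD hA hadd Bs hB L hL h hh s hs a

/-- distinct roots have distinct root elements -/
theorem root_eq_of_xU_eq (D : ChevalleyDatum)
    (hD : D ∈ [chevG2, chevB2, chevD4, chevF4, chevE6, chevE7, chevE8]) (r s : ℕ)
    (hr : r < D.nroots) (hs : s < D.nroots) (a b : F)
    (h : (allAdd_all (F := F) D hD).xU r a = (allAdd_all (F := F) D hD).xU s b) (ha : a ≠ 0) :
    r = s := by
  by_contra hne
  obtain ⟨T, hA, hok, htri, -⟩ := ufok_known D hD
  have hcor := corInj_all (F := F) D hD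
  apply ha
  apply hcor r hr a
  intro i hi
  have hnr : D.neg r < D.nroots := by rw [FD.neg_eq' hA r hr]; exact hA.neg_lt r hr
  have h1 : D.x F r a = D.x F s b := congrArg Units.val h
  have h2 := congrFun (congrFun h1 (Sum.inl ⟨i, hi⟩)) (Sum.inr ⟨D.neg r, hnr⟩)
  rw [x_eq_xMat r hr, x_eq_xMat s hs, xMat_lr, xMat_lr] at h2
  have hnn : D.neg r ≠ r := by
    intro he
    rcases Nat.lt_or_ge r (D.nroots / 2) with hlt | hge
    · have hn := neg_of_lt_half D hD r hr hlt
      have := ((htri r hr).2 hn).2.1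
      rw [hA.nroots_eq, ← FD.neg_eq' hA r hr, he] at this
      omega
    · have := ((htri r hr).1 (hok.pos_of_le r hr hge)).2.1
      rw [hA.nroots_eq, ← FD.neg_eq' hA r hr, he] at this
      omega
  rw [if_pos, if_neg] at h2
  · exact h2
  · rintro ⟨h3, -⟩
    apply hne
    have h4 : D.neg r = D.neg s := h3
    have h5 := congrArg T.neg h4
    rw [FD.neg_eq' hA r hr, FD.neg_eq' hA s hs, hok.neg_neg r hr, hok.neg_neg s hs] at h5
    exact h5
  · refine ⟨rfl, ?_⟩
    intro he
    exact hnn (congrArg Fin.val he)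

/-- in characteristic two, root elements commute when the constants of the commutator formula
are even -/
theorem commute_of_even [CharP F 2] (D : ChevalleyDatum) (r s : ℕ) (hc : CommOK F D r s)
    (he : ∀ c ∈ D.commTerms r s, (2 : ℤ) ∣ c.2.1) (t u : F) :
    D.x F s u * D.x F r t = D.x F r t * D.x F s u := by
  have h := hc t u
  have hw : D.wordMat F (D.commWord F r s t u) = 1 := by
    unfold ChevalleyDatum.wordMat ChevalleyDatum.commWord
    rw [List.map_map]
    apply List.prod_eq_one
    intro y hy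
    rw [List.mem_map] at hy
    obtain ⟨c, hc', rfl⟩ := hy
    obtain ⟨k, hk⟩ := he c hc'
    have : ((c.2.1 : ℤ) : F) = 0 := by
      rw [hk]
      push_cast
      rw [CharTwo.two_eq_zero, zero_mul]
    simp only [Function.comp]
    rw [this, zero_mul, zero_mul]
    exact x_zero c.1
  rw [h, hw, Matrix.mul_one]

end

end Cfsg.Agent.Lib.Helper5.Chev
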