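import Cfsg.Agent.Lib.Helper5.Chev.PosAll
import Mathlib

/-!
# The Chevalley group is generated by the root elements of the fundamental roots and their
negatives (helper5)
-/

set_option autoImplicit false

namespace Cfsg.Agent.Lib.Helper5.Chev

open Cfsg.Lie
open scoped Matrix

variable {F : Type*} [Field F]

/-- a subgroup of the Chevalley group containing the root elements of the fundamental roots and of
their negatives is the whole group -/
theorem eq_top_of_simple (D : ChevalleyDatum)
    (hD : D ∈ [chevG2, chevB2, chevD4, chevF4, chevE6, chevE7, chevE8])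
    (K : Subgroup ↥(D.group F))
    (hx : ∀ i < D.rank, ∀ (t : F) (y : ↥(D.group F)),
      ((y : GL D.Idx F) : Matrix D.Idx D.Idx F) = D.x F (D.simple i) t → y ∈ K)
    (hx' : ∀ i < D.rank, ∀ (t : F) (y : ↥(D.group F)),
      ((y : GL D.Idx F) : Matrix D.Idx D.Idx F) = D.x F (D.neg (D.simple i)) t → y ∈ K) :
    K = ⊤ := by
  have hadd := allAdd_all (F := F) D hD
  have hmem : ∀ (r : ℕ) (t : F), (∀ y : ↥(D.group F),
      ((y : GL D.Idx F) : Matrix D.Idx D.Idx F) = D.x F r t → y ∈ K) →
      hadd.xU r t ∈ K.map (D.group F).subtype := by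
    intro r t h
    rw [Subgroup.mem_map]
    exact ⟨⟨hadd.xU r t, hadd.xU_mem_group r t⟩, h _ rfl, rfl⟩
  have hle : D.group F ≤ K.map (D.group F).subtype := by
    apply group_le_of D hD
    · intro j hj t
      exact hmem _ t (hx j hj t)
    · intro i hi hp hq
      have e : hadd.nU (D.simple i) hp hq
          = hadd.xU (D.simple i) 1 * (hadd.xU (D.neg (D.simple i)) (-1) * hadd.xU (D.simple i) 1) := by
        apply Units.ext
        rw [Units.val_mul, Units.val_mul]
        exact nMat_one (D.simple i)
      rw [e]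
      exact Subgroup.mul_mem _ (hmem _ _ (hx i hi 1))
        (Subgroup.mul_mem _ (hmem _ _ (hx' i hi (-1))) (hmem _ _ (hx i hi 1)))
  rw [eq_top_iff]
  intro y _
  have := hle y.2
  rw [Subgroup.mem_map] at this
  obtain ⟨y', hy', hyy⟩ := this
  have : y' = y := Subtype.ext hyy
  rw [← this]
  exact hy'

/-- two homomorphisms agreeing on the root elements of the fundamental roots and of their negatives
are equal -/
theorem hom_ext_simple {G : Type*} [Group G] (D : ChevalleyDatum)
    (hD : D ∈ [chevG2, chevB2, chevD4, chevF4, chevE6, chevE7, chevE8])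
    (φ ψ : ↥(D.group F) →* G)
    (hx : ∀ i < D.rank, ∀ (t : F) (y : ↥(D.group F)),
      ((y : GL D.Idx F) : Matrix D.Idx D.Idx F) = D.x F (D.simple i) t → φ y = ψ y)
    (hx' : ∀ i < D.rank, ∀ (t : F) (y : ↥(D.group F)),
      ((y : GL D.Idx F) : Matrix D.Idx D.Idx F) = D.x F (D.neg (D.simple i)) t → φ y = ψ y) :
    φ = ψ := by
  have h := eq_top_of_simple D hD (φ.eqLocus ψ) hx hx'
  ext y
  have : y ∈ φ.eqLocus ψ := by rw [h]; exact Subgroup.mem_top y
  exact this

end Cfsg.Agent.Lib.Helper5.Chev
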