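import Cfsg.Agent.Lib.Helper5.Chev.PosAll
import Cfsg.Agent.Lib.Helper5.Chev.DiagProd
import Cfsg.Agent.Lib.Helper5.Chev.TriAll
import Cfsg.Agent.Lib.Helper5.Chev.W0All
import Cfsg.Agent.Lib.Helper5.Chev.NormalAll
import Mathlib

/-!
# The normal core of `B` in the Chevalley group is trivial (helper5)
-/

set_option autoImplicit false
set_option maxRecDepth 100000

namespace Cfsg.Agent.Lib.Helper5.Chev

open Cfsg.Lie
open scoped Matrix

section

variable {F : Type*} [Field F] {T : FD} {D : ChevalleyDatum}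

/-- the parameter of a root element is determined by the matrix -/
def XInj (F : Type*) [Field F] (D : ChevalleyDatum) (s : ℕ) : Prop :=
  ∀ t : F, D.x F s t = 1 → t = 0

/-- a fundamental root element determines its parameter -/
theorem xInj_simple (i : ℕ) (hi : i < D.rank) (hp : D.simple i < D.nroots)
    (hq : D.neg (D.simple i) < D.nroots) (hne : D.neg (D.simple i) ≠ D.simple i)
    (hc : (D.coroot.getD (D.simple i) #[]).getD i 0 = 1) : XInj F D (D.simple i) := by
  intro t ht
  rw [x_eq_xMat _ hp] at ht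
  have h := congrFun (congrFun ht (Sum.inl ⟨i, hi⟩)) (Sum.inr ⟨D.neg (D.simple i), hq⟩)
  rw [Matrix.one_apply_ne (by simp)] at h
  unfold ChevalleyDatum.xMat at h
  simp only [Matrix.of_apply] at h
  rw [if_neg (by intro he; exact hne (Fin.mk.inj_iff.1 he)), if_pos (show D.neg (D.simple i) = D.negIdx.getD (D.simple i) 0 from rfl), hc] at h
  simpa using h

/-- transfer of the injectivity along a fundamental reflection -/
theorem ReflChecks.xInj_transfer {i B : ℕ} (hA : T.Agrees D) (hi : i < D.rank)
    (c : ReflChecks T D i B) (hp : Additive F D (D.simple i))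
    (hq : Additive F D (D.neg (D.simple i))) (s : ℕ) (hs : s < D.nroots)
    (h : XInj F D (wOf B s)) : XInj F D s := by
  intro t ht
  have hcert := c.cert hA
  have e := c.x_eq_conj (F := F) hA hi hp hq s hs t
  rw [ht] at e
  have e2 : D.x F (wOf B s) (((etaOf B (wOf B s) : ℤ) : F) * t) = 1 := by
    have := congrArg (fun M => nInv F D (D.simple i) * M * D.nMat F (D.simple i) 1) e
    simp only [Matrix.mul_one, nInv_mul_nMat hp hq] at this
    rw [this]
    simp only [Matrix.mul_assoc, nInv_mul_nMat hp hq, Matrix.mul_one]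
    rw [← Matrix.mul_assoc, nInv_mul_nMat hp hq, Matrix.one_mul]
  have h0 := h _ e2
  have hsq := hcert.eta_sq (F := F) _ (hcert.w_lt s hs)
  have : t = ((etaOf B (wOf B s) : ℤ) : F) * (((etaOf B (wOf B s) : ℤ) : F) * t) := by
    rw [← mul_assoc, hsq, one_mul]
  rw [this, h0, mul_zero]

end

theorem neg_simple_ne_all (D : ChevalleyDatum)
    (hD : D ∈ [chevG2, chevB2, chevD4, chevF4, chevE6, chevE7, chevE8]) :
    ∀ j < D.rank, D.neg (D.simple j) ≠ D.simple j := by
  simp only [List.mem_cons, List.not_mem_nil, or_false] at hD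
  rcases hD with rfl | rfl | rfl | rfl | rfl | rfl | rfl
  · decide +kernel
  · decide +kernel
  · decide +kernel
  · decide +kernel
  · decide +kernel
  · decide +kernel
  · decide +kernel

theorem pos_or_neg_all (D : ChevalleyDatum)
    (hD : D ∈ [chevG2, chevB2, chevD4, chevF4, chevE6, chevE7, chevE8]) :
    ∀ r < D.nroots, D.IsPosRoot r ∨ D.IsNegRoot r := by
  simp only [List.mem_cons, List.not_mem_nil, or_false] at hD
  rcases hD with rfl | rfl | rfl | rfl | rfl | rfl | rfl
  · decide +kernel
  · decide +kernel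
  · decide +kernel
  · decide +kernel
  · decide +kernel
  · decide +kernel
  · decide +kernel

section

variable {F : Type*} [Field F]

/-- every root element determines its parameter -/
theorem xInj_all (D : ChevalleyDatum)
    (hD : D ∈ [chevG2, chevB2, chevD4, chevF4, chevE6, chevE7, chevE8]) :
    ∀ s < D.nroots, XInj F D s := by
  obtain ⟨T, Bs, gH, baseH, fuel, hA, hB, hr, hbase⟩ := reach_known D hD
  have hadd := allAdd_all (F := F) D hD
  apply reach_all hA (XInj F D) Bs gH baseH fuel hr
  · intro s hs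
    obtain ⟨j, hj, rfl⟩ := hbase s hs
    obtain ⟨hp, hq⟩ := simple_lt_all D hD j hj
    apply xInj_simple j hj hp hq (neg_simple_ne_all D hD j hj)
    rw [coroot_simple_all D hD j hj j hj, if_pos rfl]
  · intro i hi s hs
    exact ((hB i hi).cert hA).w_lt s hs
  · intro i hi s hs h
    obtain ⟨hp, hq⟩ := simple_lt_all D hD i hi
    exact (hB i hi).xInj_transfer hA hi (hadd _ hp) (hadd _ hq) s hs h

/-- the action of an element of `H` on the root elements -/
theorem diag_conj_char (D : ChevalleyDatum)
    (hD : D ∈ [chevG2, chevB2, chevD4, chevF4, chevE6, chevE7, chevE8])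
    (g : GL D.Idx F) (hg : g ∈ D.diagonalSubgroup F) :
    ∃ χ : ℕ → Fˣ, (g : Matrix D.Idx D.Idx F) = D.charDiag F χ ∧
      ∀ s < D.nroots, ∀ u : F, g * (allAdd_all D hD).xU s u * g⁻¹
        = (allAdd_all D hD).xU s ((χ s : F) * u) := by
  obtain ⟨χ, hχ, h1, h2⟩ := exists_char_of_mem hD g hg
  refine ⟨χ, h1, fun s hs u => ?_⟩
  apply Units.ext
  rw [Units.val_mul, Units.val_mul, h1, h2]
  exact Cfsg.Agent.S2157.result D hD χ hχ s hs u

/-- an element of the Chevalley group all of whose conjugates lie in `B` is trivial -/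
theorem core_trivial (D : ChevalleyDatum)
    (hD : D ∈ [chevG2, chevB2, chevD4, chevF4, chevE6, chevE7, chevE8])
    (g : GL D.Idx F) (_hgG : g ∈ D.group F)
    (hg : ∀ y ∈ D.group F, y * g * y⁻¹ ∈ D.borelSubgroup F) : g = 1 := by
  have hadd := allAdd_all (F := F) D hD
  have hHB : D.diagonalSubgroup F ≤ D.borelSubgroup F := le_sup_right
  -- the core lies in `H`
  have stepA : ∀ g' : GL D.Idx F, (∀ y ∈ D.group F, y * g' * y⁻¹ ∈ D.borelSubgroup F) →
      g' ∈ D.diagonalSubgroup F := by
    intro g' hg'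
    obtain ⟨n0, hn0, hmap⟩ := longest_all (F := F) D hD
    have hn0G : n0 ∈ D.group F := hadd.monomial_le hn0
    have hNH : D.monomialSubgroup F ≤
        Subgroup.normalizer (D.diagonalSubgroup F : Set (GL D.Idx F)) :=
      (Subgroup.normal_subgroupOf_iff_le_normalizer le_sup_left).1 (diagonal_normal_all D hD)
    have h1 : g' ∈ D.borelSubgroup F := by
      have := hg' 1 (Subgroup.one_mem _)
      simpa using this
    have h2 := hg' n0⁻¹ (Subgroup.inv_mem _ hn0G)
    rw [inv_inv] at h2
    have h3 : g' ∈ D.negUnipotent F ⊔ D.diagonalSubgroup F := by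
      have e : g' = (MulAut.conj n0).toMonoidHom (n0⁻¹ * g' * n0) := by
        simp [MulAut.conj_apply, mul_assoc]
      have h4 : (MulAut.conj n0).toMonoidHom (n0⁻¹ * g' * n0) ∈
          (D.borelSubgroup F).map (MulAut.conj n0).toMonoidHom :=
        Subgroup.mem_map_of_mem _ h2
      rw [← e] at h4
      unfold ChevalleyDatum.borelSubgroup at h4
      rw [Subgroup.map_sup, hmap] at h4
      have hle : D.negUnipotent F ⊔ (D.diagonalSubgroup F).map (MulAut.conj n0).toMonoidHom ≤
          D.negUnipotent F ⊔ D.diagonalSubgroup F := by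
        apply sup_le_sup_left
        rintro x ⟨h, hh, rfl⟩
        have := (Subgroup.mem_normalizer_iff.1 (hNH hn0) h).1 hh
        simpa [MulAut.conj_apply] using this
      exact hle h4
    have := (borel_inf_neg_all (F := F) D hD).2
    rw [← this]
    exact ⟨h1, h3⟩
  have hgH := stepA g hg
  have hginvH : g⁻¹ ∈ D.diagonalSubgroup F := Subgroup.inv_mem _ hgH
  obtain ⟨χ, hχ1, hχ2⟩ := diag_conj_char D hD g⁻¹ hginvH
  -- the character is trivial
  have hchi : ∀ r < D.nroots, (χ r : F) = 1 := by
    intro r hr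
    have hyG : hadd.xU r 1 ∈ D.group F := hadd.xU_mem_group r 1
    have hconj : hadd.xU r 1 * g * (hadd.xU r 1)⁻¹ ∈
        D.diagonalSubgroup F := by
      apply stepA
      intro y hy
      have := hg (y * hadd.xU r 1) (Subgroup.mul_mem _ hy hyG)
      have e : y * hadd.xU r 1 * g * (y * hadd.xU r 1)⁻¹
          = y * (hadd.xU r 1 * g * (hadd.xU r 1)⁻¹) * y⁻¹ := by group
      rw [e] at this
      exact this
    have hz : g⁻¹ * (hadd.xU r 1 * g * (hadd.xU r 1)⁻¹) ∈
        D.diagonalSubgroup F := Subgroup.mul_mem _ hginvH hconj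
    have hinv : (hadd.xU r 1)⁻¹ = hadd.xU r (-1) := by
      rw [inv_eq_iff_mul_eq_one]
      apply Units.ext
      rw [Units.val_mul]
      exact hadd.x_mul_neg r 1
    have e : g⁻¹ * (hadd.xU r 1 * g * (hadd.xU r 1)⁻¹)
        = hadd.xU r ((χ r : F) * 1 + -1) := by
      have h5 := hχ2 r hr 1
      rw [inv_inv] at h5
      have e1 : g⁻¹ * (hadd.xU r 1 * g * (hadd.xU r 1)⁻¹)
          = (g⁻¹ * hadd.xU r 1 * g) * (hadd.xU r 1)⁻¹ := by group
      rw [e1, h5, hinv]
      apply Units.ext
      rw [Units.val_mul]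
      exact hadd.x_add r _ _
    rw [e] at hz
    have hone : hadd.xU r ((χ r : F) * 1 + -1) = 1 := by
      rcases pos_or_neg_all D hD r hr with hpos | hneg
      · have hU : hadd.xU r ((χ r : F) * 1 + -1) ∈ D.posUnipotent F :=
          Subgroup.subset_closure ⟨r, _, hpos, rfl⟩
        have := (borel_semidirect_all (F := F) D hD).2
        have hm : hadd.xU r ((χ r : F) * 1 + -1) ∈
            D.posUnipotent F ⊓ D.diagonalSubgroup F := ⟨hU, hz⟩
        rw [this] at hm
        exact Subgroup.mem_bot.1 hm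
      · have hV : hadd.xU r ((χ r : F) * 1 + -1) ∈ D.negUnipotent F :=
          Subgroup.subset_closure ⟨r, _, hneg, rfl⟩
        have := (borel_inf_neg_all (F := F) D hD).1
        have hm : hadd.xU r ((χ r : F) * 1 + -1) ∈
            D.borelSubgroup F ⊓ D.negUnipotent F := ⟨hHB hz, hV⟩
        rw [this] at hm
        exact Subgroup.mem_bot.1 hm
    have h0 := xInj_all (F := F) D hD r hr _ (congrArg Units.val hone)
    rw [mul_one] at h0
    exact eq_neg_iff_add_eq_zero.2 h0 |>.trans (neg_neg 1)
  have hone : g⁻¹ = 1 := by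
    apply Units.ext
    rw [hχ1]
    unfold ChevalleyDatum.charDiag
    rw [Units.val_one, ← Matrix.diagonal_one]
    congr 1
    funext v
    rcases v with v | v
    · rfl
    · exact hchi v.val v.2
  exact inv_eq_one.1 hone

end

end Cfsg.Agent.Lib.Helper5.Chev
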