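import Cfsg.Agent.Lib.Helper5.Chev.IrrChev
import Mathlib

set_option autoImplicit false
set_option maxRecDepth 100000

namespace Cfsg.Agent.Lib.Helper5.Chev.IrE6

open Cfsg.Lie Cfsg.Agent.Lib.Helper5.Chev

theorem irr : irrb DataE6.fd BsE6.Bs CxE6.mLL [0, 2, 3, 1, 4, 5] [0, 0, 1, 2, 2, 4] = true := by decide +kernel

end Cfsg.Agent.Lib.Helper5.Chev.IrE6
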