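import Cfsg.Agent.Lib.Helper5.Chev.IrrChev
import Mathlib

set_option autoImplicit false
set_option maxRecDepth 100000

namespace Cfsg.Agent.Lib.Helper5.Chev.IrE7

open Cfsg.Lie Cfsg.Agent.Lib.Helper5.Chev

theorem irr : irrb DataE7.fd BsE7.Bs CxE7.mLL [0, 2, 3, 1, 4, 5, 6] [0, 0, 1, 2, 2, 4, 5] = true := by decide +kernel

end Cfsg.Agent.Lib.Helper5.Chev.IrE7
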