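import Cfsg.Agent.Lib.Helper5.Chev.Perfect
import Mathlib

/-!
# The Chevalley groups are perfect: all types (helper5)
-/

set_option autoImplicit false
set_option maxRecDepth 100000

namespace Cfsg.Agent.Lib.Helper5.Chev

open Cfsg.Lie
open scoped Matrix

theorem evD4 : ∀ j < chevD4.rank, ∀ r, r = chevD4.simple j ∨ r = chevD4.neg (chevD4.simple j) →
    EvB DataD4.fd chevD4 r 1 := by
  intro j hj r hr
  have hj' : j < 4 := hj
  interval_cases j
  · rcases hr with rfl | rfl
    · exact ⟨6, 22, by decide, by decide, by decide, by decide +kernel, Or.inl (by decide +kernel)⟩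
    · exact ⟨1, 17, by decide, by decide, by decide, by decide +kernel, Or.inl (by decide +kernel)⟩
  · rcases hr with rfl | rfl
    · exact ⟨1, 23, by decide, by decide, by decide, by decide +kernel, Or.inr (by decide +kernel)⟩
    · exact ⟨0, 22, by decide, by decide, by decide, by decide +kernel, Or.inr (by decide +kernel)⟩
  · rcases hr with rfl | rfl
    · exact ⟨3, 22, by decide, by decide, by decide, by decide +kernel, Or.inr (by decide +kernel)⟩
    · exact ⟨1, 20, by decide, by decide, by decide, by decide +kernel, Or.inr (by decide +kernel)⟩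
  · rcases hr with rfl | rfl
    · exact ⟨2, 22, by decide, by decide, by decide, by decide +kernel, Or.inr (by decide +kernel)⟩
    · exact ⟨1, 21, by decide, by decide, by decide, by decide +kernel, Or.inr (by decide +kernel)⟩

theorem evF4 : ∀ j < chevF4.rank, ∀ r, r = chevF4.simple j ∨ r = chevF4.neg (chevF4.simple j) →
    EvB DataF4.fd chevF4 r 1 := by
  intro j hj r hr
  have hj' : j < 4 := hj
  interval_cases j
  · rcases hr with rfl | rfl
    · exact ⟨7, 44, by decide, by decide, by decide, by decide +kernel, Or.inr (by decide +kernel)⟩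
    · exact ⟨3, 40, by decide, by decide, by decide, by decide +kernel, Or.inr (by decide +kernel)⟩
  · rcases hr with rfl | rfl
    · exact ⟨8, 40, by decide, by decide, by decide, by decide +kernel, Or.inr (by decide +kernel)⟩
    · exact ⟨7, 39, by decide, by decide, by decide, by decide +kernel, Or.inr (by decide +kernel)⟩
  · rcases hr with rfl | rfl
    · exact ⟨2, 46, by decide, by decide, by decide, by decide +kernel, Or.inr (by decide +kernel)⟩
    · exact ⟨1, 45, by decide, by decide, by decide, by decide +kernel, Or.inr (by decide +kernel)⟩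
  · rcases hr with rfl | rfl
    · exact ⟨1, 47, by decide, by decide, by decide, by decide +kernel, Or.inr (by decide +kernel)⟩
    · exact ⟨0, 46, by decide, by decide, by decide, by decide +kernel, Or.inr (by decide +kernel)⟩

theorem evE6 : ∀ j < chevE6.rank, ∀ r, r = chevE6.simple j ∨ r = chevE6.neg (chevE6.simple j) →
    EvB DataE6.fd chevE6 r 1 := by
  intro j hj r hr
  have hj' : j < 6 := hj
  interval_cases j
  · rcases hr with rfl | rfl
    · exact ⟨16, 66, by decide, by decide, by decide, by decide +kernel, Or.inl (by decide +kernel)⟩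
    · exact ⟨5, 55, by decide, by decide, by decide, by decide +kernel, Or.inl (by decide +kernel)⟩
  · rcases hr with rfl | rfl
    · exact ⟨1, 71, by decide, by decide, by decide, by decide +kernel, Or.inr (by decide +kernel)⟩
    · exact ⟨0, 70, by decide, by decide, by decide, by decide +kernel, Or.inr (by decide +kernel)⟩
  · rcases hr with rfl | rfl
    · exact ⟨5, 69, by decide, by decide, by decide, by decide +kernel, Or.inr (by decide +kernel)⟩
    · exact ⟨2, 66, by decide, by decide, by decide, by decide +kernel, Or.inr (by decide +kernel)⟩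
  · rcases hr with rfl | rfl
    · exact ⟨2, 70, by decide, by decide, by decide, by decide +kernel, Or.inr (by decide +kernel)⟩
    · exact ⟨1, 69, by decide, by decide, by decide, by decide +kernel, Or.inr (by decide +kernel)⟩
  · rcases hr with rfl | rfl
    · exact ⟨3, 69, by decide, by decide, by decide, by decide +kernel, Or.inr (by decide +kernel)⟩
    · exact ⟨2, 68, by decide, by decide, by decide, by decide +kernel, Or.inr (by decide +kernel)⟩
  · rcases hr with rfl | rfl
    · exact ⟨4, 68, by decide, by decide, by decide, by decide +kernel, Or.inr (by decide +kernel)⟩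
    · exact ⟨3, 67, by decide, by decide, by decide, by decide +kernel, Or.inr (by decide +kernel)⟩

theorem evE7 : ∀ j < chevE7.rank, ∀ r, r = chevE7.simple j ∨ r = chevE7.neg (chevE7.simple j) →
    EvB DataE7.fd chevE7 r 1 := by
  intro j hj r hr
  have hj' : j < 7 := hj
  interval_cases j
  · rcases hr with rfl | rfl
    · exact ⟨1, 125, by decide, by decide, by decide, by decide +kernel, Or.inr (by decide +kernel)⟩
    · exact ⟨0, 124, by decide, by decide, by decide, by decide +kernel, Or.inr (by decide +kernel)⟩
  · rcases hr with rfl | rfl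
    · exact ⟨7, 122, by decide, by decide, by decide, by decide +kernel, Or.inr (by decide +kernel)⟩
    · exact ⟨3, 118, by decide, by decide, by decide, by decide +kernel, Or.inr (by decide +kernel)⟩
  · rcases hr with rfl | rfl
    · exact ⟨2, 124, by decide, by decide, by decide, by decide +kernel, Or.inr (by decide +kernel)⟩
    · exact ⟨1, 123, by decide, by decide, by decide, by decide +kernel, Or.inr (by decide +kernel)⟩
  · rcases hr with rfl | rfl
    · exact ⟨3, 123, by decide, by decide, by decide, by decide +kernel, Or.inr (by decide +kernel)⟩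
    · exact ⟨2, 122, by decide, by decide, by decide, by decide +kernel, Or.inr (by decide +kernel)⟩
  · rcases hr with rfl | rfl
    · exact ⟨4, 122, by decide, by decide, by decide, by decide +kernel, Or.inr (by decide +kernel)⟩
    · exact ⟨3, 121, by decide, by decide, by decide, by decide +kernel, Or.inr (by decide +kernel)⟩
  · rcases hr with rfl | rfl
    · exact ⟨5, 121, by decide, by decide, by decide, by decide +kernel, Or.inr (by decide +kernel)⟩
    · exact ⟨4, 120, by decide, by decide, by decide, by decide +kernel, Or.inr (by decide +kernel)⟩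
  · rcases hr with rfl | rfl
    · exact ⟨6, 120, by decide, by decide, by decide, by decide +kernel, Or.inr (by decide +kernel)⟩
    · exact ⟨5, 119, by decide, by decide, by decide, by decide +kernel, Or.inr (by decide +kernel)⟩

theorem evE8 : ∀ j < chevE8.rank, ∀ r, r = chevE8.simple j ∨ r = chevE8.neg (chevE8.simple j) →
    EvB DataE8.fd chevE8 r 1 := by
  intro j hj r hr
  have hj' : j < 8 := hj
  interval_cases j
  · rcases hr with rfl | rfl
    · exact ⟨14, 233, by decide, by decide, by decide, by decide +kernel, Or.inr (by decide +kernel)⟩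
    · exact ⟨6, 225, by decide, by decide, by decide, by decide +kernel, Or.inr (by decide +kernel)⟩
  · rcases hr with rfl | rfl
    · exact ⟨7, 234, by decide, by decide, by decide, by decide +kernel, Or.inr (by decide +kernel)⟩
    · exact ⟨5, 232, by decide, by decide, by decide, by decide +kernel, Or.inr (by decide +kernel)⟩
  · rcases hr with rfl | rfl
    · exact ⟨6, 234, by decide, by decide, by decide, by decide +kernel, Or.inr (by decide +kernel)⟩
    · exact ⟨5, 233, by decide, by decide, by decide, by decide +kernel, Or.inr (by decide +kernel)⟩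
  · rcases hr with rfl | rfl
    · exact ⟨5, 235, by decide, by decide, by decide, by decide +kernel, Or.inr (by decide +kernel)⟩
    · exact ⟨4, 234, by decide, by decide, by decide, by decide +kernel, Or.inr (by decide +kernel)⟩
  · rcases hr with rfl | rfl
    · exact ⟨4, 236, by decide, by decide, by decide, by decide +kernel, Or.inr (by decide +kernel)⟩
    · exact ⟨3, 235, by decide, by decide, by decide, by decide +kernel, Or.inr (by decide +kernel)⟩
  · rcases hr with rfl | rfl
    · exact ⟨3, 237, by decide, by decide, by decide, by decide +kernel, Or.inr (by decide +kernel)⟩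
    · exact ⟨2, 236, by decide, by decide, by decide, by decide +kernel, Or.inr (by decide +kernel)⟩
  · rcases hr with rfl | rfl
    · exact ⟨2, 238, by decide, by decide, by decide, by decide +kernel, Or.inr (by decide +kernel)⟩
    · exact ⟨1, 237, by decide, by decide, by decide, by decide +kernel, Or.inr (by decide +kernel)⟩
  · rcases hr with rfl | rfl
    · exact ⟨1, 239, by decide, by decide, by decide, by decide +kernel, Or.inr (by decide +kernel)⟩
    · exact ⟨0, 238, by decide, by decide, by decide, by decide +kernel, Or.inr (by decide +kernel)⟩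

theorem evG2 : ∀ j < chevG2.rank, ∀ r, r = chevG2.simple j ∨ r = chevG2.neg (chevG2.simple j) →
    EvB DataG2.fd chevG2 r 1 ∨ EvA chevG2 r 1 := by
  intro j hj r hr
  have hj' : j < 2 := hj
  interval_cases j
  · rcases hr with rfl | rfl
    · exact Or.inr ⟨1, by decide, Or.inr (by decide +kernel)⟩
    · exact Or.inr ⟨1, by decide, Or.inl (by decide +kernel)⟩
  · rcases hr with rfl | rfl
    · exact Or.inl ⟨1, 11, by decide, by decide, by decide, by decide +kernel, Or.inr (by decide +kernel)⟩
    · exact Or.inl ⟨0, 10, by decide, by decide, by decide, by decide +kernel, Or.inr (by decide +kernel)⟩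

theorem evB2 : ∀ j < chevB2.rank, ∀ r, r = chevB2.simple j ∨ r = chevB2.neg (chevB2.simple j) →
    EvA chevB2 r 1 ∨ (EvB DataB2.fd chevB2 r 2 ∧ EvA chevB2 r 2) := by
  intro j hj r hr
  have hj' : j < 2 := hj
  interval_cases j
  · rcases hr with rfl | rfl
    · exact Or.inl ⟨1, by decide, Or.inr (by decide +kernel)⟩
    · exact Or.inl ⟨1, by decide, Or.inl (by decide +kernel)⟩
  · rcases hr with rfl | rfl
    · exact Or.inr ⟨⟨2, 6, by decide, by decide, by decide, by decide +kernel, Or.inr (by decide +kernel)⟩, ⟨0, by decide, Or.inr (by decide +kernel)⟩⟩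
    · exact Or.inr ⟨⟨1, 5, by decide, by decide, by decide, by decide +kernel, Or.inr (by decide +kernel)⟩, ⟨0, by decide, Or.inl (by decide +kernel)⟩⟩

section

variable {F : Type*} [Field F]

theorem sq_ne_one_of_two_eq_zero (h2 : (2 : F) = 0) (lam : F) (h1 : lam ≠ 1) : lam ^ 2 ≠ 1 := by
  intro h
  have : (lam - 1) ^ 2 = 0 := by
    have e : (lam - 1) ^ 2 = lam ^ 2 - 2 * lam + 1 := by ring
    rw [e, h, h2]
    have : (1 : F) + 1 = 0 := by rw [one_add_one_eq_two]; exact h2
    linear_combination this
  exact h1 (sub_eq_zero.1 ((pow_eq_zero_iff (two_ne_zero)).1 this))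

/-- the Chevalley groups are perfect -/
theorem perfect_all (D : ChevalleyDatum)
    (hD : D ∈ [chevG2, chevB2, chevD4, chevF4, chevE6, chevE7, chevE8])
    (h2 : D = chevG2 ∨ D = chevB2 → ∃ a : F, a ≠ 0 ∧ a ≠ 1) :
    commutator ↥(D.group F) = ⊤ := by
  have hD' := hD
  simp only [List.mem_cons, List.not_mem_nil, or_false] at hD'
  rcases hD' with rfl | rfl | rfl | rfl | rfl | rfl | rfl
  · obtain ⟨lam, hl0, hl1⟩ := h2 (Or.inl rfl)
    apply perfect_of_isComm hD
    intro j hj r hr t
    have hrlt : r < chevG2.nroots := by
      rcases hr with rfl | rfl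
      · exact (simple_lt_all _ hD j hj).1
      · exact (simple_lt_all _ hD j hj).2
    rcases evG2 j hj r hr with h | h
    · exact isComm_of_evB hD DataG2.agrees r 1 (by simp) h t
    · exact isComm_of_evA hD r hrlt 1 h lam hl0 (by simpa using hl1) t
  · obtain ⟨lam, hl0, hl1⟩ := h2 (Or.inr rfl)
    apply perfect_of_isComm hD
    intro j hj r hr t
    have hrlt : r < chevB2.nroots := by
      rcases hr with rfl | rfl
      · exact (simple_lt_all _ hD j hj).1
      · exact (simple_lt_all _ hD j hj).2
    rcases evB2 j hj r hr with h | ⟨hb, ha⟩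
    · exact isComm_of_evA hD r hrlt 1 h lam hl0 (by simpa using hl1) t
    · by_cases h20 : (2 : F) = 0
      · exact isComm_of_evA hD r hrlt 2 ha lam hl0 (sq_ne_one_of_two_eq_zero h20 lam hl1) t
      · exact isComm_of_evB hD DataB2.agrees r 2 (by exact_mod_cast h20) hb t
  · exact perfect_of_isComm hD fun j hj r hr t =>
      isComm_of_evB hD DataD4.agrees r 1 (by simp) (evD4 j hj r hr) t
  · exact perfect_of_isComm hD fun j hj r hr t =>
      isComm_of_evB hD DataF4.agrees r 1 (by simp) (evF4 j hj r hr) t
  · exact perfect_of_isComm hD fun j hj r hr t =>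
      isComm_of_evB hD DataE6.agrees r 1 (by simp) (evE6 j hj r hr) t
  · exact perfect_of_isComm hD fun j hj r hr t =>
      isComm_of_evB hD DataE7.agrees r 1 (by simp) (evE7 j hj r hr) t
  · exact perfect_of_isComm hD fun j hj r hr t =>
      isComm_of_evB hD DataE8.agrees r 1 (by simp) (evE8 j hj r hr) t

end

end Cfsg.Agent.Lib.Helper5.Chev
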