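import Cfsg.Agent.Lib.Helper5.Chev.IrG2
import Cfsg.Agent.Lib.Helper5.Chev.IrB2
import Cfsg.Agent.Lib.Helper5.Chev.IrD4
import Cfsg.Agent.Lib.Helper5.Chev.IrF4
import Cfsg.Agent.Lib.Helper5.Chev.IrE6
import Cfsg.Agent.Lib.Helper5.Chev.IrE7
import Cfsg.Agent.Lib.Helper5.Chev.IrE8
import Cfsg.Agent.Lib.Helper5.Chev.PerfectAll
import Cfsg.Agent.S0319
import Mathlib

/-!
# Simplicity of the Chevalley groups (helper5)
-/

set_option autoImplicit false

namespace Cfsg.Agent.Lib.Helper5.Chev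

open Cfsg.Lie
open scoped Matrix

/-- the fast datum with the checks for the irreducibility -/
theorem irr_known (D : ChevalleyDatum)
    (hD : D ∈ [chevG2, chevB2, chevD4, chevF4, chevE6, chevE7, chevE8]) :
    ∃ (T : FD) (Bs : List ℕ) (mLL : List (List ℕ)) (ord par : List ℕ),
      T.Agrees D ∧ (∀ i < D.rank, ReflChecks T D i (Bs.getD i 0)) ∧
      coxb T Bs mLL = true ∧ irrb T Bs mLL ord par = true := by
  simp only [List.mem_cons, List.not_mem_nil, or_false] at hD
  rcases hD with rfl | rfl | rfl | rfl | rfl | rfl | rfl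
  · exact ⟨_, _, _, _, _, DataG2.agrees, HsG2.reflBs', CxG2.cox, IrG2.irr⟩
  · exact ⟨_, _, _, _, _, DataB2.agrees, HsB2.reflBs', CxB2.cox, IrB2.irr⟩
  · exact ⟨_, _, _, _, _, DataD4.agrees, HsD4.reflBs', CxD4.cox, IrD4.irr⟩
  · exact ⟨_, _, _, _, _, DataF4.agrees, HsF4.reflBs', CxF4.cox, IrF4.irr⟩
  · exact ⟨_, _, _, _, _, DataE6.agrees, HsE6.reflBs', CxE6.cox, IrE6.irr⟩
  · exact ⟨_, _, _, _, _, DataE7.agrees, HsE7.reflBs', CxE7.cox, IrE7.irr⟩
  · exact ⟨_, _, _, _, _, DataE8.agrees, HsE8.reflBs', CxE8.cox, IrE8.irr⟩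

theorem rank_pos_all (D : ChevalleyDatum)
    (hD : D ∈ [chevG2, chevB2, chevD4, chevF4, chevE6, chevE7, chevE8]) : 0 < D.rank := by
  simp only [List.mem_cons, List.not_mem_nil, or_false] at hD
  rcases hD with rfl | rfl | rfl | rfl | rfl | rfl | rfl <;> decide

section

variable {F : Type*} [Field F]

/-- the Chevalley group is not trivial -/
theorem exists_ne_one_all (D : ChevalleyDatum)
    (hD : D ∈ [chevG2, chevB2, chevD4, chevF4, chevE6, chevE7, chevE8]) :
    ∃ x : ↥(D.group F), x ≠ 1 := by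
  have hadd := allAdd_all (F := F) D hD
  have h0 := rank_pos_all D hD
  obtain ⟨hp, -⟩ := simple_lt_all D hD 0 h0
  refine ⟨⟨hadd.xU (D.simple 0) 1, hadd.xU_mem_group _ _⟩, ?_⟩
  intro h
  have h1 : hadd.xU (D.simple 0) (1 : F) = 1 := congrArg Subtype.val h
  have := xInj_all (F := F) D hD _ hp 1 (congrArg Units.val h1)
  exact one_ne_zero this

/-- the `(B, N)`-pair of a Chevalley group is irreducible -/
theorem irreducible_of (D : ChevalleyDatum)
    (hD : D ∈ [chevG2, chevB2, chevD4, chevF4, chevE6, chevE7, chevE8])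
    (P : Cfsg.BNPair ↥(D.group F))
    (hPB : P.B = (D.borelSubgroup F).subgroupOf (D.group F))
    (hPS : P.S = {n : ↥(D.group F) | ∃ i < D.rank,
      ((n : GL D.Idx F) : Matrix D.Idx D.Idx F) = D.nMat F (D.simple i) 1}) :
    P.Irreducible := by
  have hadd := allAdd_all (F := F) D hD
  obtain ⟨T, Bs, mLL, ord, par, hA, hB, hcox, hirr⟩ := irr_known D hD
  obtain ⟨h1, h2⟩ := cox_of_check T Bs mLL hcox
  have hI := irrOK_of_check T Bs mLL ord par hirr
  have hl : T.rank = D.rank := hA.rank_eq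
  have hn : T.nroots = D.nroots := hA.nroots_eq
  have hNG : D.monomialSubgroup F ≤ D.group F := hadd.monomial_le
  have hNH : D.monomialSubgroup F ≤ Subgroup.normalizer (D.diagonalSubgroup F : Set (GL D.Idx F)) :=
    (Subgroup.normal_subgroupOf_iff_le_normalizer le_sup_left).1 (diagonal_normal_all D hD)
  -- the generators
  let nt : ℕ → ↥(D.group F) := fun i => ⟨nUi hA hadd i, hNG (nUi_mem hA hadd i)⟩
  have hS : ∀ s ∈ P.S, ∃ i < D.rank, s = nt i := by
    intro s hs
    rw [hPS] at hs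
    obtain ⟨i, hi, hs⟩ := hs
    refine ⟨i, hi, ?_⟩
    apply Subtype.ext
    apply Units.ext
    rw [hs]
    exact (nUi_val hA hadd hi).symm
  have hntS : ∀ i < D.rank, nt i ∈ P.S := by
    intro i hi
    rw [hPS]
    exact ⟨i, hi, nUi_val hA hadd hi⟩
  intro J hJ hJne hJne'
  obtain ⟨s0, hs0⟩ := hJne
  obtain ⟨s1, hs1, hs1'⟩ := hJne'
  obtain ⟨i0, hi0, rfl⟩ := hS s0 (hJ hs0)
  obtain ⟨j0, hj0, rfl⟩ := hS s1 hs1
  obtain ⟨i, hi, j, hj, hAi, hAj, hm⟩ := hI.cross (fun i => nt i ∈ J)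
    ⟨i0, hl ▸ hi0, hs0⟩ ⟨j0, hl ▸ hj0, hs1'⟩
  have hij : i ≠ j := by
    rintro rfl
    exact hAj hAi
  have hm' : 3 ≤ mOfL mLL i j := by
    rcases hm with hm | hm
    · exact hm
    · rw [← (h2 i hi j hj hij).m_symm]; exact hm
  have hi' : i < D.rank := hl ▸ hi
  have hj' : j < D.rank := hl ▸ hj
  refine ⟨nt i, hAi, nt j, ⟨hntS j hj', hAj⟩, ?_⟩
  intro hmem
  rw [hPB, Subgroup.mem_subgroupOf] at hmem
  have hmem' : nUi hA hadd i * nUi hA hadd j * (nUi hA hadd i)⁻¹ * (nUi hA hadd j)⁻¹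
      ∈ D.borelSubgroup F := hmem
  obtain ⟨ki, hki, eki⟩ := nUi_inv hA hadd hi'
  obtain ⟨kj, hkj, ekj⟩ := nUi_inv hA hadd hj'
  have hjN : nUi hA hadd j ∈ Subgroup.normalizer (D.diagonalSubgroup F : Set (GL D.Idx F)) :=
    hNH (nUi_mem hA hadd j)
  have hk' := (conj_mem_of_normalizer _ _ _ hjN hki).2
  have e : nUi hA hadd i * nUi hA hadd j * (nUi hA hadd i)⁻¹ * (nUi hA hadd j)⁻¹
      = nWordU hA hadd [i, j, i, j] * ((nUi hA hadd j)⁻¹ * ki * nUi hA hadd j * kj) := by
    conv_lhs => rw [eki, ekj]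
    simp only [nWordU, List.map_cons, List.map_nil, List.prod_cons, List.prod_nil, mul_one]
    group
  rw [e] at hmem'
  have hL : ∀ x ∈ [i, j, i, j], x < D.rank := by
    intro x hx
    simp only [List.mem_cons, List.not_mem_nil, or_false] at hx
    rcases hx with rfl | rfl | rfl | rfl <;> assumption
  have hnd := no_desc_of_mem_borel D hD hA hadd Bs hB [i, j, i, j] hL _
    (Subgroup.mul_mem _ hk' hkj) hmem'
  obtain ⟨i', hi'', hlt⟩ := hI.desc i hi j hj hij hm'
  have := hnd i' (hl ▸ hi'')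
  rw [FD.simple_eq' hA i' (hl ▸ hi''), ← hn] at this
  omega

/-- the Chevalley groups are simple -/
theorem simple_all (D : ChevalleyDatum)
    (hD : D ∈ [chevG2, chevB2, chevD4, chevF4, chevE6, chevE7, chevE8])
    (h2 : D = chevG2 ∨ D = chevB2 → ∃ a : F, a ≠ 0 ∧ a ≠ 1) :
    IsSimpleGroup ↥(D.group F) ∧ ¬ IsMulCommutative ↥(D.group F) := by
  have hadd := allAdd_all (F := F) D hD
  obtain ⟨P, hPB, -, hPS⟩ := bnPair_all (F := F) D hD
  obtain ⟨x, hx⟩ := exists_ne_one_all (F := F) D hD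
  have : Nontrivial ↥(D.group F) := ⟨⟨x, 1, hx⟩⟩
  have hperf := perfect_all (F := F) D hD h2
  have hBG : D.borelSubgroup F ≤ D.group F := hadd.borel_le
  constructor
  · apply Cfsg.Agent.S0319.result P (irreducible_of D hD P hPB hPS) ?_ hperf ?_
    · rw [hPB]
      have := solvable_all (F := F) D hD
      exact Group.isSolvable_of_isSolvable_injective
        (f := (Subgroup.subgroupOfEquivOfLe hBG).toMonoidHom)
        (Subgroup.subgroupOfEquivOfLe hBG).injective
    · rw [hPB, eq_bot_iff]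
      intro y hy
      rw [Subgroup.mem_bot]
      have hy' : ∀ b : ↥(D.group F), b * y * b⁻¹ ∈ (D.borelSubgroup F).subgroupOf (D.group F) := hy
      apply Subtype.ext
      apply core_trivial D hD (y : GL D.Idx F) y.2
      intro z hz
      have := hy' ⟨z, hz⟩
      rw [Subgroup.mem_subgroupOf] at this
      simpa using this
  · intro hc
    have hbot : commutator ↥(D.group F) = ⊥ := by
      rw [commutator_def, Subgroup.commutator_eq_bot_iff_le_centralizer]
      intro a _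
      rw [Subgroup.mem_centralizer_iff]
      intro b _
      exact hc.is_comm.comm b a
    rw [hbot] at hperf
    have : x ∈ (⊤ : Subgroup ↥(D.group F)) := Subgroup.mem_top x
    rw [← hperf, Subgroup.mem_bot] at this
    exact hx this

end

end Cfsg.Agent.Lib.Helper5.Chev
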