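import Cfsg.Agent.Lib.Helper5.Chev.Bridge
import Mathlib

/-!
# Additivity of root elements by a sparse matrix check (helper5)
-/

set_option autoImplicit false

namespace Cfsg.Agent.Lib.Helper5.Chev

open Cfsg.Lie
open scoped Matrix

/-- the sparse polynomial matrix of `x_r(t + u)`, from the record of `r` -/
def xPaddR (l : ℕ) (R : RD) : SPM := fun j =>
  (xcolR l R j).flatMap fun q =>
    (List.range (Nat.succ q.2.2)).map fun a =>
      ⟨q.1, Int.mul q.2.1 (Int.ofNat (Nat.choose q.2.2 a)), a, Nat.sub q.2.2 a, 0⟩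

namespace FD

/-- the sparse polynomial matrix of `x_r(t + u)` -/
def xPadd (T : FD) (r : ℕ) : SPM := xPaddR T.rank (T.rdOf r)

variable {T : FD} {D : ChevalleyDatum}

theorem eval_xPadd {F : Type*} [Field F] (h : T.Agrees D) (r : ℕ) (hr : r < D.nroots)
    (t u v : F) : SPM.eval D (T.xPadd r) t u v = D.x F r (t + u) := by
  ext i j
  rw [ChevalleyDatum.x, dif_pos hr, xMat_eq h ⟨r, hr⟩]
  simp only [SPM.eval, Matrix.of_apply, xPadd, xPaddR]
  change SVec.eval (List.flatMap _ (T.xcol r (code D j))) t u v (code D i) = _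
  generalize T.xcol r (code D j) = L
  induction L with
  | nil => rfl
  | cons q L ih =>
    rw [List.flatMap_cons, SVec.eval_append, ih, List.map_cons, List.sum_cons]
    congr 1
    simp only [SVec.eval, List.map_map]
    by_cases hq : q.1 = code D i
    · rw [if_pos hq, add_pow, Finset.mul_sum, Finset.sum_range, ← List.sum_ofFn]
      have : List.ofFn (fun a : Fin (q.2.2 + 1) =>
          ((q.2.1 : ℤ) : F) * (t ^ (a : ℕ) * u ^ (q.2.2 - a) * ((q.2.2.choose a : ℕ) : F)))
          = (List.range (q.2.2 + 1)).map (fun a =>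
            ((q.2.1 : ℤ) : F) * (t ^ a * u ^ (q.2.2 - a) * ((q.2.2.choose a : ℕ) : F))) := by
        rw [List.ofFn_eq_map]
        conv_rhs => rw [← List.map_coe_finRange_eq_range, List.map_map]
        rfl
      rw [this]
      congr 1
      apply List.map_congr_left
      intro a _
      have e1 : Int.mul q.2.1 (Int.ofNat (Nat.choose q.2.2 a)) = q.2.1 * ((Nat.choose q.2.2 a : ℕ) : ℤ) :=
        rfl
      have e2 : Nat.sub q.2.2 a = q.2.2 - a := rfl
      simp only [Function.comp, hq, if_true, Ent.val, e1, e2]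
      push_cast
      ring
    · rw [if_neg hq]
      apply List.sum_eq_zero
      intro x hx
      rw [List.mem_map] at hx
      obtain ⟨a, _, rfl⟩ := hx
      simp only [Function.comp, hq, if_false]

theorem wf_xPadd (h : T.Agrees D) (r : ℕ) (hr : r < D.nroots) :
    SPM.WF (D.rank + D.nroots) (T.xPadd r) := by
  intro j hj e he
  simp only [xPadd, xPaddR, List.mem_flatMap, List.mem_map] at he
  obtain ⟨q, hq, a, _, rfl⟩ := he
  exact xcol_row_lt h r hr j hj q hq

/-- the additivity check on a list of roots -/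
def addCheck (T : FD) (rs : List ℕ) : Bool :=
  rs.all fun r => RD.force (T.rdOf r) fun R => forceNat T.rank fun l =>
    wordEqb (Nat.add l T.nroots) id [xPR l R 1 1 0 0, xPR l R 1 0 1 0] [xPaddR l R]

theorem x_add_of_check {F : Type*} [Field F] (h : T.Agrees D) (rs : List ℕ)
    (hc : addCheck T rs = true) (r : ℕ) (hr : r < D.nroots) (h1 : r ∈ rs)
    (t u : F) : D.x F r t * D.x F r u = D.x F r (t + u) := by
  unfold addCheck at hc
  rw [List.all_eq_true] at hc
  have hc1 := hc r h1
  rw [RD.force_eq, forceNat_eq] at hc1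
  have hN : Nat.add T.rank T.nroots = D.rank + D.nroots := by rw [h.rank_eq, h.nroots_eq]; rfl
  rw [hN] at hc1
  have e := wordEqb_sound D id t u (1 : F) (fun e => ⟨rfl, rfl⟩)
    [T.xP r 1 1 0 0, T.xP r 1 0 1 0] [T.xPadd r]
    (by
      intro C hC
      simp only [List.mem_cons, List.not_mem_nil, or_false] at hC
      rcases hC with rfl | rfl
      · exact wf_xP h r hr 1 1 0 0
      · exact wf_xP h r hr 1 0 1 0)
    (by
      intro C hC
      simp only [List.mem_cons, List.not_mem_nil, or_false] at hC
      subst hC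
      exact wf_xPadd h r hr) hc1
  simp only [List.map_cons, List.map_nil, List.prod_cons, List.prod_nil, mul_one] at e
  rw [eval_xP h r hr, eval_xP h r hr, eval_xPadd h r hr] at e
  simpa using e

end FD

end Cfsg.Agent.Lib.Helper5.Chev
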