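import Cfsg.Agent.S1060
import Mathlib

/-!
# `B₂(2) ≅ S₆` (helper5)

The Chevalley group of type `B₂` over the field with two elements permutes a set of six row
vectors; the root elements act as transpositions and triple transpositions, which generate the
symmetric group, and the orders agree.
-/

set_option autoImplicit false
set_option maxRecDepth 100000

namespace Cfsg.Agent.Lib.Helper5.Chev.B2S6

open Cfsg.Lie Cfsg.Agent.Lib.Helper5.Chev
open scoped Matrix

section map

variable {K L : Type*} [Field K] [Field L] {D : ChevalleyDatum}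

/-- the root elements have entries polynomial in the parameter with integer coefficients -/
theorem xMat_map' (φ : K →+* L) (r : Fin D.nroots) (t : K) :
    (D.xMat K r t).map φ = D.xMat L r (φ t) := by
  ext row col
  simp only [Matrix.map_apply, ChevalleyDatum.xMat, Matrix.of_apply]
  rcases col with i | s
  · rcases row with i' | u
    · simp only
      split_ifs <;> simp
    · simp only
      split_ifs <;> simp
  · simp only
    split_ifs
    · rcases row with i' | u
      · simp
      · simp only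
        split_ifs <;> simp
    · rcases row with i' | u
      · simp
      · simp only
        split_ifs <;> simp
    · rcases row with i' | u
      · simp
      · simp only [map_add, map_list_sum, List.map_map]
        congr 1
        · split_ifs <;> simp
        · congr 1
          apply List.map_congr_left
          intro km _
          simp

end map

/-! ### the permutation representation attached to a finite set of row vectors -/

section perm

variable {F : Type*} [Field F] {I : Type*} [Fintype I] [DecidableEq I] {n : ℕ}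
variable (Y : Fin n → I → F) (hY : Function.Injective Y) (G : Subgroup (GL I F))
variable (hG : ∀ g ∈ G, ∀ i, ∃ j, (Y i) ᵥ* (g : Matrix I I F) = Y j)

/-- the index of the image of a vector -/
noncomputable def im (g : ↥G) (i : Fin n) : Fin n := Classical.choose (hG g g.2 i)

theorem im_spec (g : ↥G) (i : Fin n) :
    (Y i) ᵥ* ((g : GL I F) : Matrix I I F) = Y (im Y G hG g i) :=
  Classical.choose_spec (hG g g.2 i)

include hY in
theorem im_mul (g h : ↥G) (i : Fin n) : im Y G hG (g * h) i = im Y G hG h (im Y G hG g i) := by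
  apply hY
  rw [← im_spec Y G hG (g * h) i, ← im_spec Y G hG h, ← im_spec Y G hG g, Subgroup.coe_mul,
    Units.val_mul, Matrix.vecMul_vecMul]

include hY in
theorem im_one (i : Fin n) : im Y G hG 1 i = i := by
  apply hY
  rw [← im_spec Y G hG 1 i, Subgroup.coe_one, Units.val_one, Matrix.vecMul_one]

/-- the permutation representation -/
noncomputable def psi : ↥G →* Equiv.Perm (Fin n) where
  toFun g :=
    { toFun := im Y G hG g⁻¹
      invFun := im Y G hG g
      left_inv := fun i => by rw [← im_mul Y hY, inv_mul_cancel, im_one Y hY]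
      right_inv := fun i => by rw [← im_mul Y hY, mul_inv_cancel, im_one Y hY] }
  map_one' := by
    ext i
    show ((im Y G hG (1 : ↥G)⁻¹ i : Fin n) : ℕ) = i
    rw [inv_one, im_one Y hY]
  map_mul' g h := by
    ext i
    show ((im Y G hG (g * h)⁻¹ i : Fin n) : ℕ) = im Y G hG g⁻¹ (im Y G hG h⁻¹ i)
    rw [mul_inv_rev, im_mul Y hY]

include hY in
/-- the value of the representation at an element acting like an involution `σ` -/
theorem psi_eq (g : ↥G) (σ : Equiv.Perm (Fin n)) (hσ : ∀ i, σ (σ i) = i)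
    (h : ∀ i, (Y i) ᵥ* ((g : GL I F) : Matrix I I F) = Y (σ i)) : psi Y hY G hG g = σ := by
  ext i
  show ((im Y G hG g⁻¹ i : Fin n) : ℕ) = σ i
  congr 1
  have h1 : im Y G hG g (σ i) = i := by
    apply hY
    rw [← im_spec Y G hG g (σ i), h, hσ]
  have h2 : im Y G hG g⁻¹ (im Y G hG g (σ i)) = σ i := by
    rw [← im_mul Y hY, mul_inv_cancel, im_one Y hY]
  rw [h1] at h2
  exact h2

/-- the property of stabilising the set of vectors passes to the generated subgroup -/
theorem stab_closure (S : Set (GL I F))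
    (hS : ∀ g ∈ S, ∀ i, ∃ j, (Y i) ᵥ* (g : Matrix I I F) = Y j) (hY : Function.Injective Y) :
    ∀ g ∈ Subgroup.closure S, ∀ i, ∃ j, (Y i) ᵥ* (g : Matrix I I F) = Y j := by
  intro g hg
  induction hg using Subgroup.closure_induction with
  | mem x hx => exact hS x hx
  | one =>
    intro i
    exact ⟨i, by rw [Units.val_one, Matrix.vecMul_one]⟩
  | mul x y _ _ hx hy =>
    intro i
    obtain ⟨j, hj⟩ := hx i
    obtain ⟨k, hk⟩ := hy j
    exact ⟨k, by rw [Units.val_mul, ← Matrix.vecMul_vecMul, hj, hk]⟩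
  | inv x _ hx =>
    choose f hf using hx
    have hinj : Function.Injective f := by
      intro i i' h
      apply hY
      have h1 : (Y i) ᵥ* (x : Matrix I I F) = (Y i') ᵥ* (x : Matrix I I F) := by
        rw [hf, hf, h]
      have h2 := congrArg (fun v => v ᵥ* ((x⁻¹ : GL I F) : Matrix I I F)) h1
      simp only [Matrix.vecMul_vecMul] at h2
      rw [← Units.val_mul, mul_inv_cancel, Units.val_one, Matrix.vecMul_one,
        Matrix.vecMul_one] at h2
      exact h2
    have hsurj := Finite.surjective_of_injective hinj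
    intro j
    obtain ⟨i, rfl⟩ := hsurj j
    refine ⟨i, ?_⟩
    rw [← hf, Matrix.vecMul_vecMul, ← Units.val_mul, mul_inv_cancel, Units.val_one,
      Matrix.vecMul_one]

end perm

/-! ### the six vectors -/

/-- the position of an index -/
def pos : chevB2.Idx → ℕ
  | Sum.inl a => a.val
  | Sum.inr s => 2 + s.val

/-- the coordinates of the six vectors -/
def Yl : List (List ℕ) :=
  [[0, 1, 0, 0, 0, 1, 1, 0, 0, 1], [0, 1, 0, 0, 0, 1, 1, 0, 0, 0], [0, 1, 1, 0, 0, 1, 1, 0, 0, 0],
   [0, 1, 1, 0, 0, 1, 0, 0, 0, 1], [0, 1, 1, 0, 0, 0, 0, 0, 0, 1], [0, 1, 1, 0, 0, 0, 1, 0, 0, 1]]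

/-- the six vectors -/
def Yv (R : Type*) [NatCast R] (i : Fin 6) : chevB2.Idx → R :=
  fun x => (((Yl.getD i.val []).getD (pos x) 0 : ℕ) : R)

theorem stab2 : ∀ (r : Fin chevB2.nroots) (t : ZMod 2) (i : Fin 6), ∃ j : Fin 6,
    (Yv (ZMod 2) i) ᵥ* (chevB2.xMat (ZMod 2) r t) = Yv (ZMod 2) j := by
  decide +kernel

theorem inj2 : Function.Injective (Yv (ZMod 2)) := by
  decide +kernel

/-- the permutations induced by five root elements -/
def sig : Fin 5 → Equiv.Perm (Fin 6) :=
  ![Equiv.swap 0 1, Equiv.swap 1 2, Equiv.swap 0 1 * Equiv.swap 2 3 * Equiv.swap 4 5,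
    Equiv.swap 3 4, Equiv.swap 4 5]

/-- the five roots -/
def rts : Fin 5 → Fin chevB2.nroots :=
  ![⟨0, by decide⟩, ⟨7, by decide⟩, ⟨1, by decide⟩, ⟨4, by decide⟩, ⟨3, by decide⟩]

theorem act2 : ∀ (k : Fin 5) (i : Fin 6),
    (Yv (ZMod 2) i) ᵥ* (chevB2.xMat (ZMod 2) (rts k) 1) = Yv (ZMod 2) (sig k i) := by
  decide +kernel

theorem sig_sq : ∀ (k : Fin 5) (i : Fin 6), sig k (sig k i) = i := by
  decide +kernel

theorem sig_prod : sig 2 * sig 0 * sig 4 = Equiv.swap 2 3 := by
  decide +kernel

section transfer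

variable {F : Type*} [Field F] (ι : ZMod 2 →+* F)

theorem Yv_map (i : Fin 6) : Yv F i = ι ∘ Yv (ZMod 2) i := by
  funext x
  show _ = ι _
  unfold Yv
  rw [map_natCast]

theorem vecMul_map (r : Fin chevB2.nroots) (t : ZMod 2) (i : Fin 6) :
    (Yv F i) ᵥ* (chevB2.xMat F r (ι t)) = ι ∘ ((Yv (ZMod 2) i) ᵥ* (chevB2.xMat (ZMod 2) r t)) := by
  funext x
  rw [Yv_map ι, ← xMat_map', ← RingHom.map_vecMul]
  rfl

theorem stabF (hι : Function.Surjective ι) (r : Fin chevB2.nroots) (t : F) (i : Fin 6) :
    ∃ j : Fin 6, (Yv F i) ᵥ* (chevB2.xMat F r t) = Yv F j := by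
  obtain ⟨t', rfl⟩ := hι t
  obtain ⟨j, hj⟩ := stab2 r t' i
  exact ⟨j, by rw [vecMul_map, hj, Yv_map ι]⟩

include ι in
theorem injF : Function.Injective (Yv F) := by
  intro i j h
  apply inj2
  rw [Yv_map ι, Yv_map ι] at h
  funext x
  exact ι.injective (congrFun h x)

include ι in
theorem actF (k : Fin 5) (i : Fin 6) :
    (Yv F i) ᵥ* (chevB2.xMat F (rts k) 1) = Yv F (sig k i) := by
  have := vecMul_map ι (rts k) 1 i
  rw [map_one] at this
  rw [this, act2, Yv_map ι]

end transfer

/-- `B₂(2) ≅ S₆` -/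
theorem b2_equiv_s6 {F : Type*} [Field F] [Fintype F] (hF : Fintype.card F = 2) :
    Nonempty (↥(chevB2.group F) ≃* Equiv.Perm (Fin 6)) := by
  classical
  have hD : chevB2 ∈ [chevG2, chevB2, chevD4, chevF4, chevE6, chevE7, chevE8] := by simp
  have hadd : AllAdd F chevB2 := allAdd_all chevB2 hD
  let e : ZMod 2 ≃+* F := ZMod.ringEquivOfPrime F Nat.prime_two hF
  let ι : ZMod 2 →+* F := e.toRingHom
  have hι : Function.Surjective ι := e.surjective
  have hY : Function.Injective (Yv F) := injF ι
  have hG : ∀ g ∈ chevB2.group F, ∀ i, ∃ j,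
      (Yv F i) ᵥ* (g : Matrix chevB2.Idx chevB2.Idx F) = Yv F j := by
    apply stab_closure (Yv F) _ _ hY
    rintro g ⟨r, t, hg⟩ i
    rw [hg]
    exact stabF ι hι r t i
  let ψ := psi (Yv F) hY (chevB2.group F) hG
  -- the images of five elements
  let gk : Fin 5 → ↥(chevB2.group F) := fun k =>
    ⟨hadd.xU (rts k).val 1, hadd.xU_mem_group _ _⟩
  have hgk : ∀ k, ψ (gk k) = sig k := by
    intro k
    apply psi_eq (Yv F) hY (chevB2.group F) hG (gk k) (sig k) (sig_sq k)
    intro i
    show (Yv F i) ᵥ* (chevB2.x F (rts k).val 1) = _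
    rw [x_eq_xMat (rts k).val (rts k).2]
    exact actF ι k i
  -- the adjacent transpositions lie in the range
  have hrange : ∀ i : Fin 5, Equiv.swap i.castSucc i.succ ∈ ψ.range := by
    intro i
    fin_cases i
    · exact ⟨gk 0, hgk 0⟩
    · exact ⟨gk 1, hgk 1⟩
    · refine ⟨gk 2 * gk 0 * gk 4, ?_⟩
      rw [map_mul, map_mul, hgk, hgk, hgk]
      exact sig_prod
    · exact ⟨gk 3, hgk 3⟩
    · exact ⟨gk 4, hgk 4⟩
  have htop : ψ.range = ⊤ := by
    rw [eq_top_iff, ← Subgroup.closure_eq_top_of_mclosure_eq_top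
      (Equiv.Perm.mclosure_swap_castSucc_succ 5), Subgroup.closure_le]
    rintro σ ⟨i, rfl⟩
    exact hrange i
  have hsurj : Function.Surjective ψ := MonoidHom.range_eq_top.1 htop
  -- the orders
  have hcard : Nat.card ↥(chevB2.group F) = Nat.card (Equiv.Perm (Fin 6)) := by
    have h1 := Cfsg.Agent.S1060.result hF
    have h2 : Nat.card (Equiv.Perm (Fin 6)) = 720 := by
      rw [Nat.card_eq_fintype_card, Fintype.card_perm, Fintype.card_fin]
      rfl
    have h3 : Nat.gcd 2 (2 - 1) = 1 := by decide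
    rw [h3, one_mul] at h1
    rw [h2, h1]
    norm_num
  have hbij : Function.Bijective ψ :=
    (Nat.bijective_iff_surjective_and_card ψ).2 ⟨hsurj, hcard⟩
  exact ⟨MulEquiv.ofBijective ψ hbij⟩

end Cfsg.Agent.Lib.Helper5.Chev.B2S6
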