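import Cfsg.Agent.Lib.Helper5.Chev.SPM
import Mathlib

/-!
# The root elements as sparse polynomial matrices (helper5)
-/

set_option autoImplicit false

namespace Cfsg.Agent.Lib.Helper5.Chev

open Cfsg.Lie
open scoped Matrix

namespace FD

variable (T : FD)

/-- optional entry of a row tree -/
def rowEnt (t : ℕ → List (ℕ × ℤ)) (s : ℕ) : Option (ℕ × List (ℕ × ℤ)) :=
  match t s with
  | [] => none
  | a :: v => some (s, a :: v)

theorem assocOf_eq (n : ℕ) (t : ℕ → List (ℕ × ℤ)) :
    assocOf n t = (List.range n).filterMap (rowEnt t) := rfl

theorem rowEnt_fst (t : ℕ → List (ℕ × ℤ)) (s : ℕ) (e : ℕ × List (ℕ × ℤ))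
    (h : rowEnt t s = some e) : e.1 = s ∧ e.2 = t s := by
  unfold rowEnt at h
  split at h
  · exact absurd h (by simp)
  · rename_i a v heq
    rw [Option.some.injEq] at h
    rw [← h, heq]
    exact ⟨rfl, rfl⟩

theorem assoc_filter (n : ℕ) (t : ℕ → List (ℕ × ℤ)) (s : ℕ) :
    (assocOf n t).filter (fun e => e.1 = s) = if s < n then (rowEnt t s).toList else [] := by
  rw [assocOf_eq]
  induction n with
  | zero => simp
  | succ n ih =>
    rw [List.range_succ, List.filterMap_append, List.filter_append, ih]
    rcases Nat.lt_trichotomy s n with h | h | h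
    · rw [if_pos h, if_pos (by omega)]
      have : ((List.filterMap (rowEnt t) [n]).filter fun e => decide (e.1 = s)) = [] := by
        rw [List.filter_eq_nil_iff]
        intro e he
        simp only [List.filterMap_cons, List.filterMap_nil] at he
        split at he
        · simp at he
        · rename_i e' heq
          simp only [List.mem_singleton] at he
          subst he
          have := (rowEnt_fst t n e heq).1
          simp only [decide_eq_true_eq]
          omega
      rw [this, List.append_nil]
    · subst h
      rw [if_neg (lt_irrefl _), if_pos (Nat.lt_succ_self _), List.nil_append]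
      simp only [List.filterMap_cons, List.filterMap_nil]
      split
      · rename_i heq; rw [heq]; rfl
      · rename_i e' heq
        rw [heq]
        have := (rowEnt_fst t s e' heq).1
        simp [this]
    · rw [if_neg (by omega), if_neg (by omega), List.nil_append]
      rw [List.filter_eq_nil_iff]
      intro e he
      simp only [List.filterMap_cons, List.filterMap_nil] at he
      split at he
      · simp at he
      · rename_i e' heq
        simp only [List.mem_singleton] at he
        subst he
        have := (rowEnt_fst t n e heq).1
        simp only [decide_eq_true_eq]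
        omega

/-- the coefficient list read off a chain entry -/
def coeffOf (L : List (ℕ × ℤ)) (u : ℕ) : List (ℕ × ℤ) :=
  ((L.zipIdx).filter (fun q => q.1.1 = u)).map fun q => (q.2 + 1, q.1.2)

variable {T} {D : ChevalleyDatum}

theorem chainCoeff_eq (h : T.Agrees D) (r s u : ℕ) (hr : r < D.nroots) (hs : s < D.nroots) :
    D.chainCoeff r s u = coeffOf (T.ch r s) u := by
  have h1 : D.chainCoeff r s u
      = ((rowL D r).filter (fun e => e.1 = s)).flatMap fun e => coeffOf e.2 u := by
    unfold ChevalleyDatum.chainCoeff rowL coeffOf
    rw [List.filter_map, List.flatMap_map]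
    rfl
  rw [h1, h.chain_eq r hr, assoc_filter, if_pos hs]
  cases hre : rowEnt (T.ch r) s with
  | none =>
    unfold rowEnt at hre
    split at hre
    · rename_i heq
      rw [heq]
      rfl
    · exact absurd hre (by simp)
  | some e =>
    obtain ⟨-, h2⟩ := rowEnt_fst _ _ _ hre
    simp [h2]

theorem chainEntry_eq (h : T.Agrees D) (r s : ℕ) (hr : r < D.nroots) (hs : s < D.nroots) :
    D.chainEntry r s = T.ch r s := by
  have h1 : D.chainEntry r s
      = ((((rowL D r).filter (fun e => e.1 = s)).head?).map fun e => e.2).getD [] := by
    unfold ChevalleyDatum.chainEntry rowL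
    rw [List.filter_map, List.head?_map, List.head?_filter]
    have hf : ((fun e : ℕ × List (ℕ × ℤ) => decide (e.1 = s)) ∘
        fun e : ℕ × Array (ℕ × ℤ) => (e.1, e.2.toList)) = fun e => decide (e.1 = s) := rfl
    rw [hf]
    cases (D.chain.getD r #[]).toList.find? (fun e => decide (e.1 = s)) <;> rfl
  rw [h1, h.chain_eq r hr, assoc_filter, if_pos hs]
  cases hre : rowEnt (T.ch r) s with
  | none =>
    unfold rowEnt at hre
    split at hre
    · rename_i heq
      rw [heq]
      rfl
    · exact absurd hre (by simp)
  | some e =>
    obtain ⟨-, h2⟩ := rowEnt_fst _ _ _ hre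
    simp [h2]

end FD

/-- kernel-friendly powers of integers -/
def zpow' (z : ℤ) : ℕ → ℤ
  | 0 => 1
  | k + 1 => Int.mul z (zpow' z k)

theorem zpow'_eq (z : ℤ) (k : ℕ) : zpow' z k = z ^ k := by
  induction k with
  | zero => rw [zpow', pow_zero]
  | succ k ih =>
    rw [zpow', ih, pow_succ']
    rfl

namespace FD

variable (T : FD)

/-- column `j` of `x_r(τ)` from the record of `r`: entries (row, coefficient, degree in `τ`) -/
def _root_.Cfsg.Agent.Lib.Helper5.Chev.xcolR (l : ℕ) (R : RD) (j : ℕ) : List (ℕ × ℤ × ℕ) :=
  cond (Nat.blt j l)
    [(j, 1, 0), (Nat.add l R.r, Int.neg (decodeCartan R.car j), 1)]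
    (cond (Nat.beq (Nat.sub j l) R.r) [(j, 1, 0)]
      (cond (Nat.beq (Nat.sub j l) R.negr)
        ((j, 1, 0) :: (Nat.add l R.r, Int.negSucc 0, 2) ::
          (R.cor.zipIdx.map fun q => (q.2, q.1, 1)))
        ((j, 1, 0) ::
          ((decodeRow R.row (Nat.sub j l)).zipIdx.map
            fun q => (Nat.add l q.1.1, q.1.2, Nat.succ q.2)))))

/-- column `j` of `x_r(τ)`: entries (row, coefficient, degree in `τ`) -/
def xcol (r j : ℕ) : List (ℕ × ℤ × ℕ) := xcolR T.rank (T.rdOf r) j

/-- the same, in terms of the accessors -/
def xcol' (r j : ℕ) : List (ℕ × ℤ × ℕ) :=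
  cond (Nat.blt j T.rank)
    [(j, 1, 0), (T.rank + r, Int.neg (T.cartan j r), 1)]
    (cond (Nat.beq (j - T.rank) r) [(j, 1, 0)]
      (cond (Nat.beq (j - T.rank) (T.neg r))
        ((j, 1, 0) :: (T.rank + r, Int.negSucc 0, 2) ::
          ((T.corootL r).zipIdx.map fun q => (q.2, q.1, 1)))
        ((j, 1, 0) ::
          ((T.ch r (j - T.rank)).zipIdx.map fun q => (T.rank + q.1.1, q.1.2, q.2 + 1)))))

theorem xcol_eq (r j : ℕ) (hr : (T.rdOf r).r = r) : T.xcol r j = T.xcol' r j := by
  unfold xcol xcol' xcolR cartan neg corootL ch
  rw [hr]
  rfl

theorem sum_map_filter {α : Type*} {M : Type*} [AddCommMonoid M] (p : α → Bool) (g : α → M)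
    (l : List α) : ((l.filter p).map g).sum = (l.map fun x => if p x then g x else 0).sum := by
  induction l with
  | nil => rfl
  | cons a l ih =>
    by_cases h : p a <;> simp [List.filter_cons, h, ih]

theorem sum_zipIdx_single {F : Type*} [Field F] (L : List ℤ) (i : ℕ) (hi : i < L.length) (τ : F) :
    ((L.zipIdx.map fun q => (q.2, q.1, 1)).map
      fun q : ℕ × ℤ × ℕ => if q.1 = i then ((q.2.1 : ℤ) : F) * τ ^ q.2.2 else 0).sum
      = ((L.getD i 0 : ℤ) : F) * τ := by
  rw [List.map_map]
  have : ∀ (k : ℕ) (L : List ℤ) (i : ℕ), i < L.length →
      ((L.zipIdx k).map ((fun q : ℕ × ℤ × ℕ => if q.1 = k + i then ((q.2.1 : ℤ) : F) * τ ^ q.2.2 else 0) ∘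
        fun q : ℤ × ℕ => (q.2, q.1, 1))).sum = ((L.getD i 0 : ℤ) : F) * τ := by
    intro k L
    induction L generalizing k with
    | nil => intro i hi; simp at hi
    | cons a L ih =>
      intro i hi
      rw [List.zipIdx_cons, List.map_cons, List.sum_cons]
      cases i with
      | zero =>
        have hz : ((L.zipIdx (k + 1)).map ((fun q : ℕ × ℤ × ℕ =>
            if q.1 = k + 0 then ((q.2.1 : ℤ) : F) * τ ^ q.2.2 else 0) ∘
            fun q : ℤ × ℕ => (q.2, q.1, 1))).sum = 0 := by
          apply List.sum_eq_zero
          intro x hx
          rw [List.mem_map] at hx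
          obtain ⟨q, hq, rfl⟩ := hx
          have := List.le_snd_of_mem_zipIdx hq
          simp only [Function.comp]
          rw [if_neg (by omega)]
        rw [hz]
        simp
      | succ i =>
        have := ih (k + 1) i (by simpa using hi)
        have e : k + 1 + i = k + (i + 1) := by omega
        rw [e] at this
        rw [this]
        simp only [Function.comp]
        rw [if_neg (by omega), zero_add]
        simp
  have := this 0 L i hi
  simpa using this

variable {T} {D : ChevalleyDatum}

/-- the bridge: entries of `xMat` read off `xcol` -/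
theorem xMat_eq {F : Type*} [Field F] (h : T.Agrees D) (r : Fin D.nroots) (τ : F) (a b : D.Idx) :
    D.xMat F r τ a b = ((T.xcol r.val (code D b)).map
      fun q => if q.1 = code D a then ((q.2.1 : ℤ) : F) * τ ^ q.2.2 else 0).sum := by
  rw [xcol_eq T r.val _ (h.rd_r r r.2)]
  have hrk := h.rank_eq
  generalize hca : code D a = ca
  rcases b with i | s
  · have hi : Nat.blt i.val T.rank = true := by rw [Nat.blt_eq, hrk]; exact i.2
    have hx : T.xcol' r.val (code D (Sum.inl i))
        = [(i.val, 1, 0), (T.rank + r.val, Int.neg (T.cartan i.val r.val), 1)] := by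
      simp only [code, Sum.elim_inl, xcol', hi, cond_true]
    rw [hx]
    simp only [List.map_cons, List.map_nil, List.sum_cons, List.sum_nil, add_zero,
      ChevalleyDatum.xMat, Matrix.of_apply]
    rcases a with i' | u
    · have hca' : ca = i'.val := by rw [← hca]; rfl
      subst hca'
      have h2 : ¬ (T.rank + r.val = i'.val) := by have := i'.2; omega
      simp only [code, Sum.elim_inl, h2, if_false, add_zero]
      by_cases hii : i' = i
      · subst hii; simp
      · have : ¬ (i.val = i'.val) := fun hh => hii (Fin.ext hh.symm)
        simp only [hii, this, if_false]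
    · have hca' : ca = D.rank + u.val := by rw [← hca]; rfl
      subst hca'
      have h2 : ¬ (i.val = D.rank + u.val) := by have := i.2; omega
      simp only [code, Sum.elim_inr, h2, if_false, zero_add, hrk]
      by_cases hur : u = r
      · subst hur
        simp only [if_true, h.cartan_eq i i.2 u u.2]
        show _ = ((-((D.cartanSR.getD i.val #[]).getD u.val 0) : ℤ) : F) * τ ^ 1
        push_cast
        ring
      · have : ¬ (D.rank + r.val = D.rank + u.val) := fun hh => hur (Fin.ext (by omega))
        simp only [hur, this, if_false]
  · have hi : Nat.blt (D.rank + s.val) T.rank = false := by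
      rw [← Bool.not_eq_true, Nat.blt_eq, hrk]; omega
    have hsub : D.rank + s.val - T.rank = s.val := by rw [hrk]; omega
    by_cases h1 : s = r
    · have hb : Nat.beq s.val r.val = true := by rw [FD.nbeq, h1]
      have hx : T.xcol' r.val (code D (Sum.inr s)) = [(D.rank + s.val, 1, 0)] := by
        simp only [code, Sum.elim_inr, xcol', hi, cond_false, hsub, hb, cond_true]
      rw [hx]
      simp only [List.map_cons, List.map_nil, List.sum_cons, List.sum_nil, add_zero,
        ChevalleyDatum.xMat, Matrix.of_apply, if_pos h1]
      rcases a with i' | u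
      · have hca' : ca = i'.val := by rw [← hca]; rfl
        subst hca'
        have : ¬ (D.rank + s.val = i'.val) := by have := i'.2; omega
        simp only [code, Sum.elim_inl, this, if_false]
      · have hca' : ca = D.rank + u.val := by rw [← hca]; rfl
        subst hca'
        simp only [code, Sum.elim_inr]
        by_cases hur : u = r
        · subst hur; subst h1; simp
        · have : ¬ (D.rank + s.val = D.rank + u.val) := fun hh => hur (by subst h1; exact Fin.ext (by omega))
          simp only [hur, this, if_false]
    · have h1' : Nat.beq s.val r.val = false := by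
        rw [← Bool.not_eq_true, FD.nbeq]; exact fun hh => h1 (Fin.ext hh)
      by_cases h2 : s.val = D.negIdx.getD r.val 0
      · have h2' : Nat.beq s.val (T.neg r.val) = true := by
          rw [FD.nbeq, h.neg_eq r r.2]; exact h2
        have hx : T.xcol' r.val (code D (Sum.inr s)) = (D.rank + s.val, 1, 0) ::
            (T.rank + r.val, Int.negSucc 0, 2) ::
              ((T.corootL r.val).zipIdx.map fun q => (q.2, q.1, 1)) := by
          simp only [code, Sum.elim_inr, xcol', hi, cond_false, hsub, h1', h2', cond_true]
        rw [hx]
        simp only [List.map_cons, List.sum_cons, ChevalleyDatum.xMat, Matrix.of_apply, if_neg h1,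
          if_pos h2]
        rcases a with i' | u
        · have hca' : ca = i'.val := by rw [← hca]; rfl
          subst hca'
          have e1 : ¬ (D.rank + s.val = i'.val) := by have := i'.2; omega
          have e2 : ¬ (T.rank + r.val = i'.val) := by have := i'.2; omega
          simp only [code, Sum.elim_inl, e1, e2, if_false, zero_add]
          rw [sum_zipIdx_single _ _ (by rw [h.coroot_len r r.2]; exact i'.2),
            h.coroot_eq r r.2 i' i'.2]
        · have hca' : ca = D.rank + u.val := by rw [← hca]; rfl
          subst hca'
          have hz : (((T.corootL r.val).zipIdx.map fun q => (q.2, q.1, 1)).map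
              fun q : ℕ × ℤ × ℕ => if q.1 = D.rank + u.val then ((q.2.1 : ℤ) : F) * τ ^ q.2.2 else 0).sum
              = 0 := by
            apply List.sum_eq_zero
            intro x hx
            rw [List.map_map, List.mem_map] at hx
            obtain ⟨q, hq, rfl⟩ := hx
            have := List.snd_lt_of_mem_zipIdx hq
            rw [h.coroot_len r r.2] at this
            have : ¬ (q.2 = D.rank + u.val) := by omega
            simp only [Function.comp, this, if_false]
          simp only [code, Sum.elim_inr, hz, add_zero, hrk]
          by_cases hus : u = s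
          · subst hus
            have : ¬ (D.rank + r.val = D.rank + u.val) := fun hh => h1 (Fin.ext (by omega))
            have h3 : ¬ (r.val = u.val) := fun hh => h1 (Fin.ext hh.symm)
            simp [this, h3]
          · have e1 : ¬ (D.rank + s.val = D.rank + u.val) := fun hh => hus (Fin.ext (by omega))
            simp only [hus, e1, if_false, zero_add]
            by_cases hur : u = r
            · subst hur
              simp
            · have e2 : ¬ (D.rank + r.val = D.rank + u.val) := fun hh => hur (Fin.ext (by omega))
              simp only [hur, e2, if_false]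
      · have h2' : Nat.beq s.val (T.neg r.val) = false := by
          rw [← Bool.not_eq_true, FD.nbeq, h.neg_eq r r.2]; exact h2
        have hx : T.xcol' r.val (code D (Sum.inr s)) = (D.rank + s.val, 1, 0) ::
            ((T.ch r.val s.val).zipIdx.map fun q => (T.rank + q.1.1, q.1.2, q.2 + 1)) := by
          simp only [code, Sum.elim_inr, xcol', hi, cond_false, hsub, h1', h2']
        rw [hx]
        simp only [List.map_cons, List.sum_cons, ChevalleyDatum.xMat, Matrix.of_apply, if_neg h1,
          if_neg h2]
        rcases a with i' | u
        · have hca' : ca = i'.val := by rw [← hca]; rfl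
          subst hca'
          have e1 : ¬ (D.rank + s.val = i'.val) := by have := i'.2; omega
          simp only [code, Sum.elim_inl, e1, if_false, zero_add]
          symm
          apply List.sum_eq_zero
          intro x hx
          rw [List.map_map, List.mem_map] at hx
          obtain ⟨q, hq, rfl⟩ := hx
          have : ¬ (T.rank + q.1.1 = i'.val) := by have := i'.2; omega
          simp only [Function.comp, this, if_false]
        · have hca' : ca = D.rank + u.val := by rw [← hca]; rfl
          subst hca'
          simp only [code, Sum.elim_inr]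
          rw [chainCoeff_eq h r.val s.val u.val r.2 s.2, hrk]
          congr 1
          · by_cases hus : u = s
            · subst hus; simp
            · have e1 : ¬ (D.rank + s.val = D.rank + u.val) := fun hh => hus (Fin.ext (by omega))
              simp only [hus, e1, if_false]
          · unfold coeffOf
            rw [List.map_map, List.map_map, sum_map_filter]
            congr 1
            apply List.map_congr_left
            intro q _
            simp only [Function.comp, decide_eq_true_eq]
            by_cases hq : q.1.1 = u.val
            · have : D.rank + q.1.1 = D.rank + u.val := by omega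
              simp only [hq, this, if_true]
            · have : ¬ (D.rank + q.1.1 = D.rank + u.val) := by omega
              simp only [hq, this, if_false]

/-- the sparse polynomial matrix of `x_r(z t^a u^b v^d)`, from the record of `r` -/
def _root_.Cfsg.Agent.Lib.Helper5.Chev.xPR (l : ℕ) (R : RD) (z : ℤ) (a b d : ℕ) : SPM := fun j =>
  (xcolR l R j).map fun q =>
    ⟨q.1, Int.mul q.2.1 (zpow' z q.2.2), Nat.mul a q.2.2, Nat.mul b q.2.2, Nat.mul d q.2.2⟩

/-- the sparse polynomial matrix of `x_r(z t^a u^b v^d)` -/
def xP (T : FD) (r : ℕ) (z : ℤ) (a b d : ℕ) : SPM := xPR T.rank (T.rdOf r) z a b d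

theorem eval_xP {F : Type*} [Field F] (h : T.Agrees D) (r : ℕ) (hr : r < D.nroots) (z : ℤ)
    (a b d : ℕ) (t u v : F) :
    SPM.eval D (T.xP r z a b d) t u v = D.x F r ((z : F) * t ^ a * u ^ b * v ^ d) := by
  ext i j
  rw [ChevalleyDatum.x, dif_pos hr, xMat_eq h ⟨r, hr⟩]
  simp only [SPM.eval, Matrix.of_apply, SVec.eval, xP, xPR, List.map_map]
  change _ = (List.map _ (xcolR T.rank (T.rdOf r) (code D j))).sum
  congr 1
  apply List.map_congr_left
  intro q _
  simp only [Function.comp, Ent.val]
  split_ifs
  · rw [zpow'_eq]
    have e1 : Int.mul q.2.1 (z ^ q.2.2) = q.2.1 * z ^ q.2.2 := rfl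
    have e2 : ∀ x y : ℕ, Nat.mul x y = x * y := fun _ _ => rfl
    rw [e1, e2, e2, e2]
    push_cast
    rw [pow_mul, pow_mul, pow_mul]
    ring
  · rfl

theorem xcol_row_lt (h : T.Agrees D) (r : ℕ) (hr : r < D.nroots) (j : ℕ)
    (hj : j < D.rank + D.nroots) : ∀ q ∈ T.xcol r j, q.1 < D.rank + D.nroots := by
  have hrk := h.rank_eq
  intro q hq
  rw [xcol_eq T r j (h.rd_r r hr)] at hq
  unfold xcol' at hq
  by_cases h0 : Nat.blt j T.rank = true
  · rw [h0, cond_true] at hq
    simp only [List.mem_cons, List.not_mem_nil, or_false] at hq
    rcases hq with rfl | rfl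
    · exact hj
    · simp only; omega
  · rw [Bool.not_eq_true] at h0
    rw [h0, cond_false] at hq
    have hjr : ¬ j < T.rank := by rw [← Nat.blt_eq, h0]; simp
    by_cases h1 : Nat.beq (j - T.rank) r = true
    · rw [h1, cond_true] at hq
      simp only [List.mem_cons, List.not_mem_nil, or_false] at hq
      subst hq; exact hj
    · rw [Bool.not_eq_true] at h1
      rw [h1, cond_false] at hq
      by_cases h2 : Nat.beq (j - T.rank) (T.neg r) = true
      · rw [h2, cond_true] at hq
        simp only [List.mem_cons, List.mem_map] at hq
        rcases hq with rfl | rfl | ⟨q', hq', rfl⟩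
        · exact hj
        · simp only; omega
        · have := List.snd_lt_of_mem_zipIdx hq'
          rw [h.coroot_len r hr] at this
          simp only; omega
      · rw [Bool.not_eq_true] at h2
        rw [h2, cond_false] at hq
        simp only [List.mem_cons, List.mem_map] at hq
        rcases hq with rfl | ⟨q', hq', rfl⟩
        · exact hj
        · have hmem : q'.1 ∈ T.ch r (j - T.rank) := by
            have := List.mem_zipIdx_iff_getElem?.1 hq'
            exact List.mem_of_getElem? this
          have := h.chain_lt r hr (j - T.rank) (by omega) q'.1 hmem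
          simp only; omega

theorem wf_xP (h : T.Agrees D) (r : ℕ) (hr : r < D.nroots) (z : ℤ) (a b d : ℕ) :
    SPM.WF (D.rank + D.nroots) (T.xP r z a b d) := by
  intro j hj e he
  simp only [xP, xPR, List.mem_map] at he
  obtain ⟨q, hq, rfl⟩ := he
  exact xcol_row_lt h r hr j hj q hq

end FD

end Cfsg.Agent.Lib.Helper5.Chev
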