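import Cfsg.Agent.Lib.Helper5.Chev.Bruhat
import Mathlib

/-!
# The sharp canonical form `g = u n u'` and the fusion of `H` (helper5)
-/

set_option autoImplicit false

namespace Cfsg.Agent.Lib.Helper5.Chev

open Cfsg.Lie
open scoped Matrix

section

variable {F : Type*} [Field F] {D : ChevalleyDatum}

theorem map_root_le_iff (hadd : AllAdd F D) (r : ℕ) (m : GL D.Idx F)
    (K : Subgroup (GL D.Idx F)) :
    (D.rootSubgroup F r).map (MulAut.conj m).toMonoidHom ≤ K ↔
      ∀ t : F, m * hadd.xU r t * m⁻¹ ∈ K := by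
  rw [Subgroup.map_le_iff_le_comap]
  unfold ChevalleyDatum.rootSubgroup
  rw [Subgroup.closure_le]
  constructor
  · intro h t
    exact h ⟨t, rfl⟩
  · rintro h g ⟨t, hg⟩
    have hg' : g = hadd.xU r t := Units.ext hg
    subst hg'
    exact h t

theorem unegSet_mul_diag (hD : D ∈ [chevG2, chevB2, chevD4, chevF4, chevE6, chevE7, chevE8])
    (n k : GL D.Idx F) (hk : k ∈ D.diagonalSubgroup F) :
    unegSet F D n ⊆ unegSet F D (n * k) := by
  have hadd := allAdd_all (F := F) D hD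
  rintro x ⟨r, t, hr, hmap, hx⟩
  refine ⟨r, t, hr, ?_, hx⟩
  rw [map_root_le_iff hadd] at hmap ⊢
  intro t'
  obtain ⟨t'', e⟩ := conj_diag_x hD hadd k hk r hr.1 t'
  have : n * k * hadd.xU r t' * (n * k)⁻¹ = n * (k * hadd.xU r t' * k⁻¹) * n⁻¹ := by group
  rw [this, e]
  exact hmap t''

theorem unegSet_diag_mul (hD : D ∈ [chevG2, chevB2, chevD4, chevF4, chevE6, chevE7, chevE8])
    (n k : GL D.Idx F) (hk : k ∈ D.diagonalSubgroup F) :
    unegSet F D n ⊆ unegSet F D (k * n) := by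
  have hadd := allAdd_all (F := F) D hD
  have hHV : D.diagonalSubgroup F ≤ Subgroup.normalizer (D.negUnipotent F : Set (GL D.Idx F)) :=
    diagonal_le_normalizer hD D.IsNegRoot (fun r hr => hr.1)
  rintro x ⟨r, t, hr, hmap, hx⟩
  refine ⟨r, t, hr, ?_, hx⟩
  rw [map_root_le_iff hadd] at hmap ⊢
  intro t'
  have : k * n * hadd.xU r t' * (k * n)⁻¹ = k * (n * hadd.xU r t' * n⁻¹) * k⁻¹ := by group
  rw [this]
  exact (Subgroup.mem_normalizer_iff.1 (hHV hk) _).1 (hmap t')

theorem uneg_conj_diag (hD : D ∈ [chevG2, chevB2, chevD4, chevF4, chevE6, chevE7, chevE8])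
    (n k : GL D.Idx F) (hk : k ∈ D.diagonalSubgroup F) (u : GL D.Idx F)
    (hu : u ∈ Subgroup.closure (unegSet F D n)) :
    k * u * k⁻¹ ∈ Subgroup.closure (unegSet F D n) := by
  have hadd := allAdd_all (F := F) D hD
  have hle : Subgroup.closure (unegSet F D n) ≤
      (Subgroup.closure (unegSet F D n)).comap (MulAut.conj k).toMonoidHom := by
    rw [Subgroup.closure_le]
    rintro x ⟨r, t, hr, hmap, hx⟩
    have hx' : x = hadd.xU r t := Units.ext hx
    subst hx'
    obtain ⟨t', e⟩ := conj_diag_x hD hadd k hk r hr.1 t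
    rw [SetLike.mem_coe, Subgroup.mem_comap]
    show k * hadd.xU r t * k⁻¹ ∈ _
    rw [e]
    exact Subgroup.subset_closure ⟨r, t', hr, hmap, rfl⟩
  exact hle hu

end

section

variable {F : Type*} [Field F]

/-- in the canonical form `g = u₁ n u` with `u₁ ∈ U`, the element `n` is determined by `g` -/
theorem bruhat_sharp_unique (D : ChevalleyDatum)
    (hD : D ∈ [chevG2, chevB2, chevD4, chevF4, chevE6, chevE7, chevE8])
    (u1 u1' n n' u u' : GL D.Idx F) (hu1 : u1 ∈ D.posUnipotent F) (hu1' : u1' ∈ D.posUnipotent F)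
    (hn : n ∈ D.monomialSubgroup F) (hn' : n' ∈ D.monomialSubgroup F)
    (hu : u ∈ Subgroup.closure (unegSet F D n)) (hu' : u' ∈ Subgroup.closure (unegSet F D n'))
    (e : u1 * n * u = u1' * n' * u') : n = n' := by
  have hUB : D.posUnipotent F ≤ D.borelSubgroup F := le_sup_left
  have hHB : D.diagonalSubgroup F ≤ D.borelSubgroup F := le_sup_right
  have hNH : D.monomialSubgroup F ≤ Subgroup.normalizer (D.diagonalSubgroup F : Set (GL D.Idx F)) :=
    (Subgroup.normal_subgroupOf_iff_le_normalizer le_sup_left).1 (diagonal_normal_all D hD)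
  have h1 := (bruhat_unique_all D hD u1 u1' n n' u u' (hUB hu1) (hUB hu1') hn hn' hu hu' e).1
  have hk : n' * n⁻¹ ∈ D.diagonalSubgroup F := by
    have := (conj_mem_of_normalizer _ _ _ (hNH hn) h1).1
    have e2 : n * (n⁻¹ * n') * n⁻¹ = n' * n⁻¹ := by group
    rwa [e2] at this
  have hu'' : u' ∈ Subgroup.closure (unegSet F D n) := by
    have hsub := unegSet_diag_mul hD n' (n' * n⁻¹)⁻¹ (Subgroup.inv_mem _ hk)
    have e3 : (n' * n⁻¹)⁻¹ * n' = n := by group
    rw [e3] at hsub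
    exact Subgroup.closure_mono hsub hu'
  have e4 : u1 * n * u = u1' * (n' * n⁻¹) * n * u' := by
    rw [e]
    group
  have h2 := (bruhat_unique_all D hD u1 (u1' * (n' * n⁻¹)) n n u u' (hUB hu1)
    (Subgroup.mul_mem _ (hUB hu1') (hHB hk)) hn hn hu hu'' e4).2 rfl
  have hbot : n' * n⁻¹ ∈ D.posUnipotent F ⊓ D.diagonalSubgroup F := by
    refine ⟨?_, hk⟩
    have e5 : n' * n⁻¹ = u1'⁻¹ * u1 := by
      rw [h2.1]
      group
    rw [e5]
    exact Subgroup.mul_mem _ (Subgroup.inv_mem _ hu1') hu1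
  rw [(borel_semidirect_all (F := F) D hD).2, Subgroup.mem_bot] at hbot
  exact (mul_inv_eq_one.1 hbot).symm

/-- two elements of `H` conjugate in the group are conjugate by an element of `N` -/
theorem diagonal_fusion_all (D : ChevalleyDatum)
    (hD : D ∈ [chevG2, chevB2, chevD4, chevF4, chevE6, chevE7, chevE8])
    (h₁ h₂ g : GL D.Idx F) (h1 : h₁ ∈ D.diagonalSubgroup F) (h2 : h₂ ∈ D.diagonalSubgroup F)
    (hg : g ∈ D.group F) (hc : g * h₁ * g⁻¹ = h₂) :
    ∃ n ∈ D.monomialSubgroup F, n * h₁ * n⁻¹ = h₂ := by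
  have hHU := (borel_semidirect_all (F := F) D hD).1
  have hHN : D.diagonalSubgroup F ≤ D.monomialSubgroup F := le_sup_left
  obtain ⟨b, hb, n, hn, u, hu, e⟩ := bruhat_exists_all D hD g hg
  unfold ChevalleyDatum.borelSubgroup at hb
  rw [← SetLike.mem_coe, Subgroup.coe_mul_of_right_le_normalizer_left _ _ hHU,
    Set.mem_mul] at hb
  obtain ⟨u1, hu1, k, hk, rfl⟩ := hb
  have hkn : k * n ∈ D.monomialSubgroup F := Subgroup.mul_mem _ (hHN hk) hn
  have hu0 : u ∈ Subgroup.closure (unegSet F D (k * n)) :=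
    Subgroup.closure_mono (unegSet_diag_mul hD n k hk) hu
  have eg : g = u1 * (k * n) * u := by rw [e]; group
  refine ⟨k * n, hkn, ?_⟩
  have hA : h₁⁻¹ * u * h₁ ∈ Subgroup.closure (unegSet F D (k * n * h₁)) := by
    apply Subgroup.closure_mono (unegSet_mul_diag hD (k * n) h₁ h1)
    have := uneg_conj_diag hD (k * n) h₁⁻¹ (Subgroup.inv_mem _ h1) u hu0
    rwa [inv_inv] at this
  have hB : u ∈ Subgroup.closure (unegSet F D (h₂ * (k * n))) :=
    Subgroup.closure_mono (unegSet_diag_mul hD (k * n) h₂ h2) hu0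
  have hC : h₂ * u1 * h₂⁻¹ ∈ D.posUnipotent F :=
    (Subgroup.mem_normalizer_iff.1 (hHU h2) u1).1 hu1
  have hgh : g * h₁ = h₂ * g := by
    rw [← hc]
    group
  have key : u1 * (k * n * h₁) * (h₁⁻¹ * u * h₁) = h₂ * u1 * h₂⁻¹ * (h₂ * (k * n)) * u := by
    calc u1 * (k * n * h₁) * (h₁⁻¹ * u * h₁) = u1 * (k * n) * u * h₁ := by group
      _ = h₂ * (u1 * (k * n) * u) := by rw [← eg, hgh]
      _ = _ := by group
  have := bruhat_sharp_unique D hD u1 (h₂ * u1 * h₂⁻¹) (k * n * h₁) (h₂ * (k * n))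
    (h₁⁻¹ * u * h₁) u hu1 hC (Subgroup.mul_mem _ hkn (hHN h1))
    (Subgroup.mul_mem _ (hHN h2) hkn) hA hB key
  rw [this]
  group

end

end Cfsg.Agent.Lib.Helper5.Chev
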