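import Cfsg.Agent.Lib.Helper5.Chev.NoThree
import Cfsg.Agent.Lib.Helper5.Chev.DataG2
import Mathlib

/-!
# The commutator formula: type G2, by direct checks (helper5)
-/

set_option autoImplicit false
set_option maxRecDepth 100000

namespace Cfsg.Agent.Lib.Helper5.Chev.CmG2

open Cfsg.Lie Cfsg.Agent.Lib.Helper5.Chev

theorem cr0 : commRowb DataG2.fd 0 = true := by decide +kernel
theorem cr1 : commRowb DataG2.fd 1 = true := by decide +kernel
theorem cr2 : commRowb DataG2.fd 2 = true := by decide +kernel
theorem cr3 : commRowb DataG2.fd 3 = true := by decide +kernel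
theorem cr4 : commRowb DataG2.fd 4 = true := by decide +kernel
theorem cr5 : commRowb DataG2.fd 5 = true := by decide +kernel
theorem cr6 : commRowb DataG2.fd 6 = true := by decide +kernel
theorem cr7 : commRowb DataG2.fd 7 = true := by decide +kernel
theorem cr8 : commRowb DataG2.fd 8 = true := by decide +kernel
theorem cr9 : commRowb DataG2.fd 9 = true := by decide +kernel
theorem cr10 : commRowb DataG2.fd 10 = true := by decide +kernel
theorem cr11 : commRowb DataG2.fd 11 = true := by decide +kernel

/-- the commutator formula for all pairs of roots -/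
theorem comm_all {F : Type*} [Field F] :
    ∀ r < chevG2.nroots, ∀ s < chevG2.nroots, CommOK' F chevG2 r s := by
  intro r hr
  have hr' : r < 12 := hr
  interval_cases r
  · exact comm_row_of_check DataG2.agrees 0 (by decide) cr0
  · exact comm_row_of_check DataG2.agrees 1 (by decide) cr1
  · exact comm_row_of_check DataG2.agrees 2 (by decide) cr2
  · exact comm_row_of_check DataG2.agrees 3 (by decide) cr3
  · exact comm_row_of_check DataG2.agrees 4 (by decide) cr4
  · exact comm_row_of_check DataG2.agrees 5 (by decide) cr5
  · exact comm_row_of_check DataG2.agrees 6 (by decide) cr6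
  · exact comm_row_of_check DataG2.agrees 7 (by decide) cr7
  · exact comm_row_of_check DataG2.agrees 8 (by decide) cr8
  · exact comm_row_of_check DataG2.agrees 9 (by decide) cr9
  · exact comm_row_of_check DataG2.agrees 10 (by decide) cr10
  · exact comm_row_of_check DataG2.agrees 11 (by decide) cr11

end Cfsg.Agent.Lib.Helper5.Chev.CmG2
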