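import Cfsg.Agent.Lib.Helper5.Chev.SPM
import Mathlib

/-!
# Normalisation of sparse polynomial vectors (helper5)
-/

set_option autoImplicit false

namespace Cfsg.Agent.Lib.Helper5.Chev

open Cfsg.Lie
open scoped Matrix

/-- add an entry to a sparse vector, merging it with an entry of the same key -/
def SVec.ins (e : Ent) : SVec → SVec
  | [] => [e]
  | f :: x => cond (f.sameKey e) (⟨f.row, Int.add f.c e.c, f.a, f.b, f.d⟩ :: x) (f :: SVec.ins e x)

/-- merge the entries with the same key -/
def SVec.norm : SVec → SVec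
  | [] => []
  | e :: x => SVec.ins e (SVec.norm x)

/-- drop the zero entries -/
def SVec.dropZero (x : SVec) : SVec := x.filter fun e => !(zbeq e.c 0)

section

variable {F : Type*} [Field F]

theorem SVec.eval_ins (e : Ent) (x : SVec) (t u v : F) (i : ℕ) :
    SVec.eval (SVec.ins e x) t u v i = SVec.eval (e :: x) t u v i := by
  induction x with
  | nil => rfl
  | cons f x ih =>
    unfold SVec.ins
    by_cases h : f.sameKey e = true
    · rw [h, cond_true]
      obtain ⟨h1, h2, h3, h4⟩ := (Ent.sameKey_iff f e).1 h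
      simp only [SVec.eval_cons, Ent.val]
      rw [h1, h2, h3, h4]
      have : ((Int.add f.c e.c : ℤ) : F) = (f.c : F) + (e.c : F) := by
        show (((f.c + e.c : ℤ)) : F) = _
        push_cast; rfl
      rw [this]
      split_ifs <;> ring
    · rw [Bool.not_eq_true] at h
      rw [h, cond_false, SVec.eval_cons, ih, SVec.eval_cons, SVec.eval_cons, SVec.eval_cons]
      ring

theorem SVec.eval_norm (x : SVec) (t u v : F) (i : ℕ) :
    SVec.eval (SVec.norm x) t u v i = SVec.eval x t u v i := by
  induction x with
  | nil => rfl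
  | cons e x ih => rw [SVec.norm, SVec.eval_ins, SVec.eval_cons, SVec.eval_cons, ih]

theorem SVec.eval_dropZero (x : SVec) (t u v : F) (i : ℕ) :
    SVec.eval (SVec.dropZero x) t u v i = SVec.eval x t u v i := by
  induction x with
  | nil => rfl
  | cons e x ih =>
    unfold SVec.dropZero at ih ⊢
    rw [List.filter_cons]
    by_cases h : zbeq e.c 0 = true
    · rw [h]
      simp only [Bool.not_true, Bool.false_eq_true, if_false]
      rw [ih, SVec.eval_cons]
      rw [zbeq_iff] at h
      simp [Ent.val, h]
    · rw [Bool.not_eq_true] at h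
      rw [h]
      simp only [Bool.not_false, if_true]
      rw [SVec.eval_cons, SVec.eval_cons, ih]

end

theorem SVec.ins_row (e : Ent) (x : SVec) (N : ℕ) (he : e.row < N) (hx : ∀ f ∈ x, f.row < N) :
    ∀ f ∈ SVec.ins e x, f.row < N := by
  induction x with
  | nil =>
    intro f hf
    simp only [SVec.ins, List.mem_singleton] at hf
    subst hf; exact he
  | cons g x ih =>
    intro f hf
    unfold SVec.ins at hf
    by_cases h : g.sameKey e = true
    · rw [h, cond_true, List.mem_cons] at hf
      rcases hf with rfl | hf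
      · exact hx g List.mem_cons_self
      · exact hx f (List.mem_cons_of_mem _ hf)
    · rw [Bool.not_eq_true] at h
      rw [h, cond_false, List.mem_cons] at hf
      rcases hf with rfl | hf
      · exact hx _ List.mem_cons_self
      · exact ih (fun f' hf' => hx f' (List.mem_cons_of_mem _ hf')) f hf

theorem SVec.norm_row (x : SVec) (N : ℕ) (hx : ∀ f ∈ x, f.row < N) :
    ∀ f ∈ SVec.norm x, f.row < N := by
  induction x with
  | nil => intro f hf; simp [SVec.norm] at hf
  | cons e x ih =>
    rw [SVec.norm]
    exact SVec.ins_row e _ N (hx e List.mem_cons_self)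
      (ih fun f hf => hx f (List.mem_cons_of_mem _ hf))

/-- apply a word, normalising and forcing all intermediate results -/
def applyWordN {β : Sort*} : List SPM → SVec → (SVec → β) → β
  | [], x, k => k x
  | C :: W, x, k => applyWordN W x fun y => SVec.force (SVec.dropZero (SVec.norm (C.apply y))) k

/-- the value computed by `applyWordN` -/
def applyWordN' : List SPM → SVec → SVec
  | [], x => x
  | C :: W, x => SVec.dropZero (SVec.norm (C.apply (applyWordN' W x)))

theorem applyWordN_eq {β : Sort*} (W : List SPM) (x : SVec) (k : SVec → β) :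
    applyWordN W x k = k (applyWordN' W x) := by
  induction W generalizing k with
  | nil => rfl
  | cons C W ih => simp [applyWordN, applyWordN', ih, SVec.force_eq]

theorem SPM.apply_row (N : ℕ) (C : SPM) (hC : SPM.WF N C) (y : SVec) (hy : ∀ e ∈ y, e.row < N) :
    ∀ e ∈ C.apply y, e.row < N := by
  intro e he
  simp only [SPM.apply, List.mem_flatMap, List.mem_map] at he
  obtain ⟨e', he', f, hf, rfl⟩ := he
  exact hC _ (hy e' he') f hf

theorem SVec.dropZero_row (x : SVec) (N : ℕ) (hx : ∀ f ∈ x, f.row < N) :
    ∀ f ∈ SVec.dropZero x, f.row < N := fun f hf => hx f (List.mem_filter.1 hf).1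

theorem applyWordN'_row (N : ℕ) (W : List SPM) (hW : ∀ C ∈ W, SPM.WF N C) (x : SVec)
    (hx : ∀ e ∈ x, e.row < N) : ∀ e ∈ applyWordN' W x, e.row < N := by
  induction W with
  | nil => exact hx
  | cons C W ih =>
    rw [applyWordN']
    apply SVec.dropZero_row
    apply SVec.norm_row
    apply SPM.apply_row N C (hW C List.mem_cons_self)
    exact ih fun C' hC' => hW C' (List.mem_cons_of_mem _ hC')

theorem applyWord_row (N : ℕ) (W : List SPM) (hW : ∀ C ∈ W, SPM.WF N C) (x : SVec)
    (hx : ∀ e ∈ x, e.row < N) : ∀ e ∈ applyWord W x, e.row < N := by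
  induction W with
  | nil => exact hx
  | cons C W ih =>
    rw [applyWord]
    apply SPM.apply_row N C (hW C List.mem_cons_self)
    exact ih fun C' hC' => hW C' (List.mem_cons_of_mem _ hC')

theorem SPM.eval_apply_congr {F : Type*} [Field F] (D : ChevalleyDatum) (C : SPM) (y₁ y₂ : SVec)
    (h₁ : ∀ e ∈ y₁, e.row < D.rank + D.nroots) (h₂ : ∀ e ∈ y₂, e.row < D.rank + D.nroots)
    (t u v : F) (heq : ∀ i, SVec.eval y₁ t u v i = SVec.eval y₂ t u v i) (i : ℕ) :
    SVec.eval (C.apply y₁) t u v i = SVec.eval (C.apply y₂) t u v i := by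
  rw [SPM.eval_apply, SPM.eval_apply,
    ← sum_code_eval D (fun k => SVec.eval (C k) t u v i) y₁ t u v h₁,
    ← sum_code_eval D (fun k => SVec.eval (C k) t u v i) y₂ t u v h₂]
  apply Finset.sum_congr rfl
  intro c _
  rw [heq]

theorem eval_applyWordN' {F : Type*} [Field F] (D : ChevalleyDatum) (W : List SPM)
    (hW : ∀ C ∈ W, SPM.WF (D.rank + D.nroots) C) (x : SVec)
    (hx : ∀ e ∈ x, e.row < D.rank + D.nroots) (t u v : F) (i : ℕ) :
    SVec.eval (applyWordN' W x) t u v i = SVec.eval (applyWord W x) t u v i := by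
  induction W generalizing i with
  | nil => rfl
  | cons C W ih =>
    have hW' : ∀ C' ∈ W, SPM.WF (D.rank + D.nroots) C' :=
      fun C' hC' => hW C' (List.mem_cons_of_mem _ hC')
    rw [applyWordN', SVec.eval_dropZero, SVec.eval_norm, applyWord]
    exact SPM.eval_apply_congr D C _ _ (applyWordN'_row _ W hW' x hx) (applyWord_row _ W hW' x hx)
      t u v (fun i => ih hW' i) i

/-- boolean test that two words of sparse matrices have the same matrix, normalising all
intermediate results -/
def wordEqbN (N : ℕ) (W₁ W₂ : List SPM) : Bool :=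
  allBelow N fun j =>
    applyWordN W₁ (SVec.unit j) fun x => applyWordN W₂ (SVec.unit j) fun y => SVec.eqv x y

theorem wordEqbN_sound {F : Type*} [Field F] (D : ChevalleyDatum) (t u v : F) (W₁ W₂ : List SPM)
    (h₁ : ∀ C ∈ W₁, SPM.WF (D.rank + D.nroots) C) (h₂ : ∀ C ∈ W₂, SPM.WF (D.rank + D.nroots) C)
    (hc : wordEqbN (D.rank + D.nroots) W₁ W₂ = true) :
    (W₁.map fun C => SPM.eval D C t u v).prod = (W₂.map fun C => SPM.eval D C t u v).prod := by
  rw [← eval_wordSPM D W₁ h₁, ← eval_wordSPM D W₂ h₂]
  ext a b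
  simp only [SPM.eval, Matrix.of_apply]
  have := allBelow_spec _ _ hc (code D b) (code_lt D b)
  rw [applyWordN_eq, applyWordN_eq] at this
  have e := SVec.eval_eq_of_eqv _ _ this t u v (code D a)
  have hu : ∀ e ∈ SVec.unit (code D b), e.row < D.rank + D.nroots := by
    intro e he
    simp only [SVec.unit, List.mem_singleton] at he
    subst he
    exact code_lt D b
  rw [eval_applyWordN' D W₁ h₁ _ hu, eval_applyWordN' D W₂ h₂ _ hu] at e
  exact e

end Cfsg.Agent.Lib.Helper5.Chev
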