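import Cfsg.Agent.Lib.Helper5.Chev.NMat
import Cfsg.Agent.Lib.Helper5.Chev.SPMNorm
import Mathlib

/-!
# Chevalley's commutator formula: direct verification of a pair of roots (helper5)
-/

set_option autoImplicit false

namespace Cfsg.Agent.Lib.Helper5.Chev

open Cfsg.Lie
open scoped Matrix

namespace FD

variable (T : FD)

/-- `chainM` on the fast datum -/
def chainM (r s i : ℕ) : ℤ := (((T.ch r s)[i - 1]?).map Prod.snd).getD 0

/-- `commTerms` on the fast datum -/
def commTerms (r s : ℕ) : List (ℕ × ℤ × ℕ × ℕ) :=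
  let rs := T.chainRoot r s 1
  let cands : List (Option ℕ × ℤ × ℕ × ℕ) :=
    [ (T.chainRoot r s 1, T.chainM r s 1, 1, 1),
      (T.chainRoot r s 2, T.chainM r s 2, 2, 1),
      (T.chainRoot s r 2, T.chainM s r 2, 1, 2),
      (T.chainRoot r s 3, T.chainM r s 3, 3, 1),
      (T.chainRoot s r 3, - T.chainM s r 3, 1, 3),
      ((T.chainRoot r s 3).bind fun k => T.chainRoot k s 1, (rs.map fun k => T.chainM k r 2 / 3).getD 0, 3, 2),
      ((T.chainRoot s r 3).bind fun k => T.chainRoot k r 1, (rs.map fun k => -2 * T.chainM k s 2 / 3).getD 0, 2, 3) ]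
  cands.filterMap fun c => c.1.map fun k => (k, c.2)

variable {T} {D : ChevalleyDatum}

theorem chainM_eq (hA : T.Agrees D) (r s k : ℕ) (hr : r < D.nroots) (hs : s < D.nroots) :
    D.chainM r s k = T.chainM r s k := by
  unfold ChevalleyDatum.chainM chainM
  rw [chainEntry_eq hA r s hr hs]

theorem chainRoot_lt (hA : T.Agrees D) (r s i k : ℕ) (hr : r < D.nroots) (hs : s < D.nroots)
    (h : T.chainRoot r s i = some k) : k < D.nroots := by
  unfold chainRoot at h
  rw [Option.map_eq_some_iff] at h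
  obtain ⟨q, hq, rfl⟩ := h
  exact hA.chain_lt r hr s hs q (List.mem_of_getElem? hq)

theorem commTerms_eq (hA : T.Agrees D) (r s : ℕ) (hr : r < D.nroots) (hs : s < D.nroots) :
    D.commTerms r s = T.commTerms r s := by
  unfold ChevalleyDatum.commTerms commTerms
  have e1 : ∀ i, D.chainRoot r s i = T.chainRoot r s i := fun i => chainRoot_eq hA r s i hr hs
  have e2 : ∀ i, D.chainRoot s r i = T.chainRoot s r i := fun i => chainRoot_eq hA s r i hs hr
  have e3 : ∀ i, D.chainM r s i = T.chainM r s i := fun i => chainM_eq hA r s i hr hs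
  have e4 : ∀ i, D.chainM s r i = T.chainM s r i := fun i => chainM_eq hA s r i hs hr
  have e5 : ((T.chainRoot r s 3).bind fun k => D.chainRoot k s 1)
      = (T.chainRoot r s 3).bind fun k => T.chainRoot k s 1 := by
    cases h : T.chainRoot r s 3 with
    | none => rfl
    | some k =>
      simp only [Option.bind_some]
      exact chainRoot_eq hA k s 1 (chainRoot_lt hA r s 3 k hr hs h) hs
  have e6 : ((T.chainRoot s r 3).bind fun k => D.chainRoot k r 1)
      = (T.chainRoot s r 3).bind fun k => T.chainRoot k r 1 := by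
    cases h : T.chainRoot s r 3 with
    | none => rfl
    | some k =>
      simp only [Option.bind_some]
      exact chainRoot_eq hA k r 1 (chainRoot_lt hA s r 3 k hs hr h) hr
  have e7 : ((T.chainRoot r s 1).map fun k => D.chainM k r 2 / 3)
      = (T.chainRoot r s 1).map fun k => T.chainM k r 2 / 3 := by
    cases h : T.chainRoot r s 1 with
    | none => rfl
    | some k =>
      simp only [Option.map_some]
      rw [chainM_eq hA k r 2 (chainRoot_lt hA r s 1 k hr hs h) hr]
  have e8 : ((T.chainRoot r s 1).map fun k => -2 * D.chainM k s 2 / 3)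
      = (T.chainRoot r s 1).map fun k => -2 * T.chainM k s 2 / 3 := by
    cases h : T.chainRoot r s 1 with
    | none => rfl
    | some k =>
      simp only [Option.map_some]
      rw [chainM_eq hA k s 2 (chainRoot_lt hA r s 1 k hr hs h) hs]
  simp only [e1, e2, e3, e4, e5, e6, e7, e8]

theorem commTerms_lt (hA : T.Agrees D) (r s : ℕ) (hr : r < D.nroots) (hs : s < D.nroots) :
    ∀ c ∈ T.commTerms r s, c.1 < D.nroots := by
  intro c hc
  unfold commTerms at hc
  simp only [List.mem_filterMap, List.mem_cons, List.not_mem_nil, or_false] at hc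
  obtain ⟨cand, hcand, hmap⟩ := hc
  rw [Option.map_eq_some_iff] at hmap
  obtain ⟨k, hk, rfl⟩ := hmap
  simp only
  rcases hcand with rfl | rfl | rfl | rfl | rfl | rfl | rfl
  · exact chainRoot_lt hA r s 1 k hr hs hk
  · exact chainRoot_lt hA r s 2 k hr hs hk
  · exact chainRoot_lt hA s r 2 k hs hr hk
  · exact chainRoot_lt hA r s 3 k hr hs hk
  · exact chainRoot_lt hA s r 3 k hs hr hk
  · simp only at hk
    cases h : T.chainRoot r s 3 with
    | none => rw [h] at hk; simp at hk
    | some k' =>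
      rw [h, Option.bind_some] at hk
      exact chainRoot_lt hA k' s 1 k (chainRoot_lt hA r s 3 k' hr hs h) hs hk
  · simp only at hk
    cases h : T.chainRoot s r 3 with
    | none => rw [h] at hk; simp at hk
    | some k' =>
      rw [h, Option.bind_some] at hk
      exact chainRoot_lt hA k' r 1 k (chainRoot_lt hA s r 3 k' hs hr h) hr hk

end FD

/-- the sparse matrices of the terms of the commutator formula, in `t` and `u` -/
def commSPMs (T : FD) (l : ℕ) (L : List (ℕ × ℤ × ℕ × ℕ)) : List SPM :=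
  L.map fun c => xPR l (T.rdOf c.1) (Int.mul c.2.1 (zpow' (Int.negSucc 0) c.2.2.1)) c.2.2.1 c.2.2.2 0

/-- the check of the commutator formula for the pair `(r, s)` -/
def commb (T : FD) (r s : ℕ) : Bool :=
  forceNat T.rank fun l => forceNat T.nroots fun n =>
    RD.force (T.rdOf r) fun Rr => RD.force (T.rdOf s) fun Rs =>
      wordEqbN (Nat.add l n) [xPR l Rs 1 0 1 0, xPR l Rr 1 1 0 0]
        (xPR l Rr 1 1 0 0 :: xPR l Rs 1 0 1 0 :: commSPMs T l (T.commTerms r s))

section

variable {F : Type*} [Field F] {T : FD} {D : ChevalleyDatum}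

theorem eval_commSPMs (hA : T.Agrees D) (L : List (ℕ × ℤ × ℕ × ℕ)) (hL : ∀ c ∈ L, c.1 < D.nroots)
    (t u : F) :
    ((commSPMs T T.rank L).map fun C => SPM.eval D C t u (1 : F)).prod
      = (L.map fun c => D.x F c.1 ((c.2.1 : F) * (-t) ^ c.2.2.1 * u ^ c.2.2.2)).prod := by
  induction L with
  | nil => rfl
  | cons c L ih =>
    have h1 := ih (fun c' hc' => hL c' (List.mem_cons_of_mem _ hc'))
    unfold commSPMs at h1 ⊢
    rw [List.map_cons, List.map_cons, List.prod_cons, h1, List.map_cons, List.prod_cons]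
    congr 1
    have := FD.eval_xP (F := F) hA c.1 (hL c List.mem_cons_self)
      (Int.mul c.2.1 (zpow' (Int.negSucc 0) c.2.2.1)) c.2.2.1 c.2.2.2 0 t u 1
    rw [FD.xP] at this
    rw [this]
    congr 1
    rw [zpow'_eq]
    have e1 : Int.mul c.2.1 (Int.negSucc 0 ^ c.2.2.1) = c.2.1 * (-1) ^ c.2.2.1 := rfl
    rw [e1]
    push_cast
    rw [neg_pow t]
    ring

theorem wf_commSPMs (hA : T.Agrees D) (L : List (ℕ × ℤ × ℕ × ℕ)) (hL : ∀ c ∈ L, c.1 < D.nroots) :
    ∀ C ∈ commSPMs T T.rank L, SPM.WF (D.rank + D.nroots) C := by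
  intro C hC
  unfold commSPMs at hC
  rw [List.mem_map] at hC
  obtain ⟨c, hc, rfl⟩ := hC
  exact FD.wf_xP hA c.1 (hL c hc) _ _ _ _

/-- the commutator formula from the check -/
theorem comm_of_check (hA : T.Agrees D) (r s : ℕ) (hr : r < D.nroots) (hs : s < D.nroots)
    (h : commb T r s = true) (t u : F) :
    D.x F s u * D.x F r t = D.x F r t * D.x F s u * D.wordMat F (D.commWord F r s t u) := by
  unfold commb at h
  rw [forceNat_eq, forceNat_eq, RD.force_eq, RD.force_eq] at h
  have hN : Nat.add T.rank T.nroots = D.rank + D.nroots := by rw [hA.rank_eq, hA.nroots_eq]; rfl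
  rw [hN] at h
  have hlt := FD.commTerms_lt hA r s hr hs
  have e := wordEqbN_sound D t u (1 : F)
    [T.xP s 1 0 1 0, T.xP r 1 1 0 0]
    (T.xP r 1 1 0 0 :: T.xP s 1 0 1 0 :: commSPMs T T.rank (T.commTerms r s))
    (by
      intro C hC
      simp only [List.mem_cons, List.not_mem_nil, or_false] at hC
      rcases hC with rfl | rfl
      · exact FD.wf_xP hA _ hs _ _ _ _
      · exact FD.wf_xP hA _ hr _ _ _ _)
    (by
      intro C hC
      rw [List.mem_cons, List.mem_cons] at hC
      rcases hC with rfl | rfl | hC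
      · exact FD.wf_xP hA _ hr _ _ _ _
      · exact FD.wf_xP hA _ hs _ _ _ _
      · exact wf_commSPMs hA _ hlt C hC) h
  simp only [List.map_cons, List.map_nil, List.prod_cons, List.prod_nil, mul_one] at e
  rw [FD.eval_xP hA _ hs, FD.eval_xP hA _ hr, eval_commSPMs hA _ hlt] at e
  have z1 : ((1 : ℤ) : F) * t ^ 0 * u ^ 1 * 1 ^ 0 = u := by simp
  have z2 : ((1 : ℤ) : F) * t ^ 1 * u ^ 0 * 1 ^ 0 = t := by simp
  rw [z1, z2] at e
  rw [e, Matrix.mul_assoc]
  congr 2
  unfold ChevalleyDatum.wordMat ChevalleyDatum.commWord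
  rw [FD.commTerms_eq hA r s hr hs, List.map_map]
  rfl

end

end Cfsg.Agent.Lib.Helper5.Chev
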