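import Cfsg.Agent.Lib.Helper5.Chev.CommW
import Mathlib

/-!
# Transfer of the commutator formula along the Weyl group (helper5)
-/

set_option autoImplicit false

namespace Cfsg.Agent.Lib.Helper5.Chev

open Cfsg.Lie
open scoped Matrix

variable {F : Type*} [Field F] {T : FD} {D : ChevalleyDatum}

/-- the commutator formula for the pair `(r, s)` -/
def CommOK (F : Type*) [Field F] (D : ChevalleyDatum) (r s : ℕ) : Prop :=
  ∀ t u : F, D.x F s u * D.x F r t = D.x F r t * D.x F s u * D.wordMat F (D.commWord F r s t u)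

/-- conjugation of a word by `n_i` -/
theorem ReflChecks.conj_wordMat {i B : ℕ} (hA : T.Agrees D) (hi : i < D.rank)
    (c : ReflChecks T D i B) (L : List (ℕ × F)) (hL : ∀ p ∈ L, p.1 < D.nroots) :
    D.nMat F (D.simple i) 1 * D.wordMat F L
      = D.wordMat F (L.map fun p => (wOf B p.1, ((etaOf B p.1 : ℤ) : F) * p.2)) *
        D.nMat F (D.simple i) 1 := by
  induction L with
  | nil => simp [ChevalleyDatum.wordMat]
  | cons p L ih =>
    have h1 := ih (fun p' hp' => hL p' (List.mem_cons_of_mem _ hp'))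
    unfold ChevalleyDatum.wordMat at h1 ⊢
    rw [List.map_cons, List.prod_cons, List.map_cons, List.map_cons, List.prod_cons,
      ← Matrix.mul_assoc, c.conj_x hA hi p.1 (hL p List.mem_cons_self) p.2, Matrix.mul_assoc, h1,
      Matrix.mul_assoc]

/-- transfer of the commutator formula along a fundamental reflection -/
theorem ReflChecks.comm_transfer {i B : ℕ} (hA : T.Agrees D) (hi : i < D.rank)
    (c : ReflChecks T D i B) (hp : Additive F D (D.simple i))
    (hq : Additive F D (D.neg (D.simple i))) (h3 : NoThree T D.nroots) (r s : ℕ)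
    (hr : r < D.nroots) (hs : s < D.nroots) (h : CommOK F D r s) :
    CommOK F D (wOf B r) (wOf B s) := by
  intro t' u'
  have hcert := c.cert hA
  have hwr := hcert.w_lt r hr
  have hws := hcert.w_lt s hs
  have hηr := hcert.eta_sq (F := F) r hr
  have hηs := hcert.eta_sq (F := F) s hs
  have e1 := c.conj_x (F := F) hA hi r hr (((etaOf B r : ℤ) : F) * t')
  have e2 := c.conj_x (F := F) hA hi s hs (((etaOf B s : ℤ) : F) * u')
  rw [← mul_assoc, hηr, one_mul] at e1
  rw [← mul_assoc, hηs, one_mul] at e2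
  have key := h (((etaOf B r : ℤ) : F) * t') (((etaOf B s : ℤ) : F) * u')
  have hlt : ∀ p ∈ D.commWord F r s (((etaOf B r : ℤ) : F) * t') (((etaOf B s : ℤ) : F) * u'),
      p.1 < D.nroots := by
    intro p hp'
    unfold ChevalleyDatum.commWord at hp'
    rw [List.mem_map] at hp'
    obtain ⟨c', hc', rfl⟩ := hp'
    rw [FD.commTerms_eq hA r s hr hs] at hc'
    exact FD.commTerms_lt hA r s hr hs c' hc'
  have e3 := c.conj_wordMat (F := F) hA hi _ hlt
  have e4 : (D.commWord F r s (((etaOf B r : ℤ) : F) * t') (((etaOf B s : ℤ) : F) * u')).map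
      (fun p => (wOf B p.1, ((etaOf B p.1 : ℤ) : F) * p.2))
      = D.commWord F (wOf B r) (wOf B s) t' u' := by
    unfold ChevalleyDatum.commWord
    rw [FD.commTerms_eq hA _ _ hwr hws, FD.commTerms_eq hA r s hr hs,
      hcert.commTerms_w h3 r s hr hs, List.map_map, List.map_map]
    apply List.map_congr_left
    intro c' _
    simp only [Function.comp, phiW]
    congr 1
    push_cast
    have a1 : (-(((etaOf B r : ℤ) : F) * t')) ^ c'.2.2.1
        = ((etaOf B r : ℤ) : F) ^ c'.2.2.1 * (-t') ^ c'.2.2.1 := by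
      rw [← mul_pow]; congr 1; ring
    rw [a1, mul_pow]
    ring
  rw [e4] at e3
  -- assemble
  have k1 : D.nMat F (D.simple i) 1 * (D.x F s (((etaOf B s : ℤ) : F) * u') *
      D.x F r (((etaOf B r : ℤ) : F) * t'))
      = D.x F (wOf B s) u' * D.x F (wOf B r) t' * D.nMat F (D.simple i) 1 := by
    rw [← Matrix.mul_assoc, e2, Matrix.mul_assoc, e1, Matrix.mul_assoc]
  have k2 : D.nMat F (D.simple i) 1 * (D.x F r (((etaOf B r : ℤ) : F) * t') *
      D.x F s (((etaOf B s : ℤ) : F) * u') *
      D.wordMat F (D.commWord F r s (((etaOf B r : ℤ) : F) * t') (((etaOf B s : ℤ) : F) * u')))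
      = D.x F (wOf B r) t' * D.x F (wOf B s) u' *
        D.wordMat F (D.commWord F (wOf B r) (wOf B s) t' u') * D.nMat F (D.simple i) 1 := by
    rw [Matrix.mul_assoc, Matrix.mul_assoc, ← Matrix.mul_assoc, e1, Matrix.mul_assoc,
      ← Matrix.mul_assoc (D.nMat F (D.simple i) 1), e2, Matrix.mul_assoc, e3]
    simp only [Matrix.mul_assoc]
  rw [key, k2] at k1
  have := congrArg (· * nInv F D (D.simple i)) k1
  simp only [Matrix.mul_assoc, nMat_mul_nInv hp hq, Matrix.mul_one] at this
  rw [← this]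
  simp only [Matrix.mul_assoc]

/-- the commutator formula for the pair `(r, s)`, or `s = ± r` -/
def CommOK' (F : Type*) [Field F] (D : ChevalleyDatum) (r s : ℕ) : Prop :=
  s = r ∨ s = D.neg r ∨ CommOK F D r s

theorem ReflChecks.comm_transfer' {i B : ℕ} (hA : T.Agrees D) (hi : i < D.rank)
    (c : ReflChecks T D i B) (hp : Additive F D (D.simple i))
    (hq : Additive F D (D.neg (D.simple i))) (h3 : NoThree T D.nroots) (r s : ℕ)
    (hr : r < D.nroots) (hs : s < D.nroots) (h : CommOK' F D r s) :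
    CommOK' F D (wOf B r) (wOf B s) := by
  have hcert := c.cert hA
  rcases h with rfl | rfl | h
  · exact Or.inl rfl
  · right; left
    rw [FD.neg_eq' hA _ (hcert.w_lt r hr), FD.neg_eq' hA r hr, hcert.neg_w r hr]
  · exact Or.inr (Or.inr (c.comm_transfer hA hi hp hq h3 r s hr hs h))

/-- transfer in the other direction -/
theorem ReflChecks.comm_transfer_back {i B : ℕ} (hA : T.Agrees D) (hi : i < D.rank)
    (c : ReflChecks T D i B) (hp : Additive F D (D.simple i))
    (hq : Additive F D (D.neg (D.simple i))) (h3 : NoThree T D.nroots) (r s : ℕ)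
    (hr : r < D.nroots) (hs : s < D.nroots) (h : CommOK' F D (wOf B r) (wOf B s)) :
    CommOK' F D r s := by
  have hcert := c.cert hA
  have := c.comm_transfer' hA hi hp hq h3 _ _ (hcert.w_lt r hr) (hcert.w_lt s hs) h
  rwa [hcert.w_w r hr, hcert.w_w s hs] at this

/-! ### reachability with a fixed root -/

/-- the root `s` is carried into the base list by at most `k` reflections fixing `r0` -/
def reachF (Bs : List ℕ) (gB : ℕ) (base : List ℕ) (r0 : ℕ) : ℕ → ℕ → Bool
  | 0, s => memb base s
  | k + 1, s => memb base s ||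
      (Nat.beq (wOf (Bs.getD (gOf gB s) 0) r0) r0 &&
        reachF Bs gB base r0 k (wOf (Bs.getD (gOf gB s) 0) s))

/-- the reachability check with a fixed root -/
def reachFb (T : FD) (Bs : List ℕ) (gB : ℕ) (base : List ℕ) (r0 fuel : ℕ) : Bool :=
  forceNat T.rank fun l => forceNat T.nroots fun n =>
    allBelow n fun s => Nat.blt (gOf gB s) l && reachF Bs gB base r0 fuel s

theorem reachF_induction (P : ℕ → Prop) (n l : ℕ) (Bs : List ℕ) (gB : ℕ) (base : List ℕ) (r0 : ℕ)
    (hbase : ∀ s ∈ base, P s)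
    (hw : ∀ i < l, ∀ s < n, wOf (Bs.getD i 0) s < n)
    (hg : ∀ s < n, gOf gB s < l)
    (hstep : ∀ i < l, wOf (Bs.getD i 0) r0 = r0 → ∀ s < n, P (wOf (Bs.getD i 0) s) → P s) :
    ∀ k s, s < n → reachF Bs gB base r0 k s = true → P s := by
  intro k
  induction k with
  | zero =>
    intro s _ h
    exact hbase s ((memb_iff _ _).1 h)
  | succ k ih =>
    intro s hs h
    rw [reachF, Bool.or_eq_true, Bool.and_eq_true] at h
    rcases h with h | ⟨h1, h2⟩
    · exact hbase s ((memb_iff _ _).1 h)
    · exact hstep _ (hg s hs) (Nat.eq_of_beq_eq_true h1) s hs (ih _ (hw _ (hg s hs) s hs) h2)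

theorem reachF_all (hA : T.Agrees D) (P : ℕ → Prop) (Bs : List ℕ) (gB : ℕ) (base : List ℕ)
    (r0 fuel : ℕ) (hr : reachFb T Bs gB base r0 fuel = true)
    (hbase : ∀ s ∈ base, P s)
    (hw : ∀ i < D.rank, ∀ s < D.nroots, wOf (Bs.getD i 0) s < D.nroots)
    (hstep : ∀ i < D.rank, wOf (Bs.getD i 0) r0 = r0 →
      ∀ s < D.nroots, P (wOf (Bs.getD i 0) s) → P s) :
    ∀ s < D.nroots, P s := by
  unfold reachFb at hr
  rw [forceNat_eq, forceNat_eq, hA.rank_eq, hA.nroots_eq] at hr
  have key := fun s hs => allBelow_spec _ _ hr s hs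
  simp only [Bool.and_eq_true, Nat.blt_eq] at key
  intro s hs
  exact reachF_induction P D.nroots D.rank Bs gB base r0 hbase hw (fun s hs => (key s hs).1) hstep
    fuel s hs (key s hs).2

/-- the commutator formula for all `s` and a fixed `r0` -/
theorem comm_row_of (hA : T.Agrees D) (Bs : List ℕ)
    (hB : ∀ i < D.rank, ReflChecks T D i (Bs.getD i 0)) (hadd : ∀ s < D.nroots, Additive F D s)
    (hsimple : ∀ i < D.rank, D.simple i < D.nroots ∧ D.neg (D.simple i) < D.nroots)
    (h3 : NoThree T D.nroots) (r0 : ℕ) (hr0 : r0 < D.nroots) (gB : ℕ) (base : List ℕ) (fuel : ℕ)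
    (hr : reachFb T Bs gB base r0 fuel = true) (hbase : ∀ s ∈ base, CommOK' F D r0 s) :
    ∀ s < D.nroots, CommOK' F D r0 s := by
  apply reachF_all hA (fun s => CommOK' F D r0 s) Bs gB base r0 fuel hr hbase
  · intro i hi s hs
    exact ((hB i hi).cert hA).w_lt s hs
  · intro i hi hfix s hs h
    have hcert := (hB i hi).cert hA
    have := (hB i hi).comm_transfer' hA hi (hadd _ (hsimple i hi).1) (hadd _ (hsimple i hi).2) h3
      r0 _ hr0 (hcert.w_lt s hs) h
    rwa [hfix, hcert.w_w s hs] at this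

/-- the commutator formula for all pairs of roots -/
theorem comm_all_of (hA : T.Agrees D) (Bs : List ℕ)
    (hB : ∀ i < D.rank, ReflChecks T D i (Bs.getD i 0)) (hadd : ∀ s < D.nroots, Additive F D s)
    (hsimple : ∀ i < D.rank, D.simple i < D.nroots ∧ D.neg (D.simple i) < D.nroots)
    (h3 : NoThree T D.nroots) (gB : ℕ) (base : List ℕ) (fuel : ℕ)
    (hr : reachb T Bs gB base fuel = true)
    (hbase : ∀ r0 ∈ base, ∀ s < D.nroots, CommOK' F D r0 s) :
    ∀ r < D.nroots, ∀ s < D.nroots, CommOK' F D r s := by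
  apply reach_all hA (fun r => ∀ s < D.nroots, CommOK' F D r s) Bs gB base fuel hr hbase
  · intro i hi s hs
    exact ((hB i hi).cert hA).w_lt s hs
  · intro i hi r hr h s hs
    have hcert := (hB i hi).cert hA
    exact (hB i hi).comm_transfer_back hA hi (hadd _ (hsimple i hi).1) (hadd _ (hsimple i hi).2) h3
      r s hr hs (h _ (hcert.w_lt s hs))

/-- a base pair from the check -/
theorem commOK'_of_check (hA : T.Agrees D) (r s : ℕ) (hr : r < D.nroots) (hs : s < D.nroots)
    (h : commb T r s = true) : CommOK' F D r s :=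
  Or.inr (Or.inr (fun t u => comm_of_check hA r s hr hs h t u))

end Cfsg.Agent.Lib.Helper5.Chev
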