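import Cfsg.Agent.Lib.Helper5.Chev.NFinal
import Cfsg.Agent.Lib.Helper5.Chev.Add
import Cfsg.Agent.S1024
import Mathlib

/-!
# Transfer of properties of root elements along the Weyl group (helper5)
-/

set_option autoImplicit false

namespace Cfsg.Agent.Lib.Helper5.Chev

open Cfsg.Lie
open scoped Matrix

variable {F : Type*} [Field F] {T : FD} {D : ChevalleyDatum}

/-- additivity of `x_s` -/
def Additive (F : Type*) [Field F] (D : ChevalleyDatum) (s : ℕ) : Prop :=
  ∀ t u : F, D.x F s t * D.x F s u = D.x F s (t + u)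

theorem x_zero (s : ℕ) : D.x F s 0 = 1 := by
  unfold ChevalleyDatum.x
  split_ifs with h
  · exact Cfsg.Agent.S1024.xMat_zero D ⟨s, h⟩
  · rfl

theorem Additive.mul_neg {s : ℕ} (h : Additive F D s) (t : F) : D.x F s t * D.x F s (-t) = 1 := by
  rw [h, add_neg_cancel, x_zero]

theorem Additive.neg_mul {s : ℕ} (h : Additive F D s) (t : F) : D.x F s (-t) * D.x F s t = 1 := by
  rw [h, neg_add_cancel, x_zero]

/-- an inverse of `n_p(1)` -/
def nInv (F : Type*) [Field F] (D : ChevalleyDatum) (p : ℕ) : Matrix D.Idx D.Idx F :=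
  D.x F p (-1) * (D.x F (D.neg p) 1 * D.x F p (-1))

theorem nMat_one (p : ℕ) : D.nMat F p 1 = D.x F p 1 * (D.x F (D.neg p) (-1) * D.x F p 1) := by
  unfold ChevalleyDatum.nMat ChevalleyDatum.nWord ChevalleyDatum.wordMat
  simp

theorem nMat_mul_nInv {p : ℕ} (hp : Additive F D p) (hq : Additive F D (D.neg p)) :
    D.nMat F p 1 * nInv F D p = 1 := by
  rw [nMat_one, nInv]
  calc D.x F p 1 * (D.x F (D.neg p) (-1) * D.x F p 1) *
        (D.x F p (-1) * (D.x F (D.neg p) 1 * D.x F p (-1)))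
      = D.x F p 1 * (D.x F (D.neg p) (-1) * (D.x F p 1 * D.x F p (-1)) *
          D.x F (D.neg p) 1) * D.x F p (-1) := by simp only [Matrix.mul_assoc]
    _ = D.x F p 1 * (D.x F (D.neg p) (-1) * D.x F (D.neg p) 1) * D.x F p (-1) := by
        rw [hp.mul_neg, Matrix.mul_one]
    _ = 1 := by
        have := hq.neg_mul (1 : F)
        rw [this, Matrix.mul_one, hp.mul_neg]

theorem nInv_mul_nMat {p : ℕ} (hp : Additive F D p) (hq : Additive F D (D.neg p)) :
    nInv F D p * D.nMat F p 1 = 1 := by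
  rw [nMat_one, nInv]
  calc D.x F p (-1) * (D.x F (D.neg p) 1 * D.x F p (-1)) *
        (D.x F p 1 * (D.x F (D.neg p) (-1) * D.x F p 1))
      = D.x F p (-1) * (D.x F (D.neg p) 1 * (D.x F p (-1) * D.x F p 1) *
          D.x F (D.neg p) (-1)) * D.x F p 1 := by simp only [Matrix.mul_assoc]
    _ = D.x F p (-1) * (D.x F (D.neg p) 1 * D.x F (D.neg p) (-1)) * D.x F p 1 := by
        rw [hp.neg_mul, Matrix.mul_one]
    _ = 1 := by
        rw [hq.mul_neg, Matrix.mul_one, hp.neg_mul]

/-- conjugation by `n_i`, all parameters -/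
theorem ReflChecks.conj_x {i B : ℕ} (hA : T.Agrees D) (hi : i < D.rank) (c : ReflChecks T D i B)
    (s : ℕ) (hs : s < D.nroots) (t : F) :
    D.nMat F (D.simple i) 1 * D.x F s t
      = D.x F (wOf B s) (((etaOf B s : ℤ) : F) * t) * D.nMat F (D.simple i) 1 := by
  have hcert := c.cert hA
  rw [nMat_eq hA i B hi hcert.w_lt c.hN, x_eq_xMat s hs, x_eq_xMat _ (hcert.w_lt s hs)]
  exact hcert.conj hA ⟨s, hs⟩ t

/-- `x_s(t)` as a conjugate of `x_{w s}` -/
theorem ReflChecks.x_eq_conj {i B : ℕ} (hA : T.Agrees D) (hi : i < D.rank) (c : ReflChecks T D i B)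
    (hp : Additive F D (D.simple i)) (hq : Additive F D (D.neg (D.simple i)))
    (s : ℕ) (hs : s < D.nroots) (t : F) :
    D.x F s t = D.nMat F (D.simple i) 1 * D.x F (wOf B s) (((etaOf B (wOf B s) : ℤ) : F) * t) *
      nInv F D (D.simple i) := by
  have hcert := c.cert hA
  have h1 := c.conj_x (F := F) hA hi (wOf B s) (hcert.w_lt s hs) (((etaOf B (wOf B s) : ℤ) : F) * t)
  rw [hcert.w_w s hs, ← mul_assoc, hcert.eta_sq (F := F) _ (hcert.w_lt s hs), one_mul] at h1
  rw [h1, Matrix.mul_assoc, nMat_mul_nInv hp hq, Matrix.mul_one]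

theorem ReflChecks.additive_transfer {i B : ℕ} (hA : T.Agrees D) (hi : i < D.rank)
    (c : ReflChecks T D i B) (hp : Additive F D (D.simple i))
    (hq : Additive F D (D.neg (D.simple i))) (s : ℕ) (hs : s < D.nroots)
    (h : Additive F D (wOf B s)) : Additive F D s := by
  intro t u
  rw [c.x_eq_conj hA hi hp hq s hs t, c.x_eq_conj hA hi hp hq s hs u,
    c.x_eq_conj hA hi hp hq s hs (t + u)]
  calc D.nMat F (D.simple i) 1 * D.x F (wOf B s) (((etaOf B (wOf B s) : ℤ) : F) * t) *
        nInv F D (D.simple i) * (D.nMat F (D.simple i) 1 *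
          D.x F (wOf B s) (((etaOf B (wOf B s) : ℤ) : F) * u) * nInv F D (D.simple i))
      = D.nMat F (D.simple i) 1 * (D.x F (wOf B s) (((etaOf B (wOf B s) : ℤ) : F) * t) *
          (nInv F D (D.simple i) * D.nMat F (D.simple i) 1) *
          D.x F (wOf B s) (((etaOf B (wOf B s) : ℤ) : F) * u)) * nInv F D (D.simple i) := by
        simp only [Matrix.mul_assoc]
    _ = _ := by
        rw [nInv_mul_nMat hp hq, Matrix.mul_one, h, mul_add]

/-! ### reachability -/

/-- the generator attached to a root: 4 bits per root -/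
def gOf (gB s : ℕ) : ℕ := Nat.land (Nat.shiftRight gB (Nat.mul 4 s)) 15

/-- membership test -/
def memb (L : List ℕ) (s : ℕ) : Bool := L.any fun x => Nat.beq x s

theorem memb_iff (L : List ℕ) (s : ℕ) : memb L s = true ↔ s ∈ L := by
  simp [memb, FD.nbeq]

/-- the root `s` is carried into the base list by at most `k` reflections -/
def reach (Bs : List ℕ) (gB : ℕ) (base : List ℕ) : ℕ → ℕ → Bool
  | 0, s => memb base s
  | k + 1, s => memb base s || reach Bs gB base k (wOf (Bs.getD (gOf gB s) 0) s)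

/-- the reachability check -/
def reachb (T : FD) (Bs : List ℕ) (gB : ℕ) (base : List ℕ) (fuel : ℕ) : Bool :=
  forceNat T.rank fun l => forceNat T.nroots fun n =>
    allBelow n fun s => Nat.blt (gOf gB s) l && reach Bs gB base fuel s

theorem reach_induction (P : ℕ → Prop) (n l : ℕ) (Bs : List ℕ) (gB : ℕ) (base : List ℕ)
    (hbase : ∀ s ∈ base, P s)
    (hw : ∀ i < l, ∀ s < n, wOf (Bs.getD i 0) s < n)
    (hg : ∀ s < n, gOf gB s < l)
    (hstep : ∀ i < l, ∀ s < n, P (wOf (Bs.getD i 0) s) → P s) :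
    ∀ k s, s < n → reach Bs gB base k s = true → P s := by
  intro k
  induction k with
  | zero =>
    intro s _ h
    exact hbase s ((memb_iff _ _).1 h)
  | succ k ih =>
    intro s hs h
    rw [reach, Bool.or_eq_true] at h
    rcases h with h | h
    · exact hbase s ((memb_iff _ _).1 h)
    · exact hstep _ (hg s hs) s hs (ih _ (hw _ (hg s hs) s hs) h)

theorem reach_all (hA : T.Agrees D) (P : ℕ → Prop) (Bs : List ℕ) (gB : ℕ) (base : List ℕ)
    (fuel : ℕ) (hr : reachb T Bs gB base fuel = true)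
    (hbase : ∀ s ∈ base, P s)
    (hw : ∀ i < D.rank, ∀ s < D.nroots, wOf (Bs.getD i 0) s < D.nroots)
    (hstep : ∀ i < D.rank, ∀ s < D.nroots, P (wOf (Bs.getD i 0) s) → P s) :
    ∀ s < D.nroots, P s := by
  unfold reachb at hr
  rw [forceNat_eq, forceNat_eq, hA.rank_eq, hA.nroots_eq] at hr
  have key := fun s hs => allBelow_spec _ _ hr s hs
  simp only [Bool.and_eq_true, Nat.blt_eq] at key
  intro s hs
  exact reach_induction P D.nroots D.rank Bs gB base hbase hw (fun s hs => (key s hs).1) hstep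
    fuel s hs (key s hs).2

end Cfsg.Agent.Lib.Helper5.Chev
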