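import Cfsg.Agent.Lib.Helper5.Chev.Comm
import Cfsg.Agent.Lib.Helper5.Chev.Transfer
import Mathlib

/-!
# The terms of the commutator formula under a fundamental reflection (helper5)
-/

set_option autoImplicit false

namespace Cfsg.Agent.Lib.Helper5.Chev

open Cfsg.Lie
open scoped Matrix

theorem adjCh_getElem? (w : ℕ → ℕ) (η : ℕ → ℤ) (er es : ℤ) (L : List (ℕ × ℤ)) (k : ℕ) :
    (adjCh w η er es L)[k]? = (L[k]?).map fun q => (w q.1, η q.1 * es * er ^ (k + 1) * q.2) := by
  unfold adjCh
  rw [List.getElem?_map, List.getElem?_zipIdx, Option.map_map]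
  congr 1
  funext q
  simp only [Function.comp, zero_add, zpow'_eq]
  rfl

/-- no root chain has three steps -/
def NoThree (T : FD) (n : ℕ) : Prop := ∀ r < n, ∀ s < n, T.chainRoot r s 3 = none

/-- the transformation of the terms of the commutator formula -/
def phiW (w : ℕ → ℕ) (η : ℕ → ℤ) (er es : ℤ) (c : ℕ × ℤ × ℕ × ℕ) : ℕ × ℤ × ℕ × ℕ :=
  (w c.1, η c.1 * er ^ c.2.2.1 * es ^ c.2.2.2 * c.2.1, c.2.2.1, c.2.2.2)

section

variable {T : FD} {n l i : ℕ} {a : ℕ → ℤ} {w : ℕ → ℕ} {η : ℕ → ℤ}

theorem MonoCert.chainRoot_w (c : MonoCert T n l i a w η) (r s k : ℕ) (hr : r < n) (hs : s < n) :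
    T.chainRoot (w r) (w s) k = (T.chainRoot r s k).map w := by
  unfold FD.chainRoot
  rw [c.chain_w r hr s hs, adjCh_getElem?, Option.map_map, Option.map_map]
  rfl

theorem MonoCert.chainM_w (c : MonoCert T n l i a w η) (r s k q : ℕ) (hr : r < n) (hs : s < n)
    (hq : T.chainRoot r s k = some q) :
    T.chainM (w r) (w s) k = η q * η s * η r ^ (k - 1 + 1) * T.chainM r s k := by
  unfold FD.chainRoot at hq
  unfold FD.chainM
  rw [c.chain_w r hr s hs, adjCh_getElem?, Option.map_map]
  rw [Option.map_eq_some_iff] at hq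
  obtain ⟨p, hp, rfl⟩ := hq
  rw [hp]
  rfl

theorem commTerms_noThree (h3 : NoThree T n) (r s : ℕ) (hr : r < n) (hs : s < n) :
    T.commTerms r s =
      ((T.chainRoot r s 1).map fun k => (k, T.chainM r s 1, 1, 1)).toList ++
      (((T.chainRoot r s 2).map fun k => (k, T.chainM r s 2, 2, 1)).toList ++
      ((T.chainRoot s r 2).map fun k => (k, T.chainM s r 2, 1, 2)).toList) := by
  unfold FD.commTerms
  simp only [h3 r hr s hs, h3 s hs r hr, Option.bind_none, List.filterMap_cons, Option.map_none,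
    List.filterMap_nil]
  cases T.chainRoot r s 1 <;> cases T.chainRoot r s 2 <;> cases T.chainRoot s r 2 <;> rfl

theorem MonoCert.cand_w (c : MonoCert T n l i a w η) (r s k ci cj : ℕ) (hr : r < n) (hs : s < n)
    (er es : ℤ) (he : ∀ q, T.chainRoot r s k = some q →
      η q * η s * η r ^ (k - 1 + 1) = η q * er ^ ci * es ^ cj) :
    ((T.chainRoot (w r) (w s) k).map fun q => (q, T.chainM (w r) (w s) k, ci, cj)).toList =
      (((T.chainRoot r s k).map fun q => (q, T.chainM r s k, ci, cj)).toList).map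
        (phiW w η er es) := by
  cases h : T.chainRoot r s k with
  | none =>
    rw [c.chainRoot_w r s k hr hs, h]
    rfl
  | some q =>
    rw [c.chainRoot_w r s k hr hs, c.chainM_w r s k q hr hs h, h, he q h]
    rfl

/-- the terms of the commutator formula for the images of two roots -/
theorem MonoCert.commTerms_w (c : MonoCert T n l i a w η) (h3 : NoThree T n) (r s : ℕ)
    (hr : r < n) (hs : s < n) :
    T.commTerms (w r) (w s) = (T.commTerms r s).map (phiW w η (η r) (η s)) := by
  rw [commTerms_noThree h3 r s hr hs, commTerms_noThree h3 (w r) (w s) (c.w_lt r hr) (c.w_lt s hs),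
    List.map_append, List.map_append]
  rw [c.cand_w r s 1 1 1 hr hs (η r) (η s) (by intro q _; ring),
    c.cand_w r s 2 2 1 hr hs (η r) (η s) (by intro q _; ring),
    c.cand_w s r 2 1 2 hs hr (η r) (η s) (by intro q _; ring)]

end

end Cfsg.Agent.Lib.Helper5.Chev
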