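import Mathlib

/-!
# Words in the fundamental reflections of a finite reflection group (helper5)

For abstract data of the fundamental reflections acting on the indices of the roots, every map of
the generators into a group in which the images are involutions satisfying the braid relations
sends two words with the same action on the roots to the same element.
-/

set_option autoImplicit false

namespace Cfsg.Agent.Lib.Helper5.Chev

/-- the fundamental reflections `w i` acting on the indices `< n` of the roots, the positive roots
being those of index at least `h`, with the fundamental roots `p i`, the opposition `neg` and the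
orders `m i j` of the products of two reflections -/
structure WD where
  n : ℕ
  l : ℕ
  h : ℕ
  w : ℕ → ℕ → ℕ
  p : ℕ → ℕ
  neg : ℕ → ℕ
  m : ℕ → ℕ → ℕ

namespace WD

variable (W : WD)

/-- the action of a word: `act (i :: u) = w i ∘ act u` -/
def act : List ℕ → ℕ → ℕ
  | [], r => r
  | i :: u, r => W.w i (act u r)

theorem act_append (u v : List ℕ) (r : ℕ) : W.act (u ++ v) r = W.act u (W.act v r) := by
  induction u with
  | nil => rfl
  | cons i u ih => simp [act, ih]

theorem act_concat (u : List ℕ) (i r : ℕ) : W.act (u ++ [i]) r = W.act u (W.w i r) := by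
  rw [act_append]; rfl

/-- the alternating word `a b a b …` of length `k` -/
def alt (a b : ℕ) : ℕ → List ℕ
  | 0 => []
  | k + 1 => a :: alt b a k

/-- the letter following `alt a b k` -/
def nxt (a b k : ℕ) : ℕ := if k % 2 = 0 then a else b

theorem alt_succ (a b k : ℕ) : alt a b (k + 1) = alt a b k ++ [nxt a b k] := by
  induction k generalizing a b with
  | zero => rfl
  | succ k ih =>
    have e : nxt a b (k + 1) = nxt b a k := by
      unfold nxt
      rcases Nat.mod_two_eq_zero_or_one k with h | h
      · have : (k + 1) % 2 = 1 := by omega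
        simp [h, this]
      · have : (k + 1) % 2 = 0 := by omega
        simp [h, this]
    show a :: alt b a (k + 1) = a :: alt b a k ++ [nxt a b (k + 1)]
    rw [ih b a, e]
    rfl

theorem alt_lt (a b l : ℕ) (ha : a < l) (hb : b < l) (k : ℕ) : ∀ x ∈ alt a b k, x < l := by
  induction k generalizing a b with
  | zero => intro x hx; simp [alt] at hx
  | succ k ih =>
    intro x hx
    rw [alt, List.mem_cons] at hx
    rcases hx with rfl | hx
    · exact ha
    · exact ih b a hb ha x hx

theorem nxt_lt (a b l : ℕ) (ha : a < l) (hb : b < l) (k : ℕ) : nxt a b k < l := by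
  unfold nxt; split_ifs <;> assumption

/-- the validity of the data -/
structure Valid : Prop where
  p_lt : ∀ i < W.l, W.p i < W.n
  p_pos : ∀ i < W.l, W.h ≤ W.p i
  neg_lt : ∀ r < W.n, W.neg r < W.n
  neg_sign : ∀ r < W.n, (W.neg r < W.h ↔ W.h ≤ r)
  w_lt : ∀ i < W.l, ∀ r < W.n, W.w i r < W.n
  w_w : ∀ i < W.l, ∀ r < W.n, W.w i (W.w i r) = r
  w_neg : ∀ i < W.l, ∀ r < W.n, W.w i (W.neg r) = W.neg (W.w i r)
  w_p : ∀ i < W.l, W.w i (W.p i) = W.neg (W.p i)
  w_pos : ∀ i < W.l, ∀ r < W.n, W.h ≤ r → r ≠ W.p i → W.h ≤ W.w i r
  m_symm : ∀ i < W.l, ∀ j < W.l, W.m i j = W.m j i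
  braid : ∀ i < W.l, ∀ j < W.l, i ≠ j → ∀ r < W.n,
    W.act (alt i j (W.m i j)) r = W.act (alt j i (W.m i j)) r

/-- a word in the fundamental reflections -/
def IsWord (u : List ℕ) : Prop := ∀ x ∈ u, x < W.l

theorem isWord_nil : W.IsWord [] := fun x hx => by simp at hx

theorem IsWord.append {u v : List ℕ} (hu : W.IsWord u) (hv : W.IsWord v) : W.IsWord (u ++ v) := by
  intro x hx
  rw [List.mem_append] at hx
  rcases hx with hx | hx
  · exact hu x hx
  · exact hv x hx

theorem IsWord.concat {u : List ℕ} (hu : W.IsWord u) {i : ℕ} (hi : i < W.l) :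
    W.IsWord (u ++ [i]) := by
  apply hu.append
  intro x hx
  rw [List.mem_singleton] at hx
  rw [hx]; exact hi

/-- the rank two property: if a word maps two fundamental roots to negative roots, it maps to
negative roots the positive roots of the rank two subsystem listed by the alternating words -/
def RankTwo : Prop :=
  ∀ u, W.IsWord u → ∀ a < W.l, ∀ b < W.l, a ≠ b → W.act u (W.p a) < W.h → W.act u (W.p b) < W.h →
    ∀ k < W.m a b, W.act u (W.act (alt a b k) (W.p (nxt a b k))) < W.h

variable {W}

theorem Valid.act_lt (hV : W.Valid) {u : List ℕ} (hu : W.IsWord u) {r : ℕ} (hr : r < W.n) :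
    W.act u r < W.n := by
  induction u with
  | nil => exact hr
  | cons i u ih =>
    exact hV.w_lt i (hu i List.mem_cons_self) _ (ih fun x hx => hu x (List.mem_cons_of_mem _ hx))

theorem Valid.act_neg (hV : W.Valid) {u : List ℕ} (hu : W.IsWord u) {r : ℕ} (hr : r < W.n) :
    W.act u (W.neg r) = W.neg (W.act u r) := by
  induction u with
  | nil => rfl
  | cons i u ih =>
    have hu' : W.IsWord u := fun x hx => hu x (List.mem_cons_of_mem _ hx)
    show W.w i (W.act u (W.neg r)) = W.neg (W.w i (W.act u r))
    rw [ih hu', hV.w_neg i (hu i List.mem_cons_self) _ (hV.act_lt hu' hr)]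

/-- the number of positive roots mapped to negative roots -/
def inv (W : WD) (u : List ℕ) : ℕ :=
  ((Finset.range W.n).filter fun r => W.h ≤ r ∧ W.act u r < W.h).card

theorem inv_le (W : WD) (u : List ℕ) : W.inv u ≤ W.n := by
  unfold inv
  calc _ ≤ (Finset.range W.n).card := Finset.card_filter_le _ _
    _ = W.n := Finset.card_range _

/-- appending a descent lowers the number of inversions -/
theorem Valid.inv_desc (hV : W.Valid) {u : List ℕ} (hu : W.IsWord u) {i : ℕ} (hi : i < W.l)
    (hd : W.act u (W.p i) < W.h) : W.inv (u ++ [i]) < W.inv u := by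
  unfold inv
  have hpi := hV.p_lt i hi
  have hmem : W.p i ∈ (Finset.range W.n).filter fun r => W.h ≤ r ∧ W.act u r < W.h := by
    rw [Finset.mem_filter, Finset.mem_range]
    exact ⟨hpi, hV.p_pos i hi, hd⟩
  have hle : ((Finset.range W.n).filter fun r => W.h ≤ r ∧ W.act (u ++ [i]) r < W.h).card
      ≤ (((Finset.range W.n).filter fun r => W.h ≤ r ∧ W.act u r < W.h).erase (W.p i)).card := by
    apply Finset.card_le_card_of_injOn (W.w i)
    · intro r hr
      have hr' := Finset.mem_coe.1 hr
      rw [Finset.mem_filter, Finset.mem_range, act_concat] at hr'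
      obtain ⟨hrn, hrh, hrd⟩ := hr'
      have hne : r ≠ W.p i := by
        rintro rfl
        rw [hV.w_p i hi, hV.act_neg hu hpi, hV.neg_sign _ (hV.act_lt hu hpi)] at hrd
        omega
      rw [Finset.mem_coe, Finset.mem_erase, Finset.mem_filter, Finset.mem_range]
      refine ⟨?_, hV.w_lt i hi r hrn, hV.w_pos i hi r hrn hrh hne, hrd⟩
      intro he
      have : r = W.neg (W.p i) := by
        rw [← hV.w_w i hi r hrn, he, hV.w_p i hi]
      have h2 := (hV.neg_sign _ hpi).2 (hV.p_pos i hi)
      omega
    · intro r hr s hs he
      have hr' := Finset.mem_coe.1 hr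
      have hs' := Finset.mem_coe.1 hs
      rw [Finset.mem_filter, Finset.mem_range] at hr' hs'
      rw [← hV.w_w i hi r hr'.1, he, hV.w_w i hi s hs'.1]
  rw [Finset.card_erase_of_mem hmem] at hle
  have hpos : 0 < ((Finset.range W.n).filter fun r => W.h ≤ r ∧ W.act u r < W.h).card :=
    Finset.card_pos.2 ⟨_, hmem⟩
  omega

theorem inv_pos_of_desc (hV : W.Valid) {u : List ℕ} {i : ℕ} (hi : i < W.l)
    (hd : W.act u (W.p i) < W.h) : 0 < W.inv u := by
  unfold inv
  apply Finset.card_pos.2
  refine ⟨W.p i, ?_⟩
  rw [Finset.mem_filter, Finset.mem_range]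
  exact ⟨hV.p_lt i hi, hV.p_pos i hi, hd⟩

/-- the first descent of a word -/
def firstDesc (W : WD) (u : List ℕ) : Option ℕ :=
  (List.range W.l).find? fun i => decide (W.act u (W.p i) < W.h)

theorem firstDesc_some {u : List ℕ} {j : ℕ} (h : W.firstDesc u = some j) :
    j < W.l ∧ W.act u (W.p j) < W.h := by
  unfold firstDesc at h
  have h1 := List.find?_some h
  have h2 := List.mem_of_find?_eq_some h
  rw [List.mem_range] at h2
  exact ⟨h2, of_decide_eq_true h1⟩

theorem firstDesc_none {u : List ℕ} (h : W.firstDesc u = none) (i : ℕ) (hi : i < W.l) :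
    W.h ≤ W.act u (W.p i) := by
  unfold firstDesc at h
  rw [List.find?_eq_none] at h
  have := h i (List.mem_range.2 hi)
  simpa using this

theorem firstDesc_congr (hV : W.Valid) {u u' : List ℕ}
    (h : ∀ r < W.n, W.act u r = W.act u' r) : W.firstDesc u = W.firstDesc u' := by
  unfold firstDesc
  apply List.find?_congr
  intro i hi
  rw [List.mem_range] at hi
  rw [h _ (hV.p_lt i hi)]

/-- the canonical word of the action of a word, with fuel -/
def canonF (W : WD) : ℕ → List ℕ → List ℕ
  | 0, _ => []
  | f + 1, u =>
    match W.firstDesc u with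
    | none => []
    | some j => canonF W f (u ++ [j]) ++ [j]

theorem canonF_congr (hV : W.Valid) (f : ℕ) {u u' : List ℕ}
    (h : ∀ r < W.n, W.act u r = W.act u' r) : W.canonF f u = W.canonF f u' := by
  induction f generalizing u u' with
  | zero => rfl
  | succ f ih =>
    unfold canonF
    rw [firstDesc_congr hV h]
    cases hj : W.firstDesc u' with
    | none => rfl
    | some j =>
      simp only
      rw [ih]
      intro r hr
      rw [act_concat, act_concat]
      exact h _ (hV.w_lt j (firstDesc_some hj).1 r hr)

theorem canonF_fuel (hV : W.Valid) (f f' : ℕ) {u : List ℕ} (hu : W.IsWord u)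
    (h1 : W.inv u ≤ f) (h2 : W.inv u ≤ f') : W.canonF f u = W.canonF f' u := by
  induction f generalizing f' u with
  | zero =>
    cases hj : W.firstDesc u with
    | none =>
      cases f' with
      | zero => rfl
      | succ f' => unfold canonF; rw [hj]
    | some j =>
      have := inv_pos_of_desc hV (firstDesc_some hj).1 (firstDesc_some hj).2
      omega
  | succ f ih =>
    cases hj : W.firstDesc u with
    | none =>
      cases f' with
      | zero => unfold canonF; rw [hj]
      | succ f' => unfold canonF; rw [hj]
    | some j =>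
      have hpos := inv_pos_of_desc hV (firstDesc_some hj).1 (firstDesc_some hj).2
      have hlt := hV.inv_desc hu (firstDesc_some hj).1 (firstDesc_some hj).2
      cases f' with
      | zero => omega
      | succ f' =>
        unfold canonF
        rw [hj]
        simp only
        rw [ih f' (hu.concat W (firstDesc_some hj).1) (by omega) (by omega)]

/-- the canonical word of the action of a word -/
def canon (W : WD) (u : List ℕ) : List ℕ := W.canonF W.n u

theorem canon_congr (hV : W.Valid) {u u' : List ℕ}
    (h : ∀ r < W.n, W.act u r = W.act u' r) : W.canon u = W.canon u' :=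
  canonF_congr hV _ h

theorem canon_none {u : List ℕ} (h : W.firstDesc u = none) : W.canon u = [] := by
  unfold canon
  cases W.n with
  | zero => rfl
  | succ k => unfold canonF; rw [h]

theorem canon_some (hV : W.Valid) {u : List ℕ} (hu : W.IsWord u) {j : ℕ}
    (h : W.firstDesc u = some j) : W.canon u = W.canon (u ++ [j]) ++ [j] := by
  unfold canon
  have hpos := inv_pos_of_desc hV (firstDesc_some h).1 (firstDesc_some h).2
  have hlt := hV.inv_desc hu (firstDesc_some h).1 (firstDesc_some h).2
  have hle := inv_le W u
  cases hn : W.n with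
  | zero => omega
  | succ k =>
    rw [show W.canonF (k + 1) u = W.canonF k (u ++ [j]) ++ [j] by
      conv_lhs => unfold canonF
      rw [h]]
    rw [canonF_fuel hV k (k + 1) (hu.concat W (firstDesc_some h).1) (by omega) (by omega)]

/-! ### the images of words in a group -/

section group

variable {Γ : Type*} [Group Γ]

/-- the image of a word -/
def gW (g : ℕ → Γ) (u : List ℕ) : Γ := (u.map g).prod

theorem gW_nil (g : ℕ → Γ) : gW g [] = 1 := rfl

theorem gW_append (g : ℕ → Γ) (u v : List ℕ) : gW g (u ++ v) = gW g u * gW g v := by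
  unfold gW; rw [List.map_append, List.prod_append]

theorem gW_singleton (g : ℕ → Γ) (i : ℕ) : gW g [i] = g i := by
  unfold gW; simp

theorem gW_reverse (g : ℕ → Γ) (l : ℕ) (hsq : ∀ i < l, g i * g i = 1) (u : List ℕ)
    (hu : ∀ x ∈ u, x < l) : gW g u.reverse = (gW g u)⁻¹ := by
  induction u with
  | nil => simp [gW]
  | cons i u ih =>
    rw [List.reverse_cons, gW_append, ih (fun x hx => hu x (List.mem_cons_of_mem _ hx)),
      gW_singleton, show i :: u = [i] ++ u from rfl, gW_append, gW_singleton, mul_inv_rev]
    congr 1
    exact (inv_eq_of_mul_eq_one_right (hsq i (hu i List.mem_cons_self))).symm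

variable (g : ℕ → Γ)

/-- the chain along an alternating word -/
theorem chain_alt (hV : W.Valid) {u : List ℕ} (hu : W.IsWord u) {a b : ℕ} (ha : a < W.l)
    (hb : b < W.l) (m : ℕ)
    (hdesc : ∀ k < m, W.act u (W.act (alt a b k) (W.p (nxt a b k))) < W.h)
    (IH : ∀ u', W.IsWord u' → W.inv u' < W.inv u → ∀ i < W.l, W.act u' (W.p i) < W.h →
      gW g (W.canon u') = gW g (W.canon (u' ++ [i])) * g i) :
    ∀ k, 1 ≤ k → k ≤ m → W.inv (u ++ alt a b k) + k ≤ W.inv u ∧
      gW g (W.canon (u ++ alt a b 1)) * g a
        = gW g (W.canon (u ++ alt a b k)) * gW g (alt a b k).reverse := by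
  have hd0 : 0 < m → W.act u (W.p a) < W.h := by
    intro hm
    simpa [alt, nxt, act] using hdesc 0 hm
  intro k hk1
  induction k with
  | zero => omega
  | succ k ih =>
    intro hkm
    rcases Nat.eq_zero_or_pos k with hk0 | hkpos
    · subst hk0
      constructor
      · have := hV.inv_desc hu ha (hd0 (by omega))
        show W.inv (u ++ [a]) + 1 ≤ W.inv u
        omega
      · show _ = gW g (W.canon (u ++ [a])) * gW g [a].reverse
        rw [List.reverse_singleton, gW_singleton]
        rfl
    · obtain ⟨h1, h2⟩ := ih hkpos (by omega)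
      have hwk : W.IsWord (u ++ alt a b k) := hu.append W (alt_lt a b W.l ha hb k)
      have hc := nxt_lt a b W.l ha hb k
      have hdk : W.act (u ++ alt a b k) (W.p (nxt a b k)) < W.h := by
        rw [act_append]
        exact hdesc k (by omega)
      have hlt := hV.inv_desc hwk hc hdk
      have e : u ++ alt a b k ++ [nxt a b k] = u ++ alt a b (k + 1) := by
        rw [alt_succ, List.append_assoc]
      rw [e] at hlt
      constructor
      · omega
      · have h3 := IH _ hwk (by omega) _ hc hdk
        rw [e] at h3
        rw [h2, h3, alt_succ, List.reverse_append, List.reverse_singleton, gW_append,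
          gW_singleton, mul_assoc]

/-- the hypotheses on the images of the generators -/
structure Rel (W : WD) (g : ℕ → Γ) : Prop where
  sq : ∀ i < W.l, g i * g i = 1
  braid : ∀ i < W.l, ∀ j < W.l, i ≠ j → gW g (alt i j (W.m i j)) = gW g (alt j i (W.m i j))
  m_pos : ∀ i < W.l, ∀ j < W.l, i ≠ j → 1 ≤ W.m i j

/-- the key lemma: the canonical word can be peeled at any descent -/
theorem canon_desc (hV : W.Valid) (hR : W.RankTwo) (hg : Rel W g) :
    ∀ N u, W.IsWord u → W.inv u = N → ∀ i < W.l, W.act u (W.p i) < W.h →
      gW g (W.canon u) = gW g (W.canon (u ++ [i])) * g i := by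
  intro N
  induction N using Nat.strong_induction_on with
  | _ N IH =>
    intro u hu hN i hi hd
    cases hj : W.firstDesc u with
    | none =>
      have := firstDesc_none hj i hi
      omega
    | some j =>
      obtain ⟨hjl, hdj⟩ := firstDesc_some hj
      rw [canon_some hV hu hj, gW_append, gW_singleton]
      by_cases hij : i = j
      · rw [hij]
      · have IH' : ∀ u', W.IsWord u' → W.inv u' < W.inv u → ∀ i < W.l, W.act u' (W.p i) < W.h →
            gW g (W.canon u') = gW g (W.canon (u' ++ [i])) * g i := by
          intro u' hu' hlt i' hi' hd'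
          exact IH (W.inv u') (by omega) u' hu' rfl i' hi' hd'
        have hji : j ≠ i := fun h => hij h.symm
        have hm1 := hg.m_pos j hjl i hi hji
        have c1 := (chain_alt g hV hu hjl hi (W.m j i)
          (hR u hu j hjl i hi hji hdj hd) IH' (W.m j i) hm1 (le_refl _)).2
        have hsymm := hV.m_symm i hi j hjl
        have c2 := (chain_alt g hV hu hi hjl (W.m j i)
          (by rw [← hsymm]; exact hR u hu i hi j hjl hij hd hdj) IH' (W.m j i) hm1 (le_refl _)).2
        have e1 : W.canon (u ++ alt j i (W.m j i)) = W.canon (u ++ alt i j (W.m j i)) := by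
          apply canon_congr hV
          intro r hr
          rw [act_append, act_append, hV.braid j hjl i hi hji r hr]
        have e2 : gW g (alt j i (W.m j i)).reverse = gW g (alt i j (W.m j i)).reverse := by
          rw [gW_reverse g W.l hg.sq _ (alt_lt j i W.l hjl hi _),
            gW_reverse g W.l hg.sq _ (alt_lt i j W.l hi hjl _), hg.braid j hjl i hi hji]
        have a1 : alt j i 1 = [j] := rfl
        have a2 : alt i j 1 = [i] := rfl
        rw [a1] at c1
        rw [a2] at c2
        rw [c1, c2, e1, e2]

/-- the canonical word of `u ++ [i]` -/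
theorem canon_concat (hV : W.Valid) (hR : W.RankTwo) (hg : Rel W g) {u : List ℕ}
    (hu : W.IsWord u) {i : ℕ} (hi : i < W.l) :
    gW g (W.canon (u ++ [i])) = gW g (W.canon u) * g i := by
  by_cases hd : W.act u (W.p i) < W.h
  · rw [canon_desc g hV hR hg _ u hu rfl i hi hd, mul_assoc, hg.sq i hi, mul_one]
  · have hpi := hV.p_lt i hi
    have hd' : W.act (u ++ [i]) (W.p i) < W.h := by
      rw [act_concat, hV.w_p i hi, hV.act_neg hu hpi, hV.neg_sign _ (hV.act_lt hu hpi)]
      omega
    rw [canon_desc g hV hR hg _ (u ++ [i]) (hu.concat W hi) rfl i hi hd']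
    have e : W.canon (u ++ [i] ++ [i]) = W.canon u := by
      apply canon_congr hV
      intro r hr
      rw [act_concat, act_concat, hV.w_w i hi r hr]
    rw [e]

/-- every word has the same image as its canonical word -/
theorem gW_canon (hV : W.Valid) (hR : W.RankTwo) (hg : Rel W g) (u : List ℕ) (hu : W.IsWord u) :
    gW g (W.canon u) = gW g u := by
  induction u using List.reverseRecOn with
  | nil =>
    have : W.firstDesc [] = none := by
      unfold firstDesc
      rw [List.find?_eq_none]
      intro i hi
      rw [List.mem_range] at hi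
      have := hV.p_pos i hi
      rw [decide_eq_true_eq]
      show ¬ W.p i < W.h
      omega
    rw [canon_none this]
  | append_singleton u i ih =>
    have hu' : W.IsWord u := fun x hx => hu x (List.mem_append_left _ hx)
    have hi : i < W.l := hu i (List.mem_append_right _ (List.mem_singleton.2 rfl))
    rw [canon_concat g hV hR hg hu' hi, ih hu', gW_append, gW_singleton]

/-- a word whose action has no descent has trivial image -/
theorem gW_eq_one (hV : W.Valid) (hR : W.RankTwo) (hg : Rel W g) (u : List ℕ) (hu : W.IsWord u)
    (h : ∀ i < W.l, W.h ≤ W.act u (W.p i)) : gW g u = 1 := by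
  rw [← gW_canon g hV hR hg u hu]
  have : W.firstDesc u = none := by
    unfold firstDesc
    rw [List.find?_eq_none]
    intro i hi
    rw [List.mem_range] at hi
    have := h i hi
    rw [decide_eq_true_eq]
    omega
  rw [canon_none this]
  rfl

/-- two words with the same action have the same image -/
theorem gW_eq_of_act_eq (hV : W.Valid) (hR : W.RankTwo) (hg : Rel W g) (u u' : List ℕ)
    (hu : W.IsWord u) (hu' : W.IsWord u') (h : ∀ r < W.n, W.act u r = W.act u' r) :
    gW g u = gW g u' := by
  rw [← gW_canon g hV hR hg u hu, ← gW_canon g hV hR hg u' hu', canon_congr hV h]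

end group

end WD

end Cfsg.Agent.Lib.Helper5.Chev
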