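import Cfsg.Agent.Lib.Helper5.Chev.Cox
import Mathlib

/-!
# The braid relations and the orders of the products of two generators (helper5)
-/

set_option autoImplicit false

namespace Cfsg.Agent.Lib.Helper5.Chev

namespace WD

variable {Γ : Type*} [Group Γ] (g : ℕ → Γ)

theorem gW_alt (i j k : ℕ) :
    gW g (alt i j (2 * k)) = (g i * g j) ^ k ∧ gW g (alt i j (2 * k + 1)) = (g i * g j) ^ k * g i := by
  induction k with
  | zero =>
    constructor
    · rw [pow_zero]; rfl
    · show gW g [i] = _
      rw [gW_singleton]; simp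
  | succ k ih =>
    have e1 : nxt i j (2 * k + 1) = j := by
      unfold nxt
      have : (2 * k + 1) % 2 = 1 := by omega
      simp [this]
    have e2 : nxt i j (2 * (k + 1)) = i := by
      unfold nxt
      have : (2 * (k + 1)) % 2 = 0 := by omega
      simp [this]
    have h1 : gW g (alt i j (2 * (k + 1))) = (g i * g j) ^ (k + 1) := by
      rw [show 2 * (k + 1) = (2 * k + 1) + 1 by ring, alt_succ, gW_append, gW_singleton, ih.2, e1,
        pow_succ, mul_assoc]
    refine ⟨h1, ?_⟩
    rw [alt_succ, gW_append, gW_singleton, h1, e2]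

/-- for involutions, the braid relation is the relation on the order of the product -/
theorem braid_iff (i j m : ℕ) (hi : g i * g i = 1) (hj : g j * g j = 1) :
    gW g (alt i j m) = gW g (alt j i m) ↔ (g i * g j) ^ m = 1 := by
  have hinv : g j * g i = (g i * g j)⁻¹ := by
    rw [eq_inv_iff_mul_eq_one]
    calc g j * g i * (g i * g j) = g j * (g i * g i) * g j := by group
      _ = 1 := by rw [hi, mul_one, hj]
  rcases Nat.even_or_odd' m with ⟨k, rfl | rfl⟩
  · rw [(gW_alt g i j k).1, (gW_alt g j i k).1, hinv, inv_pow, eq_inv_iff_mul_eq_one, ← pow_add,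
      two_mul]
  · rw [(gW_alt g i j k).2, (gW_alt g j i k).2, hinv, inv_pow]
    have hji : (g j)⁻¹ = g j := inv_eq_of_mul_eq_one_right hj
    constructor
    · intro h
      have : (g i * g j) ^ (2 * k + 1) = (g i * g j) ^ k * ((g i * g j) ^ k * g i) * g j := by
        rw [pow_succ, two_mul, pow_add]
        group
      rw [this, h]
      calc (g i * g j) ^ k * (((g i * g j) ^ k)⁻¹ * g j) * g j = g j * g j := by group
        _ = 1 := hj
    · intro h
      have e : (g i * g j) ^ k * ((g i * g j) ^ k * g i) * g j = 1 := by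
        rw [← h, pow_succ, two_mul, pow_add]
        group
      calc (g i * g j) ^ k * g i
          = ((g i * g j) ^ k)⁻¹ * ((g i * g j) ^ k * ((g i * g j) ^ k * g i) * g j) * (g j)⁻¹ := by
            group
        _ = ((g i * g j) ^ k)⁻¹ * g j := by rw [e, mul_one, hji]

end WD

end Cfsg.Agent.Lib.Helper5.Chev
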