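import Cfsg.Agent.Lib.Helper5.Chev.SimpleComp
import Mathlib

/-!
# The unipotent radical `U_J` is normalised by the root elements of `Φ⁺ ∪ Φ_J` (helper5)
-/

set_option autoImplicit false

namespace Cfsg.Agent.Lib.Helper5.Chev

open Cfsg.Lie
open scoped Matrix

/-- the property of the tables: for a positive root `s ≠ ± r`, every term of the commutator
formula for `(r, s)` is a positive root whose support contains every fundamental root of the
support of `s`, if `r` is positive, or every such root outside the support of `r` in general -/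
def LeviOK (T : FD) (D : ChevalleyDatum) (r : ℕ) : Prop :=
  ∀ s < D.nroots, D.IsPosRoot s → s ≠ r →
    (s = T.neg r → ¬ D.IsPosRoot r ∧
      ∀ i < D.rank, (T.corootL s).getD i 0 ≠ 0 → (T.corootL r).getD i 0 ≠ 0) ∧
    (s ≠ T.neg r → ∀ c ∈ T.commTerms r s, ∀ i < D.rank,
      (T.corootL s).getD i 0 ≠ 0 → (D.IsPosRoot r ∨ (T.corootL r).getD i 0 = 0) →
        D.IsPosRoot c.1 ∧ (T.corootL c.1).getD i 0 ≠ 0)

theorem FD.commTerms_nil (T : FD) (r s : ℕ) (h1 : T.ch r s = []) (h2 : T.ch s r = []) :
    T.commTerms r s = [] := by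
  unfold FD.commTerms FD.chainRoot
  simp [h1, h2]

/-- the boolean check, for the roots `lo ≤ r < lo + len`; the positive roots are those of index at
least half the number of roots -/
def levib (T : FD) (lo len : ℕ) : Bool :=
  forceNat T.nroots fun n => forceNat T.rank fun l => forceNat (Nat.div n 2) fun h =>
    (List.range' lo len).all fun r => forceNat (T.neg r) fun q =>
      allBelow n fun s => Nat.blt s h || Nat.beq s r ||
        cond (Nat.beq s q)
          (Nat.blt r h && allBelow l fun i =>
            zbeq ((T.corootL s).getD i 0) 0 || !zbeq ((T.corootL r).getD i 0) 0)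
          (((T.ch r s).isEmpty && (T.ch s r).isEmpty) ||
            (T.commTerms r s).all fun c => allBelow l fun i =>
              zbeq ((T.corootL s).getD i 0) 0 ||
                !(Nat.ble h r || zbeq ((T.corootL r).getD i 0) 0) ||
                (Nat.ble h c.1 && !zbeq ((T.corootL c.1).getD i 0) 0))

theorem leviOK_of_check {T : FD} {D : ChevalleyDatum} (hA : T.Agrees D)
    (hpos : ∀ r < D.nroots, (D.IsPosRoot r ↔ D.nroots / 2 ≤ r)) (lo len : ℕ)
    (h : levib T lo len = true) (r : ℕ) (hr : r < D.nroots) (h1 : lo ≤ r) (h2 : r < lo + len) :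
    LeviOK T D r := by
  unfold levib at h
  rw [forceNat_eq, forceNat_eq, forceNat_eq, hA.nroots_eq, hA.rank_eq, List.all_eq_true] at h
  have h3 := h r (by rw [List.mem_range'_1]; exact ⟨h1, h2⟩)
  rw [forceNat_eq] at h3
  have hdiv : Nat.div D.nroots 2 = D.nroots / 2 := rfl
  rw [hdiv] at h3
  intro s hs hps hne
  have h4 := allBelow_spec _ _ h3 s hs
  rw [Bool.or_eq_true, Bool.or_eq_true] at h4
  rcases h4 with (h4 | h4) | h4
  · rw [Nat.blt_eq] at h4
    have := (hpos s hs).1 hps
    omega
  · exact absurd (Nat.eq_of_beq_eq_true h4) hne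
  · constructor
    · intro he
      have hb : Nat.beq s (T.neg r) = true := by rw [he]; exact Nat.beq_refl _
      rw [hb, cond_true, Bool.and_eq_true, Nat.blt_eq] at h4
      refine ⟨?_, ?_⟩
      · intro hp
        have := (hpos r hr).1 hp
        omega
      · intro i hi hsi
        have h5 := allBelow_spec _ _ h4.2 i hi
        rw [Bool.or_eq_true] at h5
        rcases h5 with h5 | h5
        · exact absurd ((zbeq_iff _ _).1 h5) hsi
        · intro h0
          rw [h0] at h5
          exact absurd h5 (by decide)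
    · intro hne2
      have hb : Nat.beq s (T.neg r) = false := by
        cases hh : Nat.beq s (T.neg r)
        · rfl
        · exact absurd (Nat.eq_of_beq_eq_true hh) hne2
      rw [hb, cond_false, Bool.or_eq_true] at h4
      intro c hc i hi hsi hri
      rcases h4 with h4 | h4
      · rw [Bool.and_eq_true, List.isEmpty_iff, List.isEmpty_iff] at h4
        rw [FD.commTerms_nil T r s h4.1 h4.2] at hc
        exact absurd hc (List.not_mem_nil)
      rw [List.all_eq_true] at h4
      have h5 := allBelow_spec _ _ (h4 c hc) i hi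
      rw [Bool.or_eq_true, Bool.or_eq_true] at h5
      rcases h5 with (h5 | h5) | h5
      · exact absurd ((zbeq_iff _ _).1 h5) hsi
      · exfalso
        rcases hri with hri | hri
        · have := (hpos r hr).1 hri
          rw [← Nat.ble_eq] at this
          rw [this, Bool.true_or] at h5
          exact absurd h5 (by decide)
        · rw [hri] at h5
          have : zbeq 0 0 = true := (zbeq_iff _ _).2 rfl
          rw [this, Bool.or_true] at h5
          exact absurd h5 (by decide)
      · rw [Bool.and_eq_true, Nat.ble_eq] at h5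
        refine ⟨(hpos c.1 (FD.commTerms_lt hA r s hr hs c hc)).2 h5.1, ?_⟩
        intro h0
        have h6 := h5.2
        rw [h0] at h6
        exact absurd h6 (by decide)

theorem leviOK_all {T : FD} {D : ChevalleyDatum} (hA : T.Agrees D)
    (hpos : ∀ r < D.nroots, (D.IsPosRoot r ↔ D.nroots / 2 ≤ r)) (step k : ℕ) (hstep : 0 < step)
    (hn : D.nroots ≤ k * step) (h : ∀ q < k, levib T (q * step) step = true) :
    ∀ r < D.nroots, LeviOK T D r := by
  intro r hr
  have hq : r / step < k := by
    rw [Nat.div_lt_iff_lt_mul hstep]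
    omega
  have h1 : r / step * step ≤ r := Nat.div_mul_le_self r step
  have h2 : r < r / step * step + step := by
    have := Nat.lt_div_mul_add hstep (a := r)
    omega
  exact leviOK_of_check hA hpos _ step (h _ hq) r hr h1 h2

section

variable {F : Type*} [Field F] {T : FD} {D : ChevalleyDatum}

/-- the generators of `U_J` -/
def radSet (F : Type*) [Field F] (D : ChevalleyDatum) (J : Set ℕ) : Set (GL D.Idx F) :=
  {g | ∃ (r : ℕ) (t : F), D.IsPosRoot r ∧ ¬ D.InRootSub J r ∧
    (g : Matrix D.Idx D.Idx F) = D.x F r t}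

theorem unipotentRadical_eq (J : Set ℕ) :
    D.unipotentRadical F J = Subgroup.closure (radSet F D J) := rfl

theorem xU_mem_rad (hadd : AllAdd F D) (J : Set ℕ) (s : ℕ) (hs : D.IsPosRoot s)
    (hJ : ¬ D.InRootSub J s) (t : F) : hadd.xU s t ∈ Subgroup.closure (radSet F D J) :=
  Subgroup.subset_closure ⟨s, t, hs, hJ, rfl⟩

/-- a root outside `Φ_J` has a fundamental root outside `J` in its support -/
theorem exists_of_not_inRootSub (hA : T.Agrees D) (J : Set ℕ) (s : ℕ) (hs : s < D.nroots)
    (hJ : ¬ D.InRootSub J s) : ∃ i < D.rank, i ∉ J ∧ (T.corootL s).getD i 0 ≠ 0 := by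
  unfold ChevalleyDatum.InRootSub at hJ
  push Not at hJ
  obtain ⟨i, hi, hiJ, hne⟩ := hJ hs
  exact ⟨i, hi, hiJ, by rw [hA.coroot_eq s hs i hi]; exact hne⟩

theorem not_inRootSub_of (hA : T.Agrees D) (J : Set ℕ) (c : ℕ) (hc : c < D.nroots) (i : ℕ)
    (hi : i < D.rank) (hiJ : i ∉ J) (hne : (T.corootL c).getD i 0 ≠ 0) : ¬ D.InRootSub J c := by
  intro h
  apply hne
  rw [hA.coroot_eq c hc i hi]
  exact h.2 i hi hiJ

/-- a root element of a root of `Φ⁺ ∪ Φ_J` normalises `U_J` -/
theorem xU_mem_normalizer_rad (hA : T.Agrees D) (hadd : AllAdd F D) (J : Set ℕ) (r : ℕ)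
    (hr : r < D.nroots) (hlevi : LeviOK T D r) (hcomm : ∀ s < D.nroots, CommOK' F D r s)
    (hrJ : D.IsPosRoot r ∨ D.InRootSub J r) (t : F) :
    hadd.xU r t ∈ Subgroup.normalizer
      (Subgroup.closure (radSet F D J) : Set (GL D.Idx F)) := by
  have hq : D.neg r = T.neg r := FD.neg_eq' hA r hr
  -- the key conjugation
  have key : ∀ (t' : F) (g : GL D.Idx F), g ∈ radSet F D J →
      (hadd.xU r t')⁻¹ * g * hadd.xU r t' ∈ Subgroup.closure (radSet F D J) := by
    intro t' g hg
    obtain ⟨s, u, hs, hsJ, hgv⟩ := hg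
    have hg' : g = hadd.xU s u := Units.ext hgv
    rw [hg']
    by_cases hsr : s = r
    · subst hsr
      have : (hadd.xU s t')⁻¹ * hadd.xU s u * hadd.xU s t' = hadd.xU s u := by
        rw [mul_assoc, inv_mul_eq_iff_eq_mul]
        apply Units.ext
        rw [Units.val_mul, Units.val_mul]
        show D.x F s u * D.x F s t' = D.x F s t' * D.x F s u
        rw [hadd s hr, hadd s hr, add_comm]
      rw [this]
      exact xU_mem_rad hadd J s hs hsJ u
    · obtain ⟨i0, hi0, hi0J, hne0⟩ := exists_of_not_inRootSub hA J s hs.1 hsJ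
      have hl := hlevi s hs.1 hs hsr
      have hri0 : D.IsPosRoot r ∨ (T.corootL r).getD i0 0 = 0 := by
        rcases hrJ with h | h
        · exact Or.inl h
        · right
          rw [hA.coroot_eq r hr i0 hi0]
          exact h.2 i0 hi0 hi0J
      have hne2 : s ≠ T.neg r := by
        intro he
        obtain ⟨h1, h2⟩ := hl.1 he
        rcases hri0 with h | h
        · exact h1 h
        · exact h2 i0 hi0 hne0 h
      have hcm : CommOK F D r s := by
        rcases hcomm s hs.1 with h | h | h
        · exact absurd h hsr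
        · rw [hq] at h; exact absurd h hne2
        · exact h
      rw [hadd.conj_of_comm r s hcm t' u]
      apply Subgroup.mul_mem _ (xU_mem_rad hadd J s hs hsJ u)
      unfold AllAdd.wordU
      apply Subgroup.list_prod_mem
      intro y hy
      rw [List.mem_map] at hy
      obtain ⟨pr, hpr, rfl⟩ := hy
      unfold ChevalleyDatum.commWord at hpr
      rw [List.mem_map] at hpr
      obtain ⟨c, hc', rfl⟩ := hpr
      rw [FD.commTerms_eq hA r s hr hs.1] at hc'
      obtain ⟨hcpos, hcne⟩ := hl.2 hne2 c hc' i0 hi0 hne0 hri0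
      exact xU_mem_rad hadd J c.1 hcpos
        (not_inRootSub_of hA J c.1 hcpos.1 i0 hi0 hi0J hcne) _
  have hinv : (hadd.xU r t)⁻¹ = hadd.xU r (-t) := by
    rw [inv_eq_iff_mul_eq_one]
    apply Units.ext
    rw [Units.val_mul]
    exact hadd.x_mul_neg r t
  apply mem_normalizer_closure
  · intro g hg
    have := key (-t) g hg
    rw [← hinv, inv_inv] at this
    exact this
  · intro g hg
    exact key t g hg

end

end Cfsg.Agent.Lib.Helper5.Chev
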