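import Cfsg.Agent.Lib.Helper5.Chev.TriStmts
import Cfsg.Agent.Lib.Helper5.Chev.Levi
import Cfsg.Agent.Lib.Helper5.Chev.Core
import Mathlib

/-!
# The grading of the adjoint module by the level of a root outside `J` (helper5)
-/

set_option autoImplicit false

namespace Cfsg.Agent.Lib.Helper5.Chev

open Cfsg.Lie
open scoped Matrix

/-- the positive roots are those of the second half -/
theorem pos_iff_of_tri {T : FD} {D : ChevalleyDatum} (hA : T.Agrees D)
    (htri : ∀ r < D.nroots, TriOK T D r)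
    (hpn : ∀ r < D.nroots, D.IsPosRoot r ∨ D.IsNegRoot r) :
    ∀ r < D.nroots, (D.IsPosRoot r ↔ D.nroots / 2 ≤ r) := by
  intro r hr
  constructor
  · intro hp
    have := ((htri r hr).1 hp).1
    rwa [hA.nroots_eq] at this
  · intro h
    rcases hpn r hr with hp | hn
    · exact hp
    · have := ((htri r hr).2 hn).1
      rw [hA.nroots_eq] at this
      omega

/-- the coordinate of index `i` of the root `r`, from a table -/
def mOf (mT : BT (List ℤ)) (r i : ℕ) : ℤ := (mT.get [] r).getD i 0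

/-- the property of a table of coordinates of the roots: same support as the coroot, non-negative
on the second half of the roots, opposite on opposite roots, additive along the chains -/
structure RootCoordOK (T : FD) (D : ChevalleyDatum) (mT : BT (List ℤ)) (r : ℕ) : Prop where
  supp : ∀ i < D.rank, (mOf mT r i = 0 ↔ (T.corootL r).getD i 0 = 0)
  pos : D.nroots / 2 ≤ r → ∀ i < D.rank, 0 ≤ mOf mT r i
  neg : ∀ i < D.rank, mOf mT (T.neg r) i = - mOf mT r i
  chain : ∀ s < D.nroots, ∀ q ∈ T.ch r s, q.1 ≠ s ∧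
    ∃ k : ℕ, 1 ≤ k ∧ ∀ i < D.rank, mOf mT q.1 i = mOf mT s i + k * mOf mT r i

/-- non-negativity of an integer -/
def znonneg : ℤ → Bool
  | Int.ofNat _ => true
  | Int.negSucc _ => false

theorem znonneg_iff (z : ℤ) : znonneg z = true ↔ 0 ≤ z := by
  cases z with
  | ofNat n => simp [znonneg]
  | negSucc n => simp [znonneg]

/-- equality of booleans -/
def beqb : Bool → Bool → Bool
  | true, b => b
  | false, b => !b

theorem beqb_iff (a b : Bool) : beqb a b = true ↔ a = b := by
  cases a <;> cases b <;> simp [beqb]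

/-- the boolean check, for the roots `lo ≤ r < lo + len` -/
def rcb (T : FD) (mT : BT (List ℤ)) (lo len : ℕ) : Bool :=
  forceNat T.nroots fun n => forceNat T.rank fun l => forceNat (Nat.div n 2) fun h =>
    (List.range' lo len).all fun r =>
      (allBelow l fun i =>
        beqb (zbeq (mOf mT r i) 0) (zbeq ((T.corootL r).getD i 0) 0)) &&
      (Nat.blt r h || allBelow l fun i => znonneg (mOf mT r i)) &&
      (allBelow l fun i => zbeq (mOf mT (T.neg r) i) (Int.neg (mOf mT r i))) &&
      allBelow n fun s => allIdxFrom (fun k q => !Nat.beq q.1 s && allBelow l fun i =>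
        zbeq (mOf mT q.1 i)
          (Int.add (mOf mT s i) (Int.mul (Int.ofNat (Nat.succ k)) (mOf mT r i)))) (T.ch r s) 0

theorem rootCoordOK_of_check {T : FD} {D : ChevalleyDatum} (hA : T.Agrees D) (mT : BT (List ℤ))
    (lo len : ℕ) (h : rcb T mT lo len = true) (r : ℕ) (h1 : lo ≤ r) (h2 : r < lo + len) :
    RootCoordOK T D mT r := by
  unfold rcb at h
  rw [forceNat_eq, forceNat_eq, forceNat_eq, hA.nroots_eq, hA.rank_eq, List.all_eq_true] at h
  have h3 := h r (by rw [List.mem_range'_1]; exact ⟨h1, h2⟩)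
  have hdiv : Nat.div D.nroots 2 = D.nroots / 2 := rfl
  rw [hdiv, Bool.and_eq_true, Bool.and_eq_true, Bool.and_eq_true] at h3
  obtain ⟨⟨⟨k1, k2⟩, k3⟩, k4⟩ := h3
  refine ⟨?_, ?_, ?_, ?_⟩
  · intro i hi
    have := allBelow_spec _ _ k1 i hi
    rw [beqb_iff] at this
    rw [← zbeq_iff, ← zbeq_iff, this]
  · intro hp i hi
    rw [Bool.or_eq_true, Nat.blt_eq] at k2
    rcases k2 with k2 | k2
    · omega
    · exact (znonneg_iff _).1 (allBelow_spec _ _ k2 i hi)
  · intro i hi
    exact (zbeq_iff _ _).1 (allBelow_spec _ _ k3 i hi)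
  · intro s hs q hq
    have k5 := allBelow_spec _ _ k4 s hs
    obtain ⟨j, hj, rfl⟩ := List.getElem_of_mem hq
    have k6 := allIdxFrom_spec _ _ 0 k5 j hj
    rw [Bool.and_eq_true] at k6
    refine ⟨?_, 0 + j + 1, by omega, ?_⟩
    · intro he
      have := k6.1
      rw [he] at this
      simp at this
    · intro i hi
      have := (zbeq_iff _ _).1 (allBelow_spec _ _ k6.2 i hi)
      rw [this]
      show mOf mT s i + ((Nat.succ (0 + j) : ℕ) : ℤ) * mOf mT r i = _
      rfl

theorem rootCoordOK_all {T : FD} {D : ChevalleyDatum} (hA : T.Agrees D) (mT : BT (List ℤ))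
    (step k : ℕ) (hstep : 0 < step)
    (hn : D.nroots ≤ k * step) (h : ∀ q < k, rcb T mT (q * step) step = true) :
    ∀ r < D.nroots, RootCoordOK T D mT r := by
  intro r hr
  have hq : r / step < k := by
    rw [Nat.div_lt_iff_lt_mul hstep]
    omega
  have h1 : r / step * step ≤ r := Nat.div_mul_le_self r step
  have h2 : r < r / step * step + step := by
    have := Nat.lt_div_mul_add hstep (a := r)
    omega
  exact rootCoordOK_of_check hA mT _ step (h _ hq) r h1 h2

/-! ### the level outside `J` -/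

section

open Classical

/-- the sum of the coordinates of `r` outside `J` -/
noncomputable def lamJ (mT : BT (List ℤ)) (l : ℕ) (J : Set ℕ) (r : ℕ) : ℤ :=
  ∑ i ∈ Finset.range l, if i ∈ J then 0 else mOf mT r i

/-- the grading: `0` on the Cartan part, the level outside `J` on the root vectors -/
noncomputable def gradeJ (D : ChevalleyDatum) (mT : BT (List ℤ)) (J : Set ℕ) : D.Idx → ℤ :=
  Sum.elim (fun _ => 0) (fun v => lamJ mT D.rank J v.val)

theorem lamJ_add (mT : BT (List ℤ)) (l : ℕ) (J : Set ℕ) (q s r : ℕ) (k : ℕ)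
    (h : ∀ i < l, mOf mT q i = mOf mT s i + k * mOf mT r i) :
    lamJ mT l J q = lamJ mT l J s + k * lamJ mT l J r := by
  unfold lamJ
  rw [Finset.mul_sum, ← Finset.sum_add_distrib]
  apply Finset.sum_congr rfl
  intro i hi
  rw [Finset.mem_range] at hi
  split_ifs
  · simp
  · exact h i hi

theorem lamJ_neg (mT : BT (List ℤ)) (l : ℕ) (J : Set ℕ) (q r : ℕ)
    (h : ∀ i < l, mOf mT q i = - mOf mT r i) :
    lamJ mT l J q = - lamJ mT l J r := by
  unfold lamJ
  rw [← Finset.sum_neg_distrib]
  apply Finset.sum_congr rfl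
  intro i hi
  rw [Finset.mem_range] at hi
  split_ifs
  · simp
  · exact h i hi

theorem lamJ_eq_zero (mT : BT (List ℤ)) (l : ℕ) (J : Set ℕ) (r : ℕ)
    (h : ∀ i < l, i ∉ J → mOf mT r i = 0) : lamJ mT l J r = 0 := by
  unfold lamJ
  apply Finset.sum_eq_zero
  intro i hi
  rw [Finset.mem_range] at hi
  split_ifs with hJ
  · rfl
  · exact h i hi hJ

theorem lamJ_pos (mT : BT (List ℤ)) (l : ℕ) (J : Set ℕ) (r : ℕ)
    (h : ∀ i < l, 0 ≤ mOf mT r i) (i0 : ℕ) (hi0 : i0 < l) (hJ : i0 ∉ J)
    (hne : mOf mT r i0 ≠ 0) : 1 ≤ lamJ mT l J r := by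
  unfold lamJ
  have h1 : ∀ i ∈ Finset.range l, 0 ≤ (if i ∈ J then 0 else mOf mT r i) := by
    intro i hi
    rw [Finset.mem_range] at hi
    split_ifs
    · exact le_refl _
    · exact h i hi
  have h2 := Finset.single_le_sum h1 (Finset.mem_range.2 hi0)
  rw [if_neg hJ] at h2
  have := h i0 hi0
  omega

end

section

variable {F : Type*} [Field F] {T : FD} {D : ChevalleyDatum}

/-- the non-zero entries of `x_r(t) - 1` raise a grading given by an additive level by a positive
multiple of the level of `r` -/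
theorem graded_x (hA : T.Agrees D) (b : D.Idx → ℤ) (lam : ℕ → ℤ)
    (hbl : ∀ i, b (Sum.inl i) = 0) (hbr : ∀ v : Fin D.nroots, b (Sum.inr v) = lam v.val)
    (r : ℕ) (hr : r < D.nroots) (hneg : lam (D.neg r) = - lam r)
    (hch : ∀ s < D.nroots, ∀ q ∈ T.ch r s, q.1 ≠ s ∧ ∃ k : ℕ, 1 ≤ k ∧ lam q.1 = lam s + k * lam r)
    (t : F) (u s : D.Idx) (hne : (D.x F r t - 1) u s ≠ 0) :
    ∃ k : ℕ, 1 ≤ k ∧ b u = b s + k * lam r := by
  rw [x_eq_xMat r hr] at hne
  have hnegI : D.negIdx.getD r 0 = D.neg r := rfl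
  rw [Matrix.sub_apply] at hne
  rcases u with k | u <;> rcases s with j | s
  · rw [xMat_ll, Matrix.one_apply] at hne
    simp only [Sum.inl.injEq] at hne
    exact absurd (sub_self _) hne
  · rw [xMat_lr, Matrix.one_apply_ne (by simp)] at hne
    split_ifs at hne with hc
    · refine ⟨1, le_refl _, ?_⟩
      rw [hbl, hbr, hc.1, hnegI, hneg]
      push_cast
      ring
    · simp at hne
  · rw [xMat_rl, Matrix.one_apply_ne (by simp)] at hne
    split_ifs at hne with hc
    · subst hc
      refine ⟨1, le_refl _, ?_⟩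
      rw [hbl, hbr]
      push_cast
      ring
    · simp at hne
  · by_cases hus : u = s
    · subst hus
      exfalso
      apply hne
      rw [Matrix.one_apply_eq, sub_eq_zero]
      simp only [ChevalleyDatum.xMat, Matrix.of_apply]
      by_cases hc1 : u = ⟨r, hr⟩
      · simp [hc1]
      · rw [if_neg hc1]
        by_cases hc2 : u.val = D.negIdx.getD r 0
        · simp [hc2]
        · rw [if_neg hc2]
          have hcoef : D.chainCoeff r u.val u.val = [] := by
            by_contra hcon
            rw [FD.chainCoeff_eq hA r u.val u.val hr u.2] at hcon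
            obtain ⟨q, hq, hqu⟩ := mem_of_coeffOf_ne_nil _ _ hcon
            exact (hch u.val u.2 q hq).1 hqu
          simp [hcoef]
    · rw [Matrix.one_apply_ne (fun hh => hus (Sum.inr.inj hh)), sub_zero] at hne
      simp only [ChevalleyDatum.xMat, Matrix.of_apply] at hne
      by_cases hc1 : s = ⟨r, hr⟩
      · rw [if_pos hc1] at hne
        subst hc1
        rw [if_neg hus] at hne
        exact absurd rfl hne
      · rw [if_neg hc1] at hne
        by_cases hc2 : s.val = D.negIdx.getD r 0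
        · rw [if_pos hc2, if_neg hus] at hne
          split_ifs at hne with hc3
          · subst hc3
            refine ⟨2, by norm_num, ?_⟩
            rw [hbr, hbr, hc2, hnegI, hneg]
            push_cast
            ring
          · exact absurd rfl hne
        · rw [if_neg hc2, if_neg hus, zero_add] at hne
          have hcoef : D.chainCoeff r s.val u.val ≠ [] := by
            intro hcon
            apply hne
            rw [hcon]
            rfl
          rw [FD.chainCoeff_eq hA r s.val u.val hr s.2] at hcoef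
          obtain ⟨q, hq, hqu⟩ := mem_of_coeffOf_ne_nil _ _ hcoef
          obtain ⟨-, k, hk, hk2⟩ := hch s.val s.2 q hq
          refine ⟨k, hk, ?_⟩
          rw [hbr, hbr, ← hqu, hk2]

theorem gradeJ_inl (D : ChevalleyDatum) (mT : BT (List ℤ)) (J : Set ℕ) (i : Fin D.rank) :
    gradeJ D mT J (Sum.inl i) = 0 := rfl

theorem gradeJ_inr (D : ChevalleyDatum) (mT : BT (List ℤ)) (J : Set ℕ) (v : Fin D.nroots) :
    gradeJ D mT J (Sum.inr v) = lamJ mT D.rank J v.val := rfl

/-- the entries of `x_r(t) - 1` for the grading outside `J` -/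
theorem graded_x_J (hA : T.Agrees D) (mT : BT (List ℤ))
    (hrc : ∀ r < D.nroots, RootCoordOK T D mT r) (J : Set ℕ) (r : ℕ) (hr : r < D.nroots)
    (t : F) (u s : D.Idx) (hne : (D.x F r t - 1) u s ≠ 0) :
    ∃ k : ℕ, 1 ≤ k ∧ gradeJ D mT J u = gradeJ D mT J s + k * lamJ mT D.rank J r := by
  apply graded_x hA (gradeJ D mT J) (lamJ mT D.rank J) (gradeJ_inl D mT J) (gradeJ_inr D mT J)
    r hr ?_ ?_ t u s hne
  · rw [FD.neg_eq' hA r hr]
    exact lamJ_neg mT D.rank J _ r (hrc r hr).neg
  · intro s' hs' q hq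
    obtain ⟨h1, k, hk, h2⟩ := (hrc r hr).chain s' hs' q hq
    exact ⟨h1, k, hk, lamJ_add mT D.rank J _ _ _ k h2⟩

/-- `U_J` is unitriangular for the grading outside `J` -/
theorem radical_le_UG (hA : T.Agrees D) (hadd : AllAdd F D) (mT : BT (List ℤ))
    (hrc : ∀ r < D.nroots, RootCoordOK T D mT r)
    (hpos : ∀ r < D.nroots, (D.IsPosRoot r ↔ D.nroots / 2 ≤ r)) (J : Set ℕ) :
    D.unipotentRadical F J ≤ UG (gradeJ D mT J) 1 := by
  unfold ChevalleyDatum.unipotentRadical
  rw [Subgroup.closure_le]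
  rintro g ⟨r, t, hr, hrJ, hg⟩
  have : g = hadd.xU r t := Units.ext hg
  subst this
  obtain ⟨i0, hi0, hi0J, hne0⟩ := exists_of_not_inRootSub hA J r hr.1 hrJ
  have hlam : 1 ≤ lamJ mT D.rank J r := by
    apply lamJ_pos mT D.rank J r ((hrc r hr.1).pos ((hpos r hr.1).1 hr)) i0 hi0 hi0J
    intro h0
    exact hne0 (((hrc r hr.1).supp i0 hi0).1 h0)
  have key : ∀ t' : F, Filt (gradeJ D mT J) 1 (D.x F r t' - 1) := by
    intro t' u s hne
    obtain ⟨k, hk, he⟩ := graded_x_J hA mT hrc J r hr.1 t' u s hne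
    rw [he]
    have : (1 : ℤ) ≤ k := by exact_mod_cast hk
    nlinarith
  have hinv : (hadd.xU r t)⁻¹ = hadd.xU r (-t) := by
    rw [inv_eq_iff_mul_eq_one]
    apply Units.ext
    rw [Units.val_mul]
    exact hadd.x_mul_neg r t
  constructor
  · rw [Nat.cast_one]
    exact key t
  · rw [Nat.cast_one, hinv]
    exact key (-t)

/-- `L_J` preserves the grading outside `J` -/
theorem levi_le_BG (hD : D ∈ [chevG2, chevB2, chevD4, chevF4, chevE6, chevE7, chevE8])
    (hA : T.Agrees D) (hadd : AllAdd F D) (mT : BT (List ℤ))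
    (hrc : ∀ r < D.nroots, RootCoordOK T D mT r) (J : Set ℕ) :
    D.leviSubgroup F J ≤ BG (fun u => - gradeJ D mT J u) := by
  unfold ChevalleyDatum.leviSubgroup
  apply sup_le (diagonal_le_BG hD _)
  rw [Subgroup.closure_le]
  rintro g ⟨r, t, hrJ, hg⟩
  have : g = hadd.xU r t := Units.ext hg
  subst this
  have hlam : lamJ mT D.rank J r = 0 := by
    apply lamJ_eq_zero
    intro i hi hiJ
    rw [((hrc r hrJ.1).supp i hi), hA.coroot_eq r hrJ.1 i hi]
    exact hrJ.2 i hi hiJ
  have key : ∀ t' : F, Filt (fun u => - gradeJ D mT J u) 0 (D.x F r t') := by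
    intro t'
    apply filt_zero_of_sub_one (le_refl 0)
    intro u s hne
    obtain ⟨k, hk, he⟩ := graded_x_J hA mT hrc J r hrJ.1 t' u s hne
    rw [hlam, mul_zero, add_zero] at he
    show - gradeJ D mT J s + 0 ≤ - gradeJ D mT J u
    rw [he, add_zero]
  have hinv : (hadd.xU r t)⁻¹ = hadd.xU r (-t) := by
    rw [inv_eq_iff_mul_eq_one]
    apply Units.ext
    rw [Units.val_mul]
    exact hadd.x_mul_neg r t
  constructor
  · exact key t
  · rw [hinv]
    exact key (-t)

/-- `U_J ∩ L_J = 1` -/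
theorem radical_inf_levi (hD : D ∈ [chevG2, chevB2, chevD4, chevF4, chevE6, chevE7, chevE8])
    (hA : T.Agrees D) (hadd : AllAdd F D) (mT : BT (List ℤ))
    (hrc : ∀ r < D.nroots, RootCoordOK T D mT r)
    (hpos : ∀ r < D.nroots, (D.IsPosRoot r ↔ D.nroots / 2 ≤ r)) (J : Set ℕ) :
    D.unipotentRadical F J ⊓ D.leviSubgroup F J = ⊥ := by
  rw [eq_bot_iff]
  rintro g ⟨h1, h2⟩
  rw [Subgroup.mem_bot]
  apply eq_one_of_BG_of_UG_neg (fun u => - gradeJ D mT J u) g (levi_le_BG hD hA hadd mT hrc J h2)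
  have h3 := radical_le_UG hA hadd mT hrc hpos J h1
  have e : (fun u => - - gradeJ D mT J u) = gradeJ D mT J := by
    funext u
    exact neg_neg _
  rw [e]
  exact h3

end

end Cfsg.Agent.Lib.Helper5.Chev
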