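import Cfsg.Agent.Lib.Helper5.Chev.Cox
import Cfsg.Agent.Lib.Helper5.Chev.LeviGrade
import Mathlib

/-!
# The reflection data of a Chevalley datum (helper5)
-/

set_option autoImplicit false

namespace Cfsg.Agent.Lib.Helper5.Chev

open Cfsg.Lie
open scoped Matrix

/-- the entry of a table of orders -/
def mOfL (mLL : List (List ℕ)) (i j : ℕ) : ℕ := (mLL.getD i []).getD j 0

/-- the reflection data of a fast datum -/
def wdOf (T : FD) (Bs : List ℕ) (mLL : List (List ℕ)) : WD :=
  ⟨T.nroots, T.rank, T.nroots / 2, fun i r => wOf (Bs.getD i 0) r, T.simple, T.neg, mOfL mLL⟩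

/-- the coordinate `k` of the coroot of `r` -/
def vOf (T : FD) (r k : ℕ) : ℤ := (T.corootL r).getD k 0

/-- positivity of an integer -/
def zpos : ℤ → Bool
  | Int.ofNat n => !Nat.beq n 0
  | Int.negSucc _ => false

theorem zpos_iff (z : ℤ) : zpos z = true ↔ 0 < z := by
  cases z with
  | ofNat n =>
    cases n with
    | zero => simp [zpos]
    | succ k =>
      simp only [zpos, Nat.beq, Bool.not_false, Int.ofNat_eq_natCast, true_iff]
      omega
  | negSucc n => simp [zpos]

/-- non-positivity of an integer -/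
def znonpos : ℤ → Bool
  | Int.ofNat n => Nat.beq n 0
  | Int.negSucc _ => true

theorem znonpos_iff (z : ℤ) : znonpos z = true ↔ z ≤ 0 := by
  cases z with
  | ofNat n =>
    cases n with
    | zero => simp [znonpos]
    | succ k =>
      simp only [znonpos, Nat.beq, Int.ofNat_eq_natCast, Bool.false_eq_true, false_iff]
      omega
  | negSucc n =>
    simp only [znonpos, true_iff]
    omega

/-- there is an index below `l` with the property -/
def anyBelow : ℕ → (ℕ → Bool) → Bool
  | 0, _ => false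
  | k + 1, p => p k || anyBelow k p

theorem anyBelow_spec (n : ℕ) (p : ℕ → Bool) (h : anyBelow n p = true) : ∃ k < n, p k = true := by
  induction n with
  | zero => simp [anyBelow] at h
  | succ n ih =>
    rw [anyBelow, Bool.or_eq_true] at h
    rcases h with h | h
    · exact ⟨n, by omega, h⟩
    · obtain ⟨k, hk, hp⟩ := ih h
      exact ⟨k, by omega, hp⟩

/-- the checks on the tables: signs of the coordinates, positivity of the fundamental roots,
the reflections permute the other positive roots -/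
def coxb1 (T : FD) (Bs : List ℕ) : Bool :=
  forceNat T.nroots fun n => forceNat T.rank fun l => forceNat (Nat.div n 2) fun h =>
    (allBelow n fun r => beqb (Nat.blt (T.neg r) h) (Nat.ble h r) &&
      cond (Nat.blt r h) (allBelow l fun k => znonpos (vOf T r k))
        (anyBelow l fun k => zpos (vOf T r k))) &&
    (allBelow l fun i => forceNat (T.simple i) fun p => Nat.ble h p &&
      Nat.beq (wOf (Bs.getD i 0) p) (T.neg p) &&
      (allBelow l fun k => zbeq (vOf T p k) (cond (Nat.beq k i) 1 0)) &&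
      allBelow n fun r => Nat.blt r h || Nat.beq r p || Nat.ble h (wOf (Bs.getD i 0) r))

/-- the checks on a pair of fundamental reflections: symmetry of the order, the braid relation on
the roots, the positive roots of the rank two subsystem -/
def coxb2 (T : FD) (Bs : List ℕ) (mLL : List (List ℕ)) (i j : ℕ) : Bool :=
  forceNat T.nroots fun n => forceNat T.rank fun l =>
    forceNat (mOfL mLL i j) fun m =>
      Nat.beq (mOfL mLL j i) m && Nat.ble 1 m &&
      (allBelow n fun r => Nat.beq ((wdOf T Bs mLL).act (WD.alt i j m) r)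
        ((wdOf T Bs mLL).act (WD.alt j i m) r)) &&
      (allBelow m fun k =>
        forceNat ((wdOf T Bs mLL).act (WD.alt i j k) (T.simple (WD.nxt i j k))) fun α =>
          znonneg (vOf T α i) && znonneg (vOf T α j) &&
          allBelow l fun k' => Nat.beq k' i || Nat.beq k' j || zbeq (vOf T α k') 0) &&
      Nat.beq ((wdOf T Bs mLL).act (WD.alt i j (Nat.pred m)) (T.simple (WD.nxt i j (Nat.pred m))))
        (T.simple j)

/-- the checks on all pairs -/
def coxb (T : FD) (Bs : List ℕ) (mLL : List (List ℕ)) : Bool :=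
  coxb1 T Bs && forceNat T.rank fun l =>
    allBelow l fun i => allBelow l fun j => Nat.beq i j || coxb2 T Bs mLL i j

/-! ### consequences of the checks -/

/-- the facts read off the first check -/
structure Cox1 (T : FD) (Bs : List ℕ) : Prop where
  neg_sign : ∀ r < T.nroots, (T.neg r < T.nroots / 2 ↔ T.nroots / 2 ≤ r)
  v_neg : ∀ r < T.nroots, r < T.nroots / 2 → ∀ k < T.rank, vOf T r k ≤ 0
  v_pos : ∀ r < T.nroots, T.nroots / 2 ≤ r → ∃ k < T.rank, 0 < vOf T r k
  p_pos : ∀ i < T.rank, T.nroots / 2 ≤ T.simple i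
  w_p : ∀ i < T.rank, wOf (Bs.getD i 0) (T.simple i) = T.neg (T.simple i)
  v_p : ∀ i < T.rank, ∀ k < T.rank, vOf T (T.simple i) k = if k = i then 1 else 0
  w_pos : ∀ i < T.rank, ∀ r < T.nroots, T.nroots / 2 ≤ r → r ≠ T.simple i →
    T.nroots / 2 ≤ wOf (Bs.getD i 0) r

theorem cox1_of_check (T : FD) (Bs : List ℕ) (h : coxb1 T Bs = true) : Cox1 T Bs := by
  unfold coxb1 at h
  rw [forceNat_eq, forceNat_eq, forceNat_eq, Bool.and_eq_true] at h
  have hdiv : Nat.div T.nroots 2 = T.nroots / 2 := rfl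
  rw [hdiv] at h
  obtain ⟨h1, h2⟩ := h
  have k1 : ∀ r < T.nroots, _ := fun r hr => allBelow_spec _ _ h1 r hr
  have k2 : ∀ i < T.rank, _ := fun i hi => allBelow_spec _ _ h2 i hi
  simp only [forceNat_eq, Bool.and_eq_true] at k1 k2
  refine ⟨?_, ?_, ?_, ?_, ?_, ?_, ?_⟩
  · intro r hr
    have := (k1 r hr).1
    rw [beqb_iff] at this
    constructor
    · intro hlt
      rw [← Nat.blt_eq, this, Nat.ble_eq] at hlt
      exact hlt
    · intro hle
      rw [← Nat.ble_eq, ← this, Nat.blt_eq] at hle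
      exact hle
  · intro r hr hlt k hk
    have := (k1 r hr).2
    have hb : Nat.blt r (T.nroots / 2) = true := by rw [Nat.blt_eq]; exact hlt
    rw [hb, cond_true] at this
    exact (znonpos_iff _).1 (allBelow_spec _ _ this k hk)
  · intro r hr hle
    have := (k1 r hr).2
    have hb : Nat.blt r (T.nroots / 2) = false := by
      cases hh : Nat.blt r (T.nroots / 2)
      · rfl
      · rw [Nat.blt_eq] at hh; omega
    rw [hb, cond_false] at this
    obtain ⟨k, hk, hp⟩ := anyBelow_spec _ _ this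
    exact ⟨k, hk, (zpos_iff _).1 hp⟩
  · intro i hi
    have := (k2 i hi).1.1.1
    rwa [Nat.ble_eq] at this
  · intro i hi
    exact Nat.eq_of_beq_eq_true (k2 i hi).1.1.2
  · intro i hi k hk
    have := (zbeq_iff _ _).1 (allBelow_spec _ _ (k2 i hi).1.2 k hk)
    rw [this]
    by_cases hki : k = i
    · rw [if_pos hki, hki, Nat.beq_refl]; rfl
    · rw [if_neg hki]
      have : Nat.beq k i = false := by
        cases hh : Nat.beq k i
        · rfl
        · exact absurd (Nat.eq_of_beq_eq_true hh) hki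
      rw [this]; rfl
  · intro i hi r hr hle hne
    have := allBelow_spec _ _ (k2 i hi).2 r hr
    rw [Bool.or_eq_true, Bool.or_eq_true, Nat.blt_eq, Nat.ble_eq] at this
    rcases this with (h3 | h3) | h3
    · omega
    · exact absurd (Nat.eq_of_beq_eq_true h3) hne
    · exact h3

/-- the facts read off the check of a pair -/
structure Cox2 (T : FD) (Bs : List ℕ) (mLL : List (List ℕ)) (i j : ℕ) : Prop where
  m_symm : mOfL mLL j i = mOfL mLL i j
  m_pos : 1 ≤ mOfL mLL i j
  braid : ∀ r < T.nroots, (wdOf T Bs mLL).act (WD.alt i j (mOfL mLL i j)) r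
    = (wdOf T Bs mLL).act (WD.alt j i (mOfL mLL i j)) r
  rk2 : ∀ k < mOfL mLL i j,
    0 ≤ vOf T ((wdOf T Bs mLL).act (WD.alt i j k) (T.simple (WD.nxt i j k))) i ∧
    0 ≤ vOf T ((wdOf T Bs mLL).act (WD.alt i j k) (T.simple (WD.nxt i j k))) j ∧
    ∀ k' < T.rank, k' ≠ i → k' ≠ j →
      vOf T ((wdOf T Bs mLL).act (WD.alt i j k) (T.simple (WD.nxt i j k))) k' = 0
  last : (wdOf T Bs mLL).act (WD.alt i j (mOfL mLL i j - 1))
    (T.simple (WD.nxt i j (mOfL mLL i j - 1))) = T.simple j

theorem cox2_of_check (T : FD) (Bs : List ℕ) (mLL : List (List ℕ)) (i j : ℕ)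
    (h : coxb2 T Bs mLL i j = true) : Cox2 T Bs mLL i j := by
  unfold coxb2 at h
  rw [forceNat_eq, forceNat_eq, forceNat_eq, Bool.and_eq_true, Bool.and_eq_true,
    Bool.and_eq_true, Bool.and_eq_true] at h
  obtain ⟨⟨⟨⟨h1, h2⟩, h3⟩, h4⟩, h5⟩ := h
  refine ⟨Nat.eq_of_beq_eq_true h1, by rwa [Nat.ble_eq] at h2, ?_, ?_, ?_⟩
  · intro r hr
    exact Nat.eq_of_beq_eq_true (allBelow_spec _ _ h3 r hr)
  · intro k hk
    have := allBelow_spec _ _ h4 k hk
    rw [forceNat_eq, Bool.and_eq_true, Bool.and_eq_true] at this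
    refine ⟨(znonneg_iff _).1 this.1.1, (znonneg_iff _).1 this.1.2, ?_⟩
    intro k' hk' hne1 hne2
    have h6 := allBelow_spec _ _ this.2 k' hk'
    rw [Bool.or_eq_true, Bool.or_eq_true] at h6
    rcases h6 with (h6 | h6) | h6
    · exact absurd (Nat.eq_of_beq_eq_true h6) hne1
    · exact absurd (Nat.eq_of_beq_eq_true h6) hne2
    · exact (zbeq_iff _ _).1 h6
  · exact Nat.eq_of_beq_eq_true h5

theorem cox_of_check (T : FD) (Bs : List ℕ) (mLL : List (List ℕ)) (h : coxb T Bs mLL = true) :
    Cox1 T Bs ∧ ∀ i < T.rank, ∀ j < T.rank, i ≠ j → Cox2 T Bs mLL i j := by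
  unfold coxb at h
  rw [Bool.and_eq_true, forceNat_eq] at h
  refine ⟨cox1_of_check T Bs h.1, ?_⟩
  intro i hi j hj hij
  have := allBelow_spec _ _ (allBelow_spec _ _ h.2 i hi) j hj
  rw [Bool.or_eq_true] at this
  rcases this with h1 | h1
  · exact absurd (Nat.eq_of_beq_eq_true h1) hij
  · exact cox2_of_check T Bs mLL i j h1

section

variable {T : FD} {D : ChevalleyDatum}

theorem wdOf_valid (hA : T.Agrees D) (Bs : List ℕ) (mLL : List (List ℕ))
    (hB : ∀ i < D.rank, ReflChecks T D i (Bs.getD i 0)) (h1 : Cox1 T Bs)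
    (h2 : ∀ i < T.rank, ∀ j < T.rank, i ≠ j → Cox2 T Bs mLL i j) : (wdOf T Bs mLL).Valid := by
  have hl : T.rank = D.rank := hA.rank_eq
  have hn : T.nroots = D.nroots := hA.nroots_eq
  refine ⟨?_, h1.p_pos, ?_, h1.neg_sign, ?_, ?_, ?_, h1.w_p, h1.w_pos, ?_, ?_⟩
  · intro i hi
    show T.simple i < T.nroots
    rw [hn]; exact hA.simple_lt i (hl ▸ hi)
  · intro r hr
    show T.neg r < T.nroots
    rw [hn]; exact hA.neg_lt r (hn ▸ hr)
  · intro i hi r hr
    show wOf (Bs.getD i 0) r < T.nroots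
    rw [hn]; exact ((hB i (hl ▸ hi)).cert hA).w_lt r (hn ▸ hr)
  · intro i hi r hr
    exact ((hB i (hl ▸ hi)).cert hA).w_w r (hn ▸ hr)
  · intro i hi r hr
    exact (((hB i (hl ▸ hi)).cert hA).neg_w r (hn ▸ hr)).symm
  · intro i hi j hj
    by_cases hij : i = j
    · rw [hij]
    · exact ((h2 i hi j hj hij).m_symm).symm
  · intro i hi j hj hij r hr
    exact (h2 i hi j hj hij).braid r hr

/-- linearity of a fundamental reflection on the coroot coordinates -/
theorem lin_step (hA : T.Agrees D) {i B : ℕ} (c : ReflChecks T D i B) (x y z : ℕ)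
    (hx : x < D.nroots) (hy : y < D.nroots) (hz : z < D.nroots) (a b : ℤ)
    (h : ∀ k < D.rank, vOf T x k = a * vOf T y k + b * vOf T z k) :
    ∀ k < D.rank, vOf T (wOf B x) k = a * vOf T (wOf B y) k + b * vOf T (wOf B z) k := by
  have hc := (c.cert hA).coroot_w
  intro k hk
  unfold vOf at h ⊢
  rw [hc k hk x hx, hc k hk y hy, hc k hk z hz, h k hk]
  have hsum : ((List.range D.rank).map fun j =>
        T.cartan j (T.simple i) * (T.corootL x).getD j 0).sum
      = a * ((List.range D.rank).map fun j => T.cartan j (T.simple i) * (T.corootL y).getD j 0).sum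
        + b * ((List.range D.rank).map fun j =>
          T.cartan j (T.simple i) * (T.corootL z).getD j 0).sum := by
    have e : ((List.range D.rank).map fun j => T.cartan j (T.simple i) * (T.corootL x).getD j 0)
        = (List.range D.rank).map fun j => T.cartan j (T.simple i) *
          (a * (T.corootL y).getD j 0 + b * (T.corootL z).getD j 0) := by
      apply List.map_congr_left
      intro j hj
      rw [List.mem_range] at hj
      rw [h j hj]
    rw [e]
    generalize List.range D.rank = L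
    induction L with
    | nil => simp
    | cons j L ih =>
      simp only [List.map_cons, List.sum_cons, ih]
      ring
  split_ifs with hki
  · rw [hsum]; ring
  · ring

/-- linearity of the action of a word on the coroot coordinates -/
theorem lin_act (hA : T.Agrees D) (Bs : List ℕ) (mLL : List (List ℕ))
    (hB : ∀ i < D.rank, ReflChecks T D i (Bs.getD i 0)) (u : List ℕ)
    (hu : ∀ i ∈ u, i < D.rank) (x y z : ℕ)
    (hx : x < D.nroots) (hy : y < D.nroots) (hz : z < D.nroots) (a b : ℤ)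
    (h : ∀ k < D.rank, vOf T x k = a * vOf T y k + b * vOf T z k) :
    (wdOf T Bs mLL).act u x < D.nroots ∧ (wdOf T Bs mLL).act u y < D.nroots ∧
      (wdOf T Bs mLL).act u z < D.nroots ∧
      ∀ k < D.rank, vOf T ((wdOf T Bs mLL).act u x) k
        = a * vOf T ((wdOf T Bs mLL).act u y) k + b * vOf T ((wdOf T Bs mLL).act u z) k := by
  induction u with
  | nil => exact ⟨hx, hy, hz, h⟩
  | cons i u ih =>
    obtain ⟨h1, h2, h3, h4⟩ := ih (fun j hj => hu j (List.mem_cons_of_mem _ hj))
    have hi := hu i List.mem_cons_self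
    have hc := (hB i hi).cert hA
    exact ⟨hc.w_lt _ h1, hc.w_lt _ h2, hc.w_lt _ h3, lin_step hA (hB i hi) _ _ _ h1 h2 h3 a b h4⟩

theorem wdOf_rankTwo (hA : T.Agrees D) (Bs : List ℕ) (mLL : List (List ℕ))
    (hB : ∀ i < D.rank, ReflChecks T D i (Bs.getD i 0)) (h1 : Cox1 T Bs)
    (h2 : ∀ i < T.rank, ∀ j < T.rank, i ≠ j → Cox2 T Bs mLL i j) :
    (wdOf T Bs mLL).RankTwo := by
  have hl : T.rank = D.rank := hA.rank_eq
  have hn : T.nroots = D.nroots := hA.nroots_eq
  have hV := wdOf_valid hA Bs mLL hB h1 h2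
  intro u hu a ha b hb hab hda hdb k hk
  have ha' : a < T.rank := ha
  have hb' : b < T.rank := hb
  obtain ⟨r1, r2, r3⟩ := (h2 a ha' b hb' hab).rk2 k hk
  set α := (wdOf T Bs mLL).act (WD.alt a b k) (T.simple (WD.nxt a b k)) with hα
  have hαlt : α < D.nroots := by
    rw [← hn]
    exact hV.act_lt (WD.alt_lt a b _ ha hb k) (hV.p_lt _ (WD.nxt_lt a b _ ha hb k))
  have hpa : T.simple a < D.nroots := hA.simple_lt a (hl ▸ ha')
  have hpb : T.simple b < D.nroots := hA.simple_lt b (hl ▸ hb')
  have hlin0 : ∀ k' < D.rank, vOf T α k'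
      = vOf T α a * vOf T (T.simple a) k' + vOf T α b * vOf T (T.simple b) k' := by
    intro k' hk'
    rw [h1.v_p a ha' k' (hl ▸ hk'), h1.v_p b hb' k' (hl ▸ hk')]
    by_cases e1 : k' = a
    · subst e1
      rw [if_pos rfl, if_neg hab]; ring
    · by_cases e2 : k' = b
      · subst e2
        rw [if_neg e1, if_pos rfl]; ring
      · rw [if_neg e1, if_neg e2, r3 k' (hl ▸ hk') e1 e2]; ring
  obtain ⟨l1, l2, l3, l4⟩ := lin_act hA Bs mLL hB u (fun i hi => hl ▸ hu i hi) α (T.simple a)
    (T.simple b) hαlt hpa hpb _ _ hlin0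
  show (wdOf T Bs mLL).act u α < T.nroots / 2
  by_contra hcon
  rw [not_lt] at hcon
  obtain ⟨k', hk', hpos⟩ := h1.v_pos _ (hn ▸ l1) hcon
  have n1 : vOf T ((wdOf T Bs mLL).act u (T.simple a)) k' ≤ 0 :=
    h1.v_neg _ (hn ▸ l2) hda k' hk'
  have n2 : vOf T ((wdOf T Bs mLL).act u (T.simple b)) k' ≤ 0 :=
    h1.v_neg _ (hn ▸ l3) hdb k' hk'
  rw [l4 k' (hl ▸ hk')] at hpos
  have m1 := mul_nonpos_of_nonneg_of_nonpos r1 n1
  have m2 := mul_nonpos_of_nonneg_of_nonpos r2 n2
  linarith

end

end Cfsg.Agent.Lib.Helper5.Chev
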