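import Cfsg.Agent.Lib.Helper5.Chev.CoxChev
import Mathlib

/-!
# Linearity of the action of the words on the coordinates of the roots (helper5)
-/

set_option autoImplicit false

namespace Cfsg.Agent.Lib.Helper5.Chev

open Cfsg.Lie

/-- the operator on the coordinate vectors induced by a fundamental reflection -/
def opI (a : ℕ → ℤ) (i l : ℕ) (v : ℕ → ℤ) : ℕ → ℤ :=
  fun k => v k - if k = i then ((List.range l).map fun m => a m * v m).sum else 0

/-- additivity and homogeneity -/
def IsLin (Φ : (ℕ → ℤ) → (ℕ → ℤ)) : Prop :=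
  (∀ v w k, Φ (fun m => v m + w m) k = Φ v k + Φ w k) ∧ (∀ c v k, Φ (fun m => c * v m) k = c * Φ v k)

theorem list_sum_map_add' {ι : Type*} (L : List ι) (f g : ι → ℤ) :
    (L.map fun m => f m + g m).sum = (L.map f).sum + (L.map g).sum := by
  induction L with
  | nil => simp
  | cons j L ih => simp only [List.map_cons, List.sum_cons, ih]; ring

theorem list_sum_map_mul' {ι : Type*} (L : List ι) (c : ℤ) (f : ι → ℤ) :
    (L.map fun m => c * f m).sum = c * (L.map f).sum := by
  induction L with
  | nil => simp
  | cons j L ih => simp only [List.map_cons, List.sum_cons, ih]; ring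

theorem isLin_opI (a : ℕ → ℤ) (i l : ℕ) : IsLin (opI a i l) := by
  constructor
  · intro v w k
    unfold opI
    have : ((List.range l).map fun m => a m * (v m + w m)).sum
        = ((List.range l).map fun m => a m * v m).sum + ((List.range l).map fun m => a m * w m).sum := by
      rw [← list_sum_map_add']
      congr 1
      apply List.map_congr_left
      intro m _
      ring
    rw [this]
    split_ifs <;> ring
  · intro c v k
    unfold opI
    have : ((List.range l).map fun m => a m * (c * v m)).sum
        = c * ((List.range l).map fun m => a m * v m).sum := by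
      rw [← list_sum_map_mul']
      congr 1
      apply List.map_congr_left
      intro m _
      ring
    rw [this]
    split_ifs <;> ring

theorem isLin_id : IsLin id := ⟨fun _ _ _ => rfl, fun _ _ _ => rfl⟩

theorem IsLin.comp {Φ Ψ : (ℕ → ℤ) → (ℕ → ℤ)} (hΦ : IsLin Φ) (hΨ : IsLin Ψ) :
    IsLin (fun v => Φ (Ψ v)) := by
  constructor
  · intro v w k
    have : Ψ (fun m => v m + w m) = fun m => Ψ v m + Ψ w m := by
      funext m
      exact hΨ.1 v w m
    show Φ (Ψ fun m => v m + w m) k = _
    rw [this, hΦ.1]
  · intro c v k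
    have : Ψ (fun m => c * v m) = fun m => c * Ψ v m := by
      funext m
      exact hΨ.2 c v m
    show Φ (Ψ fun m => c * v m) k = _
    rw [this, hΦ.2]

theorem IsLin.zero {Φ : (ℕ → ℤ) → (ℕ → ℤ)} (hΦ : IsLin Φ) (k : ℕ) : Φ (fun _ => 0) k = 0 := by
  have := hΦ.2 0 (fun _ => 0) k
  simpa using this

theorem IsLin.sum {Φ : (ℕ → ℤ) → (ℕ → ℤ)} (hΦ : IsLin Φ) {ι : Type*} (L : List ι) (c : ι → ℤ)
    (V : ι → ℕ → ℤ) (k : ℕ) :
    Φ (fun m => (L.map fun j => c j * V j m).sum) k = (L.map fun j => c j * Φ (V j) k).sum := by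
  induction L with
  | nil =>
    simp only [List.map_nil, List.sum_nil]
    exact hΦ.zero k
  | cons j L ih =>
    simp only [List.map_cons, List.sum_cons]
    rw [hΦ.1 (fun m => c j * V j m) (fun m => (L.map fun j => c j * V j m).sum) k, ih, hΦ.2]

/-- the operator induced by a word -/
def actOp (T : FD) (u : List ℕ) : (ℕ → ℤ) → (ℕ → ℤ) :=
  match u with
  | [] => id
  | i :: u => fun v => opI (fun m => T.cartan m (T.simple i)) i T.rank (actOp T u v)

theorem isLin_actOp (T : FD) (u : List ℕ) : IsLin (actOp T u) := by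
  induction u with
  | nil => exact isLin_id
  | cons i u ih => exact (isLin_opI _ i T.rank).comp ih

theorem opI_congr (a : ℕ → ℤ) (i l : ℕ) {v w : ℕ → ℤ} (h : ∀ m < l, v m = w m) :
    ∀ k < l, opI a i l v k = opI a i l w k := by
  intro k hk
  unfold opI
  rw [h k hk]
  have : ((List.range l).map fun m => a m * v m) = (List.range l).map fun m => a m * w m := by
    apply List.map_congr_left
    intro m hm
    rw [List.mem_range] at hm
    rw [h m hm]
  rw [this]

theorem actOp_congr (T : FD) (u : List ℕ) {v w : ℕ → ℤ} (h : ∀ m < T.rank, v m = w m) :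
    ∀ k < T.rank, actOp T u v k = actOp T u w k := by
  induction u with
  | nil => exact h
  | cons i u ih => exact opI_congr _ i T.rank ih

section

variable {T : FD} {D : ChevalleyDatum}

/-- the coordinates of the image of a root under a word -/
theorem vOf_act (hA : T.Agrees D) (Bs : List ℕ) (mLL : List (List ℕ))
    (hB : ∀ i < D.rank, ReflChecks T D i (Bs.getD i 0)) (u : List ℕ)
    (hu : ∀ i ∈ u, i < D.rank) (x : ℕ) (hx : x < D.nroots) :
    (wdOf T Bs mLL).act u x < D.nroots ∧
      ∀ k < T.rank, vOf T ((wdOf T Bs mLL).act u x) k = actOp T u (vOf T x) k := by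
  have hl : T.rank = D.rank := hA.rank_eq
  induction u with
  | nil => exact ⟨hx, fun k _ => rfl⟩
  | cons i u ih =>
    obtain ⟨h1, h2⟩ := ih (fun j hj => hu j (List.mem_cons_of_mem _ hj))
    have hi := hu i List.mem_cons_self
    have hc := (hB i hi).cert hA
    refine ⟨hc.w_lt _ h1, ?_⟩
    intro k hk
    show vOf T (wOf (Bs.getD i 0) ((wdOf T Bs mLL).act u x)) k
      = opI (fun m => T.cartan m (T.simple i)) i T.rank (actOp T u (vOf T x)) k
    rw [← opI_congr _ i T.rank h2 k hk]
    unfold vOf opI
    rw [hc.coroot_w k (hl ▸ hk) _ h1, hl]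

/-- the image of a root is the combination of the images of the fundamental roots -/
theorem vOf_act_sum (hA : T.Agrees D) (Bs : List ℕ) (mLL : List (List ℕ))
    (hB : ∀ i < D.rank, ReflChecks T D i (Bs.getD i 0)) (h1 : Cox1 T Bs) (u : List ℕ)
    (hu : ∀ i ∈ u, i < D.rank) (x : ℕ) (hx : x < D.nroots) :
    ∀ k < T.rank, vOf T ((wdOf T Bs mLL).act u x) k
      = ((List.range T.rank).map fun j =>
          vOf T x j * vOf T ((wdOf T Bs mLL).act u (T.simple j)) k).sum := by
  have hl : T.rank = D.rank := hA.rank_eq
  intro k hk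
  rw [(vOf_act hA Bs mLL hB u hu x hx).2 k hk]
  have e1 : ∀ m < T.rank, vOf T x m
      = ((List.range T.rank).map fun j => vOf T x j * vOf T (T.simple j) m).sum := by
    intro m hm
    have : ((List.range T.rank).map fun j => vOf T x j * vOf T (T.simple j) m)
        = (List.range T.rank).map fun j => if j = m then vOf T x m else 0 := by
      apply List.map_congr_left
      intro j hj
      rw [List.mem_range] at hj
      rw [h1.v_p j hj m hm]
      by_cases hjm : j = m
      · subst hjm
        rw [if_pos rfl, if_pos rfl, mul_one]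
      · rw [if_neg (fun h => hjm h.symm), if_neg hjm, mul_zero]
    rw [this, List.sum_map_ite_eq]
    simp [hm]
  rw [actOp_congr T u e1 k hk, (isLin_actOp T u).sum]
  congr 1
  apply List.map_congr_left
  intro j hj
  rw [List.mem_range] at hj
  rw [(vOf_act hA Bs mLL hB u hu (T.simple j) (hA.simple_lt j (hl ▸ hj))).2 k hk]

end

end Cfsg.Agent.Lib.Helper5.Chev
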