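import Cfsg.Prelude.Def_ChevStructure
import Mathlib

/-!
# Fast lookup structures for Chevalley data (helper5)

A "fast datum" holds, for every root, a record with the data of that root packed in big
natural numbers, so that the kernel can look things up with a few arithmetic operations.
The agreement with a `ChevalleyDatum` is checked by evaluation.
-/

set_option autoImplicit false

namespace Cfsg.Agent.Lib.Helper5.Chev

open Cfsg.Lie

/-- binary radix tree indexed by natural numbers: index 0 at the root, odd indices to the left,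
even positive indices to the right -/
inductive BT (α : Type) where
  | leaf : BT α
  | node : BT α → α → BT α → BT α

/-- lookup with default -/
def BT.get {α : Type} (d : α) : BT α → ℕ → α
  | .leaf, _ => d
  | .node _ v _, 0 => v
  | .node l _ r, j+1 => cond (Nat.beq (j % 2) 0) (l.get d (j / 2)) (r.get d (j / 2))

/-- sequential check over a list with running index -/
def allIdxFrom {α : Type} (p : ℕ → α → Bool) : List α → ℕ → Bool
  | [], _ => true
  | a :: l, i => p i a && allIdxFrom p l (i + 1)

theorem allIdxFrom_spec {α : Type} (p : ℕ → α → Bool) (l : List α) (i : ℕ)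
    (h : allIdxFrom p l i = true) (j : ℕ) (hj : j < l.length) : p (i + j) l[j] = true := by
  induction l generalizing i j with
  | nil => simp at hj
  | cons a l ih =>
    rw [allIdxFrom, Bool.and_eq_true] at h
    cases j with
    | zero => simpa using h.1
    | succ j =>
      have := ih (i + 1) h.2 j (by simpa using hj)
      simpa [Nat.add_assoc, Nat.add_comm 1 j] using this

/-- force a natural number to a literal before continuing -/
def forceNat {β : Sort*} (n : ℕ) (k : ℕ → β) : β :=
  match n with
  | 0 => k 0
  | m + 1 => k (Nat.succ m)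

theorem forceNat_eq {β : Sort*} (n : ℕ) (k : ℕ → β) : forceNat n k = k n := by
  cases n <;> rfl

/-- force an integer -/
def forceInt {β : Sort*} (z : ℤ) (k : ℤ → β) : β :=
  match z with
  | Int.ofNat n => forceNat n fun n' => k (Int.ofNat n')
  | Int.negSucc n => forceNat n fun n' => k (Int.negSucc n')

theorem forceInt_eq {β : Sort*} (z : ℤ) (k : ℤ → β) : forceInt z k = k z := by
  cases z <;> simp [forceInt, forceNat_eq]

/-- force a list of integers -/
def forceIntList {β : Sort*} : List ℤ → (List ℤ → β) → β
  | [], k => k []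
  | z :: l, k => forceInt z fun z' => forceIntList l fun l' => k (z' :: l')

theorem forceIntList_eq {β : Sort*} (l : List ℤ) (k : List ℤ → β) : forceIntList l k = k l := by
  induction l generalizing k with
  | nil => rfl
  | cons z l ih => simp [forceIntList, forceInt_eq, ih]

/-- the data of a root: its index, the index of its negative, the packed row of the chain
table, the coefficients of its coroot, the packed column of Cartan integers -/
structure RD where
  r : ℕ
  negr : ℕ
  row : ℕ
  cor : List ℤ
  car : ℕ

/-- force a root record -/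
def RD.force {β : Sort*} (R : RD) (k : RD → β) : β :=
  forceNat R.r fun r => forceNat R.negr fun ng => forceNat R.row fun row =>
    forceIntList R.cor fun cor => forceNat R.car fun car => k ⟨r, ng, row, cor, car⟩

theorem RD.force_eq {β : Sort*} (R : RD) (k : RD → β) : R.force k = k R := by
  simp [RD.force, forceNat_eq, forceIntList_eq]

/-- decode a slot of a packed chain entry: `(u + 1) + 512 * (m + 3)` -/
def decSlot (slot : ℕ) : ℕ × ℤ :=
  (Nat.sub (Nat.mod slot 512) 1, Int.subNatNat (Nat.div slot 512) 3)

/-- decode a packed chain entry (at most three slots of 12 bits) -/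
def dec3 (v : ℕ) : List (ℕ × ℤ) :=
  cond (Nat.beq v 0) []
    (decSlot (Nat.mod v 4096) ::
      cond (Nat.beq (Nat.div v 4096) 0) []
        (decSlot (Nat.mod (Nat.div v 4096) 4096) ::
          cond (Nat.beq (Nat.div v 16777216) 0) [] [decSlot (Nat.div v 16777216)]))

/-- the chain entry for `s` in a packed row (36 bits per root) -/
def decodeRow (row s : ℕ) : List (ℕ × ℤ) :=
  dec3 (Nat.land (Nat.shiftRight row (Nat.mul 36 s)) 68719476735)

/-- the Cartan integer in a packed column (4 bits per fundamental root, offset 3) -/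
def decodeCartan (car i : ℕ) : ℤ :=
  Int.subNatNat (Nat.land (Nat.shiftRight car (Nat.mul 4 i)) 15) 3

/-- the fast datum -/
structure FD where
  rank : ℕ
  nroots : ℕ
  simpleL : List ℕ
  rdT : BT RD

namespace FD

variable (T : FD)

/-- the record of the root `r` -/
def rdOf (r : ℕ) : RD := T.rdT.get ⟨0, 0, 0, [], 0⟩ r
/-- index of the `i`-th fundamental root -/
def simple (i : ℕ) : ℕ := T.simpleL.getD i 0
/-- index of `-r` -/
def neg (r : ℕ) : ℕ := (T.rdOf r).negr
/-- coefficients of the coroot of `r` -/
def corootL (r : ℕ) : List ℤ := (T.rdOf r).cor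
/-- Cartan integer `A_{p_i, r}` -/
def cartan (i r : ℕ) : ℤ := decodeCartan (T.rdOf r).car i
/-- chain entry for `(r, s)` -/
def ch (r s : ℕ) : List (ℕ × ℤ) := decodeRow (T.rdOf r).row s

/-- association list of a row function -/
def assocOf (n : ℕ) (f : ℕ → List (ℕ × ℤ)) : List (ℕ × List (ℕ × ℤ)) :=
  (List.range n).filterMap fun s =>
    match f s with
    | [] => none
    | a :: v => some (s, a :: v)

/-- the row of the chain table of `D` as nested lists -/
def rowL (D : ChevalleyDatum) (r : ℕ) : List (ℕ × List (ℕ × ℤ)) :=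
  (D.chain.getD r #[]).toList.map fun e => (e.1, e.2.toList)

/-- agreement of a fast datum with a Chevalley datum -/
structure Agrees (D : ChevalleyDatum) : Prop where
  rank_eq : T.rank = D.rank
  nroots_eq : T.nroots = D.nroots
  rd_r : ∀ r < D.nroots, (T.rdOf r).r = r
  simple_eq : ∀ i < D.rank, T.simple i = D.simpleIdx.getD i 0
  simple_lt : ∀ i < D.rank, T.simple i < D.nroots
  neg_eq : ∀ r < D.nroots, T.neg r = D.negIdx.getD r 0
  neg_lt : ∀ r < D.nroots, T.neg r < D.nroots
  coroot_len : ∀ r < D.nroots, (T.corootL r).length = D.rank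
  coroot_eq : ∀ r < D.nroots, ∀ i < D.rank, (T.corootL r).getD i 0 = (D.coroot.getD r #[]).getD i 0
  cartan_eq : ∀ i < D.rank, ∀ r < D.nroots, T.cartan i r = (D.cartanSR.getD i #[]).getD r 0
  chain_eq : ∀ r < D.nroots, rowL D r = assocOf D.nroots (T.ch r)
  chain_lt : ∀ r < D.nroots, ∀ s < D.nroots, ∀ q ∈ T.ch r s, q.1 < D.nroots
  chain_len : ∀ r < D.nroots, ∀ s < D.nroots, (T.ch r s).length ≤ 3

/-- agreement of the chain row of `r` -/
def ChainAgree (D : ChevalleyDatum) (r : ℕ) : Prop :=
  rowL D r = assocOf D.nroots (T.ch r) ∧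
    ∀ s < D.nroots, (T.ch r s).length ≤ 3 ∧ ∀ q ∈ T.ch r s, q.1 < D.nroots

/-- boolean check of the agreement of the chain rows `lo ≤ r < lo + len` -/
def agreesC (D : ChevalleyDatum) (lo len : ℕ) : Bool :=
  (List.range' lo len).all fun r => forceNat (T.rdOf r).row fun big =>
    decide ((D.chain.getD r #[]).toList.map (fun e => (e.1, e.2.toList))
      = assocOf D.nroots (decodeRow big)) &&
    (List.range D.nroots).all fun s =>
      Nat.ble (decodeRow big s).length 3 && (decodeRow big s).all fun q => Nat.blt q.1 D.nroots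

theorem chainAgree_of_agreesC (D : ChevalleyDatum) (lo len : ℕ) (h : T.agreesC D lo len = true)
    (r : ℕ) (h1 : lo ≤ r) (h2 : r < lo + len) : T.ChainAgree D r := by
  unfold agreesC at h
  rw [List.all_eq_true] at h
  have := h r (by rw [List.mem_range'_1]; exact ⟨h1, h2⟩)
  rw [forceNat_eq, Bool.and_eq_true, decide_eq_true_eq, List.all_eq_true] at this
  refine ⟨this.1, ?_⟩
  intro s hs
  have h2 := this.2 s (List.mem_range.2 hs)
  rw [Bool.and_eq_true, List.all_eq_true, Nat.ble_eq] at h2
  refine ⟨h2.1, fun q hq => ?_⟩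
  have := h2.2 q hq
  rwa [Nat.blt_eq] at this

theorem chainAgree_all (D : ChevalleyDatum) (step k : ℕ) (hstep : 0 < step)
    (hn : D.nroots ≤ k * step) (h : ∀ q < k, T.agreesC D (q * step) step = true) :
    ∀ r < D.nroots, T.ChainAgree D r := by
  intro r hr
  have hq : r / step < k := by
    rw [Nat.div_lt_iff_lt_mul hstep]
    omega
  have h1 : r / step * step ≤ r := Nat.div_mul_le_self r step
  have h2 : r < r / step * step + step := by
    have := Nat.lt_div_mul_add hstep (a := r)
    omega
  exact chainAgree_of_agreesC T D _ step (h _ hq) r h1 h2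

/-- boolean agreement check, everything except the chains -/
def agreesb (D : ChevalleyDatum) : Bool :=
  Nat.beq T.rank D.rank && Nat.beq T.nroots D.nroots &&
  Nat.beq D.simpleIdx.size D.rank && Nat.beq D.negIdx.size D.nroots &&
  Nat.beq D.coroot.size D.nroots && Nat.beq D.cartanSR.size D.rank &&
  Nat.beq D.chain.size D.nroots &&
  allIdxFrom (fun i v => Nat.beq (T.simple i) v && Nat.blt v D.nroots) D.simpleIdx.toList 0 &&
  allIdxFrom (fun r v => Nat.beq (T.neg r) v && Nat.blt v D.nroots && Nat.beq (T.rdOf r).r r)
    D.negIdx.toList 0 &&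
  allIdxFrom (fun r row => decide (T.corootL r = row.toList) && Nat.beq row.size D.rank)
    D.coroot.toList 0 &&
  allIdxFrom (fun i row => Nat.beq row.size D.nroots &&
    allIdxFrom (fun r v => decide (T.cartan i r = v)) row.toList 0) D.cartanSR.toList 0

theorem nbeq {a b : ℕ} : Nat.beq a b = true ↔ a = b :=
  ⟨Nat.eq_of_beq_eq_true, fun h => h ▸ Nat.beq_refl a⟩

theorem getD_eq_getElem {α : Type} (a : Array α) (d : α) (j : ℕ) (hj : j < a.size) :
    a.getD j d = a.toList[j]'(by simpa using hj) := by
  rw [Array.getD_eq_getD_getElem?, Array.getElem?_eq_getElem hj]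
  simp

theorem agrees_of_agreesb (D : ChevalleyDatum) (h : T.agreesb D = true)
    (hCh : ∀ r < D.nroots, T.ChainAgree D r) : T.Agrees D := by
  unfold agreesb at h
  simp only [Bool.and_eq_true, nbeq] at h
  obtain ⟨⟨⟨⟨⟨⟨⟨⟨⟨⟨h1, h2⟩, h3⟩, h4⟩, h5⟩, h6⟩, _⟩, h8⟩, h9⟩, h10⟩, h11⟩ := h
  have e8 := allIdxFrom_spec _ _ _ h8
  have e9 := allIdxFrom_spec _ _ _ h9
  have e10 := allIdxFrom_spec _ _ _ h10
  have e11 := allIdxFrom_spec _ _ _ h11
  have hS : ∀ i < D.rank, T.simple i = D.simpleIdx.getD i 0 ∧ T.simple i < D.nroots := by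
    intro i hi
    have hi' : i < D.simpleIdx.toList.length := by simpa [h3] using hi
    have := e8 i hi'
    rw [Nat.zero_add, Bool.and_eq_true, nbeq, Nat.blt_eq] at this
    rw [getD_eq_getElem _ _ _ (by simpa using hi')]
    exact ⟨this.1, this.1 ▸ this.2⟩
  have hN : ∀ r < D.nroots, T.neg r = D.negIdx.getD r 0 ∧ T.neg r < D.nroots ∧ (T.rdOf r).r = r := by
    intro i hi
    have hi' : i < D.negIdx.toList.length := by simpa [h4] using hi
    have := e9 i hi'
    rw [Nat.zero_add, Bool.and_eq_true, Bool.and_eq_true, nbeq, Nat.blt_eq, nbeq] at this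
    rw [getD_eq_getElem _ _ _ (by simpa using hi')]
    exact ⟨this.1.1, this.1.1 ▸ this.1.2, this.2⟩
  have hC : ∀ r < D.nroots, T.corootL r = (D.coroot.getD r #[]).toList ∧
      (D.coroot.getD r #[]).size = D.rank := by
    intro i hi
    have hi' : i < D.coroot.toList.length := by simpa [h5] using hi
    have := e10 i hi'
    rw [Nat.zero_add, Bool.and_eq_true, decide_eq_true_eq, nbeq] at this
    rw [getD_eq_getElem _ _ _ (by simpa using hi')]
    exact this
  refine ⟨h1, h2, fun r hr => (hN r hr).2.2, fun i hi => (hS i hi).1, fun i hi => (hS i hi).2,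
    fun i hi => (hN i hi).1, fun i hi => (hN i hi).2.1, ?_, ?_, ?_, fun r hr => (hCh r hr).1,
    fun r hr s hs => ((hCh r hr).2 s hs).2, fun r hr s hs => ((hCh r hr).2 s hs).1⟩
  · intro r hr
    rw [(hC r hr).1]
    simpa using (hC r hr).2
  · intro r hr i hi
    rw [(hC r hr).1]
    simp [Array.getD_eq_getD_getElem?]
  · intro i hi r hr
    have hi' : i < D.cartanSR.toList.length := by simpa [h6] using hi
    have := e11 i hi'
    rw [Nat.zero_add, Bool.and_eq_true, nbeq] at this
    obtain ⟨hsz, hrow⟩ := this
    have hr' : r < (D.cartanSR.toList[i]).toList.length := by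
      rw [Array.length_toList, hsz]; exact hr
    have := allIdxFrom_spec _ _ _ hrow r hr'
    rw [Nat.zero_add, decide_eq_true_eq] at this
    rw [this, getD_eq_getElem D.cartanSR #[] i (by simpa using hi'),
      getD_eq_getElem _ _ r (by simpa using hr')]

end FD

end Cfsg.Agent.Lib.Helper5.Chev
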