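import Cfsg.Agent.Lib.Helper5.Chev.BruhatH
import Mathlib

/-!
# The centraliser of an element of `H`: the factors of the canonical form are centralised (helper5)
-/

set_option autoImplicit false

namespace Cfsg.Agent.Lib.Helper5.Chev

open Cfsg.Lie
open scoped Matrix

section

variable {F : Type*} [Field F]

/-- an element commuting with `t ∈ H` has a canonical form `u₁ n u` all of whose factors commute
with `t` -/
theorem cent_bruhat (D : ChevalleyDatum)
    (hD : D ∈ [chevG2, chevB2, chevD4, chevF4, chevE6, chevE7, chevE8])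
    (t c : GL D.Idx F) (ht : t ∈ D.diagonalSubgroup F) (hc : c ∈ D.group F)
    (hcomm : t * c * t⁻¹ = c) :
    ∃ u1 ∈ D.posUnipotent F, ∃ n ∈ D.monomialSubgroup F, ∃ u ∈ D.posUnipotent F,
      c = u1 * n * u ∧ t * u1 * t⁻¹ = u1 ∧ t * n * t⁻¹ = n ∧ t * u * t⁻¹ = u := by
  have hHU := (borel_semidirect_all (F := F) D hD).1
  have hHN : D.diagonalSubgroup F ≤ D.monomialSubgroup F := le_sup_left
  have hUB : D.posUnipotent F ≤ D.borelSubgroup F := le_sup_left
  obtain ⟨b, hb, n, hn, u, hu, e⟩ := bruhat_exists_all D hD c hc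
  unfold ChevalleyDatum.borelSubgroup at hb
  rw [← SetLike.mem_coe, Subgroup.coe_mul_of_right_le_normalizer_left _ _ hHU,
    Set.mem_mul] at hb
  obtain ⟨u1, hu1, k, hk, rfl⟩ := hb
  have hkn : k * n ∈ D.monomialSubgroup F := Subgroup.mul_mem _ (hHN hk) hn
  have hu0 : u ∈ Subgroup.closure (unegSet F D (k * n)) :=
    Subgroup.closure_mono (unegSet_diag_mul hD n k hk) hu
  have eg : c = u1 * (k * n) * u := by rw [e]; group
  have hti : t⁻¹ ∈ D.diagonalSubgroup F := Subgroup.inv_mem _ ht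
  have hA : t * u * t⁻¹ ∈ Subgroup.closure (unegSet F D (t * (k * n) * t⁻¹)) := by
    apply Subgroup.closure_mono (unegSet_mul_diag hD (t * (k * n)) t⁻¹ hti)
    apply Subgroup.closure_mono (unegSet_diag_mul hD (k * n) t ht)
    exact uneg_conj_diag hD (k * n) t ht u hu0
  have hC : t * u1 * t⁻¹ ∈ D.posUnipotent F :=
    (Subgroup.mem_normalizer_iff.1 (hHU ht) u1).1 hu1
  have hN : t * (k * n) * t⁻¹ ∈ D.monomialSubgroup F :=
    Subgroup.mul_mem _ (Subgroup.mul_mem _ (hHN ht) hkn) (hHN hti)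
  have key : u1 * (k * n) * u = t * u1 * t⁻¹ * (t * (k * n) * t⁻¹) * (t * u * t⁻¹) := by
    calc u1 * (k * n) * u = t * (u1 * (k * n) * u) * t⁻¹ := by rw [← eg, hcomm]
      _ = _ := by group
  have hnn := bruhat_sharp_unique D hD u1 (t * u1 * t⁻¹) (k * n) (t * (k * n) * t⁻¹) u
    (t * u * t⁻¹) hu1 hC hkn hN hu0 hA key
  rw [← hnn] at key hA
  obtain ⟨h1, h2⟩ := (bruhat_unique_all D hD u1 (t * u1 * t⁻¹) (k * n) (k * n) u (t * u * t⁻¹)
    (hUB hu1) (hUB hC) hkn hkn hu0 hA key).2 rfl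
  exact ⟨u1, hu1, k * n, hkn, u, uneg_le_pos D _ hu0, eg, h1.symm, hnn.symm, h2.symm⟩

end

end Cfsg.Agent.Lib.Helper5.Chev
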