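import Cfsg.Agent.Lib.Helper5.Chev.G2Odd7
import Cfsg.Agent.Lib.Helper5.Chev.G2Cent1
import Cfsg.Agent.Lib.Helper5.Chev.UCardAll
import Mathlib

/-!
# `G₂` over a field of odd order: the standard involution and its centraliser in `U` (helper5)
-/

set_option autoImplicit false
set_option maxRecDepth 100000

namespace Cfsg.Agent.Lib.Helper5.Chev.G2O

open Cfsg.Lie Cfsg.Agent.Lib.Helper5.Chev Cfsg.Agent.Lib.Helper5.SL2P
open scoped Matrix

theorem cartan0_vals : chevG2.cartan 0 0 = 0 ∧ chevG2.cartan 0 1 = -3 ∧ chevG2.cartan 0 2 = -1 ∧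
    chevG2.cartan 0 3 = 1 ∧ chevG2.cartan 0 4 = -2 ∧ chevG2.cartan 0 5 = 3 ∧
    chevG2.cartan 0 6 = -3 ∧ chevG2.cartan 0 7 = 2 ∧ chevG2.cartan 0 8 = -1 ∧
    chevG2.cartan 0 9 = 1 ∧ chevG2.cartan 0 10 = 3 ∧ chevG2.cartan 0 11 = 0 := by
  decide +kernel

section

variable {F : Type*} [Field F]

/-- the standard involution `h_a(-1)` -/
noncomputable def t0 : GL chevG2.Idx F := (PP 7 (by decide)).h (-1)

theorem t0_mem : (t0 : GL chevG2.Idx F) ∈ chevG2.diagonalSubgroup F :=
  PP_h_mem 7 (by decide) (-1) (neg_ne_zero.2 one_ne_zero)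

/-- the character of the standard involution -/
def chi0 (s : ℕ) : F := if s = 0 ∨ s = 4 ∨ s = 7 ∨ s = 11 then 1 else -1

theorem t0_acts : Acts (t0 : GL chevG2.Idx F) chi0 := by
  intro s hs u
  obtain ⟨c0, c1, c2, c3, c4, c5, c6, c7, c8, c9, c10, c11⟩ := cartan0_vals
  unfold t0
  rw [PP_h_conj 0 7 (by decide) (by decide) simple_vals.1 s hs (-1) (neg_ne_zero.2 one_ne_zero) u]
  congr 2
  interval_cases s
  · rw [c0]; simp [chi0]
  · rw [c1]; simp only [chi0]; norm_num
  · rw [c2]; simp only [chi0]; norm_num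
  · rw [c3]; simp only [chi0]; norm_num
  · rw [c4]; simp only [chi0]; norm_num
  · rw [c5]; simp only [chi0]; norm_num
  · rw [c6]; simp only [chi0]; norm_num
  · rw [c7]; simp only [chi0]; norm_num
  · rw [c8]; simp only [chi0]; norm_num
  · rw [c9]; simp only [chi0]; norm_num
  · rw [c10]; simp only [chi0]; norm_num
  · rw [c11]; simp [chi0]

/-- the ordered product of six positive root elements -/
noncomputable def prodU (t : ℕ → F) : GL chevG2.Idx F :=
  xx 6 (t 6) * (xx 7 (t 7) * (xx 8 (t 8) * (xx 9 (t 9) * (xx 10 (t 10) * xx 11 (t 11)))))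

theorem prodU_eq_wordOf (t : ℕ → F) :
    (allAdd_all (F := F) chevG2 memG).wordU (wordOf 6 6 t) = prodU t := by
  unfold prodU wordOf AllAdd.wordU
  simp [List.range']

theorem exists_prodU (u : GL chevG2.Idx F) (hu : u ∈ chevG2.posUnipotent F) :
    ∃ t : ℕ → F, u = prodU t := by
  obtain ⟨T, hA, hok, htri, -⟩ := ufok_known chevG2 memG
  have hadd := allAdd_all (F := F) chevG2 memG
  have hcomm := comm_known (F := F) chevG2 memG
  rw [← UF_half (F := F) htri hA] at hu
  obtain ⟨t, ht⟩ := exists_wordOf hA hadd hok htri hcomm 6 6 (by decide) (by decide) u hu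
  exact ⟨t, by rw [ht, prodU_eq_wordOf]⟩

theorem prodU_injective (t t' : ℕ → F) (h : prodU t = prodU t') :
    ∀ r, 6 ≤ r → r < 12 → t r = t' r := by
  obtain ⟨T, hA, hok, htri, -⟩ := ufok_known chevG2 memG
  have hadd := allAdd_all (F := F) chevG2 memG
  have hcor := corInj_all (F := F) chevG2 memG
  have hinj := xInj_all (F := F) chevG2 memG
  rw [← prodU_eq_wordOf, ← prodU_eq_wordOf] at h
  exact wordOf_injective hA hadd hok htri hcor hinj 6 6 (by decide) (by decide) t t' h

theorem xx_zero (r : ℕ) : (xx r (0 : F) : GL chevG2.Idx F) = 1 := by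
  have h := (allAdd_all (F := F) chevG2 memG).x_add r 0 0
  rw [add_zero] at h
  have h' : (xx r (0 : F) : GL chevG2.Idx F) * xx r 0 = xx r 0 := Units.ext h
  exact mul_left_cancel (a := xx r (0 : F)) (by rw [h', mul_one])

/-- conjugation of an ordered product by an element acting by scalars -/
theorem Acts.conj_prodU {h : GL chevG2.Idx F} {ψ : ℕ → F} (hψ : Acts h ψ) (t : ℕ → F) :
    h * prodU t * h⁻¹ = prodU (fun r => ψ r * t r) := by
  unfold prodU
  rw [← hψ 6 (by decide), ← hψ 7 (by decide), ← hψ 8 (by decide), ← hψ 9 (by decide),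
    ← hψ 10 (by decide), ← hψ 11 (by decide)]
  group

/-- the centraliser of the standard involution in `U` is `X_a X_{3a+2b}` -/
theorem cent_U (h2 : (2 : F) ≠ 0) (u : GL chevG2.Idx F) (hu : u ∈ chevG2.posUnipotent F)
    (hc : t0 * u * t0⁻¹ = u) : ∃ a b : F, u = xx 7 a * xx 11 b := by
  obtain ⟨t, rfl⟩ := exists_prodU u hu
  rw [t0_acts.conj_prodU] at hc
  have key := prodU_injective _ _ hc
  have hz : ∀ r, 6 ≤ r → r < 12 → (chi0 r : F) = -1 → t r = 0 := by
    intro r h1 h3 hχ
    have := key r h1 h3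
    simp only [hχ] at this
    have h4 : (2 : F) * t r = 0 := by linear_combination -this
    rcases mul_eq_zero.1 h4 with h5 | h5
    · exact absurd h5 h2
    · exact h5
  have z6 := hz 6 (by decide) (by decide) (by simp [chi0])
  have z8 := hz 8 (by decide) (by decide) (by simp [chi0])
  have z9 := hz 9 (by decide) (by decide) (by simp [chi0])
  have z10 := hz 10 (by decide) (by decide) (by simp [chi0])
  refine ⟨t 7, t 11, ?_⟩
  unfold prodU
  rw [z6, z8, z9, z10, xx_zero, xx_zero, xx_zero, xx_zero]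
  group

end

end Cfsg.Agent.Lib.Helper5.Chev.G2O
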