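import Cfsg.Agent.Lib.Helper5.Chev.CommTransfer
import Cfsg.Agent.Lib.Helper5.Chev.Normal
import Cfsg.Agent.Lib.Helper5.Chev.Groups
import Mathlib

/-!
# The complement `U_p` of a fundamental root subgroup in `U` (helper5)
-/

set_option autoImplicit false

namespace Cfsg.Agent.Lib.Helper5.Chev

open Cfsg.Lie
open scoped Matrix

/-- the property of the tables: the terms of the commutator formula for `± p_i` and a positive
root `s ≠ p_i` are positive roots other than `p_i` -/
def CompOK (T : FD) (D : ChevalleyDatum) (i : ℕ) : Prop :=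
  T.neg (T.neg (T.simple i)) = T.simple i ∧ ∀ s < D.nroots, D.IsPosRoot s → s ≠ T.simple i →
    s ≠ T.neg (T.simple i) ∧
    (∀ c ∈ T.commTerms (T.simple i) s, D.IsPosRoot c.1 ∧ c.1 ≠ T.simple i) ∧
    (∀ c ∈ T.commTerms (T.neg (T.simple i)) s, D.IsPosRoot c.1 ∧ c.1 ≠ T.simple i)

/-- the boolean check -/
def compb (T : FD) (D : ChevalleyDatum) (i : ℕ) : Bool :=
  forceNat T.nroots fun n => forceNat (T.simple i) fun p => forceNat (T.neg (T.simple i)) fun q =>
    Nat.beq (T.neg q) p && allBelow n fun s =>
      !decide (D.IsPosRoot s) || Nat.beq s p ||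
        (!Nat.beq s q &&
          ((T.commTerms p s).all fun c => decide (D.IsPosRoot c.1) && !Nat.beq c.1 p) &&
          ((T.commTerms q s).all fun c => decide (D.IsPosRoot c.1) && !Nat.beq c.1 p))

theorem compOK_of_check {T : FD} {D : ChevalleyDatum} (hA : T.Agrees D) (i : ℕ)
    (h : compb T D i = true) : CompOK T D i := by
  unfold compb at h
  rw [forceNat_eq, forceNat_eq, forceNat_eq, hA.nroots_eq, Bool.and_eq_true] at h
  refine ⟨Nat.eq_of_beq_eq_true h.1, ?_⟩
  intro s hs hpos hne
  have h1 := allBelow_spec _ _ h.2 s hs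
  rw [Bool.or_eq_true, Bool.or_eq_true] at h1
  rcases h1 with (h1 | h1) | h1
  · rw [decide_eq_true hpos] at h1; exact absurd h1 (by decide)
  · exact absurd (Nat.eq_of_beq_eq_true h1) hne
  · rw [Bool.and_eq_true, Bool.and_eq_true] at h1
    obtain ⟨⟨h2, h3⟩, h4⟩ := h1
    refine ⟨?_, ?_, ?_⟩
    · intro he
      rw [he] at h2
      simp at h2
    · intro c hc
      rw [List.all_eq_true] at h3
      have := h3 c hc
      rw [Bool.and_eq_true] at this
      refine ⟨of_decide_eq_true this.1, ?_⟩
      intro he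
      have h5 := this.2
      rw [he] at h5
      simp at h5
    · intro c hc
      rw [List.all_eq_true] at h4
      have := h4 c hc
      rw [Bool.and_eq_true] at this
      refine ⟨of_decide_eq_true this.1, ?_⟩
      intro he
      have h5 := this.2
      rw [he] at h5
      simp at h5

section

variable {F : Type*} [Field F] {T : FD} {D : ChevalleyDatum}

/-- the conjugate of a root element by another, from the commutator formula -/
theorem AllAdd.conj_of_comm (hadd : AllAdd F D) (r s : ℕ) (h : CommOK F D r s) (t u : F) :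
    (hadd.xU r t)⁻¹ * hadd.xU s u * hadd.xU r t = hadd.xU s u * hadd.wordU (D.commWord F r s t u) := by
  rw [mul_assoc, inv_mul_eq_iff_eq_mul]
  apply Units.ext
  rw [Units.val_mul, Units.val_mul, Units.val_mul, hadd.wordU_val, ← Matrix.mul_assoc]
  exact h t u

/-- the subgroup `U_p` -/
def compSet (F : Type*) [Field F] (D : ChevalleyDatum) (p : ℕ) : Set (GL D.Idx F) :=
  {g : GL D.Idx F | ∃ (s : ℕ) (t : F), D.IsPosRoot s ∧ s ≠ p ∧
    (g : Matrix D.Idx D.Idx F) = D.x F s t}

theorem xU_mem_comp (hadd : AllAdd F D) (p s : ℕ) (hs : D.IsPosRoot s) (hne : s ≠ p) (t : F) :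
    hadd.xU s t ∈ Subgroup.closure (compSet F D p) :=
  Subgroup.subset_closure ⟨s, t, hs, hne, rfl⟩

/-- a root element of `± p_i` normalises `U_p` -/
theorem xU_mem_normalizer_comp (hA : T.Agrees D) (hadd : AllAdd F D) (i : ℕ) (hi : i < D.rank)
    (hcomp : CompOK T D i) (hcomm : ∀ r < D.nroots, ∀ s < D.nroots, CommOK' F D r s)
    (r : ℕ) (hr : r = D.simple i ∨ r = D.neg (D.simple i)) (t : F) :
    hadd.xU r t ∈ Subgroup.normalizer
      (Subgroup.closure (compSet F D (D.simple i)) : Set (GL D.Idx F)) := by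
  have hp : D.simple i = T.simple i := FD.simple_eq' hA i hi
  have hplt : D.simple i < D.nroots := by rw [hp]; exact hA.simple_lt i hi
  have hq : D.neg (D.simple i) = T.neg (T.simple i) := by rw [FD.neg_eq' hA _ hplt, hp]
  have hqlt : D.neg (D.simple i) < D.nroots := by rw [hq]; exact hA.neg_lt _ (hA.simple_lt i hi)
  have hrlt : r < D.nroots := by rcases hr with rfl | rfl <;> assumption
  -- the key conjugation
  have key : ∀ (t' : F) (g : GL D.Idx F), g ∈ compSet F D (D.simple i) →
      (hadd.xU r t')⁻¹ * g * hadd.xU r t' ∈ Subgroup.closure (compSet F D (D.simple i)) := by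
    intro t' g hg
    obtain ⟨s, u, hs, hne, hgv⟩ := hg
    have hg' : g = hadd.xU s u := Units.ext hgv
    have hc := hcomp.2 s hs.1 hs (by rw [← hp]; exact hne)
    have hne2 : s ≠ D.neg (D.simple i) := by rw [hq]; exact hc.1
    have hcm : CommOK F D r s := by
      rcases hcomm r hrlt s hs.1 with h | h | h
      · rcases hr with rfl | rfl
        · exact absurd h hne
        · exact absurd h hne2
      · rcases hr with rfl | rfl
        · exact absurd h hne2
        · rw [FD.neg_eq' hA _ hqlt, hq, hcomp.1, ← hp] at h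
          exact absurd h hne
      · exact h
    rw [hg', hadd.conj_of_comm r s hcm t' u]
    apply Subgroup.mul_mem _ (xU_mem_comp hadd _ s hs hne u)
    unfold AllAdd.wordU
    apply Subgroup.list_prod_mem
    intro y hy
    rw [List.mem_map] at hy
    obtain ⟨pr, hpr, rfl⟩ := hy
    unfold ChevalleyDatum.commWord at hpr
    rw [List.mem_map] at hpr
    obtain ⟨c, hc', rfl⟩ := hpr
    rw [FD.commTerms_eq hA r s hrlt hs.1] at hc'
    have : D.IsPosRoot c.1 ∧ c.1 ≠ T.simple i := by
      rcases hr with rfl | rfl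
      · rw [hp] at hc'; exact hc.2.1 c hc'
      · rw [hq] at hc'; exact hc.2.2 c hc'
    exact xU_mem_comp hadd _ c.1 this.1 (by rw [hp]; exact this.2) _
  have hinv : (hadd.xU r t)⁻¹ = hadd.xU r (-t) := by
    rw [inv_eq_iff_mul_eq_one]
    apply Units.ext
    rw [Units.val_mul]
    exact hadd.x_mul_neg r t
  apply mem_normalizer_closure
  · intro g hg
    have := key (-t) g hg
    rw [← hinv, inv_inv] at this
    exact this
  · intro g hg
    exact key t g hg

end

end Cfsg.Agent.Lib.Helper5.Chev
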