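import Cfsg.Agent.Lib.Helper5.Chev.G2Cent2
import Cfsg.Agent.Lib.Helper5.Chev.SimpleComp
import Cfsg.Agent.Lib.Helper5.Chev.CmAll
import Mathlib

/-!
# `G₂` over a field of odd order: the two commuting `SL₂` (helper5)
-/

set_option autoImplicit false
set_option maxRecDepth 100000

namespace Cfsg.Agent.Lib.Helper5.Chev.G2O

open Cfsg.Lie Cfsg.Agent.Lib.Helper5.Chev Cfsg.Agent.Lib.Helper5.SL2P
open scoped Matrix

theorem comm_nil : DataG2.fd.commTerms 7 11 = [] ∧ DataG2.fd.commTerms 7 0 = [] ∧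
    DataG2.fd.commTerms 4 11 = [] ∧ DataG2.fd.commTerms 4 0 = [] ∧
    DataG2.fd.neg 7 = 4 ∧ DataG2.fd.neg 4 = 7 ∧ chevG2.neg 11 = 0 ∧ chevG2.neg 7 = 4 ∧
    chevG2.IsPosRoot 7 ∧ chevG2.IsPosRoot 11 ∧ chevG2.IsNegRoot 4 ∧ chevG2.IsNegRoot 0 := by
  decide +kernel

section

variable {F : Type*} [Field F]

/-- root elements commute when the commutator formula has no terms -/
theorem commute_xx (r s : ℕ) (hr : r < 12) (hs : s < 12) (hne : s ≠ r)
    (hneg : s ≠ DataG2.fd.neg r) (hnil : DataG2.fd.commTerms r s = []) (t u : F) :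
    Commute (xx r t : GL chevG2.Idx F) (xx s u) := by
  have hadd := allAdd_all (F := F) chevG2 memG
  have hc : CommOK F chevG2 r s := by
    rcases comm_known (F := F) chevG2 memG r hr s hs with h | h | h
    · exact absurd h hne
    · rw [FD.neg_eq' DataG2.agrees r hr] at h
      exact absurd h hneg
    · exact h
  have h := hadd.conj_of_comm r s hc t u
  have hw : hadd.wordU (chevG2.commWord F r s t u) = 1 := by
    unfold ChevalleyDatum.commWord AllAdd.wordU
    rw [FD.commTerms_eq DataG2.agrees r s hr hs, hnil]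
    simp
  rw [hw, mul_one] at h
  show xx r t * xx s u = xx s u * xx r t
  calc xx r t * xx s u = xx r t * ((xx r t)⁻¹ * xx s u * xx r t) := by rw [h]
    _ = _ := by group

/-- the two rank one pairs commute -/
theorem pairComm : PairComm (PP (F := F) 7 (by decide)) (PP 11 (by decide)) := by
  obtain ⟨c1, c2, c3, c4, n7, n4, n11, n7', -⟩ := comm_nil
  refine ⟨fun a b => ?_, fun a b => ?_, fun a b => ?_, fun a b => ?_⟩
  · rw [PP_x, PP_x]
    exact commute_xx 7 11 (by decide) (by decide) (by decide) (by rw [n7]; decide) c1 a b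
  · rw [PP_x, PP_y, n11]
    exact commute_xx 7 0 (by decide) (by decide) (by decide) (by rw [n7]; decide) c2 a b
  · rw [PP_y, PP_x, n7']
    exact commute_xx 4 11 (by decide) (by decide) (by decide) (by rw [n4]; decide) c3 a b
  · rw [PP_y, PP_y, n7', n11]
    exact commute_xx 4 0 (by decide) (by decide) (by decide) (by rw [n4]; decide) c4 a b

theorem PP_w_mem (r : ℕ) (hr : r < 12) (hq : chevG2.neg r < 12) :
    (PP (F := F) r hr).w 1 ∈ chevG2.monomialSubgroup F := by
  have hadd := allAdd_all (F := F) chevG2 memG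
  have : (PP (F := F) r hr).w 1 = hadd.nU r hr hq := by
    rw [PP_w]
    apply Units.ext
    rw [AllAdd.wordU_val]
    rfl
  rw [this]
  exact hadd.nU_mem r hr hq

theorem PP_B_le (r : ℕ) (hr : r < 12) (hpos : chevG2.IsPosRoot r) (b : GL chevG2.Idx F)
    (hb : b ∈ (PP (F := F) r hr).B) : b ∈ chevG2.borelSubgroup F := by
  obtain ⟨u, t, ht, rfl⟩ := hb
  apply Subgroup.mul_mem
  · apply (le_sup_left : chevG2.posUnipotent F ≤ _)
    apply Subgroup.subset_closure
    exact ⟨r, u, hpos, rfl⟩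
  · exact (le_sup_right : chevG2.diagonalSubgroup F ≤ _) (PP_h_mem r hr t ht)

/-- the homomorphism of a positive root with `h_r(-1) ≠ 1` is injective -/
theorem phi_injective (r : ℕ) (hr : r < 12) (hq : chevG2.neg r < 12)
    (hpos : chevG2.IsPosRoot r) (hneg : chevG2.IsNegRoot (chevG2.neg r))
    (hne : (PP (F := F) r hr).h (-1) ≠ 1)
    (φ : Matrix.SpecialLinearGroup (Fin 2) F →* GL chevG2.Idx F)
    (hφx : ∀ t : F, φ (sx F t) = (PP r hr).x t) (hφy : ∀ t : F, φ (sy F t) = (PP r hr).y t) :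
    Function.Injective φ := by
  rw [injective_iff_map_eq_one]
  intro k hk
  have hHU := (borel_semidirect_all (F := F) chevG2 memG)
  rcases Pair.hom_cases (PP r hr) φ hφx hφy k with ⟨u, t, ht, hkeq, hφk⟩ | ⟨b, hb, b', hb', hφk⟩
  · rw [hk] at hφk
    have hxU : (PP (F := F) r hr).x u ∈ chevG2.posUnipotent F := by
      apply Subgroup.subset_closure
      exact ⟨r, u, hpos, rfl⟩
    have hx1 : (PP (F := F) r hr).x u = ((PP r hr).h t)⁻¹ := eq_inv_of_mul_eq_one_left hφk.symm
    have hbot : (PP (F := F) r hr).x u ∈ chevG2.posUnipotent F ⊓ chevG2.diagonalSubgroup F :=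
      ⟨hxU, by rw [hx1]; exact Subgroup.inv_mem _ (PP_h_mem r hr t ht)⟩
    rw [hHU.2, Subgroup.mem_bot] at hbot
    have hu0 : u = 0 := by
      rw [PP_x, ← xx_zero r] at hbot
      exact xx_injective r hr _ _ hbot
    have hh1 : (PP (F := F) r hr).h t = 1 := by
      rw [hbot, one_mul] at hφk
      exact hφk.symm
    have ht2 : t ^ 2 = 1 := by
      have := (PP (F := F) r hr).h_conj_x t 1 ht
      rw [hh1, one_mul, inv_one, mul_one, PP_x, PP_x] at this
      have := xx_injective r hr _ _ this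
      rw [mul_one] at this
      exact this.symm
    rw [pow_two] at ht2
    rcases mul_self_eq_one_iff.1 ht2 with h1 | h1
    · rw [hkeq, hu0, h1, (slPair F).x_zero, (slPair F).h_one, one_mul]
    · rw [h1] at hh1
      exact absurd hh1 hne
  · exfalso
    rw [hk] at hφk
    have hUB : chevG2.posUnipotent F ≤ chevG2.borelSubgroup F := le_sup_left
    have hw : (PP (F := F) r hr).w 1 = b⁻¹ * b'⁻¹ := by
      calc (PP (F := F) r hr).w 1 = b⁻¹ * (b * (PP r hr).w 1 * b') * b'⁻¹ := by group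
        _ = _ := by rw [← hφk]; group
    have hwB : (PP (F := F) r hr).w 1 ∈ chevG2.borelSubgroup F := by
      rw [hw]
      exact Subgroup.mul_mem _ (Subgroup.inv_mem _ (PP_B_le r hr hpos b hb))
        (Subgroup.inv_mem _ (PP_B_le r hr hpos b' hb'))
    have hwH : (PP (F := F) r hr).w 1 ∈ chevG2.diagonalSubgroup F := by
      rw [← (borel_inf_monomial_all (F := F) chevG2 memG).2]
      exact ⟨hwB, PP_w_mem r hr hq⟩
    have hc := (PP (F := F) r hr).conj_x 1 1 one_ne_zero
    have hU : (PP (F := F) r hr).w 1 * (PP r hr).x 1 * ((PP r hr).w 1)⁻¹ ∈ chevG2.posUnipotent F := by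
      apply (Subgroup.mem_normalizer_iff.1 (hHU.1 hwH) _).1
      apply Subgroup.subset_closure
      exact ⟨r, 1, hpos, rfl⟩
    rw [hc, PP_y] at hU
    have hV : (xx (chevG2.neg r) (-((1 : F)⁻¹ ^ 2) * 1) : GL chevG2.Idx F) ∈ chevG2.negUnipotent F := by
      apply Subgroup.subset_closure
      exact ⟨chevG2.neg r, _, hneg, rfl⟩
    have hbot : (xx (chevG2.neg r) (-((1 : F)⁻¹ ^ 2) * 1) : GL chevG2.Idx F) ∈
        chevG2.borelSubgroup F ⊓ chevG2.negUnipotent F := ⟨hUB hU, hV⟩
    rw [(borel_inf_neg_all chevG2 memG).1, Subgroup.mem_bot, ← xx_zero (chevG2.neg r)] at hbot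
    have := xx_injective (chevG2.neg r) hq _ _ hbot
    norm_num at this

end

end Cfsg.Agent.Lib.Helper5.Chev.G2O
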