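import Cfsg.Agent.Lib.Helper5.Chev.G2Cent3
import Cfsg.Agent.Lib.Helper5.Chev.DiagProd
import Mathlib

/-!
# `G₂` over a field of odd order: the central product of the two `SL₂` (helper5)
-/

set_option autoImplicit false
set_option maxRecDepth 100000

namespace Cfsg.Agent.Lib.Helper5.Chev.G2O

open Cfsg.Lie Cfsg.Agent.Lib.Helper5.Chev Cfsg.Agent.Lib.Helper5.SL2P
open scoped Matrix

theorem pair_vals : pairD chevG2 11 7 = 0 ∧ pairD chevG2 11 6 = 1 := by decide +kernel

section

variable {F : Type*} [Field F]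

/-- the action of `h_r(c)` on the root elements, for every root `r` -/
theorem PP_h_acts (r : ℕ) (hr : r < 12) (c : F) (hc : c ≠ 0) :
    Acts ((PP (F := F) r hr).h c) (fun v => c ^ (pairD chevG2 r v)) := by
  obtain ⟨χ, hχ, hm, hact⟩ := diag_char _ (PP_h_mem r hr c hc)
  intro s hs u
  rw [hact s hs]
  congr 2
  have hval : (((PP (F := F) r hr).h c : GL chevG2.Idx F) : Matrix chevG2.Idx chevG2.Idx F)
      = dK F chevG2 (pairD chevG2 r) c := by
    rw [PP_h, AllAdd.wordU_val]
    exact hMat_eq_dK_all chevG2 memG r hr c hc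
  rw [hm] at hval
  have := congrFun (congrFun hval (Sum.inr ⟨s, hs⟩)) (Sum.inr ⟨s, hs⟩)
  simpa [ChevalleyDatum.charDiag, dK] using this

theorem t0_eq : (t0 : GL chevG2.Idx F) = (PP 11 (by decide)).h (-1) := by
  have hne : (-1 : F) ≠ 0 := neg_ne_zero.2 one_ne_zero
  apply diag_eq_of_acts _ _ t0_mem (PP_h_mem 11 (by decide) (-1) hne) chi0 t0_acts _
    (PP_h_acts 11 (by decide) (-1) hne)
  · show (chi0 7 : F) = (-1) ^ (pairD chevG2 11 7)
    rw [pair_vals.1]
    simp [chi0]
  · show (chi0 6 : F) = (-1) ^ (pairD chevG2 11 6)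
    rw [pair_vals.2]
    simp [chi0]

theorem t0_ne_one (h2 : (2 : F) ≠ 0) : (t0 : GL chevG2.Idx F) ≠ 1 := by
  intro h
  have := t0_acts (F := F) 6 (by decide) 1
  rw [h, one_mul, inv_one, mul_one] at this
  have := xx_injective 6 (by decide) _ _ this
  simp only [chi0] at this
  norm_num at this
  apply h2
  linear_combination this

theorem t0_sq : (t0 : GL chevG2.Idx F) * t0 = 1 := by
  apply diag_eq_of_acts _ _ (Subgroup.mul_mem _ t0_mem t0_mem) (Subgroup.one_mem _)
    (fun s => chi0 s * chi0 s) _ (fun _ => 1) acts_one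
  · simp [chi0]
  · simp [chi0]
  · intro s hs u
    calc t0 * t0 * xx s u * (t0 * t0)⁻¹ = t0 * (t0 * xx s u * t0⁻¹) * t0⁻¹ := by group
      _ = _ := by rw [t0_acts s hs, t0_acts s hs, mul_assoc]

/-- the central element `diag(-1, -1)` of `SL₂(F)` -/
noncomputable def zz : Matrix.SpecialLinearGroup (Fin 2) F := (slPair F).h (-1)

theorem zz_val : ((zz : Matrix.SpecialLinearGroup (Fin 2) F) : Matrix (Fin 2) (Fin 2) F)
    = !![-1, 0; 0, -1] := by
  unfold zz
  rw [slPair_h_val (-1) (neg_ne_zero.2 one_ne_zero)]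
  norm_num

/-- an element of `SL₂(F)` commuting with the two elementary matrices is `±1` -/
theorem sl_central (k : Matrix.SpecialLinearGroup (Fin 2) F)
    (h1 : k * sx F 1 = sx F 1 * k) (h2 : k * sy F 1 = sy F 1 * k) : k = 1 ∨ k = zz := by
  have e1 := congrArg (fun m : Matrix.SpecialLinearGroup (Fin 2) F =>
    (m : Matrix (Fin 2) (Fin 2) F)) h1
  have e2 := congrArg (fun m : Matrix.SpecialLinearGroup (Fin 2) F =>
    (m : Matrix (Fin 2) (Fin 2) F)) h2
  simp only [Matrix.SpecialLinearGroup.coe_mul, sx_val, sy_val] at e1 e2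
  have a00 := congrFun (congrFun e1 0) 0
  have a01 := congrFun (congrFun e1 0) 1
  have b00 := congrFun (congrFun e2 0) 0
  have b10 := congrFun (congrFun e2 1) 0
  simp [Matrix.mul_apply, Fin.sum_univ_two] at a00 a01 b00 b10
  have hdet := k.2
  rw [Matrix.det_fin_two] at hdet
  have hc : (k : Matrix (Fin 2) (Fin 2) F) 1 0 = 0 := a00
  have hb : (k : Matrix (Fin 2) (Fin 2) F) 0 1 = 0 := b00
  have had : (k : Matrix (Fin 2) (Fin 2) F) 0 0 = (k : Matrix (Fin 2) (Fin 2) F) 1 1 := by
    linear_combination a01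
  rw [hc, hb, had] at hdet
  have hsq : (k : Matrix (Fin 2) (Fin 2) F) 1 1 * (k : Matrix (Fin 2) (Fin 2) F) 1 1 = 1 := by
    linear_combination hdet
  rcases mul_self_eq_one_iff.1 hsq with h | h
  · left
    apply sl_ext <;> simp [hc, hb, had, h]
  · right
    apply sl_ext <;> rw [zz_val] <;> simp [hc, hb, had, h]

end

end Cfsg.Agent.Lib.Helper5.Chev.G2O
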