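import Cfsg.Agent.Lib.Helper5.Chev.G2Cent4
import Mathlib

/-!
# `G₂` over a field of odd order: the central product of the two `SL₂`, continued (helper5)
-/

set_option autoImplicit false
set_option maxRecDepth 100000

namespace Cfsg.Agent.Lib.Helper5.Chev.G2O

open Cfsg.Lie Cfsg.Agent.Lib.Helper5.Chev Cfsg.Agent.Lib.Helper5.SL2P
open scoped Matrix

/-- elements of the closures of two elementwise commuting sets commute -/
theorem commute_closure {Γ : Type*} [Group Γ] (S T : Set Γ)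
    (h : ∀ a ∈ S, ∀ b ∈ T, Commute a b) :
    ∀ a ∈ Subgroup.closure S, ∀ b ∈ Subgroup.closure T, Commute a b := by
  intro a ha b hb
  induction ha using Subgroup.closure_induction with
  | mem x hx =>
    induction hb using Subgroup.closure_induction with
    | mem y hy => exact h x hx y hy
    | one => exact Commute.one_right x
    | mul y z _ _ hy hz => exact hy.mul_right hz
    | inv y _ hy => exact hy.inv_right
  | one => exact Commute.one_left b
  | mul x y _ _ hx hy => exact hx.mul_left hy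
  | inv x _ hx => exact hx.inv_left

section

variable {F : Type*} [Field F]

/-- the two homomorphisms from `SL₂(F)` -/
structure Homs (F : Type*) [Field F] where
  φ1 : Matrix.SpecialLinearGroup (Fin 2) F →* GL chevG2.Idx F
  φ2 : Matrix.SpecialLinearGroup (Fin 2) F →* GL chevG2.Idx F
  r1 : φ1.range = Subgroup.closure (Set.range (PP (F := F) 7 (by decide)).x ∪
    Set.range (PP (F := F) 7 (by decide)).y)
  x1 : ∀ t : F, φ1 (sx F t) = (PP 7 (by decide)).x t
  y1 : ∀ t : F, φ1 (sy F t) = (PP 7 (by decide)).y t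
  r2 : φ2.range = Subgroup.closure (Set.range (PP (F := F) 11 (by decide)).x ∪
    Set.range (PP (F := F) 11 (by decide)).y)
  x2 : ∀ t : F, φ2 (sx F t) = (PP 11 (by decide)).x t
  y2 : ∀ t : F, φ2 (sy F t) = (PP 11 (by decide)).y t

theorem exists_homs : Nonempty (Homs F) := by
  obtain ⟨φ1, r1, x1, y1⟩ := (PP (F := F) 7 (by decide)).exists_hom
  obtain ⟨φ2, r2, x2, y2⟩ := (PP (F := F) 11 (by decide)).exists_hom
  exact ⟨⟨φ1, φ2, r1, x1, y1, r2, x2, y2⟩⟩

namespace Homs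

variable (S : Homs F)

theorem comm (k k' : Matrix.SpecialLinearGroup (Fin 2) F) : Commute (S.φ1 k) (S.φ2 k') := by
  have h1 : S.φ1 k ∈ S.φ1.range := ⟨k, rfl⟩
  have h2 : S.φ2 k' ∈ S.φ2.range := ⟨k', rfl⟩
  rw [S.r1] at h1
  rw [S.r2] at h2
  apply commute_closure _ _ _ _ h1 _ h2
  have hp := pairComm (F := F)
  rintro a (⟨t, rfl⟩ | ⟨t, rfl⟩) b (⟨u, rfl⟩ | ⟨u, rfl⟩)
  · exact hp.xx t u
  · exact hp.xy t u
  · exact hp.yx t u
  · exact hp.yy t u

theorem phi1_zz : S.φ1 zz = t0 := hom_h _ S.φ1 S.x1 S.y1 (-1)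

theorem phi2_zz : S.φ2 zz = t0 := by
  rw [t0_eq]
  exact hom_h _ S.φ2 S.x2 S.y2 (-1)

theorem inj1 (h2 : (2 : F) ≠ 0) : Function.Injective S.φ1 := by
  apply phi_injective 7 (by decide) (by rw [comm_nil.2.2.2.2.2.2.2.1]; decide)
    comm_nil.2.2.2.2.2.2.2.2.1
    (by rw [comm_nil.2.2.2.2.2.2.2.1]; exact comm_nil.2.2.2.2.2.2.2.2.2.2.1)
    (t0_ne_one h2) S.φ1 S.x1 S.y1

theorem inj2 (h2 : (2 : F) ≠ 0) : Function.Injective S.φ2 := by
  apply phi_injective 11 (by decide) (by rw [comm_nil.2.2.2.2.2.2.1]; decide)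
    comm_nil.2.2.2.2.2.2.2.2.2.1
    (by rw [comm_nil.2.2.2.2.2.2.1]; exact comm_nil.2.2.2.2.2.2.2.2.2.2.2)
    (by rw [← t0_eq]; exact t0_ne_one h2) S.φ2 S.x2 S.y2

theorem zz_ne_one (h2 : (2 : F) ≠ 0) : (zz : Matrix.SpecialLinearGroup (Fin 2) F) ≠ 1 := by
  intro h
  obtain ⟨S⟩ := exists_homs (F := F)
  have := S.phi1_zz
  rw [h, map_one] at this
  exact t0_ne_one h2 this.symm

/-- an element of the first `SL₂` lying in the second is central -/
theorem mem_both (h2 : (2 : F) ≠ 0) (k : Matrix.SpecialLinearGroup (Fin 2) F)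
    (h : S.φ1 k ∈ S.φ2.range) : k = 1 ∨ k = zz := by
  obtain ⟨k', hk'⟩ := h
  have hc : ∀ m, k * m = m * k := by
    intro m
    apply S.inj1 h2
    rw [map_mul, map_mul, ← hk']
    exact ((S.comm m k').eq).symm
  exact sl_central k (hc _) (hc _)

theorem inf_eq (h2 : (2 : F) ≠ 0) : S.φ1.range ⊓ S.φ2.range = Subgroup.zpowers (t0 : GL chevG2.Idx F) := by
  apply le_antisymm
  · rintro g ⟨⟨k, rfl⟩, hg2⟩
    rcases S.mem_both h2 k hg2 with rfl | rfl
    · rw [map_one]; exact Subgroup.one_mem _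
    · rw [S.phi1_zz]; exact Subgroup.mem_zpowers _
  · rw [Subgroup.zpowers_le]
    exact ⟨⟨zz, S.phi1_zz⟩, ⟨zz, S.phi2_zz⟩⟩

/-- the product map -/
noncomputable def mu : Matrix.SpecialLinearGroup (Fin 2) F × Matrix.SpecialLinearGroup (Fin 2) F →*
    GL chevG2.Idx F :=
  MonoidHom.noncommCoprod S.φ1 S.φ2 S.comm

theorem mu_range : S.mu.range = S.φ1.range ⊔ S.φ2.range :=
  MonoidHom.noncommCoprod_range _ _ _

theorem mu_apply (k : Matrix.SpecialLinearGroup (Fin 2) F × Matrix.SpecialLinearGroup (Fin 2) F) :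
    S.mu k = S.φ1 k.1 * S.φ2 k.2 := rfl

theorem mem_ker (h2 : (2 : F) ≠ 0)
    (k : Matrix.SpecialLinearGroup (Fin 2) F × Matrix.SpecialLinearGroup (Fin 2) F)
    (hk : S.mu k = 1) : k = 1 ∨ k = (zz, zz) := by
  rw [mu_apply] at hk
  have e : S.φ1 k.1 = S.φ2 k.2⁻¹ := by
    rw [map_inv]; exact eq_inv_of_mul_eq_one_left hk
  rcases S.mem_both h2 k.1 ⟨_, e.symm⟩ with h | h
  · left
    rw [h, map_one, one_mul] at hk
    have : k.2 = 1 := S.inj2 h2 (by rw [hk, map_one])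
    exact Prod.ext h this
  · right
    rw [h, S.phi1_zz] at hk
    have : S.φ2 k.2 = S.φ2 zz := by
      rw [S.phi2_zz]
      calc S.φ2 k.2 = t0⁻¹ * (t0 * S.φ2 k.2) := by group
        _ = t0⁻¹ := by rw [hk, mul_one]
        _ = t0 := by rw [inv_eq_iff_mul_eq_one]; exact t0_sq
    exact Prod.ext h (S.inj2 h2 this)

theorem card_ker (h2 : (2 : F) ≠ 0) : Nat.card S.mu.ker = 2 := by
  rw [Nat.card_eq_two_iff]
  have hz : S.mu (zz, zz) = 1 := by
    rw [mu_apply, S.phi1_zz, S.phi2_zz]; exact t0_sq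
  refine ⟨1, ⟨(zz, zz), hz⟩, ?_, ?_⟩
  · intro h
    have := congrArg (fun x : S.mu.ker => (x : Matrix.SpecialLinearGroup (Fin 2) F ×
      Matrix.SpecialLinearGroup (Fin 2) F).1) h
    exact zz_ne_one h2 this.symm
  · ext x
    simp only [Set.mem_insert_iff, Set.mem_singleton_iff, Set.mem_univ, iff_true]
    rcases S.mem_ker h2 x.1 x.2 with h | h
    · left; exact Subtype.ext h
    · right; exact Subtype.ext h

theorem card_sup [Finite F] (h2 : (2 : F) ≠ 0) :
    Nat.card ↥(S.φ1.range ⊔ S.φ2.range) * 2 =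
      Nat.card (Matrix.SpecialLinearGroup (Fin 2) F) * Nat.card (Matrix.SpecialLinearGroup (Fin 2) F) := by
  have e1 := Subgroup.card_eq_card_quotient_mul_card_subgroup S.mu.ker
  rw [Nat.card_congr (QuotientGroup.quotientKerEquivRange S.mu).toEquiv, S.card_ker h2,
    Nat.card_prod, S.mu_range] at e1
  exact e1.symm

end Homs

end

end Cfsg.Agent.Lib.Helper5.Chev.G2O
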