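import Cfsg.Agent.Lib.Helper5.Chev.G2Cent5
import Mathlib

/-!
# `G₂` over a field of odd order: the centraliser of the standard involution is `L₁ L₂ H` (helper5)
-/

set_option autoImplicit false
set_option maxRecDepth 100000

namespace Cfsg.Agent.Lib.Helper5.Chev.G2O

open Cfsg.Lie Cfsg.Agent.Lib.Helper5.Chev Cfsg.Agent.Lib.Helper5.SL2P
open scoped Matrix

theorem good_types : ∀ L ∈ canon, (wW BsG2.Bs L 7 = 0 ∨ wW BsG2.Bs L 7 = 4 ∨ wW BsG2.Bs L 7 = 7 ∨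
    wW BsG2.Bs L 7 = 11) → L = [] ∨ L = [0] ∨ L = [1, 0, 1, 0, 1] ∨ L = [0, 1, 0, 1, 0, 1] := by
  decide +kernel

theorem tbl10 : wW BsG2.Bs [1, 0] 6 = 11 ∧ sgnW BsG2.Bs [1, 0] 6 = 1 ∧
    wW BsG2.Bs [1, 0] 5 = 0 ∧ sgnW BsG2.Bs [1, 0] 5 = 1 ∧ chevG2.neg 6 = 5 ∧ chevG2.neg 11 = 0 := by
  decide +kernel

section

variable {F : Type*} [Field F]

theorem chi0_cases (s : ℕ) : (chi0 s : F) = 1 ∨ (chi0 s : F) = -1 := by
  unfold chi0
  split_ifs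
  · left; rfl
  · right; rfl

namespace Homs

variable (S : Homs F)

/-- the product `L₁ L₂` -/
def AA : Subgroup (GL chevG2.Idx F) := S.φ1.range ⊔ S.φ2.range

theorem xx7_mem (a : F) : (xx 7 a : GL chevG2.Idx F) ∈ S.AA :=
  Subgroup.mem_sup_left ⟨sx F a, S.x1 a⟩

theorem xx11_mem (a : F) : (xx 11 a : GL chevG2.Idx F) ∈ S.AA :=
  Subgroup.mem_sup_right ⟨sx F a, S.x2 a⟩

theorem nI0_mem : (nI 0 : GL chevG2.Idx F) ∈ S.AA := by
  rw [nI_zero]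
  exact Subgroup.mem_sup_left ⟨(slPair F).w 1, hom_w _ S.φ1 S.x1 S.y1 1⟩

theorem w11_mem : (PP (F := F) 11 (by decide)).w 1 ∈ S.AA :=
  Subgroup.mem_sup_right ⟨(slPair F).w 1, hom_w _ S.φ2 S.x2 S.y2 1⟩

theorem le_sup_diag_left : S.AA ≤ S.AA ⊔ chevG2.diagonalSubgroup F := le_sup_left

/-- the representative of the reflection in `3a + 2b` -/
theorem nW5_mem : (nW [1, 0, 1, 0, 1] : GL chevG2.Idx F) ∈ S.AA ⊔ chevG2.diagonalSubgroup F := by
  obtain ⟨t6, s6, t5, s5, n6, n11⟩ := tbl10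
  have hL : ∀ i ∈ [1, 0], i < 2 := by decide
  -- `g n_b g⁻¹ = w_{3a+2b}(1)` for `g = n_b n_a`
  have e1 : (nW [1, 0] : GL chevG2.Idx F) * nI 1 * (nW [1, 0])⁻¹ = (PP 11 (by decide)).w 1 := by
    rw [nI_one]
    unfold Pair.w
    rw [PP_x, PP_y, PP_x, PP_y, n6, n11]
    have c6 := fun u : F => (conj_word_sgn (F := F) [1, 0] hL 6 (by decide) u).2
    have c5 := fun u : F => (conj_word_sgn (F := F) [1, 0] hL 5 (by decide) u).2
    rw [t6, s6] at c6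
    rw [t5, s5] at c5
    calc nW [1, 0] * (xx 6 1 * xx 5 (-(1 : F)⁻¹) * xx 6 1) * (nW [1, 0])⁻¹
        = (nW [1, 0] * xx 6 1 * (nW [1, 0])⁻¹) * (nW [1, 0] * xx 5 (-(1 : F)⁻¹) * (nW [1, 0])⁻¹) *
            (nW [1, 0] * xx 6 1 * (nW [1, 0])⁻¹) := by group
      _ = _ := by
        rw [c6, c5]
        norm_num
  have e2 : (nW [1, 0, 1, 0, 1] : GL chevG2.Idx F) = (nW [1, 0] * nI 1 * (nW [1, 0])⁻¹) *
      ((nI 1 * (nI 0 * nI 0) * (nI 1)⁻¹) * (nI 1 * nI 1)) := by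
    rw [nW_cons, nW_cons, nW_cons, nW_cons, nW_single, nW_cons, nW_single]
    group
  rw [e2, e1]
  apply Subgroup.mul_mem _ (Subgroup.mem_sup_left S.w11_mem)
  apply Subgroup.mem_sup_right
  exact Subgroup.mul_mem _ (monomial_normalizes _ _ (nI_mem 1) (nI_sq_mem 0 (by decide)))
    (nI_sq_mem 1 (by decide))

/-- the centraliser of the standard involution in `N` -/
theorem cent_N (h2 : (2 : F) ≠ 0) (n : GL chevG2.Idx F) (hn : n ∈ chevG2.monomialSubgroup F)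
    (hc : t0 * n * t0⁻¹ = n) : n ∈ S.AA ⊔ chevG2.diagonalSubgroup F := by
  obtain ⟨L, hL, h, hh, rfl⟩ := exists_type n hn
  obtain ⟨χ, hχ, -, hact⟩ := diag_char h hh
  have hL2 := canon_lt L hL
  -- the action on `X_a`
  have e1 : nW L * h * xx 7 1 * (nW L * h)⁻¹ =
      xx (wW BsG2.Bs L 7) (((sgnW BsG2.Bs L 7 : ℤ) : F) * ((χ 7 : F) * 1)) := by
    calc nW L * h * xx 7 1 * (nW L * h)⁻¹ = nW L * (h * xx 7 1 * h⁻¹) * (nW L)⁻¹ := by group
      _ = _ := by rw [hact 7 (by decide)]; exact (conj_word_sgn L hL2 7 (by decide) _).2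
  have hlt := (conj_word_sgn (F := F) L hL2 7 (by decide) 1).1
  have e2 : t0 * (nW L * h * xx 7 1 * (nW L * h)⁻¹) * t0⁻¹ = nW L * h * xx 7 1 * (nW L * h)⁻¹ := by
    have h7 : t0 * xx 7 (1 : F) * t0⁻¹ = xx 7 1 := by
      rw [t0_acts 7 (by decide)]; simp [chi0]
    calc t0 * (nW L * h * xx 7 1 * (nW L * h)⁻¹) * t0⁻¹
        = (t0 * (nW L * h) * t0⁻¹) * (t0 * xx 7 1 * t0⁻¹) * (t0 * (nW L * h) * t0⁻¹)⁻¹ := by group
      _ = _ := by rw [hc, h7]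
  rw [e1, t0_acts _ hlt] at e2
  have e3 := xx_injective _ hlt _ _ e2
  have hsgn : ((sgnW BsG2.Bs L 7 : ℤ) : F) * ((χ 7 : F) * 1) ≠ 0 := by
    intro h0
    rw [h0, xx_zero] at e1
    have : (xx 7 (1 : F) : GL chevG2.Idx F) = 1 := by
      calc xx 7 1 = (nW L * h)⁻¹ * (nW L * h * xx 7 1 * (nW L * h)⁻¹) * (nW L * h) := by group
        _ = 1 := by rw [e1]; group
    rw [← xx_zero 7] at this
    exact one_ne_zero (xx_injective 7 (by decide) _ _ this)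
  have hχ1 : (chi0 (wW BsG2.Bs L 7) : F) = 1 := by
    have : (chi0 (wW BsG2.Bs L 7) - 1 : F) * (((sgnW BsG2.Bs L 7 : ℤ) : F) * ((χ 7 : F) * 1)) = 0 := by
      linear_combination e3
    rcases mul_eq_zero.1 this with h' | h'
    · linear_combination h'
    · exact absurd h' hsgn
  have hmem : wW BsG2.Bs L 7 = 0 ∨ wW BsG2.Bs L 7 = 4 ∨ wW BsG2.Bs L 7 = 7 ∨
      wW BsG2.Bs L 7 = 11 := by
    by_contra hne
    have : (chi0 (wW BsG2.Bs L 7) : F) = -1 := by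
      unfold chi0
      rw [if_neg hne]
    rw [this] at hχ1
    apply h2
    linear_combination -hχ1
  have hhm : h ∈ S.AA ⊔ chevG2.diagonalSubgroup F := Subgroup.mem_sup_right hh
  rcases good_types L hL hmem with rfl | rfl | rfl | rfl
  · rw [nW_nil, one_mul]; exact hhm
  · rw [nW_single]
    exact Subgroup.mul_mem _ (Subgroup.mem_sup_left S.nI0_mem) hhm
  · exact Subgroup.mul_mem _ S.nW5_mem hhm
  · rw [nW_cons]
    exact Subgroup.mul_mem _ (Subgroup.mul_mem _ (Subgroup.mem_sup_left S.nI0_mem) S.nW5_mem) hhm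

/-- the centraliser of the standard involution lies in `L₁ L₂ H` -/
theorem cent_le (h2 : (2 : F) ≠ 0) (c : GL chevG2.Idx F) (hc : c ∈ chevG2.group F)
    (hcomm : t0 * c * t0⁻¹ = c) : c ∈ S.AA ⊔ chevG2.diagonalSubgroup F := by
  obtain ⟨u1, hu1, n, hn, u, hu, e, c1, c2, c3⟩ := cent_bruhat chevG2 memG t0 c t0_mem hc hcomm
  obtain ⟨a, b, rfl⟩ := cent_U h2 u1 hu1 c1
  obtain ⟨a', b', rfl⟩ := cent_U h2 u hu c3
  rw [e]
  apply Subgroup.mul_mem _ (Subgroup.mul_mem _ ?_ (S.cent_N h2 n hn c2)) ?_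
  · exact Subgroup.mem_sup_left (Subgroup.mul_mem _ (S.xx7_mem a) (S.xx11_mem b))
  · exact Subgroup.mem_sup_left (Subgroup.mul_mem _ (S.xx7_mem a') (S.xx11_mem b'))

end Homs

end

end Cfsg.Agent.Lib.Helper5.Chev.G2O
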