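import Cfsg.Agent.Lib.Helper5.Chev.G2Cent6
import Cfsg.Agent.Lib.Helper5.St.RankOneFin
import Mathlib

/-!
# `G₂` over a field of odd order: `L₁ L₂` has index two in the centraliser (helper5)
-/

set_option autoImplicit false
set_option maxRecDepth 100000

namespace Cfsg.Agent.Lib.Helper5.Chev.G2O

open Cfsg.Lie Cfsg.Agent.Lib.Helper5.Chev Cfsg.Agent.Lib.Helper5.SL2P
open scoped Matrix

theorem cartan1_7 : chevG2.cartan 1 7 = -1 := by decide +kernel

section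

variable {F : Type*} [Field F]

theorem Acts.mul {a b : GL chevG2.Idx F} {ψ ψ' : ℕ → F} (ha : Acts a ψ) (hb : Acts b ψ') :
    Acts (a * b) (fun s => ψ s * ψ' s) := by
  intro s hs u
  calc a * b * xx s u * (a * b)⁻¹ = a * (b * xx s u * b⁻¹) * a⁻¹ := by group
    _ = _ := by rw [hb s hs, ha s hs, mul_assoc]

theorem Acts.ne_zero {a : GL chevG2.Idx F} {ψ : ℕ → F} (ha : Acts a ψ) (s : ℕ) (hs : s < 12) :
    ψ s ≠ 0 := by
  intro h0
  have e := ha s hs 1
  rw [h0, zero_mul, xx_zero] at e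
  have : (xx s (1 : F) : GL chevG2.Idx F) = 1 := by
    calc xx s 1 = a⁻¹ * (a * xx s 1 * a⁻¹) * a := by group
      _ = 1 := by rw [e]; group
  rw [← xx_zero s] at this
  exact one_ne_zero (xx_injective s hs _ _ this)

/-- in a finite field of odd order, exactly one of `x` and `x ν⁻¹` is a square, `ν` a non-square -/
theorem xor_square [Finite F] (hF : ringChar F ≠ 2) (x ν : F) (hx : x ≠ 0) (hν0 : ν ≠ 0)
    (hν : ¬ IsSquare ν) : Xor (IsSquare (x * ν⁻¹)) (IsSquare x) := by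
  classical
  have := Fintype.ofFinite F
  by_cases hsq : IsSquare x
  · right
    refine ⟨hsq, ?_⟩
    rintro ⟨s, hs⟩
    obtain ⟨r, hr⟩ := hsq
    apply hν
    have hs0 : s ≠ 0 := by
      rintro rfl
      rw [mul_zero] at hs
      exact (mul_ne_zero hx (inv_ne_zero hν0)) hs
    refine ⟨r / s, ?_⟩
    have : x = s * s * ν := by
      rw [← hs]; field_simp
    rw [hr] at this
    rw [div_mul_div_comm, eq_div_iff (mul_ne_zero hs0 hs0)]
    linear_combination -this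
  · left
    refine ⟨?_, hsq⟩
    obtain ⟨r, -, hr⟩ := Cfsg.Agent.Lib.Helper5.St.nonsquare_div hF x ν hx hν0 hsq hν
    exact ⟨r, by rw [hr]; field_simp⟩

namespace Homs

variable (S : Homs F)

theorem AA_eq_closure : S.AA = Subgroup.closure
    ((Set.range (PP (F := F) 7 (by decide)).x ∪ Set.range (PP (F := F) 7 (by decide)).y) ∪
      (Set.range (PP (F := F) 11 (by decide)).x ∪ Set.range (PP (F := F) 11 (by decide)).y)) := by
  unfold AA
  rw [S.r1, S.r2, ← Subgroup.closure_union]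

/-- `H` normalises `L₁ L₂` -/
theorem conj_mem_AA (h a : GL chevG2.Idx F) (hh : h ∈ chevG2.diagonalSubgroup F) (ha : a ∈ S.AA) :
    h * a * h⁻¹ ∈ S.AA := by
  obtain ⟨χ, -, -, hact⟩ := diag_char h hh
  obtain ⟨-, -, -, -, -, -, n11, n7, -⟩ := comm_nil
  rw [AA_eq_closure] at ha ⊢
  induction ha using Subgroup.closure_induction with
  | mem x hx =>
    apply Subgroup.subset_closure
    rcases hx with (⟨t, rfl⟩ | ⟨t, rfl⟩) | (⟨t, rfl⟩ | ⟨t, rfl⟩)
    · left; left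
      exact ⟨(χ 7 : F) * t, by rw [PP_x, PP_x, hact 7 (by decide)]⟩
    · left; right
      exact ⟨(χ 4 : F) * t, by rw [PP_y, PP_y, n7, hact 4 (by decide)]⟩
    · right; left
      exact ⟨(χ 11 : F) * t, by rw [PP_x, PP_x, hact 11 (by decide)]⟩
    · right; right
      exact ⟨(χ 0 : F) * t, by rw [PP_y, PP_y, n11, hact 0 (by decide)]⟩
  | one =>
    rw [mul_one, mul_inv_cancel]
    exact Subgroup.one_mem _
  | mul x y _ _ hx hy =>
    have : h * (x * y) * h⁻¹ = (h * x * h⁻¹) * (h * y * h⁻¹) := by group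
    rw [this]
    exact Subgroup.mul_mem _ hx hy
  | inv x _ hx =>
    have : h * x⁻¹ * h⁻¹ = (h * x * h⁻¹)⁻¹ := by group
    rw [this]
    exact Subgroup.inv_mem _ hx

theorem diag_le_normalizer : chevG2.diagonalSubgroup F ≤ Subgroup.normalizer (S.AA : Set (GL chevG2.Idx F)) := by
  intro h hh
  rw [Subgroup.mem_normalizer_iff]
  intro a
  constructor
  · exact S.conj_mem_AA h a hh
  · intro ha
    have := S.conj_mem_AA h⁻¹ _ (Subgroup.inv_mem _ hh) ha
    have e : h⁻¹ * (h * a * h⁻¹) * h⁻¹⁻¹ = a := by group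
    rwa [e] at this

/-- an element of `H` acting on `X_a` by a square lies in `L₁ L₂` -/
theorem diag_mem_of_sq (h : GL chevG2.Idx F) (hh : h ∈ chevG2.diagonalSubgroup F) (ψ : ℕ → F)
    (hψ : Acts h ψ) (hsq : IsSquare (ψ 7)) : h ∈ S.AA := by
  obtain ⟨p, hp⟩ := hsq
  have hp0 : p ≠ 0 := by
    rintro rfl
    rw [mul_zero] at hp
    exact hψ.ne_zero 7 (by decide) hp
  obtain ⟨c0, c1, c2, c3, c4, c5, c6, c7, c8, c9, c10, c11⟩ := cartan0_vals
  have hβ : ψ 6 * p ^ 3 ≠ 0 := mul_ne_zero (hψ.ne_zero 6 (by decide)) (pow_ne_zero _ hp0)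
  have hA7 : Acts ((PP (F := F) 7 (by decide)).h p) (fun s => p ^ (chevG2.cartan 0 s)) := by
    intro s hs u
    exact PP_h_conj 0 7 (by decide) (by decide) simple_vals.1 s hs p hp0 u
  have hprod := (PP_h_acts (F := F) 11 (by decide) (ψ 6 * p ^ 3) hβ).mul hA7
  have e : h = (PP (F := F) 11 (by decide)).h (ψ 6 * p ^ 3) * (PP 7 (by decide)).h p := by
    apply diag_eq_of_acts _ _ hh (Subgroup.mul_mem _ (PP_h_mem 11 (by decide) _ hβ)
      (PP_h_mem 7 (by decide) _ hp0)) ψ hψ _ hprod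
    · show ψ 7 = (ψ 6 * p ^ 3) ^ (pairD chevG2 11 7) * p ^ (chevG2.cartan 0 7)
      rw [pair_vals.1, c7, hp]
      norm_num
      ring
    · show ψ 6 = (ψ 6 * p ^ 3) ^ (pairD chevG2 11 6) * p ^ (chevG2.cartan 0 6)
      rw [pair_vals.2, c6]
      norm_num
      field_simp
  rw [e]
  apply Subgroup.mul_mem
  · exact Subgroup.mem_sup_right ⟨(slPair F).h _, hom_h _ S.φ2 S.x2 S.y2 _⟩
  · exact Subgroup.mem_sup_left ⟨(slPair F).h _, hom_h _ S.φ1 S.x1 S.y1 _⟩

/-- an element of `H ∩ L₁ L₂` acts on `X_a` by a square -/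
theorem sq_of_diag_mem (h2 : (2 : F) ≠ 0) (h : GL chevG2.Idx F) (ψ : ℕ → F) (hψ : Acts h ψ)
    (hA : h ∈ S.AA) : IsSquare (ψ 7) := by
  unfold AA at hA
  rw [← S.mu_range] at hA
  obtain ⟨⟨k1, k2⟩, rfl⟩ := hA
  rw [mu_apply] at hψ
  have e := hψ 7 (by decide) 1
  rw [mul_one] at e
  have e1 : S.φ1 k1 * S.φ2 k2 * xx 7 1 * (S.φ1 k1 * S.φ2 k2)⁻¹ = S.φ1 (k1 * sx F 1 * k1⁻¹) := by
    have hc : Commute (S.φ2 k2) (xx 7 (1 : F)) := by
      have := S.comm (sx F 1) k2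
      rw [S.x1, PP_x] at this
      exact this.symm
    rw [map_mul, map_mul, map_inv, S.x1, PP_x]
    calc S.φ1 k1 * S.φ2 k2 * xx 7 1 * (S.φ1 k1 * S.φ2 k2)⁻¹
        = S.φ1 k1 * (S.φ2 k2 * xx 7 1) * (S.φ2 k2)⁻¹ * (S.φ1 k1)⁻¹ := by group
      _ = _ := by rw [hc.eq]; group
  rw [e1] at e
  have e2 : S.φ1 (k1 * sx F 1 * k1⁻¹) = S.φ1 (sx F (ψ 7)) := by
    rw [e, S.x1, PP_x]
  have e3 := S.inj1 h2 e2
  have e4 : k1 * sx F 1 = sx F (ψ 7) * k1 := by
    rw [← e3]; group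
  have m := congrArg (fun m : Matrix.SpecialLinearGroup (Fin 2) F =>
    (m : Matrix (Fin 2) (Fin 2) F)) e4
  simp only [Matrix.SpecialLinearGroup.coe_mul, sx_val] at m
  have m01 := congrFun (congrFun m 0) 1
  have m11 := congrFun (congrFun m 1) 1
  simp [Matrix.mul_apply, Fin.sum_univ_two] at m01 m11
  have hdet := k1.2
  rw [Matrix.det_fin_two] at hdet
  rw [m11, mul_zero, sub_zero] at hdet
  refine ⟨(k1 : Matrix (Fin 2) (Fin 2) F) 0 0, ?_⟩
  have : (k1 : Matrix (Fin 2) (Fin 2) F) 0 0 = ψ 7 * (k1 : Matrix (Fin 2) (Fin 2) F) 1 1 := by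
    linear_combination m01
  calc ψ 7 = ψ 7 * ((k1 : Matrix (Fin 2) (Fin 2) F) 0 0 * (k1 : Matrix (Fin 2) (Fin 2) F) 1 1) := by
        rw [hdet, mul_one]
    _ = _ := by rw [this]; ring

end Homs

end

end Cfsg.Agent.Lib.Helper5.Chev.G2O
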