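import Cfsg.Agent.Lib.Helper5.Chev.G2Cent7
import Cfsg.Agent.H9.SubfieldPSL2
import Mathlib

/-!
# `G₂` over a field of odd order: the centraliser of the standard involution (helper5)

`C_G(t₀) = L₁ L₂ H`, the index of `L₁ L₂` in it is two, and its order is `q² (q² - 1)²`.
-/

set_option autoImplicit false
set_option maxRecDepth 100000

namespace Cfsg.Agent.Lib.Helper5.Chev.G2O

open Cfsg.Lie Cfsg.Agent.Lib.Helper5.Chev Cfsg.Agent.Lib.Helper5.SL2P
open scoped Matrix

section

variable {F : Type*} [Field F]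

theorem diag_le_group : chevG2.diagonalSubgroup F ≤ chevG2.group F :=
  le_trans le_sup_right (allAdd_all (F := F) chevG2 memG).borel_le

theorem diag_acts (h : GL chevG2.Idx F) (hh : h ∈ chevG2.diagonalSubgroup F) :
    ∃ ψ : ℕ → F, Acts h ψ := by
  obtain ⟨χ, -, -, hact⟩ := diag_char h hh
  exact ⟨fun s => (χ s : F), hact⟩

theorem diag_commute (h h' : GL chevG2.Idx F) (hh : h ∈ chevG2.diagonalSubgroup F)
    (hh' : h' ∈ chevG2.diagonalSubgroup F) : h * h' = h' * h := by
  obtain ⟨ψ, hψ⟩ := diag_acts h hh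
  obtain ⟨ψ', hψ'⟩ := diag_acts h' hh'
  exact diag_eq_of_acts _ _ (Subgroup.mul_mem _ hh hh') (Subgroup.mul_mem _ hh' hh) _ (hψ.mul hψ') _
    (hψ'.mul hψ) (mul_comm _ _) (mul_comm _ _)

theorem zz_central (k : Matrix.SpecialLinearGroup (Fin 2) F) : zz * k = k * zz := by
  apply Subtype.ext
  rw [Matrix.SpecialLinearGroup.coe_mul, Matrix.SpecialLinearGroup.coe_mul, zz_val]
  ext i j
  fin_cases i <;> fin_cases j <;> simp [Matrix.mul_apply, Fin.sum_univ_two]

namespace Homs

variable (S : Homs F)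

theorem range1_le : S.φ1.range ≤ chevG2.group F := by
  rw [S.r1, Subgroup.closure_le]
  rintro x (⟨t, rfl⟩ | ⟨t, rfl⟩)
  · exact xx_mem_group _ _
  · exact xx_mem_group _ _

theorem range2_le : S.φ2.range ≤ chevG2.group F := by
  rw [S.r2, Subgroup.closure_le]
  rintro x (⟨t, rfl⟩ | ⟨t, rfl⟩)
  · exact xx_mem_group _ _
  · exact xx_mem_group _ _

theorem AA_le_group : S.AA ≤ chevG2.group F := sup_le S.range1_le S.range2_le

theorem range1_comm (a : GL chevG2.Idx F) (ha : a ∈ S.φ1.range) : a * t0 = t0 * a := by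
  obtain ⟨k, rfl⟩ := ha
  rw [← S.phi1_zz, ← map_mul, ← map_mul, zz_central]

theorem range2_comm (a : GL chevG2.Idx F) (ha : a ∈ S.φ2.range) : a * t0 = t0 * a := by
  obtain ⟨k, rfl⟩ := ha
  rw [← S.phi2_zz, ← map_mul, ← map_mul, zz_central]

theorem AA_le_cent : S.AA ≤ Subgroup.centralizer {(t0 : GL chevG2.Idx F)} := by
  apply sup_le
  · intro a ha
    rw [Subgroup.mem_centralizer_singleton_iff]
    exact S.range1_comm a ha
  · intro a ha
    rw [Subgroup.mem_centralizer_singleton_iff]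
    exact S.range2_comm a ha

/-- the centraliser of `t₀` in `G` is `L₁ L₂ H` -/
theorem cent_eq (h2 : (2 : F) ≠ 0) :
    chevG2.group F ⊓ Subgroup.centralizer {(t0 : GL chevG2.Idx F)} =
      S.AA ⊔ chevG2.diagonalSubgroup F := by
  apply le_antisymm
  · intro c hcm
    rw [Subgroup.mem_inf] at hcm
    obtain ⟨hc, hcc⟩ := hcm
    rw [Subgroup.mem_centralizer_singleton_iff] at hcc
    apply S.cent_le h2 c hc
    rw [← hcc]
    group
  · apply sup_le
    · exact le_inf S.AA_le_group S.AA_le_cent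
    · apply le_inf diag_le_group
      intro h hh
      rw [Subgroup.mem_centralizer_singleton_iff]
      exact diag_commute h t0 hh t0_mem

/-- `L₁ L₂` has index two in `L₁ L₂ H` -/
theorem relIndex_two [Finite F] (hF : ringChar F ≠ 2) (h2 : (2 : F) ≠ 0) :
    S.AA.relIndex (S.AA ⊔ chevG2.diagonalSubgroup F) = 2 := by
  obtain ⟨ν, hν⟩ := FiniteField.exists_nonsquare hF
  have hν0 : ν ≠ 0 := by
    rintro rfl
    exact hν ⟨0, by simp⟩
  have hdm : (PP (F := F) 6 (by decide)).h ν ∈ chevG2.diagonalSubgroup F :=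
    PP_h_mem 6 (by decide) ν hν0
  rw [Subgroup.relIndex_eq_two_iff]
  refine ⟨(PP 6 (by decide)).h ν, Subgroup.mem_sup_right hdm, ?_⟩
  intro b hb
  have hd : Acts ((PP (F := F) 6 (by decide)).h ν) (fun s => ν ^ (chevG2.cartan 1 s)) := by
    intro s hs u
    exact PP_h_conj 1 6 (by decide) (by decide) simple_vals.2 s hs ν hν0 u
  have hb' : b ∈ ((S.AA ⊔ chevG2.diagonalSubgroup F : Subgroup (GL chevG2.Idx F)) :
      Set (GL chevG2.Idx F)) := hb
  rw [Subgroup.coe_mul_of_right_le_normalizer_left _ _ S.diag_le_normalizer, Set.mem_mul] at hb'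
  obtain ⟨a, ha, h, hh, rfl⟩ := hb'
  obtain ⟨ψ, hψ⟩ := diag_acts h hh
  have k1 : a * h ∈ S.AA ↔ IsSquare (ψ 7) := by
    constructor
    · intro hm
      have : h ∈ S.AA := by
        have := Subgroup.mul_mem _ (Subgroup.inv_mem _ ha) hm
        rwa [inv_mul_cancel_left] at this
      exact S.sq_of_diag_mem h2 h ψ hψ this
    · intro hs
      exact Subgroup.mul_mem _ ha (S.diag_mem_of_sq h hh ψ hψ hs)
  have hhd := hψ.mul hd
  have e7 : ψ 7 * ν ^ (chevG2.cartan 1 7) = ψ 7 * ν⁻¹ := by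
    rw [cartan1_7, zpow_neg_one]
  have k2 : a * h * (PP (F := F) 6 (by decide)).h ν ∈ S.AA ↔ IsSquare (ψ 7 * ν⁻¹) := by
    constructor
    · intro hm
      have : h * (PP (F := F) 6 (by decide)).h ν ∈ S.AA := by
        have := Subgroup.mul_mem _ (Subgroup.inv_mem _ ha) hm
        rwa [mul_assoc, inv_mul_cancel_left] at this
      have := S.sq_of_diag_mem h2 _ _ hhd this
      rwa [e7] at this
    · intro hs
      rw [mul_assoc]
      apply Subgroup.mul_mem _ ha
      apply S.diag_mem_of_sq _ (Subgroup.mul_mem _ hh hdm) _ hhd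
      rw [e7]
      exact hs
  rw [k1, k2]
  exact xor_square hF (ψ 7) ν (hψ.ne_zero 7 (by decide)) hν0 hν

theorem AA_eq : S.AA = S.φ1.range ⊔ S.φ2.range := rfl

include S in
/-- the order of the centraliser -/
theorem card_cent [Fintype F] (hF : ringChar F ≠ 2) (h2 : (2 : F) ≠ 0) :
    Nat.card ↥(chevG2.group F ⊓ Subgroup.centralizer {(t0 : GL chevG2.Idx F)}) =
      Fintype.card F ^ 2 * (Fintype.card F ^ 2 - 1) ^ 2 := by
  rw [S.cent_eq h2]
  have e1 := Subgroup.relIndex_mul_relIndex ⊥ S.AA (S.AA ⊔ chevG2.diagonalSubgroup F) bot_le le_sup_left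
  rw [Subgroup.relIndex_bot_left, Subgroup.relIndex_bot_left, S.relIndex_two hF h2] at e1
  have e2 := S.card_sup h2
  rw [Cfsg.Agent.H9.SubfieldPSL2.card_SL2_all] at e2
  rw [← e1]
  have : Nat.card ↥S.AA = Nat.card ↥(S.φ1.range ⊔ S.φ2.range) := rfl
  rw [this, e2]
  ring

end Homs

end

end Cfsg.Agent.Lib.Helper5.Chev.G2O
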