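import Cfsg.Agent.Lib.Helper5.Chev.G2Cent8
import Mathlib

/-!
# `G₂` over a field of odd order: the centraliser of an involution (helper5)

Transport of the description of `C_G(t₀)` to the group `↥(chevG2.group F)` and, by conjugacy of
involutions, to an arbitrary involution.
-/

set_option autoImplicit false
set_option maxRecDepth 100000

namespace Cfsg.Agent.Lib.Helper5.Chev.G2O

open Cfsg.Lie Cfsg.Agent.Lib.Helper5.Chev Cfsg.Agent.Lib.Helper5.SL2P
open scoped Matrix

/-- the structure of the centraliser of `t` asserted in the statement -/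
def CentProp {G : Type*} [Group G] (M : Type*) [Group M] (n : ℕ) (t : G) : Prop :=
  Nat.card (Subgroup.centralizer ({t} : Set G)) = n ∧
    ∃ L₁ L₂ : Subgroup G, Nonempty (L₁ ≃* M) ∧ Nonempty (L₂ ≃* M) ∧
      (∀ x ∈ L₁, ∀ y ∈ L₂, x * y = y * x) ∧ L₁ ⊓ L₂ = Subgroup.zpowers t ∧
      L₁ ⊔ L₂ ≤ Subgroup.centralizer ({t} : Set G) ∧
      (L₁ ⊔ L₂).relIndex (Subgroup.centralizer ({t} : Set G)) = 2

theorem centralizer_map_equiv {G : Type*} [Group G] (e : G ≃* G) (t : G) :
    Subgroup.centralizer ({e t} : Set G) =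
      (Subgroup.centralizer ({t} : Set G)).map (e : G →* G) := by
  ext x
  rw [Subgroup.mem_centralizer_singleton_iff, Subgroup.mem_map]
  constructor
  · intro hx
    refine ⟨e.symm x, ?_, e.apply_symm_apply x⟩
    rw [Subgroup.mem_centralizer_singleton_iff]
    apply e.injective
    rw [map_mul, map_mul, e.apply_symm_apply]
    exact hx
  · rintro ⟨y, hy, rfl⟩
    rw [Subgroup.mem_centralizer_singleton_iff] at hy
    show e y * e t = e t * e y
    rw [← map_mul, ← map_mul, hy]

theorem CentProp.map {G : Type*} [Group G] {M : Type*} [Group M] {n : ℕ} {t : G} (e : G ≃* G)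
    (h : CentProp M n t) : CentProp M n (e t) := by
  have hc := centralizer_map_equiv e t
  have hinj : Function.Injective (e : G →* G) := e.injective
  obtain ⟨hn, L₁, L₂, ⟨i1⟩, ⟨i2⟩, hcomm, hinf, hle, hidx⟩ := h
  refine ⟨?_, L₁.map (e : G →* G), L₂.map (e : G →* G), ⟨(e.subgroupMap L₁).symm.trans i1⟩,
    ⟨(e.subgroupMap L₂).symm.trans i2⟩, ?_, ?_, ?_, ?_⟩
  · rw [hc, ← hn]
    exact Nat.card_congr (e.subgroupMap _).symm.toEquiv
  · rintro x ⟨a, ha, rfl⟩ y ⟨b, hb, rfl⟩
    show e a * e b = e b * e a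
    rw [← map_mul, ← map_mul, hcomm a ha b hb]
  · rw [← Subgroup.map_inf _ _ _ hinj, hinf, MonoidHom.map_zpowers]
    rfl
  · rw [← Subgroup.map_sup, hc]
    exact Subgroup.map_mono hle
  · rw [← Subgroup.map_sup, hc, Subgroup.relIndex_map_map_of_injective _ _ hinj]
    exact hidx

section

variable {F : Type*} [Field F]

/-- the standard involution as an element of the group -/
noncomputable def T0 : ↥(chevG2.group F) := ⟨t0, diag_le_group t0_mem⟩

theorem T0_val : ((T0 : ↥(chevG2.group F)) : GL chevG2.Idx F) = t0 := rfl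

namespace Homs

variable (S : Homs F)

theorem cent_T0 (h2 : (2 : F) ≠ 0) :
    Subgroup.centralizer ({T0} : Set ↥(chevG2.group F)) =
      (S.AA ⊔ chevG2.diagonalSubgroup F).subgroupOf (chevG2.group F) := by
  ext x
  rw [Subgroup.mem_centralizer_singleton_iff, Subgroup.mem_subgroupOf, ← S.cent_eq h2,
    Subgroup.mem_inf, Subgroup.mem_centralizer_singleton_iff]
  constructor
  · intro hx
    refine ⟨x.2, ?_⟩
    have := congrArg (fun y : ↥(chevG2.group F) => (y : GL chevG2.Idx F)) hx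
    simpa only [Subgroup.coe_mul, T0_val] using this
  · rintro ⟨-, hx⟩
    apply Subtype.ext
    rw [Subgroup.coe_mul, Subgroup.coe_mul, T0_val]
    exact hx

theorem zpowers_T0 :
    (Subgroup.zpowers (t0 : GL chevG2.Idx F)).subgroupOf (chevG2.group F) =
      Subgroup.zpowers (T0 : ↥(chevG2.group F)) := by
  ext x
  rw [Subgroup.mem_subgroupOf, Subgroup.mem_zpowers_iff, Subgroup.mem_zpowers_iff]
  constructor
  · rintro ⟨k, hk⟩
    refine ⟨k, ?_⟩
    apply Subtype.ext
    rw [Subgroup.coe_zpow, T0_val]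
    exact hk
  · rintro ⟨k, rfl⟩
    refine ⟨k, ?_⟩
    rw [Subgroup.coe_zpow, T0_val]

include S in
theorem centProp_T0 [Fintype F] (hF : ringChar F ≠ 2) (h2 : (2 : F) ≠ 0) :
    CentProp (Matrix.SpecialLinearGroup (Fin 2) F)
      (Fintype.card F ^ 2 * (Fintype.card F ^ 2 - 1) ^ 2) (T0 : ↥(chevG2.group F)) := by
  have hle : S.AA ⊔ chevG2.diagonalSubgroup F ≤ chevG2.group F := sup_le S.AA_le_group diag_le_group
  have hsup : (S.φ1.range.subgroupOf (chevG2.group F)) ⊔ (S.φ2.range.subgroupOf (chevG2.group F)) =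
      S.AA.subgroupOf (chevG2.group F) :=
    (Subgroup.subgroupOf_sup S.range1_le S.range2_le).symm
  refine ⟨?_, S.φ1.range.subgroupOf (chevG2.group F), S.φ2.range.subgroupOf (chevG2.group F),
    ⟨(Subgroup.subgroupOfEquivOfLe S.range1_le).trans (MonoidHom.ofInjective (S.inj1 h2)).symm⟩,
    ⟨(Subgroup.subgroupOfEquivOfLe S.range2_le).trans (MonoidHom.ofInjective (S.inj2 h2)).symm⟩,
    ?_, ?_, ?_, ?_⟩
  · rw [S.cent_T0 h2, Nat.card_congr (Subgroup.subgroupOfEquivOfLe hle).toEquiv, ← S.cent_eq h2]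
    exact S.card_cent hF h2
  · intro x hx y hy
    rw [Subgroup.mem_subgroupOf] at hx hy
    obtain ⟨k, hk⟩ := hx
    obtain ⟨k', hk'⟩ := hy
    apply Subtype.ext
    rw [Subgroup.coe_mul, Subgroup.coe_mul, ← hk, ← hk']
    exact (S.comm k k').eq
  · rw [← zpowers_T0, ← S.inf_eq h2]
    ext x
    rw [Subgroup.mem_inf, Subgroup.mem_subgroupOf, Subgroup.mem_subgroupOf, Subgroup.mem_subgroupOf,
      Subgroup.mem_inf]
  · rw [hsup, S.cent_T0 h2]
    intro x hx
    rw [Subgroup.mem_subgroupOf] at hx ⊢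
    exact Subgroup.mem_sup_left hx
  · rw [hsup, S.cent_T0 h2, Subgroup.relIndex_subgroupOf hle]
    exact S.relIndex_two hF h2

end Homs

/-- the centraliser of an arbitrary involution of `G₂(q)`, `q` odd -/
theorem centProp_all [Fintype F] (hodd : Odd (Fintype.card F)) (t : ↥(chevG2.group F))
    (ht : orderOf t = 2) :
    CentProp (Matrix.SpecialLinearGroup (Fin 2) F)
      (Fintype.card F ^ 2 * (Fintype.card F ^ 2 - 1) ^ 2) t := by
  obtain ⟨S⟩ := exists_homs (F := F)
  have hF : ringChar F ≠ 2 := by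
    intro h
    have := FiniteField.even_card_of_char_two h
    rcases hodd with ⟨m, hm⟩
    omega
  have h2 : (2 : F) ≠ 0 := Ring.two_ne_zero hF
  have hodd' : Odd (Nat.card F) := by rwa [Nat.card_eq_fintype_card]
  have ht1 : (t : GL chevG2.Idx F) ≠ 1 := by
    intro h
    have : t = 1 := Subtype.ext h
    rw [this, orderOf_one] at ht
    omega
  have ht2 : (t : GL chevG2.Idx F) * t = 1 := by
    have := pow_orderOf_eq_one t
    rw [ht, pow_two] at this
    have := congrArg (fun y : ↥(chevG2.group F) => (y : GL chevG2.Idx F)) this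
    simpa only [Subgroup.coe_mul, Subgroup.coe_one] using this
  obtain ⟨g, hg, hgt⟩ := invol_conj hodd' t0 t (diag_le_group t0_mem) t.2 t0_sq ht2 (t0_ne_one h2) ht1
  have key := (S.centProp_T0 hF h2).map (MulAut.conj (⟨g, hg⟩ : ↥(chevG2.group F)))
  have e : (MulAut.conj (⟨g, hg⟩ : ↥(chevG2.group F))) T0 = t := by
    rw [MulAut.conj_apply]
    apply Subtype.ext
    rw [Subgroup.coe_mul, Subgroup.coe_mul, Subgroup.coe_inv, T0_val]
    exact hgt
  rwa [e] at key

end

end Cfsg.Agent.Lib.Helper5.Chev.G2O
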