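import Mathlib

/-!
# Involutions of the unipotent group of `G₂` in characteristic two: the abstract calculus (helper5)

`G2Rel F Γ` packages six one-parameter subgroups `X6 … X11` of a group `Γ` (roots `b, a, a+b, 2a+b,
3a+b, 3a+2b`) with the commutator relations of type `G₂` in characteristic two, two elements
`na`, `nb` acting as the fundamental reflections, and a torus rescaling `X9` and `X11`.
-/

set_option autoImplicit false

namespace Cfsg.Agent.Lib.Helper5.Chev.G2I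

structure G2Rel (F : Type*) [Field F] (Γ : Type*) [Group Γ] where
  X6 : F → Γ
  X7 : F → Γ
  X8 : F → Γ
  X9 : F → Γ
  X10 : F → Γ
  X11 : F → Γ
  add6 : ∀ s t, X6 s * X6 t = X6 (s + t)
  add7 : ∀ s t, X7 s * X7 t = X7 (s + t)
  add8 : ∀ s t, X8 s * X8 t = X8 (s + t)
  add9 : ∀ s t, X9 s * X9 t = X9 (s + t)
  add10 : ∀ s t, X10 s * X10 t = X10 (s + t)
  add11 : ∀ s t, X11 s * X11 t = X11 (s + t)
  c76 : ∀ t u, X7 u * X6 t = X6 t * (X7 u * (X8 (t * u) * (X9 (t * u ^ 2) * X10 (t * u ^ 3))))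
  c87 : ∀ t u, X8 u * X7 t = X7 t * (X8 u * (X10 (t ^ 2 * u) * X11 (t * u ^ 2)))
  c97 : ∀ t u, X9 u * X7 t = X7 t * (X9 u * X10 (t * u))
  c98 : ∀ t u, X9 u * X8 t = X8 t * (X9 u * X11 (t * u))
  c106 : ∀ t u, X10 u * X6 t = X6 t * (X10 u * X11 (t * u))
  c86 : ∀ t u, X8 u * X6 t = X6 t * X8 u
  c96 : ∀ t u, X9 u * X6 t = X6 t * X9 u
  c116 : ∀ t u, X11 u * X6 t = X6 t * X11 u
  c107 : ∀ t u, X10 u * X7 t = X7 t * X10 u
  c117 : ∀ t u, X11 u * X7 t = X7 t * X11 u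
  c108 : ∀ t u, X10 u * X8 t = X8 t * X10 u
  c118 : ∀ t u, X11 u * X8 t = X8 t * X11 u
  c109 : ∀ t u, X10 u * X9 t = X9 t * X10 u
  c119 : ∀ t u, X11 u * X9 t = X9 t * X11 u
  c1110 : ∀ t u, X11 u * X10 t = X10 t * X11 u

namespace G2Rel

variable {F : Type*} [Field F] {Γ : Type*} [Group Γ] (R : G2Rel F Γ)

theorem z6 : R.X6 0 = 1 := by
  have h := R.add6 0 0
  rw [add_zero] at h
  exact mul_eq_left.mp h
theorem z7 : R.X7 0 = 1 := by
  have h := R.add7 0 0
  rw [add_zero] at h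
  exact mul_eq_left.mp h
theorem z8 : R.X8 0 = 1 := by
  have h := R.add8 0 0
  rw [add_zero] at h
  exact mul_eq_left.mp h
theorem z9 : R.X9 0 = 1 := by
  have h := R.add9 0 0
  rw [add_zero] at h
  exact mul_eq_left.mp h
theorem z10 : R.X10 0 = 1 := by
  have h := R.add10 0 0
  rw [add_zero] at h
  exact mul_eq_left.mp h
theorem z11 : R.X11 0 = 1 := by
  have h := R.add11 0 0
  rw [add_zero] at h
  exact mul_eq_left.mp h

/-! the same relations with a tail -/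

theorem add6' (s t : F) (w : Γ) : R.X6 s * (R.X6 t * w) = R.X6 (s + t) * w := by
  rw [← mul_assoc, R.add6]
theorem add7' (s t : F) (w : Γ) : R.X7 s * (R.X7 t * w) = R.X7 (s + t) * w := by
  rw [← mul_assoc, R.add7]
theorem add8' (s t : F) (w : Γ) : R.X8 s * (R.X8 t * w) = R.X8 (s + t) * w := by
  rw [← mul_assoc, R.add8]
theorem add9' (s t : F) (w : Γ) : R.X9 s * (R.X9 t * w) = R.X9 (s + t) * w := by
  rw [← mul_assoc, R.add9]
theorem add10' (s t : F) (w : Γ) : R.X10 s * (R.X10 t * w) = R.X10 (s + t) * w := by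
  rw [← mul_assoc, R.add10]
theorem add11' (s t : F) (w : Γ) : R.X11 s * (R.X11 t * w) = R.X11 (s + t) * w := by
  rw [← mul_assoc, R.add11]

theorem c76' (t u : F) (w : Γ) : R.X7 u * (R.X6 t * w) =
    R.X6 t * (R.X7 u * (R.X8 (t * u) * (R.X9 (t * u ^ 2) * (R.X10 (t * u ^ 3) * w)))) := by
  rw [← mul_assoc, R.c76]; simp only [mul_assoc]
theorem c87' (t u : F) (w : Γ) : R.X8 u * (R.X7 t * w) =
    R.X7 t * (R.X8 u * (R.X10 (t ^ 2 * u) * (R.X11 (t * u ^ 2) * w))) := by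
  rw [← mul_assoc, R.c87]; simp only [mul_assoc]
theorem c97' (t u : F) (w : Γ) : R.X9 u * (R.X7 t * w) = R.X7 t * (R.X9 u * (R.X10 (t * u) * w)) := by
  rw [← mul_assoc, R.c97]; simp only [mul_assoc]
theorem c98' (t u : F) (w : Γ) : R.X9 u * (R.X8 t * w) = R.X8 t * (R.X9 u * (R.X11 (t * u) * w)) := by
  rw [← mul_assoc, R.c98]; simp only [mul_assoc]
theorem c106' (t u : F) (w : Γ) : R.X10 u * (R.X6 t * w) = R.X6 t * (R.X10 u * (R.X11 (t * u) * w)) := by
  rw [← mul_assoc, R.c106]; simp only [mul_assoc]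
theorem c86' (t u : F) (w : Γ) : R.X8 u * (R.X6 t * w) = R.X6 t * (R.X8 u * w) := by
  rw [← mul_assoc, R.c86]; simp only [mul_assoc]
theorem c96' (t u : F) (w : Γ) : R.X9 u * (R.X6 t * w) = R.X6 t * (R.X9 u * w) := by
  rw [← mul_assoc, R.c96]; simp only [mul_assoc]
theorem c116' (t u : F) (w : Γ) : R.X11 u * (R.X6 t * w) = R.X6 t * (R.X11 u * w) := by
  rw [← mul_assoc, R.c116]; simp only [mul_assoc]
theorem c107' (t u : F) (w : Γ) : R.X10 u * (R.X7 t * w) = R.X7 t * (R.X10 u * w) := by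
  rw [← mul_assoc, R.c107]; simp only [mul_assoc]
theorem c117' (t u : F) (w : Γ) : R.X11 u * (R.X7 t * w) = R.X7 t * (R.X11 u * w) := by
  rw [← mul_assoc, R.c117]; simp only [mul_assoc]
theorem c108' (t u : F) (w : Γ) : R.X10 u * (R.X8 t * w) = R.X8 t * (R.X10 u * w) := by
  rw [← mul_assoc, R.c108]; simp only [mul_assoc]
theorem c118' (t u : F) (w : Γ) : R.X11 u * (R.X8 t * w) = R.X8 t * (R.X11 u * w) := by
  rw [← mul_assoc, R.c118]; simp only [mul_assoc]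
theorem c109' (t u : F) (w : Γ) : R.X10 u * (R.X9 t * w) = R.X9 t * (R.X10 u * w) := by
  rw [← mul_assoc, R.c109]; simp only [mul_assoc]
theorem c119' (t u : F) (w : Γ) : R.X11 u * (R.X9 t * w) = R.X9 t * (R.X11 u * w) := by
  rw [← mul_assoc, R.c119]; simp only [mul_assoc]
theorem c1110' (t u : F) (w : Γ) : R.X11 u * (R.X10 t * w) = R.X10 t * (R.X11 u * w) := by
  rw [← mul_assoc, R.c1110]; simp only [mul_assoc]

/-- the normal form -/
def phi (b a c d e f : F) : Γ :=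
  R.X6 b * (R.X7 a * (R.X8 c * (R.X9 d * (R.X10 e * R.X11 f))))

theorem phi_congr {b a c d e f b' a' c' d' e' f' : F} (h1 : b = b') (h2 : a = a') (h3 : c = c')
    (h4 : d = d') (h5 : e = e') (h6 : f = f') : R.phi b a c d e f = R.phi b' a' c' d' e' f' := by
  subst h1 h2 h3 h4 h5 h6; rfl

end G2Rel

end Cfsg.Agent.Lib.Helper5.Chev.G2I
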