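import Cfsg.Agent.Lib.Helper5.Chev.G2Inv1
import Mathlib

/-!
# Involutions of the unipotent group of `G₂` in characteristic two: the classification (helper5)

In the abstract setting of `G2Rel`, with the two reflections and the torus available in a subgroup
`G`, every involution of normal form `phi b a c d e f` is `G`-conjugate to `X11 1` or to `X9 1`.
-/

set_option autoImplicit false
set_option linter.unusedSimpArgs false
set_option linter.unusedVariables false

namespace Cfsg.Agent.Lib.Helper5.Chev.G2I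

variable {F : Type*} [Field F] {Γ : Type*} [Group Γ]

/-- conjugacy under a subgroup -/
def CJ (G : Subgroup Γ) (u v : Γ) : Prop := ∃ g ∈ G, g * u * g⁻¹ = v

theorem CJ.refl (G : Subgroup Γ) (u : Γ) : CJ G u u := ⟨1, G.one_mem, by simp⟩

theorem CJ.trans {G : Subgroup Γ} {u v w : Γ} (h1 : CJ G u v) (h2 : CJ G v w) : CJ G u w := by
  obtain ⟨g, hg, rfl⟩ := h1
  obtain ⟨k, hk, rfl⟩ := h2
  exact ⟨k * g, G.mul_mem hk hg, by group⟩

theorem CJ.of_eq {G : Subgroup Γ} {u v : Γ} (h : u = v) : CJ G u v := h ▸ CJ.refl G u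

theorem CJ.of_invol {G : Subgroup Γ} {g u v : Γ} (hg : g ∈ G) (hgg : g * g = 1)
    (h : g * u * g = v) : CJ G u v := by
  refine ⟨g, hg, ?_⟩
  have : g⁻¹ = g := inv_eq_of_mul_eq_one_left hgg
  rw [this, h]

namespace G2Rel

variable (R : G2Rel F Γ)

section char2

variable [CharP F 2]

theorem sq6 (s : F) : R.X6 s * R.X6 s = 1 := by
  rw [R.add6, CharTwo.add_self_eq_zero, R.z6]
theorem sq7 (s : F) : R.X7 s * R.X7 s = 1 := by
  rw [R.add7, CharTwo.add_self_eq_zero, R.z7]
theorem sq8 (s : F) : R.X8 s * R.X8 s = 1 := by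
  rw [R.add8, CharTwo.add_self_eq_zero, R.z8]
theorem sq9 (s : F) : R.X9 s * R.X9 s = 1 := by
  rw [R.add9, CharTwo.add_self_eq_zero, R.z9]
theorem sq10 (s : F) : R.X10 s * R.X10 s = 1 := by
  rw [R.add10, CharTwo.add_self_eq_zero, R.z10]

theorem phi_sq (b a c d e f : F) : R.phi b a c d e f * R.phi b a c d e f =
    R.phi 0 0 (a * b) (a ^ 2 * b) (a ^ 3 * b + a ^ 2 * c + a * d)
      (a ^ 3 * b ^ 2 + a * c ^ 2 + c * d + b * e) := by
  unfold G2Rel.phi
  simp only [mul_assoc, R.add6, R.add7, R.add8, R.add9, R.add10, R.add11,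
    R.add6', R.add7', R.add8', R.add9', R.add10', R.add11',
    R.c76, R.c87, R.c97, R.c98, R.c106, R.c86, R.c96, R.c116, R.c107, R.c117, R.c108, R.c118,
    R.c109, R.c119, R.c1110,
    R.c76', R.c87', R.c97', R.c98', R.c106', R.c86', R.c96', R.c116', R.c107', R.c117', R.c108',
    R.c118', R.c109', R.c119', R.c1110']
  refine R.phi_congr ?_ ?_ ?_ ?_ ?_ ?_ <;> grind

theorem conj6 (s b a c d e f : F) : R.X6 s * R.phi b a c d e f * R.X6 s =
    R.phi b a (s * a + c) (s * a ^ 2 + d) (s * a ^ 3 + e) (c * (s * a ^ 2) + (s * e + f)) := by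
  unfold G2Rel.phi
  simp only [mul_assoc, R.add6, R.add7, R.add8, R.add9, R.add10, R.add11,
    R.add6', R.add7', R.add8', R.add9', R.add10', R.add11',
    R.c76, R.c87, R.c97, R.c98, R.c106, R.c86, R.c96, R.c116, R.c107, R.c117, R.c108, R.c118,
    R.c109, R.c119, R.c1110,
    R.c76', R.c87', R.c97', R.c98', R.c106', R.c86', R.c96', R.c116', R.c107', R.c117', R.c108',
    R.c118', R.c109', R.c119', R.c1110']
  refine R.phi_congr ?_ ?_ ?_ ?_ ?_ ?_ <;> grind

theorem conj7 (s b a c d e f : F) : R.X7 s * R.phi b a c d e f * R.X7 s =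
    R.phi b a (b * s + c) (b * s ^ 2 + d)
      (e + b * s ^ 3 + s ^ 2 * c + s * d + a ^ 2 * b * s + a * b * s ^ 2)
      (f + b ^ 2 * s ^ 3 + s * c ^ 2 + a * b ^ 2 * s ^ 2 + b * c * s ^ 2) := by
  unfold G2Rel.phi
  simp only [mul_assoc, R.add6, R.add7, R.add8, R.add9, R.add10, R.add11,
    R.add6', R.add7', R.add8', R.add9', R.add10', R.add11',
    R.c76, R.c87, R.c97, R.c98, R.c106, R.c86, R.c96, R.c116, R.c107, R.c117, R.c108, R.c118,
    R.c109, R.c119, R.c1110,
    R.c76', R.c87', R.c97', R.c98', R.c106', R.c86', R.c96', R.c116', R.c107', R.c117', R.c108',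
    R.c118', R.c109', R.c119', R.c1110']
  refine R.phi_congr ?_ ?_ ?_ ?_ ?_ ?_ <;> grind

theorem conj8 (s b a c d e f : F) : R.X8 s * R.phi b a c d e f * R.X8 s =
    R.phi b a c d (a ^ 2 * s + e) (s * d + (a * s ^ 2 + f)) := by
  unfold G2Rel.phi
  simp only [mul_assoc, R.add6, R.add7, R.add8, R.add9, R.add10, R.add11,
    R.add6', R.add7', R.add8', R.add9', R.add10', R.add11',
    R.c76, R.c87, R.c97, R.c98, R.c106, R.c86, R.c96, R.c116, R.c107, R.c117, R.c108, R.c118,
    R.c109, R.c119, R.c1110,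
    R.c76', R.c87', R.c97', R.c98', R.c106', R.c86', R.c96', R.c116', R.c107', R.c117', R.c108',
    R.c118', R.c109', R.c119', R.c1110']
  refine R.phi_congr ?_ ?_ ?_ ?_ ?_ ?_ <;> grind

theorem conj9 (s b a c d e f : F) : R.X9 s * R.phi b a c d e f * R.X9 s =
    R.phi b a c d (a * s + e) (c * s + f) := by
  unfold G2Rel.phi
  simp only [mul_assoc, R.add6, R.add7, R.add8, R.add9, R.add10, R.add11,
    R.add6', R.add7', R.add8', R.add9', R.add10', R.add11',
    R.c76, R.c87, R.c97, R.c98, R.c106, R.c86, R.c96, R.c116, R.c107, R.c117, R.c108, R.c118,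
    R.c109, R.c119, R.c1110,
    R.c76', R.c87', R.c97', R.c98', R.c106', R.c86', R.c96', R.c116', R.c107', R.c117', R.c108',
    R.c118', R.c109', R.c119', R.c1110']
  refine R.phi_congr ?_ ?_ ?_ ?_ ?_ ?_ <;> grind

theorem conj10 (s b a c d e f : F) : R.X10 s * R.phi b a c d e f * R.X10 s =
    R.phi b a c d e (b * s + f) := by
  unfold G2Rel.phi
  simp only [mul_assoc, R.add6, R.add7, R.add8, R.add9, R.add10, R.add11,
    R.add6', R.add7', R.add8', R.add9', R.add10', R.add11',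
    R.c76, R.c87, R.c97, R.c98, R.c106, R.c86, R.c96, R.c116, R.c107, R.c117, R.c108, R.c118,
    R.c109, R.c119, R.c1110,
    R.c76', R.c87', R.c97', R.c98', R.c106', R.c86', R.c96', R.c116', R.c107', R.c117', R.c108',
    R.c118', R.c109', R.c119', R.c1110']
  refine R.phi_congr ?_ ?_ ?_ ?_ ?_ ?_ <;> grind

end char2

end G2Rel

end Cfsg.Agent.Lib.Helper5.Chev.G2I
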