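import Cfsg.Agent.Lib.Helper5.Chev.G2Inv2
import Mathlib

/-!
# Involutions of the unipotent group of `G₂` in characteristic two: the case analysis (helper5)
-/

set_option autoImplicit false
set_option linter.unusedSimpArgs false
set_option linter.unusedVariables false
set_option linter.unusedSectionVars false

namespace Cfsg.Agent.Lib.Helper5.Chev.G2I

variable {F : Type*} [Field F] {Γ : Type*} [Group Γ]

/-- the ambient data: root elements, reflections and torus inside the subgroup `G` -/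
structure Amb (R : G2Rel F Γ) (G : Subgroup Γ) : Prop where
  m6 : ∀ t, R.X6 t ∈ G
  m7 : ∀ t, R.X7 t ∈ G
  m8 : ∀ t, R.X8 t ∈ G
  m9 : ∀ t, R.X9 t ∈ G
  m10 : ∀ t, R.X10 t ∈ G
  exna : ∃ n ∈ G, ∃ η1 η2 η3 : F, η1 ≠ 0 ∧ η2 ≠ 0 ∧ η3 ≠ 0 ∧
    (∀ t, n * R.X8 t * n⁻¹ = R.X9 (η1 * t)) ∧ (∀ t, n * R.X9 t * n⁻¹ = R.X8 (η2 * t)) ∧
    (∀ t, n * R.X6 t * n⁻¹ = R.X10 (η3 * t))
  exnb : ∃ n ∈ G, ∃ η1 η2 η3 : F, η1 ≠ 0 ∧ η2 ≠ 0 ∧ η3 ≠ 0 ∧
    (∀ t, n * R.X10 t * n⁻¹ = R.X11 (η1 * t)) ∧ (∀ t, n * R.X11 t * n⁻¹ = R.X10 (η2 * t)) ∧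
    (∀ t, n * R.X7 t * n⁻¹ = R.X8 (η3 * t))
  tor9 : ∀ c : F, c ≠ 0 → ∃ h ∈ G, h * R.X9 c * h⁻¹ = R.X9 1
  tor11 : ∀ c : F, c ≠ 0 → ∃ h ∈ G, h * R.X11 c * h⁻¹ = R.X11 1
  inj0 : ∀ b a c d e f : F, R.phi b a c d e f = 1 →
    b = 0 ∧ a = 0 ∧ c = 0 ∧ d = 0 ∧ e = 0 ∧ f = 0

namespace G2Rel

variable (R : G2Rel F Γ)

theorem phi_X11 (f : F) : R.phi 0 0 0 0 0 f = R.X11 f := by
  unfold G2Rel.phi
  rw [R.z6, R.z7, R.z8, R.z9, R.z10]
  simp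
theorem phi_X10 (e : F) : R.phi 0 0 0 0 e 0 = R.X10 e := by
  unfold G2Rel.phi
  rw [R.z6, R.z7, R.z8, R.z9, R.z11]
  simp
theorem phi_X9 (d : F) : R.phi 0 0 0 d 0 0 = R.X9 d := by
  unfold G2Rel.phi
  rw [R.z6, R.z7, R.z8, R.z10, R.z11]
  simp
theorem phi_X8 (c : F) : R.phi 0 0 c 0 0 0 = R.X8 c := by
  unfold G2Rel.phi
  rw [R.z6, R.z7, R.z9, R.z10, R.z11]
  simp
theorem phi_X8X10 (c e : F) : R.phi 0 0 c 0 e 0 = R.X8 c * R.X10 e := by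
  unfold G2Rel.phi
  rw [R.z6, R.z7, R.z9, R.z11]
  simp
theorem phi_X7X11 (a f : F) : R.phi 0 a 0 0 0 f = R.X7 a * R.X11 f := by
  unfold G2Rel.phi
  rw [R.z6, R.z8, R.z9, R.z10]
  simp
theorem phi_X6X9 (b d : F) : R.phi b 0 0 d 0 0 = R.X6 b * R.X9 d := by
  unfold G2Rel.phi
  rw [R.z7, R.z8, R.z10, R.z11]
  simp

section char2

variable [CharP F 2] {R} {G : Subgroup Γ} (hA : Amb R G)
include hA

theorem cj6 (s b a c d e f : F) : CJ G (R.phi b a c d e f)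
    (R.phi b a (s * a + c) (s * a ^ 2 + d) (s * a ^ 3 + e) (c * (s * a ^ 2) + (s * e + f))) :=
  CJ.of_invol (hA.m6 s) (R.sq6 s) (R.conj6 s b a c d e f)

theorem cj7 (s b a c d e f : F) : CJ G (R.phi b a c d e f)
    (R.phi b a (b * s + c) (b * s ^ 2 + d)
      (e + b * s ^ 3 + s ^ 2 * c + s * d + a ^ 2 * b * s + a * b * s ^ 2)
      (f + b ^ 2 * s ^ 3 + s * c ^ 2 + a * b ^ 2 * s ^ 2 + b * c * s ^ 2)) :=
  CJ.of_invol (hA.m7 s) (R.sq7 s) (R.conj7 s b a c d e f)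

theorem cj8 (s b a c d e f : F) : CJ G (R.phi b a c d e f)
    (R.phi b a c d (a ^ 2 * s + e) (s * d + (a * s ^ 2 + f))) :=
  CJ.of_invol (hA.m8 s) (R.sq8 s) (R.conj8 s b a c d e f)

theorem cj9 (s b a c d e f : F) : CJ G (R.phi b a c d e f)
    (R.phi b a c d (a * s + e) (c * s + f)) :=
  CJ.of_invol (hA.m9 s) (R.sq9 s) (R.conj9 s b a c d e f)

theorem cj10 (s b a c d e f : F) : CJ G (R.phi b a c d e f) (R.phi b a c d e (b * s + f)) :=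
  CJ.of_invol (hA.m10 s) (R.sq10 s) (R.conj10 s b a c d e f)

theorem cj_tor9 (c : F) (hc : c ≠ 0) : CJ G (R.X9 c) (R.X9 1) := hA.tor9 c hc

theorem cj_tor11 (c : F) (hc : c ≠ 0) : CJ G (R.X11 c) (R.X11 1) := hA.tor11 c hc

/-- case A1 -/
theorem caseA1 (e f : F) (h : ¬ (e = 0 ∧ f = 0)) : CJ G (R.phi 0 0 0 0 e f) (R.X11 1) := by
  by_cases he : e = 0
  · subst he
    have hf : f ≠ 0 := fun hf => h ⟨rfl, hf⟩
    rw [R.phi_X11]
    exact cj_tor11 hA f hf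
  · have h1 := cj6 hA (f / e) 0 0 0 0 e f
    have e1 : R.phi 0 0 (f / e * 0 + 0) (f / e * 0 ^ 2 + 0) (f / e * 0 ^ 3 + e)
        (0 * (f / e * 0 ^ 2) + (f / e * e + f)) = R.phi 0 0 0 0 e 0 := by
      refine R.phi_congr ?_ ?_ ?_ ?_ ?_ ?_ <;> grind
    rw [e1, R.phi_X10] at h1
    obtain ⟨n, hn, η1, η2, η3, hη1, hη2, hη3, hn1, hn2, hn3⟩ := hA.exnb
    have h2 : CJ G (R.X10 e) (R.X11 (η1 * e)) := ⟨n, hn, hn1 e⟩
    exact (h1.trans h2).trans (cj_tor11 hA (η1 * e) (mul_ne_zero hη1 he))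

/-- case A2 -/
theorem caseA2 (d e f : F) (hd : d ≠ 0) : CJ G (R.phi 0 0 0 d e f) (R.X9 1) := by
  have h1 := cj7 hA (e / d) 0 0 0 d e f
  have e1 : R.phi 0 0 (0 * (e / d) + 0) (0 * (e / d) ^ 2 + d)
      (e + 0 * (e / d) ^ 3 + (e / d) ^ 2 * 0 + e / d * d + 0 ^ 2 * 0 * (e / d) + 0 * 0 * (e / d) ^ 2)
      (f + 0 ^ 2 * (e / d) ^ 3 + e / d * 0 ^ 2 + 0 * 0 ^ 2 * (e / d) ^ 2 + 0 * 0 * (e / d) ^ 2)
      = R.phi 0 0 0 d 0 f := by
    refine R.phi_congr ?_ ?_ ?_ ?_ ?_ ?_ <;> grind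
  rw [e1] at h1
  have h2 := cj8 hA (f / d) 0 0 0 d 0 f
  have e2 : R.phi 0 0 0 d (0 ^ 2 * (f / d) + 0) (f / d * d + (0 * (f / d) ^ 2 + f))
      = R.phi 0 0 0 d 0 0 := by
    refine R.phi_congr ?_ ?_ ?_ ?_ ?_ ?_ <;> grind
  rw [e2, R.phi_X9] at h2
  exact (h1.trans h2).trans (cj_tor9 hA d hd)

/-- case A3 -/
theorem caseA3 (hsq : ∀ x : F, ∃ y : F, y ^ 2 = x) (c e f : F) (hc : c ≠ 0) :
    CJ G (R.phi 0 0 c 0 e f) (R.X9 1) := by
  obtain ⟨s, hs⟩ := hsq (e / c)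
  have h1 := cj7 hA s 0 0 c 0 e f
  have e1 : R.phi 0 0 (0 * s + c) (0 * s ^ 2 + 0)
      (e + 0 * s ^ 3 + s ^ 2 * c + s * 0 + 0 ^ 2 * 0 * s + 0 * 0 * s ^ 2)
      (f + 0 ^ 2 * s ^ 3 + s * c ^ 2 + 0 * 0 ^ 2 * s ^ 2 + 0 * c * s ^ 2)
      = R.phi 0 0 c 0 0 (f + s * c ^ 2) := by
    refine R.phi_congr ?_ ?_ ?_ ?_ ?_ ?_ <;> grind
  rw [e1] at h1
  have h2 := cj9 hA ((f + s * c ^ 2) / c) 0 0 c 0 0 (f + s * c ^ 2)
  have e2 : R.phi 0 0 c 0 (0 * ((f + s * c ^ 2) / c) + 0)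
      (c * ((f + s * c ^ 2) / c) + (f + s * c ^ 2)) = R.phi 0 0 c 0 0 0 := by
    refine R.phi_congr ?_ ?_ ?_ ?_ ?_ ?_ <;> grind
  rw [e2, R.phi_X8] at h2
  obtain ⟨n, hn, η1, η2, η3, hη1, hη2, hη3, hn1, hn2, hn3⟩ := hA.exna
  have h3 : CJ G (R.X8 c) (R.X9 (η1 * c)) := ⟨n, hn, hn1 c⟩
  exact ((h1.trans h2).trans h3).trans (cj_tor9 hA (η1 * c) (mul_ne_zero hη1 hc))

/-- case B -/
theorem caseB (hsq : ∀ x : F, ∃ y : F, y ^ 2 = x) (a c e f : F) (ha : a ≠ 0) :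
    CJ G (R.phi 0 a c (a * c) e f) (R.X9 1) := by
  have h1 := cj6 hA (c / a) 0 a c (a * c) e f
  obtain ⟨e', f', e1⟩ : ∃ e' f' : F, R.phi 0 a (c / a * a + c) (c / a * a ^ 2 + a * c)
      (c / a * a ^ 3 + e) (c * (c / a * a ^ 2) + (c / a * e + f)) = R.phi 0 a 0 0 e' f' := by
    refine ⟨_, _, R.phi_congr rfl rfl ?_ ?_ rfl rfl⟩ <;> grind
  rw [e1] at h1
  have h2 := cj9 hA (e' / a) 0 a 0 0 e' f'
  have e2 : R.phi 0 a 0 0 (a * (e' / a) + e') (0 * (e' / a) + f') = R.phi 0 a 0 0 0 f' := by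
    refine R.phi_congr ?_ ?_ ?_ ?_ ?_ ?_ <;> grind
  rw [e2, R.phi_X7X11] at h2
  obtain ⟨n, hn, η1, η2, η3, hη1, hη2, hη3, hn1, hn2, hn3⟩ := hA.exnb
  have h3 : CJ G (R.X7 a * R.X11 f') (R.X8 (η3 * a) * R.X10 (η2 * f')) := by
    refine ⟨n, hn, ?_⟩
    rw [← hn3 a, ← hn2 f']
    group
  rw [← R.phi_X8X10] at h3
  exact ((h1.trans h2).trans h3).trans
    (caseA3 hA hsq (η3 * a) (η2 * f') 0 (mul_ne_zero hη3 ha))

/-- case C -/
theorem caseC (hsq : ∀ x : F, ∃ y : F, y ^ 2 = x) (b c d e f : F) (hb : b ≠ 0)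
    (hcd : c * d + b * e = 0) :
    CJ G (R.phi b 0 c d e f) (R.X11 1) ∨ CJ G (R.phi b 0 c d e f) (R.X9 1) := by
  have h1 := cj7 hA (c / b) b 0 c d e f
  obtain ⟨d', f', e1⟩ : ∃ d' f' : F, R.phi b 0 (b * (c / b) + c) (b * (c / b) ^ 2 + d)
      (e + b * (c / b) ^ 3 + (c / b) ^ 2 * c + c / b * d + 0 ^ 2 * b * (c / b) + 0 * b * (c / b) ^ 2)
      (f + b ^ 2 * (c / b) ^ 3 + c / b * c ^ 2 + 0 * b ^ 2 * (c / b) ^ 2 + b * c * (c / b) ^ 2)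
      = R.phi b 0 0 d' 0 f' := by
    refine ⟨_, _, R.phi_congr rfl rfl ?_ rfl ?_ rfl⟩
    · grind
    · have h3 : e = c * d / b := by
        field_simp
        grind
      subst h3
      field_simp
      grind
  rw [e1] at h1
  have h2 := cj10 hA (f' / b) b 0 0 d' 0 f'
  have e2 : R.phi b 0 0 d' 0 (b * (f' / b) + f') = R.phi b 0 0 d' 0 0 := by
    refine R.phi_congr ?_ ?_ ?_ ?_ ?_ ?_ <;> grind
  rw [e2, R.phi_X6X9] at h2
  obtain ⟨n, hn, η1, η2, η3, hη1, hη2, hη3, hn1, hn2, hn3⟩ := hA.exna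
  have h3 : CJ G (R.X6 b * R.X9 d') (R.phi 0 0 (η2 * d') 0 (η3 * b) 0) := by
    refine ⟨n, hn, ?_⟩
    rw [R.phi_X8X10, ← R.c108, ← hn3 b, ← hn2 d']
    group
  have h4 := (h1.trans h2).trans h3
  by_cases hd : d' = 0
  · subst hd
    left
    rw [mul_zero] at h4
    exact h4.trans (caseA1 hA (η3 * b) 0 (fun h => mul_ne_zero hη3 hb h.1))
  · right
    exact h4.trans (caseA3 hA hsq (η2 * d') (η3 * b) 0 (mul_ne_zero hη2 hd))

/-- every involution of normal form is conjugate to `X11 1` or `X9 1` -/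
theorem classify (hsq : ∀ x : F, ∃ y : F, y ^ 2 = x) (b a c d e f : F)
    (hinv : R.phi b a c d e f * R.phi b a c d e f = 1) (hne : R.phi b a c d e f ≠ 1) :
    CJ G (R.phi b a c d e f) (R.X11 1) ∨ CJ G (R.phi b a c d e f) (R.X9 1) := by
  rw [R.phi_sq] at hinv
  obtain ⟨-, -, h8, h9, h10, h11⟩ := hA.inj0 _ _ _ _ _ _ hinv
  by_cases ha : a = 0
  · subst ha
    by_cases hb : b = 0
    · subst hb
      have hcd : c * d = 0 := by grind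
      by_cases hc : c = 0
      · subst hc
        by_cases hd : d = 0
        · subst hd
          left
          refine caseA1 hA e f ?_
          rintro ⟨rfl, rfl⟩
          apply hne
          unfold G2Rel.phi
          rw [R.z6, R.z7, R.z8, R.z9, R.z10, R.z11]
          simp
        · right
          exact caseA2 hA d e f hd
      · have hd : d = 0 := by
          rcases mul_eq_zero.1 hcd with h | h
          · exact absurd h hc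
          · exact h
        subst hd
        right
        exact caseA3 hA hsq c e f hc
    · exact caseC hA hsq b c d e f hb (by grind)
  · have hb : b = 0 := by
      rcases mul_eq_zero.1 h8 with h | h
      · exact absurd h ha
      · exact h
    subst hb
    have hd : d = a * c := by
      have h : a * (a * c + d) = 0 := by grind
      rcases mul_eq_zero.1 h with h | h
      · exact absurd h ha
      · grind
    subst hd
    right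
    exact caseB hA hsq a c e f ha

end char2

end G2Rel

end Cfsg.Agent.Lib.Helper5.Chev.G2I
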