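import Cfsg.Agent.Lib.Helper5.Chev.G2Short2
import Mathlib

/-!
# The centraliser of a short root element of `G₂` in characteristic two (helper5)
-/

set_option autoImplicit false
set_option maxRecDepth 100000

namespace Cfsg.Agent.Lib.Helper5.Chev.G2S

open Cfsg.Lie Cfsg.Agent.Lib.Helper5.Chev
open scoped Matrix Pointwise

theorem g2facts :
    DataG2.fd.commTerms 9 10 = [] ∧ DataG2.fd.commTerms 9 11 = [] ∧
    DataG2.fd.commTerms 9 6 = [] ∧ DataG2.fd.commTerms 9 5 = [] ∧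
    DataG2.fd.commTerms 10 11 = [] ∧ DataG2.fd.commTerms 7 11 = [] ∧
    DataG2.fd.commTerms 7 9 = [(10, 3, 1, 1)] ∧ DataG2.fd.commTerms 8 9 = [(11, 3, 1, 1)] ∧
    DataG2.fd.neg 9 = 2 ∧ DataG2.fd.neg 10 = 1 ∧ DataG2.fd.neg 7 = 4 ∧ DataG2.fd.neg 8 = 3 ∧
    DataG2.fd.reflect 0 9 = 8 := by
  decide +kernel

theorem orb_nine : ∀ p ∈ orb, p.1 = 9 → (p.2.1 = 10 ∧ p.2.2 = 11) ∨ (p.2.1 = 11 ∧ p.2.2 = 10) := by
  decide

section

variable {F : Type*} [Field F]

theorem three_eq_one [CharP F 2] : ((3 : ℤ) : F) = 1 := by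
  have h2 : (2 : F) = 0 := CharTwo.two_eq_zero
  push_cast
  linear_combination h2

/-- conjugation of `x_{2a+b}` by `x_a` -/
theorem conj79 [CharP F 2] (hadd : AllAdd F chevG2) (a χ : F) :
    hadd.xU 7 a * hadd.xU 9 χ * (hadd.xU 7 a)⁻¹ = hadd.xU 9 χ * hadd.xU 10 (a * χ) := by
  have hcm : CommOK F chevG2 7 9 := by
    rcases comm_known (F := F) chevG2 memG2 7 (by decide) 9 (by decide) with h | h | h
    · omega
    · rw [FD.neg_eq' DataG2.agrees 7 (by decide), g2facts.2.2.2.2.2.2.2.2.2.2.1] at h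
      omega
    · exact h
  have h := hadd.conj_of_comm 7 9 hcm (-a) χ
  rw [xU_inv, neg_neg] at h
  have e : hadd.xU 7 (-a) = (hadd.xU 7 a)⁻¹ := (xU_inv hadd 7 a).symm
  rw [e] at h
  rw [h]
  congr 1
  unfold ChevalleyDatum.commWord AllAdd.wordU
  rw [FD.commTerms_eq DataG2.agrees 7 9 (by decide) (by decide), g2facts.2.2.2.2.2.2.1]
  simp only [List.map_cons, List.map_nil, List.prod_cons, List.prod_nil, mul_one, pow_one,
    neg_neg]
  rw [three_eq_one, one_mul]

/-- conjugation of `x_{2a+b}` by `x_{a+b}` -/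
theorem conj89 [CharP F 2] (hadd : AllAdd F chevG2) (a χ : F) :
    hadd.xU 8 a * hadd.xU 9 χ * (hadd.xU 8 a)⁻¹ = hadd.xU 9 χ * hadd.xU 11 (a * χ) := by
  have hcm : CommOK F chevG2 8 9 := by
    rcases comm_known (F := F) chevG2 memG2 8 (by decide) 9 (by decide) with h | h | h
    · omega
    · rw [FD.neg_eq' DataG2.agrees 8 (by decide), g2facts.2.2.2.2.2.2.2.2.2.2.2.1] at h
      omega
    · exact h
  have h := hadd.conj_of_comm 8 9 hcm (-a) χ
  rw [xU_inv, neg_neg] at h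
  have e : hadd.xU 8 (-a) = (hadd.xU 8 a)⁻¹ := (xU_inv hadd 8 a).symm
  rw [e] at h
  rw [h]
  congr 1
  unfold ChevalleyDatum.commWord AllAdd.wordU
  rw [FD.commTerms_eq DataG2.agrees 8 9 (by decide) (by decide), g2facts.2.2.2.2.2.2.2.1]
  simp only [List.map_cons, List.map_nil, List.prod_cons, List.prod_nil, mul_one, pow_one,
    neg_neg]
  rw [three_eq_one, one_mul]

end


section main

variable {F : Type*} [Field F] [Fintype F] [CharP F 2]

set_option maxHeartbeats 1600000 in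
/-- the centraliser of `x_{2a+b}(1)` in the Chevalley group of type `G₂` in characteristic two -/
theorem cent_short (t : GL chevG2.Idx F)
    (ht : (t : Matrix chevG2.Idx chevG2.Idx F) = chevG2.x F 9 1) :
    chevG2.group F ⊓ Subgroup.centralizer {t} =
      chevG2.rootSubgroup F 9 ⊔ chevG2.rootSubgroup F 10 ⊔ chevG2.rootSubgroup F 11 ⊔
        chevG2.rootSubgroup F 6 ⊔ chevG2.rootSubgroup F 5 := by
  have hadd := allAdd_all (F := F) chevG2 memG2
  have hA := DataG2.agrees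
  have hok := UfG2.ufok
  have hok2 := ufok2_of_check DataG2.agrees ufok2G2
  have htri := TrG2.triOK
  have hcomm := comm_known (F := F) chevG2 memG2
  have hinj := xInj_all (F := F) chevG2 memG2
  have hcor := corInj_all (F := F) chevG2 memG2
  obtain ⟨P, hPB, hPN, hPS⟩ := bnPair_all (F := F) chevG2 memG2
  have htU : t = hadd.xU 9 1 := Units.ext ht
  obtain ⟨f1, f2, f3, f4, f5, f6, f7, f8, n9, n10, n7, n8, r09⟩ := g2facts
  set C : Subgroup (GL chevG2.Idx F) :=
    chevG2.rootSubgroup F 9 ⊔ chevG2.rootSubgroup F 10 ⊔ chevG2.rootSubgroup F 11 ⊔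
      chevG2.rootSubgroup F 6 ⊔ chevG2.rootSubgroup F 5 with hC
  have hx9 : ∀ a : F, hadd.xU 9 a ∈ C := fun a =>
    Subgroup.mem_sup_left (Subgroup.mem_sup_left (Subgroup.mem_sup_left (Subgroup.mem_sup_left
      (xU_mem_rootSubgroup hadd 9 a))))
  have hx10 : ∀ a : F, hadd.xU 10 a ∈ C := fun a =>
    Subgroup.mem_sup_left (Subgroup.mem_sup_left (Subgroup.mem_sup_left (Subgroup.mem_sup_right
      (xU_mem_rootSubgroup hadd 10 a))))
  have hx11 : ∀ a : F, hadd.xU 11 a ∈ C := fun a =>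
    Subgroup.mem_sup_left (Subgroup.mem_sup_left (Subgroup.mem_sup_right
      (xU_mem_rootSubgroup hadd 11 a)))
  have hx6 : ∀ a : F, hadd.xU 6 a ∈ C := fun a =>
    Subgroup.mem_sup_left (Subgroup.mem_sup_right (xU_mem_rootSubgroup hadd 6 a))
  have hx5 : ∀ a : F, hadd.xU 5 a ∈ C := fun a =>
    Subgroup.mem_sup_right (xU_mem_rootSubgroup hadd 5 a)
  -- commutation with `X_9`
  have hc9 : ∀ r, r = 9 ∨ r = 10 ∨ r = 11 ∨ r = 6 ∨ r = 5 → ∀ a c : F,
      hadd.xU r c * hadd.xU 9 a = hadd.xU 9 a * hadd.xU r c := by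
    rintro r (rfl | rfl | rfl | rfl | rfl) a c
    · apply Units.ext
      rw [Units.val_mul, Units.val_mul]
      show chevG2.x F 9 c * chevG2.x F 9 a = chevG2.x F 9 a * chevG2.x F 9 c
      rw [hadd 9 (by decide), hadd 9 (by decide), add_comm]
    · exact commute_of_nil hadd 9 10 (by decide) (by decide) (by decide) (by rw [n9]; decide) f1 a c
    · exact commute_of_nil hadd 9 11 (by decide) (by decide) (by decide) (by rw [n9]; decide) f2 a c
    · exact commute_of_nil hadd 9 6 (by decide) (by decide) (by decide) (by rw [n9]; decide) f3 a c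
    · exact commute_of_nil hadd 9 5 (by decide) (by decide) (by decide) (by rw [n9]; decide) f4 a c
  have hCc : ∀ g ∈ C, ∀ a : F, g * hadd.xU 9 a = hadd.xU 9 a * g := by
    intro g hg a
    have hle : C ≤ Subgroup.centralizer ({hadd.xU 9 a} : Set (GL chevG2.Idx F)) := by
      have hr : ∀ r, (r = 9 ∨ r = 10 ∨ r = 11 ∨ r = 6 ∨ r = 5) →
          chevG2.rootSubgroup F r ≤
            Subgroup.centralizer ({hadd.xU 9 a} : Set (GL chevG2.Idx F)) := by
        intro r hr
        unfold ChevalleyDatum.rootSubgroup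
        rw [Subgroup.closure_le]
        rintro x ⟨c, hx⟩
        have hx' : x = hadd.xU r c := Units.ext hx
        rw [SetLike.mem_coe, Subgroup.mem_centralizer_iff]
        intro y hy
        rw [Set.mem_singleton_iff] at hy
        rw [hy, hx']
        exact (hc9 r hr a c).symm
      rw [hC]
      exact sup_le (sup_le (sup_le (sup_le (hr 9 (by simp)) (hr 10 (by simp))) (hr 11 (by simp)))
        (hr 6 (by simp))) (hr 5 (by simp))
    exact (Subgroup.mem_centralizer_iff.1 (hle hg) _ rfl).symm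
  have hCG : C ≤ chevG2.group F := by
    have hr : ∀ r, chevG2.rootSubgroup F r ≤ chevG2.group F := by
      intro r
      unfold ChevalleyDatum.rootSubgroup
      rw [Subgroup.closure_le]
      rintro x ⟨c, hx⟩
      exact hadd.mem_group_of_x x r c hx
    rw [hC]
    exact sup_le (sup_le (sup_le (sup_le (hr 9) (hr 10)) (hr 11)) (hr 6)) (hr 5)
  apply le_antisymm
  swap
  · intro g hg
    rw [Subgroup.mem_inf]
    refine ⟨hCG hg, ?_⟩
    rw [Subgroup.mem_centralizer_iff]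
    intro y hy
    rw [Set.mem_singleton_iff] at hy
    rw [hy, htU]
    exact (hCc g hg 1).symm
  rintro g ⟨hgG, hgC⟩
  have hgt : g * t = t * g := (Subgroup.mem_centralizer_iff.1 hgC t rfl).symm
  have hSBC : SB F ≤ C := by
    unfold SB
    rw [Subgroup.closure_le]
    rintro x ⟨r, c, hr, hx⟩
    have hx' : x = hadd.xU r c := Units.ext hx
    rw [hx']
    rcases hr with rfl | rfl
    · exact hx6 c
    · exact hx5 c
  have hY9C : UF F chevG2 9 ≤ C := by
    unfold UF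
    rw [Subgroup.closure_le]
    rintro x ⟨r, c, hr, hle, hx⟩
    have hx' : x = hadd.xU r c := Units.ext hx
    have hr12 : r < 12 := hr.1
    rw [hx']
    have h3 : r = 9 ∨ r = 10 ∨ r = 11 := by omega
    rcases h3 with rfl | rfl | rfl
    · exact hx9 c
    · exact hx10 c
    · exact hx11 c
  -- normalisers of the terms of the filtration
  have hUN : ∀ k, chevG2.posUnipotent F ≤
      Subgroup.normalizer (UF F chevG2 k : Set (GL chevG2.Idx F)) := by
    intro k
    unfold ChevalleyDatum.posUnipotent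
    rw [Subgroup.closure_le]
    rintro x ⟨r, a, hr, hx⟩
    have hx' : x = hadd.xU r a := Units.ext hx
    rw [hx']
    exact xU_mem_normalizer_UF hA hadd hok hok2 htri hcomm k r hr.1
      ((pos_iff_all chevG2 memG2 r hr.1).1 hr) a
  have hHN : ∀ k, chevG2.diagonalSubgroup F ≤
      Subgroup.normalizer (UF F chevG2 k : Set (GL chevG2.Idx F)) := by
    intro k
    have h1 := diagonal_le_normalizer (F := F) memG2 (fun r => chevG2.IsPosRoot r ∧ k ≤ r)
      (fun r hr => hr.1.1)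
    have e : (Subgroup.closure {g : GL chevG2.Idx F | ∃ (r : ℕ) (t : F),
        (chevG2.IsPosRoot r ∧ k ≤ r) ∧
          (g : Matrix chevG2.Idx chevG2.Idx F) = chevG2.x F r t}) = UF F chevG2 k := by
      unfold UF genUF
      congr 1
      ext g
      constructor
      · rintro ⟨r, t, ⟨h1, h2⟩, h3⟩
        exact ⟨r, t, h1, h2, h3⟩
      · rintro ⟨r, t, h1, h2, h3⟩
        exact ⟨r, t, ⟨h1, h2⟩, h3⟩
    rw [e] at h1
    exact h1
  have hBN : ∀ k, chevG2.borelSubgroup F ≤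
      Subgroup.normalizer (UF F chevG2 k : Set (GL chevG2.Idx F)) :=
    fun k => sup_le (hUN k) (hHN k)
  have htY : t ∈ UF F chevG2 9 := by
    rw [htU]
    exact xU_mem_UF' hadd 9 9 (by norm_num) (le_refl _) (by norm_num) 1
  have hone : ∀ a : F, hadd.xU 9 a = 1 → a = 0 := fun a ha =>
    hinj 9 (by decide) a (by rw [← hadd.xU_val, ha]; rfl)
  have ht1 : t ≠ 1 := by
    rw [htU]
    intro h
    exact one_ne_zero (hone 1 h)
  -- the elements of `UF 9`
  have hY9 : ∀ y ∈ UF F chevG2 9, ∃ e c d : F,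
      y = hadd.xU 9 e * (hadd.xU 10 c * hadd.xU 11 d) := by
    intro y hy
    obtain ⟨e, y1, hy1, rfl⟩ := mem_UF_succ hA hadd hok htri hcomm 9 (by decide) (by decide) y hy
    obtain ⟨c, y2, hy2, rfl⟩ :=
      mem_UF_succ hA hadd hok htri hcomm 10 (by decide) (by decide) y1 hy1
    obtain ⟨d, y3, hy3, rfl⟩ :=
      mem_UF_succ hA hadd hok htri hcomm 11 (by decide) (by decide) y2 hy2
    have h3 : y3 = 1 := by
      have e12 : UF F chevG2 (11 + 1) = ⊥ := UF_top
      rw [e12, Subgroup.mem_bot] at hy3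
      exact hy3
    exact ⟨e, c, d, by rw [h3, mul_one]⟩
  -- the conjugates of `t` under `B`
  have hBt : ∀ b ∈ chevG2.borelSubgroup F, ∃ e c d : F, e ≠ 0 ∧
      b * t * b⁻¹ = hadd.xU 9 e * (hadd.xU 10 c * hadd.xU 11 d) := by
    intro b hb
    have hbt : b * t * b⁻¹ ∈ UF F chevG2 9 := (Subgroup.mem_normalizer_iff.1 (hBN 9 hb) t).1 htY
    obtain ⟨e, c, d, hecd⟩ := hY9 _ hbt
    refine ⟨e, c, d, ?_, hecd⟩
    rintro rfl
    rw [xU_zero, one_mul] at hecd
    have h10 : b * t * b⁻¹ ∈ UF F chevG2 10 := by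
      rw [hecd]
      exact Subgroup.mul_mem _ (xU_mem_UF' hadd 10 10 (by norm_num) (le_refl _) (by norm_num) c)
        (xU_mem_UF' hadd 10 11 (by norm_num) (by norm_num) (by norm_num) d)
    have h10' : t ∈ UF F chevG2 10 := (Subgroup.mem_normalizer_iff.1 (hBN 10 hb) t).2 h10
    rw [htU] at h10'
    exact one_ne_zero (eq_zero_of_mem hadd 9 (by norm_num) (by norm_num) 1 h10')
  -- Bruhat decomposition
  obtain ⟨n, hn⟩ := Cfsg.Agent.Lib.Helper5.BN.exists_N_mem_D P (⟨g, hgG⟩ : ↥(chevG2.group F))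
  rw [Cfsg.Agent.Lib.Helper5.BN.mem_D] at hn
  obtain ⟨b, hb, b', hb', hgb⟩ := hn
  have hbB : (b : GL chevG2.Idx F) ∈ chevG2.borelSubgroup F := by
    rw [hPB, Subgroup.mem_subgroupOf] at hb; exact hb
  have hb'B : (b' : GL chevG2.Idx F) ∈ chevG2.borelSubgroup F := by
    rw [hPB, Subgroup.mem_subgroupOf] at hb'; exact hb'
  have hnN : ((n : ↥(chevG2.group F)) : GL chevG2.Idx F) ∈ chevG2.monomialSubgroup F := by
    have h6 : ∀ x : ↥(chevG2.group F), x ∈ P.N →
        x ∈ (chevG2.monomialSubgroup F).subgroupOf (chevG2.group F) :=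
      fun x hx => by rw [hPN] at hx; exact hx
    exact Subgroup.mem_subgroupOf.1 (h6 _ n.2)
  have hg' : g = (b : GL chevG2.Idx F) * ((n : ↥(chevG2.group F)) : GL chevG2.Idx F) *
      (b' : GL chevG2.Idx F) := by
    have := congrArg (fun x : ↥(chevG2.group F) => (x : GL chevG2.Idx F)) hgb
    simpa using this
  set nn : GL chevG2.Idx F := ((n : ↥(chevG2.group F)) : GL chevG2.Idx F) with hnn
  set bb : GL chevG2.Idx F := (b : GL chevG2.Idx F) with hbb
  set bb' : GL chevG2.Idx F := (b' : GL chevG2.Idx F) with hbb'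
  obtain ⟨e₁, c₁, d₁, he₁, ht₁⟩ := hBt bb' hb'B
  -- `n` as a word
  obtain ⟨L, hL, h0, hh0, hn0⟩ := monomial_le_NWH hA hadd BsG2.Bs HsG2.reflBs'
    (hform_all' chevG2 memG2) _ _ _ HsG2.rbH HsG2.base_simple hnN
  have hconj : ∀ s, s < 12 → ∀ a : F, ∃ a' : F,
      nn * hadd.xU s a * nn⁻¹ = hadd.xU (wW BsG2.Bs L s) a' := by
    intro s hs a
    rw [hn0]
    exact conj_word_diag memG2 hA hadd BsG2.Bs HsG2.reflBs' L hL h0 hh0 s hs a
  obtain ⟨e', he'⟩ := hconj 9 (by norm_num) e₁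
  obtain ⟨c', hc'⟩ := hconj 10 (by norm_num) c₁
  obtain ⟨d', hd'⟩ := hconj 11 (by norm_num) d₁
  have hP : hadd.xU (wW BsG2.Bs L 9) e' *
      (hadd.xU (wW BsG2.Bs L 10) c' * hadd.xU (wW BsG2.Bs L 11) d') = bb⁻¹ * t * bb := by
    rw [← he', ← hc', ← hd']
    have e1 : nn * hadd.xU 9 e₁ * nn⁻¹ * (nn * hadd.xU 10 c₁ * nn⁻¹ * (nn * hadd.xU 11 d₁ * nn⁻¹))
        = nn * (hadd.xU 9 e₁ * (hadd.xU 10 c₁ * hadd.xU 11 d₁)) * nn⁻¹ := by group
    rw [e1, ← ht₁]
    have e2 : nn * (bb' * t * bb'⁻¹) * nn⁻¹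
        = bb⁻¹ * ((bb * nn * bb') * t * (bb * nn * bb')⁻¹) * bb := by group
    rw [e2, ← hg', hgt, mul_inv_cancel_right]
  have hPY : bb⁻¹ * t * bb ∈ UF F chevG2 9 := by
    have := (Subgroup.mem_normalizer_iff.1 (hBN 9 (Subgroup.inv_mem _ hbB)) t).1 htY
    rwa [inv_inv] at this
  have hPne : bb⁻¹ * t * bb ≠ 1 := by
    intro h
    apply ht1
    have e : t = bb * (bb⁻¹ * t * bb) * bb⁻¹ := by group
    rw [e, h]
    group
  have he'0 : e' ≠ 0 := by
    rintro rfl
    rw [xU_zero] at he'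
    have h1 : hadd.xU 9 e₁ = 1 := by
      have e : hadd.xU 9 e₁ = nn⁻¹ * (nn * hadd.xU 9 e₁ * nn⁻¹) * nn := by group
      rw [e, he']
      group
    exact he₁ (hone e₁ h1)
  have hmem := mem_orb L hL
  have hr9 : wW BsG2.Bs L 9 = 9 := by
    rcases orb_cases _ hmem with h | h
    · exact center_core hadd _ _ _ h e' c' d' he'0 (by rw [hP]; exact hPY) (by rw [hP]; exact hPne)
    · have hsw : hadd.xU (wW BsG2.Bs L 10) c' * hadd.xU (wW BsG2.Bs L 11) d'
          = hadd.xU (wW BsG2.Bs L 11) d' * hadd.xU (wW BsG2.Bs L 10) c' := by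
        rw [← hc', ← hd']
        have h1011 := commute_of_nil hadd 10 11 (by decide) (by decide) (by decide)
          (by rw [n10]; decide) f5 c₁ d₁
        calc nn * hadd.xU 10 c₁ * nn⁻¹ * (nn * hadd.xU 11 d₁ * nn⁻¹)
            = nn * (hadd.xU 10 c₁ * hadd.xU 11 d₁) * nn⁻¹ := by group
          _ = nn * (hadd.xU 11 d₁ * hadd.xU 10 c₁) * nn⁻¹ := by rw [h1011]
          _ = _ := by group
      exact center_core hadd _ _ _ h e' d' c' he'0 (by rw [← hsw, hP]; exact hPY)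
        (by rw [← hsw, hP]; exact hPne)
  have h1011 := orb_nine _ hmem hr9
  -- `n` normalises `UF 9`
  have hnY : nn ∈ Subgroup.normalizer (UF F chevG2 9 : Set (GL chevG2.Idx F)) := by
    apply Subgroup.mem_normalizer_fintype
    intro y hy
    obtain ⟨e, c, d, rfl⟩ := hY9 y hy
    obtain ⟨e2, he2⟩ := hconj 9 (by norm_num) e
    obtain ⟨c2, hc2⟩ := hconj 10 (by norm_num) c
    obtain ⟨d2, hd2⟩ := hconj 11 (by norm_num) d
    have e3 : nn * (hadd.xU 9 e * (hadd.xU 10 c * hadd.xU 11 d)) * nn⁻¹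
        = (nn * hadd.xU 9 e * nn⁻¹) * ((nn * hadd.xU 10 c * nn⁻¹) * (nn * hadd.xU 11 d * nn⁻¹)) := by
      group
    rw [SetLike.mem_coe, e3, he2, hc2, hd2, hr9]
    rcases h1011 with ⟨h10, h11⟩ | ⟨h10, h11⟩
    · have h10' : wW BsG2.Bs L 10 = 10 := h10
      have h11' : wW BsG2.Bs L 11 = 11 := h11
      rw [h10', h11']
      exact Subgroup.mul_mem _ (xU_mem_UF' hadd 9 9 (by norm_num) (le_refl _) (by norm_num) _)
        (Subgroup.mul_mem _ (xU_mem_UF' hadd 9 10 (by norm_num) (by norm_num) (by norm_num) _)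
          (xU_mem_UF' hadd 9 11 (by norm_num) (by norm_num) (by norm_num) _))
    · have h10' : wW BsG2.Bs L 10 = 11 := h10
      have h11' : wW BsG2.Bs L 11 = 10 := h11
      rw [h10', h11']
      exact Subgroup.mul_mem _ (xU_mem_UF' hadd 9 9 (by norm_num) (le_refl _) (by norm_num) _)
        (Subgroup.mul_mem _ (xU_mem_UF' hadd 9 11 (by norm_num) (by norm_num) (by norm_num) _)
          (xU_mem_UF' hadd 9 10 (by norm_num) (by norm_num) (by norm_num) _))
  -- the normaliser of `UF 9` is a parabolic subgroup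
  set M : Subgroup ↥(chevG2.group F) :=
    (Subgroup.normalizer (UF F chevG2 9 : Set (GL chevG2.Idx F)) ⊓ chevG2.group F).subgroupOf
      (chevG2.group F) with hM
  have hBM : P.B ≤ M := by
    rw [hPB]
    intro x hx
    rw [Subgroup.mem_subgroupOf] at hx ⊢
    exact ⟨hBN 9 hx, x.2⟩
  obtain ⟨K, hK, hMK⟩ := Cfsg.Agent.S0311.result P M hBM
  have hX6SB : chevG2.rootSubgroup F 6 ≤ SB F := by
    unfold ChevalleyDatum.rootSubgroup
    rw [Subgroup.closure_le]
    rintro x ⟨c, hx⟩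
    have hx' : x = hadd.xU 6 c := Units.ext hx
    rw [hx']
    exact xU_mem_SB hadd 6 (Or.inl rfl) c
  have hMle : M ≤ (UF F chevG2 7 ⊔ (SB F ⊔ chevG2.diagonalSubgroup F)).subgroupOf
      (chevG2.group F) := by
    rw [hMK]
    unfold BNPair.parabolic
    apply sup_le
    · rw [hPB]
      intro x hx
      rw [Subgroup.mem_subgroupOf] at hx ⊢
      have hU : chevG2.posUnipotent F ≤
          UF F chevG2 7 ⊔ (SB F ⊔ chevG2.diagonalSubgroup F) := by
        rw [← UF_half (F := F) htri hA]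
        have e6 : chevG2.nroots / 2 = 6 := rfl
        rw [e6, UF_succ hok 6 (by decide) (by decide)]
        exact sup_le ((hX6SB.trans le_sup_left).trans le_sup_right) le_sup_left
      exact (sup_le hU (le_sup_right.trans le_sup_right) :
        chevG2.borelSubgroup F ≤ _) hx
    · rw [Subgroup.closure_le]
      intro s hs
      have hsS := hK hs
      rw [hPS] at hsS
      obtain ⟨j, hj, hsj⟩ := hsS
      have hsM : s ∈ M := by
        rw [hMK]
        unfold BNPair.parabolic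
        exact Subgroup.mem_sup_right (Subgroup.subset_closure hs)
      rw [hM, Subgroup.mem_subgroupOf] at hsM
      obtain ⟨hp, hq⟩ := simple_lt_all chevG2 memG2 j hj
      have hs' : (s : GL chevG2.Idx F) = hadd.nU (chevG2.simple j) hp hq := Units.ext hsj
      rw [SetLike.mem_coe, Subgroup.mem_subgroupOf, hs']
      have hj2 : j < 2 := hj
      interval_cases j
      · exfalso
        obtain ⟨hlt, η, hη, hconj0⟩ := nU_conj_all (F := F) chevG2 memG2 0 hj hp hq 9 (by decide)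
        have h1 := (Subgroup.mem_normalizer_iff.1 hsM.1 (hadd.xU 9 1)).1
          (xU_mem_UF' hadd 9 9 (by norm_num) (le_refl _) (by norm_num) 1)
        rw [hs', hconj0 1, mul_one, FD.reflect_eq hA 0 9 hj (by decide), r09] at h1
        exact hη (eq_zero_of_mem hadd 8 (by norm_num) (by norm_num) η h1)
      · apply Subgroup.mem_sup_right
        apply Subgroup.mem_sup_left
        have e : hadd.nU (chevG2.simple 1) hp hq = hadd.xU (chevG2.simple 1) 1 *
            (hadd.xU (chevG2.neg (chevG2.simple 1)) (-1) * hadd.xU (chevG2.simple 1) 1) := by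
          apply Units.ext
          rw [Units.val_mul, Units.val_mul]
          exact nMat_one (chevG2.simple 1)
        rw [e]
        have hs1 : chevG2.simple 1 = 6 := by decide
        have hn6 : chevG2.neg 6 = 5 := by
          rw [FD.neg_eq' hA 6 (by decide)]; decide +kernel
        rw [hs1, hn6]
        exact Subgroup.mul_mem _ (xU_mem_SB hadd 6 (Or.inl rfl) 1)
          (Subgroup.mul_mem _ (xU_mem_SB hadd 5 (Or.inr rfl) _) (xU_mem_SB hadd 6 (Or.inl rfl) 1))
  have hnM : n.1 ∈ M := by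
    rw [hM, Subgroup.mem_subgroupOf]
    exact ⟨hnY, n.1.2⟩
  have hgM : (⟨g, hgG⟩ : ↥(chevG2.group F)) ∈ M := by
    rw [hgb]
    exact M.mul_mem (M.mul_mem (hBM hb) hnM) (hBM hb')
  have hg3 := hMle hgM
  rw [Subgroup.mem_subgroupOf] at hg3
  have hLN : SB F ⊔ chevG2.diagonalSubgroup F ≤
      Subgroup.normalizer (UF F chevG2 7 : Set (GL chevG2.Idx F)) := by
    apply sup_le _ (hHN 7)
    unfold SB
    rw [Subgroup.closure_le]
    rintro x ⟨r, c, hr, hx⟩
    have hx' : x = hadd.xU r c := Units.ext hx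
    rw [hx', SetLike.mem_coe]
    rcases hr with rfl | rfl
    · exact xU_mem_normalizer_UF hA hadd hok hok2 htri hcomm 7 6 (by decide) (by decide) c
    · exact xU5_mem_normalizer hadd c
  have hHS : chevG2.diagonalSubgroup F ≤
      Subgroup.normalizer (SB F : Set (GL chevG2.Idx F)) := by
    unfold SB
    exact diagonal_le_normalizer (F := F) memG2 (fun r => r = 6 ∨ r = 5)
      (by rintro r (rfl | rfl) <;> decide)
  have hg4 : g ∈ ((UF F chevG2 7 ⊔ (SB F ⊔ chevG2.diagonalSubgroup F) :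
      Subgroup (GL chevG2.Idx F)) : Set (GL chevG2.Idx F)) := hg3
  rw [Subgroup.coe_mul_of_right_le_normalizer_left _ _ hLN, Set.mem_mul] at hg4
  obtain ⟨u7, hu7, l, hl, hul⟩ := hg4
  have hl' : l ∈ ((SB F ⊔ chevG2.diagonalSubgroup F : Subgroup (GL chevG2.Idx F)) :
      Set (GL chevG2.Idx F)) := hl
  rw [Subgroup.coe_mul_of_right_le_normalizer_left _ _ hHS, Set.mem_mul] at hl'
  obtain ⟨s, hs, h, hh, hsh⟩ := hl'
  obtain ⟨χ, hχ⟩ := conj_diag_x memG2 hadd h hh 9 (by decide) 1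
  have hs9 : ∀ a, s * hadd.xU 9 a = hadd.xU 9 a * s := hCc s (hSBC hs)
  obtain ⟨a7, m8, hm8, hu7e⟩ := mem_UF_succ hA hadd hok htri hcomm 7 (by decide) (by decide) u7 hu7
  obtain ⟨a8, y9, hy9, hm8e⟩ := mem_UF_succ hA hadd hok htri hcomm 8 (by decide) (by decide) m8 hm8
  have hy9c : ∀ a, y9 * hadd.xU 9 a = hadd.xU 9 a * y9 := hCc y9 (hY9C hy9)
  have hcalc : g * t * g⁻¹ = hadd.xU 9 χ * (hadd.xU 10 (a7 * χ) * hadd.xU 11 (a8 * χ)) := by
    rw [← hul, ← hsh, hu7e, hm8e, htU]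
    have e1 : (hadd.xU 7 a7 * (hadd.xU 8 a8 * y9)) * (s * h) * hadd.xU 9 1 *
        ((hadd.xU 7 a7 * (hadd.xU 8 a8 * y9)) * (s * h))⁻¹
        = hadd.xU 7 a7 * (hadd.xU 8 a8 * (y9 * (s * (h * hadd.xU 9 1 * h⁻¹) * s⁻¹) * y9⁻¹) *
            (hadd.xU 8 a8)⁻¹) * (hadd.xU 7 a7)⁻¹ := by group
    rw [e1, hχ]
    have e2 : s * hadd.xU 9 χ * s⁻¹ = hadd.xU 9 χ := by rw [hs9 χ, mul_inv_cancel_right]
    have e3 : y9 * hadd.xU 9 χ * y9⁻¹ = hadd.xU 9 χ := by rw [hy9c χ, mul_inv_cancel_right]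
    rw [e2, e3, conj89 hadd a8 χ]
    have e4 : hadd.xU 7 a7 * (hadd.xU 9 χ * hadd.xU 11 (a8 * χ)) * (hadd.xU 7 a7)⁻¹
        = (hadd.xU 7 a7 * hadd.xU 9 χ * (hadd.xU 7 a7)⁻¹) *
          (hadd.xU 7 a7 * hadd.xU 11 (a8 * χ) * (hadd.xU 7 a7)⁻¹) := by group
    rw [e4, conj79 hadd a7 χ]
    have e5 : hadd.xU 7 a7 * hadd.xU 11 (a8 * χ) * (hadd.xU 7 a7)⁻¹ = hadd.xU 11 (a8 * χ) := by
      have h711 := commute_of_nil hadd 7 11 (by decide) (by decide) (by decide)
        (by rw [n7]; decide) f6 a7 (a8 * χ)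
      rw [← h711, mul_inv_cancel_right]
    rw [e5, mul_assoc]
  have hgt' : g * t * g⁻¹ = hadd.xU 9 1 := by rw [hgt, mul_inv_cancel_right, htU]
  rw [hgt'] at hcalc
  -- comparison of the parameters
  have hz : (hadd.xU 9 χ)⁻¹ * hadd.xU 9 1 = hadd.xU 10 (a7 * χ) * hadd.xU 11 (a8 * χ) := by
    rw [hcalc]
    group
  have hχ1 : χ = 1 := by
    have h1 : (hadd.xU 9 χ)⁻¹ * hadd.xU 9 1 ∈ chevG2.rootSubgroup F 9 ⊓ UF F chevG2 10 := by
      refine ⟨Subgroup.mul_mem _ (Subgroup.inv_mem _ (xU_mem_rootSubgroup hadd 9 χ))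
        (xU_mem_rootSubgroup hadd 9 1), ?_⟩
      rw [hz]
      exact Subgroup.mul_mem _ (xU_mem_UF' hadd 10 10 (by norm_num) (le_refl _) (by norm_num) _)
        (xU_mem_UF' hadd 10 11 (by norm_num) (by norm_num) (by norm_num) _)
    rw [rootSubgroup_inf_UF hA hadd hok htri hcor 9 (by decide) (by decide), Subgroup.mem_bot] at h1
    have h2 : hadd.xU 9 1 = hadd.xU 9 χ := by
      have e : hadd.xU 9 1 = hadd.xU 9 χ * ((hadd.xU 9 χ)⁻¹ * hadd.xU 9 1) := by group
      rw [e, h1, mul_one]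
    exact (xU_injective hadd 9 (hinj 9 (by decide)) _ _ h2).symm
  rw [hχ1, mul_one, mul_one, inv_mul_cancel] at hz
  have ha7 : a7 = 0 := by
    apply eq_zero_of_mem hadd 10 (by norm_num) (by norm_num) a7
    have e : hadd.xU 10 a7 = (hadd.xU 10 a7 * hadd.xU 11 a8) * (hadd.xU 11 a8)⁻¹ := by group
    rw [e, ← hz, one_mul]
    exact Subgroup.inv_mem _ (xU_mem_UF' hadd 11 11 (by norm_num) (le_refl _) (by norm_num) _)
  have ha8 : a8 = 0 := by
    rw [ha7, xU_zero, one_mul] at hz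
    exact hinj 11 (by decide) a8 (by rw [← hadd.xU_val, ← hz]; rfl)
  -- conclusion
  have hu7C : u7 ∈ C := by
    rw [hu7e, hm8e, ha7, ha8, xU_zero, xU_zero, one_mul, one_mul]
    exact hY9C hy9
  have hhC : h ∈ C := by
    apply hSBC
    apply diag_mem_SB hadd h hh
    rw [hχ, hχ1]
  rw [← hul, ← hsh]
  exact Subgroup.mul_mem _ hu7C (Subgroup.mul_mem _ (hSBC hs) hhC)

end main

end Cfsg.Agent.Lib.Helper5.Chev.G2S
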