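import Cfsg.Agent.Lib.Helper5.Chev.G2Inv3
import Cfsg.Agent.Lib.Helper5.Chev.G2Short3
import Cfsg.Agent.S1032
import Mathlib

/-!
# Involutions of the unipotent group of `G₂` in characteristic two: the concrete relations (helper5)
-/

set_option autoImplicit false
set_option maxRecDepth 100000
set_option linter.unusedSimpArgs false
set_option linter.unusedVariables false
set_option linter.unusedSectionVars false

namespace Cfsg.Agent.Lib.Helper5.Chev.G2I

open Cfsg.Lie Cfsg.Agent.Lib.Helper5.Chev Cfsg.Agent.Lib.Helper5.Chev.G2S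
open scoped Matrix Pointwise

theorem g2facts3 :
    DataG2.fd.commTerms 6 7 = [(8, 1, 1, 1), (9, 1, 1, 2), (10, -1, 1, 3), (11, -2, 2, 3)] ∧
    DataG2.fd.commTerms 7 8 = [(9, -2, 1, 1), (10, -3, 2, 1), (11, 3, 1, 2)] ∧
    DataG2.fd.commTerms 7 9 = [(10, 3, 1, 1)] ∧
    DataG2.fd.commTerms 8 9 = [(11, 3, 1, 1)] ∧
    DataG2.fd.commTerms 6 10 = [(11, 1, 1, 1)] := by
  decide +kernel

theorem g2facts5 :
    DataG2.fd.commTerms 6 8 = [] ∧ DataG2.fd.commTerms 6 9 = [] ∧
    DataG2.fd.commTerms 6 11 = [] ∧ DataG2.fd.commTerms 7 10 = [] ∧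
    DataG2.fd.commTerms 7 11 = [] ∧ DataG2.fd.commTerms 8 10 = [] ∧
    DataG2.fd.commTerms 8 11 = [] ∧ DataG2.fd.commTerms 9 10 = [] ∧
    DataG2.fd.commTerms 9 11 = [] ∧ DataG2.fd.commTerms 10 11 = [] := by
  decide +kernel

theorem g2facts4 :
    DataG2.fd.neg 6 = 5 ∧ DataG2.fd.neg 7 = 4 ∧ DataG2.fd.neg 8 = 3 ∧ DataG2.fd.neg 9 = 2 ∧
    DataG2.fd.neg 10 = 1 ∧ DataG2.fd.neg 11 = 0 ∧
    DataG2.fd.reflect 0 8 = 9 ∧ DataG2.fd.reflect 0 9 = 8 ∧ DataG2.fd.reflect 0 6 = 10 ∧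
    DataG2.fd.reflect 1 10 = 11 ∧ DataG2.fd.reflect 1 11 = 10 ∧ DataG2.fd.reflect 1 7 = 8 ∧
    DataG2.fd.simple 0 = 7 ∧ DataG2.fd.simple 1 = 6 ∧
    DataG2.fd.cartan 1 11 = 1 ∧ DataG2.fd.cartan 0 9 = 1 := by
  decide +kernel

section

variable {F : Type*} [Field F] [CharP F 2]

theorem rel_of_comm (hadd : AllAdd F chevG2) (r s : ℕ) (hr : r < 12) (hs : s < 12)
    (hne : s ≠ r) (hneg : s ≠ DataG2.fd.neg r) (t u : F) :
    hadd.xU s u * hadd.xU r t
      = hadd.xU r t * (hadd.xU s u * hadd.wordU (chevG2.commWord F r s t u)) := by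
  have hcm : CommOK F chevG2 r s := by
    rcases comm_known (F := F) chevG2 memG2 r hr s hs with h | h | h
    · exact absurd h hne
    · rw [FD.neg_eq' DataG2.agrees r hr] at h
      exact absurd h hneg
    · exact h
  have h := hadd.conj_of_comm r s hcm t u
  rw [← h]
  group

theorem xU_congr (hadd : AllAdd F chevG2) (r : ℕ) {a b : F} (h : a = b) :
    hadd.xU r a = hadd.xU r b := by rw [h]

theorem r76 (hadd : AllAdd F chevG2) (t u : F) : hadd.xU 7 u * hadd.xU 6 t =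
    hadd.xU 6 t * (hadd.xU 7 u * (hadd.xU 8 (t * u) * (hadd.xU 9 (t * u ^ 2) *
      hadd.xU 10 (t * u ^ 3)))) := by
  rw [rel_of_comm hadd 6 7 (by decide) (by decide) (by decide) (by rw [g2facts4.1]; decide)]
  congr 2
  unfold ChevalleyDatum.commWord AllAdd.wordU
  rw [FD.commTerms_eq DataG2.agrees 6 7 (by decide) (by decide), g2facts3.1]
  simp only [List.map_cons, List.map_nil, List.prod_cons, List.prod_nil, mul_one]
  have e11 : hadd.xU 11 (((-2 : ℤ) : F) * (-t) ^ 2 * u ^ 3) = 1 := by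
    have h0 : ((-2 : ℤ) : F) * (-t) ^ 2 * u ^ 3 = 0 := by push_cast; grind
    rw [h0]
    exact xU_zero hadd 11
  rw [e11, mul_one,
    xU_congr hadd 8 (show ((1 : ℤ) : F) * (-t) ^ 1 * u ^ 1 = t * u by push_cast; grind),
    xU_congr hadd 9 (show ((1 : ℤ) : F) * (-t) ^ 1 * u ^ 2 = t * u ^ 2 by push_cast; grind),
    xU_congr hadd 10 (show ((-1 : ℤ) : F) * (-t) ^ 1 * u ^ 3 = t * u ^ 3 by push_cast; grind)]

theorem r87 (hadd : AllAdd F chevG2) (t u : F) : hadd.xU 8 u * hadd.xU 7 t =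
    hadd.xU 7 t * (hadd.xU 8 u * (hadd.xU 10 (t ^ 2 * u) * hadd.xU 11 (t * u ^ 2))) := by
  rw [rel_of_comm hadd 7 8 (by decide) (by decide) (by decide) (by rw [g2facts4.2.1]; decide)]
  congr 2
  unfold ChevalleyDatum.commWord AllAdd.wordU
  rw [FD.commTerms_eq DataG2.agrees 7 8 (by decide) (by decide), g2facts3.2.1]
  simp only [List.map_cons, List.map_nil, List.prod_cons, List.prod_nil, mul_one]
  have e9 : hadd.xU 9 (((-2 : ℤ) : F) * (-t) ^ 1 * u ^ 1) = 1 := by
    have h0 : ((-2 : ℤ) : F) * (-t) ^ 1 * u ^ 1 = 0 := by push_cast; grind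
    rw [h0]
    exact xU_zero hadd 9
  rw [e9, one_mul,
    xU_congr hadd 10 (show ((-3 : ℤ) : F) * (-t) ^ 2 * u ^ 1 = t ^ 2 * u by push_cast; grind),
    xU_congr hadd 11 (show ((3 : ℤ) : F) * (-t) ^ 1 * u ^ 2 = t * u ^ 2 by push_cast; grind)]

theorem r97 (hadd : AllAdd F chevG2) (t u : F) : hadd.xU 9 u * hadd.xU 7 t =
    hadd.xU 7 t * (hadd.xU 9 u * hadd.xU 10 (t * u)) := by
  rw [rel_of_comm hadd 7 9 (by decide) (by decide) (by decide) (by rw [g2facts4.2.1]; decide)]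
  congr 2
  unfold ChevalleyDatum.commWord AllAdd.wordU
  rw [FD.commTerms_eq DataG2.agrees 7 9 (by decide) (by decide), g2facts3.2.2.1]
  simp only [List.map_cons, List.map_nil, List.prod_cons, List.prod_nil, mul_one]
  rw [xU_congr hadd 10 (show ((3 : ℤ) : F) * (-t) ^ 1 * u ^ 1 = t * u by push_cast; grind)]

theorem r98 (hadd : AllAdd F chevG2) (t u : F) : hadd.xU 9 u * hadd.xU 8 t =
    hadd.xU 8 t * (hadd.xU 9 u * hadd.xU 11 (t * u)) := by
  rw [rel_of_comm hadd 8 9 (by decide) (by decide) (by decide) (by rw [g2facts4.2.2.1]; decide)]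
  congr 2
  unfold ChevalleyDatum.commWord AllAdd.wordU
  rw [FD.commTerms_eq DataG2.agrees 8 9 (by decide) (by decide), g2facts3.2.2.2.1]
  simp only [List.map_cons, List.map_nil, List.prod_cons, List.prod_nil, mul_one]
  rw [xU_congr hadd 11 (show ((3 : ℤ) : F) * (-t) ^ 1 * u ^ 1 = t * u by push_cast; grind)]

theorem r106 (hadd : AllAdd F chevG2) (t u : F) : hadd.xU 10 u * hadd.xU 6 t =
    hadd.xU 6 t * (hadd.xU 10 u * hadd.xU 11 (t * u)) := by
  rw [rel_of_comm hadd 6 10 (by decide) (by decide) (by decide) (by rw [g2facts4.1]; decide)]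
  congr 2
  unfold ChevalleyDatum.commWord AllAdd.wordU
  rw [FD.commTerms_eq DataG2.agrees 6 10 (by decide) (by decide), g2facts3.2.2.2.2]
  simp only [List.map_cons, List.map_nil, List.prod_cons, List.prod_nil, mul_one]
  rw [xU_congr hadd 11 (show ((1 : ℤ) : F) * (-t) ^ 1 * u ^ 1 = t * u by push_cast; grind)]

/-- the relations of `G₂` in characteristic two -/
noncomputable def g2Rel (hadd : AllAdd F chevG2) : G2Rel F (GL chevG2.Idx F) where
  X6 := hadd.xU 6
  X7 := hadd.xU 7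
  X8 := hadd.xU 8
  X9 := hadd.xU 9
  X10 := hadd.xU 10
  X11 := hadd.xU 11
  add6 := fun s t => Units.ext (hadd.x_add 6 s t)
  add7 := fun s t => Units.ext (hadd.x_add 7 s t)
  add8 := fun s t => Units.ext (hadd.x_add 8 s t)
  add9 := fun s t => Units.ext (hadd.x_add 9 s t)
  add10 := fun s t => Units.ext (hadd.x_add 10 s t)
  add11 := fun s t => Units.ext (hadd.x_add 11 s t)
  c76 := r76 hadd
  c87 := r87 hadd
  c97 := r97 hadd
  c98 := r98 hadd
  c106 := r106 hadd
  c86 := fun t u => commute_of_nil hadd 6 8 (by decide) (by decide) (by decide)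
    (by rw [g2facts4.1]; decide) g2facts5.1 t u
  c96 := fun t u => commute_of_nil hadd 6 9 (by decide) (by decide) (by decide)
    (by rw [g2facts4.1]; decide) g2facts5.2.1 t u
  c116 := fun t u => commute_of_nil hadd 6 11 (by decide) (by decide) (by decide)
    (by rw [g2facts4.1]; decide) g2facts5.2.2.1 t u
  c107 := fun t u => commute_of_nil hadd 7 10 (by decide) (by decide) (by decide)
    (by rw [g2facts4.2.1]; decide) g2facts5.2.2.2.1 t u
  c117 := fun t u => commute_of_nil hadd 7 11 (by decide) (by decide) (by decide)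
    (by rw [g2facts4.2.1]; decide) g2facts5.2.2.2.2.1 t u
  c108 := fun t u => commute_of_nil hadd 8 10 (by decide) (by decide) (by decide)
    (by rw [g2facts4.2.2.1]; decide) g2facts5.2.2.2.2.2.1 t u
  c118 := fun t u => commute_of_nil hadd 8 11 (by decide) (by decide) (by decide)
    (by rw [g2facts4.2.2.1]; decide) g2facts5.2.2.2.2.2.2.1 t u
  c109 := fun t u => commute_of_nil hadd 9 10 (by decide) (by decide) (by decide)
    (by rw [g2facts4.2.2.2.1]; decide) g2facts5.2.2.2.2.2.2.2.1 t u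
  c119 := fun t u => commute_of_nil hadd 9 11 (by decide) (by decide) (by decide)
    (by rw [g2facts4.2.2.2.1]; decide) g2facts5.2.2.2.2.2.2.2.2.1 t u
  c1110 := fun t u => commute_of_nil hadd 10 11 (by decide) (by decide) (by decide)
    (by rw [g2facts4.2.2.2.2.1]; decide) g2facts5.2.2.2.2.2.2.2.2.2 t u

end

end Cfsg.Agent.Lib.Helper5.Chev.G2I
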