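import Cfsg.Agent.Lib.Helper5.Chev.G2Inv4
import Cfsg.Agent.Lib.Helper5.Chev.RootCent1
import Cfsg.Agent.Lib.Helper5.Chev.UProd
import Mathlib

/-!
# Involutions of the unipotent group of `G₂` in characteristic two: the ambient data (helper5)
-/

set_option autoImplicit false
set_option maxRecDepth 100000
set_option linter.unusedSimpArgs false
set_option linter.unusedVariables false
set_option linter.unusedSectionVars false

namespace Cfsg.Agent.Lib.Helper5.Chev.G2I

open Cfsg.Lie Cfsg.Agent.Lib.Helper5.Chev Cfsg.Agent.Lib.Helper5.Chev.G2S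
open scoped Matrix Pointwise

section

variable {F : Type*} [Field F] [CharP F 2]

theorem simple0 : chevG2.simple 0 = 7 := by
  rw [FD.simple_eq' DataG2.agrees 0 (by decide)]; exact g2facts4.2.2.2.2.2.2.2.2.2.2.2.2.1

theorem simple1 : chevG2.simple 1 = 6 := by
  rw [FD.simple_eq' DataG2.agrees 1 (by decide)]; exact g2facts4.2.2.2.2.2.2.2.2.2.2.2.2.2.1

theorem neg7 : chevG2.neg 7 = 4 := by
  rw [FD.neg_eq' DataG2.agrees 7 (by decide)]; exact g2facts4.2.1

theorem neg6 : chevG2.neg 6 = 5 := by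
  rw [FD.neg_eq' DataG2.agrees 6 (by decide)]; exact g2facts4.1

/-- the torus element `h_p(c)` as a unit -/
theorem exists_torus (hadd : AllAdd F chevG2) (i s : ℕ) (hi : i < 2) (hs : s < 12)
    (hcar : DataG2.fd.cartan i s = 1) (c : F) (hc : c ≠ 0) :
    ∃ h ∈ chevG2.group F, h * hadd.xU s c * h⁻¹ = hadd.xU s 1 := by
  refine ⟨hadd.wordU (chevG2.hWord (chevG2.simple i) c⁻¹), hadd.wordU_mem _, ?_⟩
  rw [mul_inv_eq_iff_eq_mul]
  apply Units.ext
  rw [Units.val_mul, Units.val_mul, hadd.wordU_val]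
  have h := Cfsg.Agent.S1032.result (F := F) chevG2 memG2 i s hi hs c⁻¹ (inv_ne_zero hc) c
  rw [FD.cartan_eq' DataG2.agrees i s hi hs, hcar, zpow_one, inv_mul_cancel₀ hc] at h
  exact h

theorem phi_eq_wordOf (hadd : AllAdd F chevG2) (t : ℕ → F) :
    hadd.wordU (wordOf 6 6 t) = (g2Rel hadd).phi (t 6) (t 7) (t 8) (t 9) (t 10) (t 11) := by
  unfold G2Rel.phi g2Rel wordOf AllAdd.wordU
  simp [List.range']

theorem g2Amb (hadd : AllAdd F chevG2) : Amb (g2Rel hadd) (chevG2.group F) where
  m6 := fun t => hadd.xU_mem_group 6 t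
  m7 := fun t => hadd.xU_mem_group 7 t
  m8 := fun t => hadd.xU_mem_group 8 t
  m9 := fun t => hadd.xU_mem_group 9 t
  m10 := fun t => hadd.xU_mem_group 10 t
  exna := by
    have hp : chevG2.simple 0 < chevG2.nroots := by rw [simple0]; decide
    have hq : chevG2.neg (chevG2.simple 0) < chevG2.nroots := by rw [simple0, neg7]; decide
    obtain ⟨-, η1, hη1, h1⟩ := nU_conj_all (F := F) chevG2 memG2 0 (by decide) hp hq 8 (by decide)
    obtain ⟨-, η2, hη2, h2⟩ := nU_conj_all (F := F) chevG2 memG2 0 (by decide) hp hq 9 (by decide)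
    obtain ⟨-, η3, hη3, h3⟩ := nU_conj_all (F := F) chevG2 memG2 0 (by decide) hp hq 6 (by decide)
    rw [FD.reflect_eq DataG2.agrees 0 8 (by decide) (by decide),
      g2facts4.2.2.2.2.2.2.1] at h1
    rw [FD.reflect_eq DataG2.agrees 0 9 (by decide) (by decide),
      g2facts4.2.2.2.2.2.2.2.1] at h2
    rw [FD.reflect_eq DataG2.agrees 0 6 (by decide) (by decide),
      g2facts4.2.2.2.2.2.2.2.2.1] at h3
    exact ⟨hadd.nU _ hp hq, hadd.monomial_le (hadd.nU_mem _ hp hq), η1, η2, η3, hη1, hη2, hη3,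
      h1, h2, h3⟩
  exnb := by
    have hp : chevG2.simple 1 < chevG2.nroots := by rw [simple1]; decide
    have hq : chevG2.neg (chevG2.simple 1) < chevG2.nroots := by rw [simple1, neg6]; decide
    obtain ⟨-, η1, hη1, h1⟩ := nU_conj_all (F := F) chevG2 memG2 1 (by decide) hp hq 10 (by decide)
    obtain ⟨-, η2, hη2, h2⟩ := nU_conj_all (F := F) chevG2 memG2 1 (by decide) hp hq 11 (by decide)
    obtain ⟨-, η3, hη3, h3⟩ := nU_conj_all (F := F) chevG2 memG2 1 (by decide) hp hq 7 (by decide)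
    rw [FD.reflect_eq DataG2.agrees 1 10 (by decide) (by decide),
      g2facts4.2.2.2.2.2.2.2.2.2.1] at h1
    rw [FD.reflect_eq DataG2.agrees 1 11 (by decide) (by decide),
      g2facts4.2.2.2.2.2.2.2.2.2.2.1] at h2
    rw [FD.reflect_eq DataG2.agrees 1 7 (by decide) (by decide),
      g2facts4.2.2.2.2.2.2.2.2.2.2.2.1] at h3
    exact ⟨hadd.nU _ hp hq, hadd.monomial_le (hadd.nU_mem _ hp hq), η1, η2, η3, hη1, hη2, hη3,
      h1, h2, h3⟩
  tor9 := fun c hc => exists_torus hadd 0 9 (by decide) (by decide)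
    g2facts4.2.2.2.2.2.2.2.2.2.2.2.2.2.2.2 c hc
  tor11 := fun c hc => exists_torus hadd 1 11 (by decide) (by decide)
    g2facts4.2.2.2.2.2.2.2.2.2.2.2.2.2.2.1 c hc
  inj0 := by
    intro b a c d e f h
    obtain ⟨T, hA, hok, htri, -⟩ := ufok_known chevG2 memG2
    have hcor := corInj_all (F := F) chevG2 memG2
    have hinj := xInj_all (F := F) chevG2 memG2
    set t : ℕ → F := fun r => if r = 6 then b else if r = 7 then a else if r = 8 then c else
      if r = 9 then d else if r = 10 then e else if r = 11 then f else 0 with ht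
    have e1 : hadd.wordU (wordOf 6 6 t) = hadd.wordU (wordOf 6 6 (fun _ => (0 : F))) := by
      rw [phi_eq_wordOf, phi_eq_wordOf]
      have e0 : (g2Rel hadd).phi 0 0 0 0 0 0 = 1 := by
        unfold G2Rel.phi
        rw [(g2Rel hadd).z6, (g2Rel hadd).z7, (g2Rel hadd).z8, (g2Rel hadd).z9,
          (g2Rel hadd).z10, (g2Rel hadd).z11]
        simp
      rw [e0]
      simpa [ht] using h
    have key := wordOf_injective hA hadd hok htri hcor hinj 6 6 (by decide) (by decide) t
      (fun _ => 0) e1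
    refine ⟨?_, ?_, ?_, ?_, ?_, ?_⟩
    · simpa [ht] using key 6 (by decide) (by decide)
    · simpa [ht] using key 7 (by decide) (by decide)
    · simpa [ht] using key 8 (by decide) (by decide)
    · simpa [ht] using key 9 (by decide) (by decide)
    · simpa [ht] using key 10 (by decide) (by decide)
    · simpa [ht] using key 11 (by decide) (by decide)

end

end Cfsg.Agent.Lib.Helper5.Chev.G2I
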