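import Cfsg.Agent.Lib.Helper5.Chev.G2Inv5
import Cfsg.Agent.Lib.Helper5.Chev.UCardAll
import Cfsg.Agent.S1059
import Mathlib

/-!
# Involutions of `G₂` in characteristic two: reduction to the unipotent group (helper5)
-/

set_option autoImplicit false
set_option maxRecDepth 100000
set_option linter.unusedSimpArgs false
set_option linter.unusedVariables false
set_option linter.unusedSectionVars false

namespace Cfsg.Agent.Lib.Helper5.Chev.G2I

open Cfsg.Lie Cfsg.Agent.Lib.Helper5.Chev Cfsg.Agent.Lib.Helper5.Chev.G2S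
open scoped Matrix Pointwise

/-- a `p`-element of a finite group is conjugate into any subgroup of `p`-power order and index
prime to `p` -/
theorem conj_into_of_index {Γ : Type*} [Group Γ] (G U : Subgroup Γ) [Finite G] (hUG : U ≤ G)
    (p : ℕ) [Fact p.Prime] (n : ℕ) (hU : Nat.card U = p ^ n) (hG : ¬ p ^ (n + 1) ∣ Nat.card G)
    (g : Γ) (hg : g ∈ G) (k : ℕ) (hgo : g ^ (p ^ k) = 1) : ∃ h ∈ G, h * g * h⁻¹ ∈ U := by
  classical
  set U' : Subgroup ↥G := U.subgroupOf G with hU'
  have hcU' : Nat.card U' = p ^ n := by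
    rw [← hU]
    exact Nat.card_congr (Subgroup.subgroupOfEquivOfLe hUG).toEquiv
  have hpU' : IsPGroup p U' := IsPGroup.of_card hcU'
  have hidx : ¬ p ∣ U'.index := by
    intro hdvd
    apply hG
    rw [← Subgroup.card_mul_index U', hcU', pow_succ]
    exact Nat.mul_dvd_mul_left _ hdvd
  set S : Sylow p ↥G := hpU'.toSylow hidx with hS
  set x : ↥G := ⟨g, hg⟩ with hx
  have hxo : x ^ (p ^ k) = 1 := by
    apply Subtype.ext
    simpa using hgo
  have hpx : IsPGroup p (Subgroup.zpowers x) := by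
    rintro ⟨y, hy⟩
    obtain ⟨m, rfl⟩ := Subgroup.mem_zpowers_iff.1 hy
    refine ⟨k, ?_⟩
    apply Subtype.ext
    simp only [Subgroup.coe_pow, Subgroup.coe_one]
    rw [← zpow_natCast, ← zpow_mul, mul_comm, zpow_mul, zpow_natCast, hxo, one_zpow]
  obtain ⟨Q, hQ⟩ := hpx.exists_le_sylow
  obtain ⟨c, hc⟩ := MulAction.exists_smul_eq ↥G Q S
  have hxQ : x ∈ (Q : Subgroup ↥G) := hQ (Subgroup.mem_zpowers x)
  have h1 : MulAut.conj c • x ∈ MulAut.conj c • (Q : Subgroup ↥G) :=
    Subgroup.smul_mem_pointwise_smul _ _ _ hxQ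
  have h2 : ((c • Q : Sylow p ↥G) : Subgroup ↥G) = MulAut.conj c • (Q : Subgroup ↥G) :=
    Sylow.pointwise_smul_def
  rw [← h2, hc] at h1
  have h3 : MulAut.conj c • x ∈ U' := h1
  refine ⟨c, c.2, ?_⟩
  have h4 : ((MulAut.conj c • x : ↥G) : Γ) ∈ U := Subgroup.mem_subgroupOf.1 h3
  simpa [MulAut.smul_def] using h4

section

variable {F : Type*} [Field F] [Fintype F] [CharP F 2]

theorem nroots_G2 : chevG2.nroots = 12 := by decide

/-- squares in a finite field of characteristic two -/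
theorem exists_sq (x : F) : ∃ y : F, y ^ 2 = x := by
  have hinj : Function.Injective (frobenius F 2) := frobenius_inj F 2
  have hsurj : Function.Surjective (frobenius F 2) := Finite.injective_iff_surjective.1 hinj
  obtain ⟨y, hy⟩ := hsurj x
  exact ⟨y, by rw [← hy, frobenius_def]⟩

/-- every involution of `G₂(F)` is conjugate into the unipotent group -/
theorem conj_into_U (g : GL chevG2.Idx F) (hg : g ∈ chevG2.group F) (hgg : g * g = 1) :
    ∃ h ∈ chevG2.group F, h * g * h⁻¹ ∈ chevG2.posUnipotent F := by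
  have hadd := allAdd_all (F := F) chevG2 memG2
  have : Fact (Nat.Prime 2) := ⟨Nat.prime_two⟩
  obtain ⟨f, -, hf⟩ := FiniteField.card F 2
  have hcU : Nat.card (chevG2.posUnipotent F) = 2 ^ ((f : ℕ) * 6) := by
    rw [card_posUnipotent_all chevG2 memG2, nroots_G2, Nat.card_eq_fintype_card, hf, ← pow_mul]
  have hcG := Cfsg.Agent.S1059.result (F := F) hf
  have hfpos : 0 < (f : ℕ) := f.pos
  refine conj_into_of_index (chevG2.group F) (chevG2.posUnipotent F) hadd.posUnipotent_le 2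
    ((f : ℕ) * 6) hcU ?_ g hg 1 (by rw [pow_one, pow_two]; exact hgg)
  rw [hcG]
  intro hdvd
  have e6 : ((2 : ℕ) ^ (f : ℕ)) ^ 6 = 2 ^ ((f : ℕ) * 6) := by rw [← pow_mul]
  have h2 : 2 ∣ ((2 ^ (f : ℕ)) ^ 2 - 1) * ((2 ^ (f : ℕ)) ^ 6 - 1) := by
    have hpos : 0 < 2 ^ ((f : ℕ) * 6) := by positivity
    apply (Nat.mul_dvd_mul_iff_left hpos).1
    rw [← pow_succ, ← mul_assoc, ← e6]
    exact hdvd
  have hq : 2 ∣ 2 ^ (f : ℕ) := dvd_pow_self 2 (by omega)
  obtain ⟨q', hq'⟩ := hq
  have hq'pos : 0 < q' := by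
    rcases Nat.eq_zero_or_pos q' with h | h
    · rw [h, mul_zero] at hq'
      exact absurd hq' (by positivity)
    · exact h
  rcases (Nat.Prime.dvd_mul Nat.prime_two).1 h2 with h | h
  · rw [hq'] at h
    have e : (2 * q') ^ 2 = 2 * (2 * q' ^ 2) := by ring
    have hp : 0 < q' ^ 2 := by positivity
    rw [e] at h
    omega
  · rw [hq'] at h
    have e : (2 * q') ^ 6 = 2 * (32 * q' ^ 6) := by ring
    have hp : 0 < q' ^ 6 := by positivity
    rw [e] at h
    omega

/-- every involution of `G₂(F)` is conjugate to `x_{3a+2b}(1)` or to `x_{2a+b}(1)` -/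
theorem classify_G2 (g : GL chevG2.Idx F) (hg : g ∈ chevG2.group F) (hgg : g * g = 1)
    (hg1 : g ≠ 1) (hadd : AllAdd F chevG2) :
    CJ (chevG2.group F) g (hadd.xU 11 1) ∨ CJ (chevG2.group F) g (hadd.xU 9 1) := by
  obtain ⟨T, hA, hok, htri, -⟩ := ufok_known chevG2 memG2
  have hcomm := comm_known (F := F) chevG2 memG2
  obtain ⟨h, hh, hu⟩ := conj_into_U g hg hgg
  set u := h * g * h⁻¹ with hudef
  have hgu : CJ (chevG2.group F) g u := ⟨h, hh, rfl⟩
  have huu : u * u = 1 := by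
    rw [hudef]
    calc h * g * h⁻¹ * (h * g * h⁻¹) = h * (g * g) * h⁻¹ := by group
      _ = 1 := by rw [hgg]; group
  have hu1 : u ≠ 1 := by
    intro h1
    apply hg1
    rw [hudef] at h1
    have : g = h⁻¹ * (h * g * h⁻¹) * h := by group
    rw [this, h1]
    group
  rw [← UF_half (F := F) htri hA] at hu
  obtain ⟨t, ht⟩ := exists_wordOf hA hadd hok htri hcomm 6 6 (by rw [nroots_G2])
    (by rw [nroots_G2]) u hu
  rw [phi_eq_wordOf] at ht
  rw [ht] at huu hu1
  have key := (g2Rel hadd).classify (g2Amb hadd) exists_sq _ _ _ _ _ _ huu hu1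
  rw [← ht] at key
  rcases key with k | k
  · exact Or.inl (hgu.trans k)
  · exact Or.inr (hgu.trans k)

end

end Cfsg.Agent.Lib.Helper5.Chev.G2I
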