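import Cfsg.Agent.Lib.Helper5.Chev.G2Inv6
import Cfsg.Agent.Lib.Helper5.Chev.G2Short3
import Cfsg.Agent.S1030
import Cfsg.Agent.S0265
import Mathlib

/-!
# Involutions of `G₂` in characteristic two: the two classes are different (helper5)
-/

set_option autoImplicit false
set_option maxRecDepth 100000
set_option linter.unusedSimpArgs false
set_option linter.unusedVariables false
set_option linter.unusedSectionVars false

namespace Cfsg.Agent.Lib.Helper5.Chev.G2I

open Cfsg.Lie Cfsg.Agent.Lib.Helper5.Chev Cfsg.Agent.Lib.Helper5.Chev.G2S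
open scoped Matrix Pointwise

/-- the order of a product of two subgroups, one normalising the other -/
theorem card_sup_le {Γ : Type*} [Group Γ] (A B : Subgroup Γ)
    (hAB : A ≤ Subgroup.normalizer (B : Set Γ)) :
    Nat.card ↥(A ⊔ B) ≤ Nat.card A * Nat.card B := by
  have h : ((A ⊔ B : Subgroup Γ) : Set Γ) = (A : Set Γ) * (B : Set Γ) :=
    Subgroup.coe_mul_of_left_le_normalizer_right A B hAB
  have h2 : Nat.card ↥(A ⊔ B) = Nat.card ↥((A : Set Γ) * (B : Set Γ) : Set Γ) := by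
    rw [← h]; rfl
  rw [h2]
  exact Set.natCard_mul_le

theorem mem_normalizer_of_conj {Γ : Type*} [Group Γ] (Q : Subgroup Γ) (g : Γ)
    (h1 : ∀ q ∈ Q, g * q * g⁻¹ ∈ Q) (h2 : ∀ q ∈ Q, g⁻¹ * q * g ∈ Q) :
    g ∈ Subgroup.normalizer (Q : Set Γ) := by
  rw [Subgroup.mem_normalizer_iff]
  intro h
  constructor
  · exact h1 h
  · intro hh
    have := h2 _ hh
    have e : g⁻¹ * (g * h * g⁻¹) * g = h := by group
    rwa [e] at this

theorem le_normalizer_of_commute {Γ : Type*} [Group Γ] (A B : Subgroup Γ)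
    (h : ∀ a ∈ A, ∀ b ∈ B, a * b = b * a) : A ≤ Subgroup.normalizer (B : Set Γ) := by
  intro a ha
  apply mem_normalizer_of_conj
  · intro q hq
    rw [h a ha q hq, mul_inv_cancel_right]
    exact hq
  · intro q hq
    rw [mul_assoc, ← h a ha q hq, inv_mul_cancel_left]
    exact hq

/-- conjugation when the commutator is central-like -/
theorem conj_of_rel {Γ : Type*} [Group Γ] (g y w : Γ) (h1 : y * g = g * (y * w))
    (h2 : w * g = g * w) : g * y * g⁻¹ = y * w⁻¹ := by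
  have h3 : g * w⁻¹ * g⁻¹ = w⁻¹ := by
    rw [mul_inv_eq_iff_eq_mul]
    have : w⁻¹ * (w * g) * w⁻¹ = w⁻¹ * (g * w) * w⁻¹ := by rw [h2]
    rw [inv_mul_cancel_left, mul_assoc, mul_assoc, mul_inv_cancel, mul_one] at this
    exact this
  calc g * y * g⁻¹ = g * (y * w) * w⁻¹ * g⁻¹ := by group
    _ = y * g * w⁻¹ * g⁻¹ := by rw [← h1]
    _ = y * (g * w⁻¹ * g⁻¹) := by group
    _ = y * w⁻¹ := by rw [h3]

theorem g2facts6 :
    DataG2.fd.commTerms 5 9 = [] ∧ DataG2.fd.commTerms 5 10 = [] ∧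
    DataG2.fd.commTerms 5 11 = [(10, 1, 1, 1)] ∧ DataG2.fd.neg 5 = 6 := by
  decide +kernel

section

variable {F : Type*} [Field F]

theorem card_SL2_lt [Fintype F] :
    Nat.card (Matrix.SpecialLinearGroup (Fin 2) F) < Fintype.card F ^ 3 := by
  have h1 := Cfsg.Agent.S0265.card_gl_eq (F := F) 2 (by norm_num)
  rw [Matrix.card_GL_field] at h1
  simp only [Fin.prod_univ_two, Fin.val_zero, Fin.val_one, pow_zero] at h1
  have hq : 1 < Fintype.card F := Fintype.one_lt_card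
  obtain ⟨k, hk⟩ : ∃ k, Fintype.card F = k + 2 := ⟨Fintype.card F - 2, by omega⟩
  rw [hk] at h1 ⊢
  have e1 : (k + 2) ^ 2 - 1 = (k + 1) * (k + 3) := by
    have : (k + 2) ^ 2 = (k + 1) * (k + 3) + 1 := by ring
    omega
  have e2 : (k + 2) ^ 2 - (k + 2) ^ 1 = (k + 2) * (k + 1) := by
    have : (k + 2) ^ 2 = (k + 2) * (k + 1) + (k + 2) ^ 1 := by ring
    omega
  have e3 : k + 2 - 1 = k + 1 := by omega
  rw [e1, e2, e3] at h1
  have h2 : (k + 1) * ((k + 3) * (k + 2) * (k + 1)) =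
      (k + 1) * Nat.card (Matrix.SpecialLinearGroup (Fin 2) F) := by
    rw [← h1]; ring
  have h3 := Nat.eq_of_mul_eq_mul_left (by omega) h2
  rw [← h3]
  nlinarith [sq_nonneg k]

variable [CharP F 2]

theorem root_le_centralizer (hadd : AllAdd F chevG2) (r s : ℕ)
    (h : ∀ t u : F, hadd.xU s u * hadd.xU r t = hadd.xU r t * hadd.xU s u) :
    chevG2.rootSubgroup F r ≤ Subgroup.centralizer (chevG2.rootSubgroup F s : Set _) := by
  intro a ha
  rw [Subgroup.mem_centralizer_iff]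
  intro b hb
  obtain ⟨t, rfl⟩ := (mem_rootSubgroup_iff hadd r a).1 ha
  obtain ⟨u, rfl⟩ := (mem_rootSubgroup_iff hadd s b).1 hb
  exact h t u

theorem c910 (hadd : AllAdd F chevG2) (t u : F) :
    hadd.xU 10 u * hadd.xU 9 t = hadd.xU 9 t * hadd.xU 10 u :=
  commute_of_nil hadd 9 10 (by decide) (by decide) (by decide) (by rw [g2facts4.2.2.2.1]; decide)
    g2facts5.2.2.2.2.2.2.2.1 t u

theorem c911 (hadd : AllAdd F chevG2) (t u : F) :
    hadd.xU 11 u * hadd.xU 9 t = hadd.xU 9 t * hadd.xU 11 u :=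
  commute_of_nil hadd 9 11 (by decide) (by decide) (by decide) (by rw [g2facts4.2.2.2.1]; decide)
    g2facts5.2.2.2.2.2.2.2.2.1 t u

theorem c1011 (hadd : AllAdd F chevG2) (t u : F) :
    hadd.xU 11 u * hadd.xU 10 t = hadd.xU 10 t * hadd.xU 11 u :=
  commute_of_nil hadd 10 11 (by decide) (by decide) (by decide)
    (by rw [g2facts4.2.2.2.2.1]; decide) g2facts5.2.2.2.2.2.2.2.2.2 t u

theorem c69 (hadd : AllAdd F chevG2) (t u : F) :
    hadd.xU 9 u * hadd.xU 6 t = hadd.xU 6 t * hadd.xU 9 u :=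
  commute_of_nil hadd 6 9 (by decide) (by decide) (by decide) (by rw [g2facts4.1]; decide)
    g2facts5.2.1 t u

theorem c611 (hadd : AllAdd F chevG2) (t u : F) :
    hadd.xU 11 u * hadd.xU 6 t = hadd.xU 6 t * hadd.xU 11 u :=
  commute_of_nil hadd 6 11 (by decide) (by decide) (by decide) (by rw [g2facts4.1]; decide)
    g2facts5.2.2.1 t u

theorem c59 (hadd : AllAdd F chevG2) (t u : F) :
    hadd.xU 9 u * hadd.xU 5 t = hadd.xU 5 t * hadd.xU 9 u :=
  commute_of_nil hadd 5 9 (by decide) (by decide) (by decide) (by rw [g2facts6.2.2.2]; decide)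
    g2facts6.1 t u

theorem c510 (hadd : AllAdd F chevG2) (t u : F) :
    hadd.xU 10 u * hadd.xU 5 t = hadd.xU 5 t * hadd.xU 10 u :=
  commute_of_nil hadd 5 10 (by decide) (by decide) (by decide) (by rw [g2facts6.2.2.2]; decide)
    g2facts6.2.1 t u

theorem r115 (hadd : AllAdd F chevG2) (t u : F) : hadd.xU 11 u * hadd.xU 5 t =
    hadd.xU 5 t * (hadd.xU 11 u * hadd.xU 10 (t * u)) := by
  rw [rel_of_comm hadd 5 11 (by decide) (by decide) (by decide) (by rw [g2facts6.2.2.2]; decide)]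
  congr 2
  unfold ChevalleyDatum.commWord AllAdd.wordU
  rw [FD.commTerms_eq DataG2.agrees 5 11 (by decide) (by decide), g2facts6.2.2.1]
  simp only [List.map_cons, List.map_nil, List.prod_cons, List.prod_nil, mul_one]
  rw [xU_congr hadd 10 (show ((1 : ℤ) : F) * (-t) ^ 1 * u ^ 1 = t * u by push_cast; grind)]

/-- the abelian group `X₉X₁₀X₁₁` -/
noncomputable def QQ (F : Type*) [Field F] : Subgroup (GL chevG2.Idx F) :=
  chevG2.rootSubgroup F 9 ⊔ chevG2.rootSubgroup F 10 ⊔ chevG2.rootSubgroup F 11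

theorem x9_mem_QQ (hadd : AllAdd F chevG2) (u : F) : hadd.xU 9 u ∈ QQ F :=
  Subgroup.mem_sup_left (Subgroup.mem_sup_left (xU_mem_rootSubgroup hadd 9 u))

theorem x10_mem_QQ (hadd : AllAdd F chevG2) (u : F) : hadd.xU 10 u ∈ QQ F :=
  Subgroup.mem_sup_left (Subgroup.mem_sup_right (xU_mem_rootSubgroup hadd 10 u))

theorem x11_mem_QQ (hadd : AllAdd F chevG2) (u : F) : hadd.xU 11 u ∈ QQ F :=
  Subgroup.mem_sup_right (xU_mem_rootSubgroup hadd 11 u)

theorem conj_QQ_of (hadd : AllAdd F chevG2) (g : GL chevG2.Idx F)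
    (h9 : ∀ u, g * hadd.xU 9 u * g⁻¹ ∈ QQ F) (h10 : ∀ u, g * hadd.xU 10 u * g⁻¹ ∈ QQ F)
    (h11 : ∀ u, g * hadd.xU 11 u * g⁻¹ ∈ QQ F) : ∀ q ∈ QQ F, g * q * g⁻¹ ∈ QQ F := by
  have hle : QQ F ≤ (QQ F).comap (MulAut.conj g).toMonoidHom := by
    refine sup_le (sup_le ?_ ?_) ?_
    · intro a ha
      obtain ⟨u, rfl⟩ := (mem_rootSubgroup_iff hadd 9 a).1 ha
      exact h9 u
    · intro a ha
      obtain ⟨u, rfl⟩ := (mem_rootSubgroup_iff hadd 10 a).1 ha
      exact h10 u
    · intro a ha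
      obtain ⟨u, rfl⟩ := (mem_rootSubgroup_iff hadd 11 a).1 ha
      exact h11 u
  intro q hq
  exact hle hq

theorem conj6_QQ (hadd : AllAdd F chevG2) (s : F) :
    ∀ q ∈ QQ F, hadd.xU 6 s * q * (hadd.xU 6 s)⁻¹ ∈ QQ F := by
  apply conj_QQ_of hadd
  · intro u
    rw [← c69 hadd s u, mul_inv_cancel_right]
    exact x9_mem_QQ hadd u
  · intro u
    rw [conj_of_rel _ _ _ (r106 hadd s u) (c611 hadd s (s * u))]
    exact (QQ F).mul_mem (x10_mem_QQ hadd u) ((QQ F).inv_mem (x11_mem_QQ hadd _))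
  · intro u
    rw [← c611 hadd s u, mul_inv_cancel_right]
    exact x11_mem_QQ hadd u

theorem conj5_QQ (hadd : AllAdd F chevG2) (s : F) :
    ∀ q ∈ QQ F, hadd.xU 5 s * q * (hadd.xU 5 s)⁻¹ ∈ QQ F := by
  apply conj_QQ_of hadd
  · intro u
    rw [← c59 hadd s u, mul_inv_cancel_right]
    exact x9_mem_QQ hadd u
  · intro u
    rw [← c510 hadd s u, mul_inv_cancel_right]
    exact x10_mem_QQ hadd u
  · intro u
    rw [conj_of_rel _ _ _ (r115 hadd s u) (c510 hadd s (s * u))]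
    exact (QQ F).mul_mem (x11_mem_QQ hadd u) ((QQ F).inv_mem (x10_mem_QQ hadd _))

theorem root_le_normalizer_QQ (hadd : AllAdd F chevG2) (r : ℕ)
    (h : ∀ s : F, ∀ q ∈ QQ F, hadd.xU r s * q * (hadd.xU r s)⁻¹ ∈ QQ F) :
    chevG2.rootSubgroup F r ≤ Subgroup.normalizer (QQ F : Set (GL chevG2.Idx F)) := by
  intro a ha
  obtain ⟨s, rfl⟩ := (mem_rootSubgroup_iff hadd r a).1 ha
  apply mem_normalizer_of_conj
  · exact h s
  · intro q hq
    have := h (-s) q hq
    rw [← xU_inv hadd r s, inv_inv] at this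
    exact this

end

section fin

variable {F : Type*} [Field F] [Fintype F] [CharP F 2]

theorem card_QQ_le (hadd : AllAdd F chevG2) : Nat.card ↥(QQ F) ≤ Fintype.card F ^ 3 := by
  have hinj := xInj_all (F := F) chevG2 memG2
  have h9 := card_rootSubgroup hadd 9 (hinj 9 (by decide))
  have h10 := card_rootSubgroup hadd 10 (hinj 10 (by decide))
  have h11 := card_rootSubgroup hadd 11 (hinj 11 (by decide))
  have hF : Nat.card F = Fintype.card F := Nat.card_eq_fintype_card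
  rw [hF] at h9 h10 h11
  have hA : Nat.card ↥(chevG2.rootSubgroup F 9 ⊔ chevG2.rootSubgroup F 10) ≤
      Fintype.card F * Fintype.card F := by
    refine (card_sup_le _ _ ?_).trans (by rw [h9, h10])
    apply le_normalizer_of_commute
    intro a ha b hb
    have := root_le_centralizer hadd 9 10 (c910 hadd) ha
    rw [Subgroup.mem_centralizer_iff] at this
    exact (this b hb).symm
  have hB : Nat.card ↥(QQ F) ≤ Nat.card ↥(chevG2.rootSubgroup F 9 ⊔ chevG2.rootSubgroup F 10) *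
      Nat.card ↥(chevG2.rootSubgroup F 11) := by
    refine card_sup_le _ _ ?_
    apply le_normalizer_of_commute
    intro a ha b hb
    have hle : chevG2.rootSubgroup F 9 ⊔ chevG2.rootSubgroup F 10 ≤
        Subgroup.centralizer (chevG2.rootSubgroup F 11 : Set _) :=
      sup_le (root_le_centralizer hadd 9 11 (c911 hadd))
        (root_le_centralizer hadd 10 11 (c1011 hadd))
    have := hle ha
    rw [Subgroup.mem_centralizer_iff] at this
    exact (this b hb).symm
  rw [h11] at hB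
  calc Nat.card ↥(QQ F) ≤ _ := hB
    _ ≤ Fintype.card F * Fintype.card F * Fintype.card F := Nat.mul_le_mul_right _ hA
    _ = Fintype.card F ^ 3 := by ring

theorem card_L_lt : Nat.card ↥(chevG2.rootSubgroup F 6 ⊔ chevG2.rootSubgroup F 5) <
    Fintype.card F ^ 3 := by
  obtain ⟨φ, hφ, -⟩ := Cfsg.Agent.S1030.result (F := F) chevG2 memG2 6 (by decide)
  rw [neg6] at hφ
  rw [← hφ]
  refine lt_of_le_of_lt ?_ (card_SL2_lt (F := F))
  exact Nat.card_le_card_of_surjective φ.rangeRestrict φ.rangeRestrict_surjective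

/-- the two involutions `x_{3a+2b}(1)` and `x_{2a+b}(1)` are not conjugate -/
theorem not_conj (hadd : AllAdd F chevG2) :
    ¬ CJ (chevG2.group F) (hadd.xU 11 1) (hadd.xU 9 1) := by
  rintro ⟨h, hh, hconj⟩
  have hz := cent_G2 (F := F) (hadd.xU 11 1) rfl
  have ht := cent_short (F := F) (hadd.xU 9 1) rfl
  set f : GL chevG2.Idx F →* GL chevG2.Idx F := (MulAut.conj h).toMonoidHom with hf
  have hUle : (chevG2.posUnipotent F).map f ≤
      chevG2.group F ⊓ Subgroup.centralizer {hadd.xU 9 1} := by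
    rintro _ ⟨u, hu, rfl⟩
    have hu' : u ∈ chevG2.group F ⊓ Subgroup.centralizer {hadd.xU 11 1} := by
      rw [hz]
      exact Subgroup.mem_sup_left hu
    rw [Subgroup.mem_inf] at hu' ⊢
    refine ⟨?_, ?_⟩
    · show h * u * h⁻¹ ∈ chevG2.group F
      exact (chevG2.group F).mul_mem ((chevG2.group F).mul_mem hh hu'.1)
        ((chevG2.group F).inv_mem hh)
    · rw [Subgroup.mem_centralizer_iff]
      intro y hy
      rw [Set.mem_singleton_iff] at hy
      subst hy
      have hc := (Subgroup.mem_centralizer_iff.1 hu'.2) _ (Set.mem_singleton _)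
      show hadd.xU 9 1 * (h * u * h⁻¹) = h * u * h⁻¹ * hadd.xU 9 1
      rw [← hconj]
      calc h * hadd.xU 11 1 * h⁻¹ * (h * u * h⁻¹) = h * (hadd.xU 11 1 * u) * h⁻¹ := by group
        _ = h * (u * hadd.xU 11 1) * h⁻¹ := by rw [hc]
        _ = h * u * h⁻¹ * (h * hadd.xU 11 1 * h⁻¹) := by group
  have hcU : Nat.card ↥((chevG2.posUnipotent F).map f) = Fintype.card F ^ 6 := by
    rw [Subgroup.card_map_of_injective (MulAut.conj h).injective,
      card_posUnipotent_all chevG2 memG2, nroots_G2, Nat.card_eq_fintype_card]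
  have h1 := Subgroup.card_le_of_le hUle
  rw [hcU, ht] at h1
  have hQL : chevG2.rootSubgroup F 9 ⊔ chevG2.rootSubgroup F 10 ⊔ chevG2.rootSubgroup F 11 ⊔
      chevG2.rootSubgroup F 6 ⊔ chevG2.rootSubgroup F 5 =
      (chevG2.rootSubgroup F 6 ⊔ chevG2.rootSubgroup F 5) ⊔ QQ F := by
    show QQ F ⊔ chevG2.rootSubgroup F 6 ⊔ chevG2.rootSubgroup F 5 = _
    rw [sup_assoc (QQ F), sup_comm]
  rw [hQL] at h1
  have h2 := card_sup_le (chevG2.rootSubgroup F 6 ⊔ chevG2.rootSubgroup F 5) (QQ F)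
    (sup_le (root_le_normalizer_QQ hadd 6 (conj6_QQ hadd))
      (root_le_normalizer_QQ hadd 5 (conj5_QQ hadd)))
  have h3 := card_QQ_le hadd
  have h4 := card_L_lt (F := F)
  have hq : 0 < Fintype.card F ^ 3 := by
    have : 0 < Fintype.card F := Fintype.card_pos
    positivity
  have h5 : Nat.card ↥(chevG2.rootSubgroup F 6 ⊔ chevG2.rootSubgroup F 5) * Nat.card ↥(QQ F) <
      Fintype.card F ^ 3 * Fintype.card F ^ 3 :=
    lt_of_le_of_lt (Nat.mul_le_mul_left _ h3) (Nat.mul_lt_mul_of_pos_right h4 hq)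
  have h6 : Fintype.card F ^ 3 * Fintype.card F ^ 3 = Fintype.card F ^ 6 := by ring
  omega

end fin

end Cfsg.Agent.Lib.Helper5.Chev.G2I
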