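import Cfsg.Agent.Lib.Helper5.SL2P.PairProd
import Mathlib

/-!
# Involutions normalising a rank one pair: two conjugation moves (helper5)

* `rank_one_move`: if `n y(u) n⁻¹ = x(η u)` and `η d² = 1` then `y(d) n y(d)⁻¹ = x(d⁻¹) (w(-d⁻¹) n)`.
* `torus_move`: over a finite field of odd order, if `n` interchanges `x` and `y` then `n` is
  conjugate to `h(s) n` for every `s ≠ 0`, under the group generated by the pair.
-/

set_option autoImplicit false

namespace Cfsg.Agent.Lib.Helper5.Chev.G2O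

open Cfsg.Agent.Lib.Helper5.SL2P Matrix

variable {K : Type*} [Field K] {Γ : Type*} [Group Γ]

theorem rank_one_move (P : Pair K Γ) (n : Γ) (η d : K) (hd : d ≠ 0)
    (hy : ∀ u, n * P.y u * n⁻¹ = P.x (η * u)) (hηd : η * d ^ 2 = 1) :
    P.y d * n * (P.y d)⁻¹ = P.x d⁻¹ * (P.w (-d⁻¹) * n) := by
  have h1 : (P.y d)⁻¹ = P.y (-d) := (P.y_neg d).symm
  have h2 : n * P.y (-d) * n⁻¹ = P.x (-d⁻¹) := by
    rw [hy]
    congr 1
    have hη : η = (d ^ 2)⁻¹ := eq_inv_of_mul_eq_one_left hηd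
    rw [hη]
    field_simp
  have h3 : P.w (-d⁻¹) = P.x (-d⁻¹) * P.y d * P.x (-d⁻¹) := by
    unfold Pair.w
    rw [inv_neg, inv_inv, neg_neg]
  have h4 : P.x d⁻¹ = (P.x (-d⁻¹))⁻¹ := by
    rw [← P.x_neg, neg_neg]
  calc P.y d * n * (P.y d)⁻¹ = P.y d * (n * P.y (-d) * n⁻¹) * n := by rw [h1]; group
    _ = P.y d * P.x (-d⁻¹) * n := by rw [h2]
    _ = P.x d⁻¹ * (P.x (-d⁻¹) * P.y d * P.x (-d⁻¹)) * n := by rw [h4]; group
    _ = _ := by rw [← h3]; group

/-- the automorphism of `SL₂(K)` interchanging the two elementary subgroups: the function -/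
def iotaFun (η : K) (hη : η ≠ 0) (k : SpecialLinearGroup (Fin 2) K) :
    SpecialLinearGroup (Fin 2) K :=
  ⟨!![(k : Matrix (Fin 2) (Fin 2) K) 1 1, (k : Matrix (Fin 2) (Fin 2) K) 1 0 / η;
      η * (k : Matrix (Fin 2) (Fin 2) K) 0 1, (k : Matrix (Fin 2) (Fin 2) K) 0 0], by
    have := k.2
    rw [det_fin_two] at this ⊢
    simp only [of_apply, cons_val', cons_val_zero, cons_val_one, cons_val_fin_one]
    field_simp
    linear_combination this⟩

theorem iotaFun_val (η : K) (hη : η ≠ 0) (k : SpecialLinearGroup (Fin 2) K) :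
    ((iotaFun η hη k : SpecialLinearGroup (Fin 2) K) : Matrix (Fin 2) (Fin 2) K)
      = !![(k : Matrix (Fin 2) (Fin 2) K) 1 1, (k : Matrix (Fin 2) (Fin 2) K) 1 0 / η;
          η * (k : Matrix (Fin 2) (Fin 2) K) 0 1, (k : Matrix (Fin 2) (Fin 2) K) 0 0] := rfl

/-- the automorphism of `SL₂(K)` interchanging the two elementary subgroups -/
def iota (η : K) (hη : η ≠ 0) :
    SpecialLinearGroup (Fin 2) K →* SpecialLinearGroup (Fin 2) K where
  toFun := iotaFun η hη
  map_one' := by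
    apply sl_ext <;> rw [iotaFun_val] <;> simp
  map_mul' a b := by
    apply sl_ext <;>
      rw [Matrix.SpecialLinearGroup.coe_mul, iotaFun_val, iotaFun_val, iotaFun_val,
        Matrix.SpecialLinearGroup.coe_mul] <;>
      simp [Matrix.mul_apply, Fin.sum_univ_two] <;> field_simp <;> ring

theorem iota_val (η : K) (hη : η ≠ 0) (k : SpecialLinearGroup (Fin 2) K) :
    ((iota η hη k : SpecialLinearGroup (Fin 2) K) : Matrix (Fin 2) (Fin 2) K)
      = !![(k : Matrix (Fin 2) (Fin 2) K) 1 1, (k : Matrix (Fin 2) (Fin 2) K) 1 0 / η;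
          η * (k : Matrix (Fin 2) (Fin 2) K) 0 1, (k : Matrix (Fin 2) (Fin 2) K) 0 0] := rfl

theorem iota_sx (η : K) (hη : η ≠ 0) (t : K) : iota η hη (sx K t) = sy K (η * t) := by
  apply sl_ext <;> rw [iota_val, sx_val, sy_val] <;> simp

theorem iota_sy (η : K) (hη : η ≠ 0) (t : K) : iota η hη (sy K t) = sx K (η⁻¹ * t) := by
  apply sl_ext <;> rw [iota_val, sx_val, sy_val] <;> simp <;> field_simp

theorem conj_hom_eq (P : Pair K Γ) (φ : SpecialLinearGroup (Fin 2) K →* Γ)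
    (hφx : ∀ t : K, φ (sx K t) = P.x t) (hφy : ∀ t : K, φ (sy K t) = P.y t)
    (n : Γ) (η : K) (hη : η ≠ 0) (hx : ∀ u, n * P.x u * n⁻¹ = P.y (η * u))
    (hy : ∀ u, n * P.y u * n⁻¹ = P.x (η⁻¹ * u)) (k : SpecialLinearGroup (Fin 2) K) :
    n * φ k * n⁻¹ = φ (iota η hη k) := by
  have e : ((MulAut.conj n).toMonoidHom.comp φ).comp (piA K)
      = (φ.comp (iota η hη)).comp (piA K) := by
    apply MonoidHom.eq_of_eqOn_dense (closure_aPair (K := K))
    rintro _ (⟨t, rfl⟩ | ⟨t, rfl⟩)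
    · have e1 : piA K ((aPair K).x t) = sx K t := by
        unfold piA; rw [toPair_x]; rfl
      show n * φ (piA K ((aPair K).x t)) * n⁻¹ = φ (iota η hη (piA K ((aPair K).x t)))
      rw [e1, hφx, hx, iota_sx, hφy]
    · have e1 : piA K ((aPair K).y t) = sy K t := by
        unfold piA; rw [toPair_y]; rfl
      show n * φ (piA K ((aPair K).y t)) * n⁻¹ = φ (iota η hη (piA K ((aPair K).y t)))
      rw [e1, hφy, hy, iota_sy, hφx]
  obtain ⟨a', rfl⟩ := piA_surjective k
  exact DFunLike.congr_fun e a'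

theorem hom_h (P : Pair K Γ) (φ : SpecialLinearGroup (Fin 2) K →* Γ)
    (hφx : ∀ t : K, φ (sx K t) = P.x t) (hφy : ∀ t : K, φ (sy K t) = P.y t) (s : K) :
    φ ((slPair K).h s) = P.h s := by
  simp only [Pair.h, Pair.w, map_mul, slPair_x, slPair_y, hφx, hφy]

theorem hom_w (P : Pair K Γ) (φ : SpecialLinearGroup (Fin 2) K →* Γ)
    (hφx : ∀ t : K, φ (sx K t) = P.x t) (hφy : ∀ t : K, φ (sy K t) = P.y t) (s : K) :
    φ ((slPair K).w s) = P.w s := by
  simp only [Pair.w, map_mul, slPair_x, slPair_y, hφx, hφy]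

/-- the norm form `p² - η r²` of a finite field of odd order is surjective -/
theorem exists_norm [Finite K] (hK : Odd (Nat.card K)) (η c : K) (hη : η ≠ 0) :
    ∃ p r : K, p ^ 2 - η * r ^ 2 = c := by
  classical
  have := Fintype.ofFinite K
  have hK' : Fintype.card K % 2 = 1 := by
    rw [← Nat.card_eq_fintype_card]; exact Nat.odd_iff.1 hK
  have hf : (Polynomial.X ^ 2 : Polynomial K).degree = 2 := Polynomial.degree_X_pow 2
  have hg : (Polynomial.C (-η) * Polynomial.X ^ 2 + Polynomial.C 0 * Polynomial.X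
      + Polynomial.C (-c) : Polynomial K).degree = 2 :=
    Polynomial.degree_quadratic (neg_ne_zero.2 hη)
  obtain ⟨p, r, h⟩ := FiniteField.exists_root_sum_quadratic hf hg hK'
  refine ⟨p, r, ?_⟩
  simp only [Polynomial.eval_pow, Polynomial.eval_X, Polynomial.eval_add, Polynomial.eval_mul,
    Polynomial.eval_C] at h
  linear_combination h

theorem torus_move [Finite K] (hK : Odd (Nat.card K)) (P : Pair K Γ)
    (φ : SpecialLinearGroup (Fin 2) K →* Γ)
    (hφx : ∀ t : K, φ (sx K t) = P.x t) (hφy : ∀ t : K, φ (sy K t) = P.y t)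
    (n : Γ) (η : K) (hη : η ≠ 0) (hx : ∀ u, n * P.x u * n⁻¹ = P.y (η * u))
    (hy : ∀ u, n * P.y u * n⁻¹ = P.x (η⁻¹ * u)) (s : K) (hs : s ≠ 0) :
    ∃ k : SpecialLinearGroup (Fin 2) K, φ k * n * (φ k)⁻¹ = P.h s * n := by
  obtain ⟨p, r, hpr⟩ := exists_norm hK η s⁻¹ hη
  have hdet : (!![s * p, s * r; r * η, p] : Matrix (Fin 2) (Fin 2) K).det = 1 := by
    rw [det_fin_two]
    simp only [of_apply, cons_val', cons_val_zero, cons_val_one, cons_val_fin_one]
    have : s * (p ^ 2 - η * r ^ 2) = 1 := by rw [hpr, mul_inv_cancel₀ hs]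
    linear_combination this
  set g : SpecialLinearGroup (Fin 2) K := ⟨!![s * p, s * r; r * η, p], hdet⟩ with hg
  have e1 : g = (slPair K).h s * iota η hη g := by
    apply sl_ext <;>
      rw [Matrix.SpecialLinearGroup.coe_mul, slPair_h_val s hs, iota_val] <;>
      simp [hg, Matrix.mul_apply, Fin.sum_univ_two]
    all_goals first | (left; field_simp) | field_simp
  have e2 : φ g = P.h s * φ (iota η hη g) := by
    conv_lhs => rw [e1]
    rw [map_mul, hom_h P φ hφx hφy]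
  have e3 := conj_hom_eq P φ hφx hφy n η hη hx hy g
  refine ⟨g, ?_⟩
  calc φ g * n * (φ g)⁻¹ = φ g * (n * φ g * n⁻¹)⁻¹ * n := by group
    _ = P.h s * φ (iota η hη g) * (φ (iota η hη g))⁻¹ * n := by rw [e3, ← e2]
    _ = P.h s * n := by group

end Cfsg.Agent.Lib.Helper5.Chev.G2O
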