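import Cfsg.Agent.Lib.Helper5.Chev.BruhatH
import Cfsg.Agent.Lib.Helper5.Chev.UCardAll
import Mathlib

/-!
# Involutions of a Chevalley group over a finite field of odd order are conjugate into `N` (helper5)

If `v ∈ U`, `n ∈ N` and `v n` is an involution then `n` is an involution and `v n` is conjugate
to `n` under `U`.
-/

set_option autoImplicit false

namespace Cfsg.Agent.Lib.Helper5.Chev

open Cfsg.Lie
open scoped Matrix

section

variable {F : Type*} [Field F]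

/-- powers in `B = U ⋊ H` -/
theorem invN_borel_pow (D : ChevalleyDatum)
    (hD : D ∈ [chevG2, chevB2, chevD4, chevF4, chevE6, chevE7, chevE8])
    (u h : GL D.Idx F) (hu : u ∈ D.posUnipotent F) (hh : h ∈ D.diagonalSubgroup F) (m : ℕ) :
    ∃ u' ∈ D.posUnipotent F, (u * h) ^ m = u' * h ^ m := by
  have hHU := (borel_semidirect_all (F := F) D hD).1
  induction m with
  | zero => exact ⟨1, Subgroup.one_mem _, by simp⟩
  | succ m ih =>
    obtain ⟨u', hu', e⟩ := ih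
    refine ⟨u' * (h ^ m * u * (h ^ m)⁻¹), Subgroup.mul_mem _ hu' ?_, ?_⟩
    · exact (Subgroup.mem_normalizer_iff.1 (hHU (Subgroup.pow_mem _ hh m)) u).1 hu
    · rw [pow_succ, e, pow_succ]; group

/-- the exponent of `H` divides `q - 1` -/
theorem invN_diag_pow [Finite F] (D : ChevalleyDatum)
    (hD : D ∈ [chevG2, chevB2, chevD4, chevF4, chevE6, chevE7, chevE8])
    (h : GL D.Idx F) (hh : h ∈ D.diagonalSubgroup F) : h ^ (Nat.card F - 1) = 1 := by
  obtain ⟨χ, -, h1, -⟩ := exists_char_of_mem hD h hh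
  apply Units.ext
  rw [Units.val_pow_eq_pow_val, h1, Units.val_one]
  unfold ChevalleyDatum.charDiag
  rw [Matrix.diagonal_pow, ← Matrix.diagonal_one]
  congr 1
  ext x
  rcases x with j | s
  · simp
  · simp only [Pi.pow_apply, Sum.elim_inr]
    have : (χ s.val) ^ (Nat.card F - 1) = 1 := by
      have := pow_card_eq_one' (G := Fˣ) (x := χ s.val)
      rwa [Nat.card_units] at this
    rw [← Units.val_pow_eq_pow_val, this, Units.val_one]

/-- `n v = c n u'` with `c ∈ U` and `u' ∈ U_n⁻` -/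
theorem invN_decomp [Finite F] (D : ChevalleyDatum)
    (hD : D ∈ [chevG2, chevB2, chevD4, chevF4, chevE6, chevE7, chevE8])
    (n v : GL D.Idx F) (hn : n ∈ D.monomialSubgroup F) (hv : v ∈ D.posUnipotent F) :
    ∃ c ∈ D.posUnipotent F, ∃ u' ∈ Subgroup.closure (unegSet F D n), n * v = c * n * u' := by
  have hadd := allAdd_all (F := F) D hD
  have hH := hform_all' (F := F) D hD
  obtain ⟨T, Bs, mLL, gH, baseH, fuel, hA, hB, hr, hbase, hcox⟩ := cox_known D hD
  obtain ⟨h1, h2⟩ := cox_of_check T Bs mLL hcox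
  have hHU := (borel_semidirect_all (F := F) D hD).1
  obtain ⟨L, hL, h0, hh0, en⟩ := monomial_le_NWH hA hadd Bs hB hH gH baseH fuel hr hbase hn
  obtain ⟨b, hb, u', hu', e3⟩ := bruhat_word hD hA hadd Bs mLL hB h1 h2 _ L hL rfl h0 hh0 v hv
  rw [← en] at e3 hu'
  have hb2 : b = n * (v * u'⁻¹) * n⁻¹ := by
    calc b = (b * n * u') * u'⁻¹ * n⁻¹ := by group
      _ = _ := by rw [← e3]; group
  unfold ChevalleyDatum.borelSubgroup at hb
  rw [← SetLike.mem_coe, Subgroup.coe_mul_of_right_le_normalizer_left _ _ hHU, Set.mem_mul] at hb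
  obtain ⟨ub, hub, k, hk, rfl⟩ := hb
  have hvu : v * u'⁻¹ ∈ D.posUnipotent F :=
    Subgroup.mul_mem _ hv (Subgroup.inv_mem _ (uneg_le_pos D n hu'))
  have hpow : (v * u'⁻¹) ^ (Nat.card F ^ (D.nroots / 2)) = 1 := by
    have hc := card_posUnipotent_all (F := F) D hD
    have h3 : (⟨v * u'⁻¹, hvu⟩ : D.posUnipotent F) ^ Nat.card (D.posUnipotent F) = 1 :=
      pow_card_eq_one'
    rw [hc] at h3
    exact congrArg Subtype.val h3
  have hbpow : (ub * k) ^ (Nat.card F ^ (D.nroots / 2)) = 1 := by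
    rw [hb2, conj_pow, hpow]; group
  obtain ⟨u2, hu2, e⟩ := invN_borel_pow D hD ub k hub hk (Nat.card F ^ (D.nroots / 2))
  rw [hbpow] at e
  have hkM : k ^ (Nat.card F ^ (D.nroots / 2)) = 1 := by
    have hmem : k ^ (Nat.card F ^ (D.nroots / 2)) ∈ D.posUnipotent F ⊓ D.diagonalSubgroup F := by
      refine ⟨?_, Subgroup.pow_mem _ hk _⟩
      have : k ^ (Nat.card F ^ (D.nroots / 2)) = u2⁻¹ := eq_inv_of_mul_eq_one_right e.symm
      rw [this]; exact Subgroup.inv_mem _ hu2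
    rwa [(borel_semidirect_all (F := F) D hD).2, Subgroup.mem_bot] at hmem
  have hk1 : k ^ (Nat.card F - 1) = 1 := invN_diag_pow D hD k hk
  have hk0 : k = 1 := by
    have hq : 1 ≤ Nat.card F := Nat.card_pos
    have hcop : Nat.Coprime (Nat.card F ^ (D.nroots / 2)) (Nat.card F - 1) := by
      apply Nat.Coprime.pow_left
      rw [Nat.coprime_self_sub_right hq]
      exact Nat.coprime_one_right _
    have hd1 := orderOf_dvd_of_pow_eq_one hkM
    have hd2 := orderOf_dvd_of_pow_eq_one hk1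
    have := Nat.Coprime.eq_one_of_dvd (hcop.coprime_dvd_left hd1) hd2
    exact orderOf_eq_one_iff.1 this
  subst hk0
  exact ⟨ub, hub, u', hu', by rw [e3, mul_one]⟩

/-- an involution `v n` with `v ∈ U` and `n ∈ N`: then `n` is an involution, conjugate to `v n`
under `U` -/
theorem invN_main [Finite F] (D : ChevalleyDatum)
    (hD : D ∈ [chevG2, chevB2, chevD4, chevF4, chevE6, chevE7, chevE8])
    (hodd : Odd (Nat.card F)) (v n : GL D.Idx F) (hv : v ∈ D.posUnipotent F)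
    (hn : n ∈ D.monomialSubgroup F) (h2 : v * n * (v * n) = 1) :
    n * n = 1 ∧ ∃ x ∈ D.posUnipotent F, x * n * x⁻¹ = v * n := by
  have hUB : D.posUnipotent F ≤ D.borelSubgroup F := le_sup_left
  obtain ⟨c, hc, u', hu', e⟩ := invN_decomp D hD n v hn hv
  have e0 : n * v * n = v⁻¹ := by
    calc n * v * n = v⁻¹ * (v * n * (v * n)) := by group
      _ = v⁻¹ := by rw [h2, mul_one]
  have hu0U : c⁻¹ * v⁻¹ ∈ D.posUnipotent F :=
    Subgroup.mul_mem _ (Subgroup.inv_mem _ hc) (Subgroup.inv_mem _ hv)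
  have e1 : u' * n = n⁻¹ * (c⁻¹ * v⁻¹) := by
    calc u' * n = n⁻¹ * c⁻¹ * (c * n * u' * n) := by group
      _ = n⁻¹ * c⁻¹ * v⁻¹ := by rw [← e, e0]
      _ = _ := by group
  obtain ⟨c2, hc2, u3, hu3, e2⟩ := invN_decomp D hD n⁻¹ (c⁻¹ * v⁻¹) (Subgroup.inv_mem _ hn) hu0U
  have key : u' * n * 1 = c2 * n⁻¹ * u3 := by rw [mul_one, e1, e2]
  have hu'U := uneg_le_pos D n hu'
  have hnn : n = n⁻¹ := bruhat_sharp_unique D hD u' c2 n n⁻¹ 1 u3 hu'U hc2 hn
    (Subgroup.inv_mem _ hn) (Subgroup.one_mem _) hu3 key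
  have hn2 : n * n = 1 := mul_eq_one_iff_eq_inv.2 hnn
  obtain ⟨hbb, huu⟩ := (bruhat_unique_all D hD u' c2 n n⁻¹ 1 u3 (hUB hu'U) (hUB hc2) hn
    (Subgroup.inv_mem _ hn) (Subgroup.one_mem _) hu3 key).2 hnn
  have e3 : c⁻¹ * v⁻¹ = n * u' * n⁻¹ := by
    calc c⁻¹ * v⁻¹ = n * (n⁻¹ * (c⁻¹ * v⁻¹)) := by group
      _ = n * (c2 * n⁻¹ * u3) := by rw [e2]
      _ = _ := by rw [← huu, ← hbb]; group
  have hV : n * u' * n⁻¹ ∈ D.negUnipotent F := by
    apply uneg_map_le_neg D n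
    rw [Subgroup.mem_map]
    exact ⟨u', hu', rfl⟩
  have hbot : c⁻¹ * v⁻¹ ∈ D.borelSubgroup F ⊓ D.negUnipotent F := ⟨hUB hu0U, by rw [e3]; exact hV⟩
  rw [(borel_inf_neg_all D hD).1, Subgroup.mem_bot] at hbot
  have hu1 : u' = 1 := by
    have : n * u' * n⁻¹ = 1 := by rw [← e3, hbot]
    calc u' = n⁻¹ * (n * u' * n⁻¹) * n := by group
      _ = 1 := by rw [this]; group
  have hcv : c = v⁻¹ := by
    have : c⁻¹ = v := by
      calc c⁻¹ = c⁻¹ * v⁻¹ * v := by group
        _ = v := by rw [hbot, one_mul]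
    rw [← this, inv_inv]
  rw [hu1, mul_one, hcv] at e
  -- `n v n⁻¹ = v⁻¹`
  have hconj : n * v * n⁻¹ = v⁻¹ := by rw [e]; group
  -- the order of `v` is odd
  have hvodd : Odd (orderOf v) := by
    have hc := card_posUnipotent_all (F := F) D hD
    have h3 : (⟨v, hv⟩ : D.posUnipotent F) ^ Nat.card (D.posUnipotent F) = 1 := pow_card_eq_one'
    rw [hc] at h3
    have h4 : v ^ (Nat.card F ^ (D.nroots / 2)) = 1 := congrArg Subtype.val h3
    have hd := orderOf_dvd_of_pow_eq_one h4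
    exact Odd.of_dvd_nat (hodd.pow) hd
  obtain ⟨j, hj⟩ := hvodd
  have hxx : v ^ (j + 1) * v ^ (j + 1) = v := by
    rw [← pow_add, show j + 1 + (j + 1) = orderOf v + 1 by omega, pow_succ, pow_orderOf_eq_one,
      one_mul]
  have hnx : n * v ^ (j + 1) * n⁻¹ = (v ^ (j + 1))⁻¹ := by
    rw [← conj_pow, hconj, inv_pow]
  refine ⟨hn2, v ^ (j + 1), Subgroup.pow_mem _ hv _, ?_⟩
  calc v ^ (j + 1) * n * (v ^ (j + 1))⁻¹
      = v ^ (j + 1) * (n * v ^ (j + 1) * n⁻¹)⁻¹ * n := by group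
    _ = v ^ (j + 1) * v ^ (j + 1) * n := by rw [hnx, inv_inv]
    _ = v * n := by rw [hxx]

/-- every involution of the group is conjugate to an involution of `N` -/
theorem invN_conj [Finite F] (D : ChevalleyDatum)
    (hD : D ∈ [chevG2, chevB2, chevD4, chevF4, chevE6, chevE7, chevE8])
    (hodd : Odd (Nat.card F)) (t : GL D.Idx F) (ht : t ∈ D.group F) (h2 : t * t = 1) :
    ∃ g ∈ D.group F, ∃ n ∈ D.monomialSubgroup F, n * n = 1 ∧ g * t * g⁻¹ = n := by
  have hadd := allAdd_all (F := F) D hD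
  have hHU := (borel_semidirect_all (F := F) D hD).1
  have hHN : D.diagonalSubgroup F ≤ D.monomialSubgroup F := le_sup_left
  obtain ⟨b, hb, n, hn, u, hu, e⟩ := bruhat_exists_all D hD t ht
  unfold ChevalleyDatum.borelSubgroup at hb
  rw [← SetLike.mem_coe, Subgroup.coe_mul_of_right_le_normalizer_left _ _ hHU, Set.mem_mul] at hb
  obtain ⟨u1, hu1, k, hk, rfl⟩ := hb
  have huU := uneg_le_pos D n hu
  have hv : u * u1 ∈ D.posUnipotent F := Subgroup.mul_mem _ huU hu1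
  have hkn : k * n ∈ D.monomialSubgroup F := Subgroup.mul_mem _ (hHN hk) hn
  have e1 : u * t * u⁻¹ = u * u1 * (k * n) := by rw [e]; group
  have h3 : u * u1 * (k * n) * (u * u1 * (k * n)) = 1 := by
    rw [← e1]
    calc u * t * u⁻¹ * (u * t * u⁻¹) = u * (t * t) * u⁻¹ := by group
      _ = 1 := by rw [h2]; group
  obtain ⟨hn2, x, hx, hxe⟩ := invN_main D hD hodd (u * u1) (k * n) hv hkn h3
  refine ⟨x⁻¹ * u, ?_, k * n, hkn, hn2, ?_⟩
  · exact Subgroup.mul_mem _ (Subgroup.inv_mem _ (hadd.posUnipotent_le hx)) (hadd.posUnipotent_le huU)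
  · calc x⁻¹ * u * t * (x⁻¹ * u)⁻¹ = x⁻¹ * (u * t * u⁻¹) * x := by group
      _ = x⁻¹ * (x * (k * n) * x⁻¹) * x := by rw [e1, hxe]
      _ = k * n := by group

end

end Cfsg.Agent.Lib.Helper5.Chev
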