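import Cfsg.Agent.Lib.Helper5.Chev.G2Odd1
import Cfsg.Agent.Lib.Helper5.Chev.InvN
import Cfsg.Agent.Lib.Helper5.Chev.ChevCard
import Cfsg.Agent.Lib.Helper5.Chev.W0All
import Cfsg.Agent.Lib.Helper5.SL2P.ChevPair
import Cfsg.Agent.S2157
import Mathlib

/-!
# `G₂` over a field of odd order: the concrete data (helper5)

Conjugation of root elements by words in `n_a`, `n_b` with signs, characters of elements of `H`,
the twelve types of elements of `N`.
-/

set_option autoImplicit false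
set_option maxRecDepth 100000

namespace Cfsg.Agent.Lib.Helper5.Chev.G2O

open Cfsg.Lie Cfsg.Agent.Lib.Helper5.Chev Cfsg.Agent.Lib.Helper5.SL2P
open scoped Matrix

theorem memG : chevG2 ∈ [chevG2, chevB2, chevD4, chevF4, chevE6, chevE7, chevE8] := by simp

/-- the sign of the action of a word -/
def sgnW (Bs : List ℕ) : List ℕ → ℕ → ℤ
  | [], _ => 1
  | i :: L, s => etaOf (Bs.getD i 0) (wW Bs L s) * sgnW Bs L s

section

variable {F : Type*} [Field F]

/-- the root elements of `G₂` -/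
noncomputable abbrev xx (r : ℕ) (t : F) : GL chevG2.Idx F :=
  (allAdd_all (F := F) chevG2 memG).xU r t

/-- a word in `n_a`, `n_b` -/
noncomputable abbrev nW (L : List ℕ) : GL chevG2.Idx F :=
  nWordU DataG2.agrees (allAdd_all (F := F) chevG2 memG) L

/-- `n_a`, `n_b` -/
noncomputable abbrev nI (i : ℕ) : GL chevG2.Idx F :=
  nUi DataG2.agrees (allAdd_all (F := F) chevG2 memG) i

theorem nW_cons (i : ℕ) (L : List ℕ) : (nW (i :: L) : GL chevG2.Idx F) = nI i * nW L := by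
  simp [nW, nI, nWordU]

theorem nW_nil : (nW [] : GL chevG2.Idx F) = 1 := by
  simp [nW, nWordU]

theorem nW_append (L L' : List ℕ) : (nW (L ++ L') : GL chevG2.Idx F) = nW L * nW L' := by
  simp [nW, nWordU, List.map_append, List.prod_append]

/-- conjugation of a root element by a word, with the sign -/
theorem conj_word_sgn (L : List ℕ) (hL : ∀ i ∈ L, i < 2) (s : ℕ) (hs : s < 12) (t : F) :
    wW BsG2.Bs L s < 12 ∧
      nW L * xx s t * (nW L)⁻¹ = xx (wW BsG2.Bs L s) (((sgnW BsG2.Bs L s : ℤ) : F) * t) := by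
  induction L with
  | nil =>
    refine ⟨hs, ?_⟩
    simp [nW, nWordU, wW, sgnW]
  | cons i L ih =>
    have hi : i < chevG2.rank := hL i List.mem_cons_self
    obtain ⟨h1, h2⟩ := ih (fun j hj => hL j (List.mem_cons_of_mem _ hj))
    refine ⟨((HsG2.reflBs' i hi).cert DataG2.agrees).w_lt _ h1, ?_⟩
    rw [nW_cons, mul_inv_rev]
    calc nI i * nW L * xx s t * ((nW L)⁻¹ * (nI i)⁻¹)
        = nI i * (nW L * xx s t * (nW L)⁻¹) * (nI i)⁻¹ := by group
      _ = _ := by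
        rw [h2]
        have := conjU DataG2.agrees (allAdd_all (F := F) chevG2 memG) hi (HsG2.reflBs' i hi)
          (wW BsG2.Bs L s) h1 (((sgnW BsG2.Bs L s : ℤ) : F) * t)
        rw [this]
        show xx _ _ = xx _ _
        congr 1
        show _ = (((etaOf (BsG2.Bs.getD i 0) (wW BsG2.Bs L s) * sgnW BsG2.Bs L s : ℤ)) : F) * t
        push_cast
        ring

/-- the action of an element of `H` on the root elements -/
theorem diag_char (h : GL chevG2.Idx F) (hh : h ∈ chevG2.diagonalSubgroup F) :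
    ∃ χ : ℕ → Fˣ, chevG2.IsRootCharacter χ ∧
      (h : Matrix chevG2.Idx chevG2.Idx F) = chevG2.charDiag F χ ∧
      ∀ s < 12, ∀ u : F, h * xx s u * h⁻¹ = xx s ((χ s : F) * u) := by
  obtain ⟨χ, hχ, h1, h2⟩ := exists_char_of_mem memG h hh
  refine ⟨χ, hχ, h1, fun s hs u => ?_⟩
  apply Units.ext
  rw [Units.val_mul, Units.val_mul, h1, h2]
  exact Cfsg.Agent.S2157.result chevG2 memG χ hχ s hs u

theorem g2chain : chevG2.chainRoot 7 6 1 = some 8 ∧ chevG2.chainRoot 7 8 1 = some 9 ∧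
    chevG2.chainRoot 7 9 1 = some 10 ∧ chevG2.chainRoot 6 10 1 = some 11 ∧
    chevG2.neg 6 = 5 ∧ chevG2.neg 7 = 4 ∧ chevG2.neg 8 = 3 ∧ chevG2.neg 9 = 2 ∧
    chevG2.neg 10 = 1 ∧ chevG2.neg 11 = 0 := by
  decide +kernel

/-- the values of a character of the root lattice of `G₂` -/
theorem char_vals (χ : ℕ → Fˣ) (hχ : chevG2.IsRootCharacter χ) :
    χ 8 = χ 7 * χ 6 ∧ χ 9 = χ 7 * χ 8 ∧ χ 10 = χ 7 * χ 9 ∧ χ 11 = χ 6 * χ 10 ∧
    χ 5 = (χ 6)⁻¹ ∧ χ 4 = (χ 7)⁻¹ ∧ χ 3 = (χ 8)⁻¹ ∧ χ 2 = (χ 9)⁻¹ ∧ χ 1 = (χ 10)⁻¹ ∧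
    χ 0 = (χ 11)⁻¹ := by
  obtain ⟨c1, c2, c3, c4, n6, n7, n8, n9, n10, n11⟩ := g2chain
  refine ⟨hχ.2 7 6 8 (by decide) (by decide) c1, hχ.2 7 8 9 (by decide) (by decide) c2,
    hχ.2 7 9 10 (by decide) (by decide) c3, hχ.2 6 10 11 (by decide) (by decide) c4, ?_, ?_, ?_,
    ?_, ?_, ?_⟩
  · rw [← n6]; exact hχ.1 6 (by decide)
  · rw [← n7]; exact hχ.1 7 (by decide)
  · rw [← n8]; exact hχ.1 8 (by decide)
  · rw [← n9]; exact hχ.1 9 (by decide)
  · rw [← n10]; exact hχ.1 10 (by decide)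
  · rw [← n11]; exact hχ.1 11 (by decide)

/-- `N` normalises `H` -/
theorem monomial_normalizes (n h : GL chevG2.Idx F) (hn : n ∈ chevG2.monomialSubgroup F)
    (hh : h ∈ chevG2.diagonalSubgroup F) : n * h * n⁻¹ ∈ chevG2.diagonalSubgroup F := by
  have hNH : chevG2.monomialSubgroup F ≤
      Subgroup.normalizer (chevG2.diagonalSubgroup F : Set (GL chevG2.Idx F)) :=
    (Subgroup.normal_subgroupOf_iff_le_normalizer le_sup_left).1 (diagonal_normal_all chevG2 memG)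
  exact (Subgroup.mem_normalizer_iff.1 (hNH hn) h).1 hh

theorem nW_mem (L : List ℕ) : (nW L : GL chevG2.Idx F) ∈ chevG2.monomialSubgroup F :=
  nWordU_mem _ _ L

theorem nI_mem (i : ℕ) : (nI i : GL chevG2.Idx F) ∈ chevG2.monomialSubgroup F :=
  nUi_mem _ _ i

/-- the elements of `N` of type `L` -/
def TY (L : List ℕ) (n : GL chevG2.Idx F) : Prop :=
  ∃ h ∈ chevG2.diagonalSubgroup F, n = nW L * h

end

/-- the twelve words -/
def canon : List (List ℕ) := [[], [0], [1], [0, 1], [1, 0], [0, 1, 0], [1, 0, 1], [0, 1, 0, 1],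
  [1, 0, 1, 0], [0, 1, 0, 1, 0], [1, 0, 1, 0, 1], [0, 1, 0, 1, 0, 1]]

theorem canon_closed : ∀ L₀ ∈ canon, ∀ i < 2, ∃ L₁ ∈ canon, ∀ r < 12,
    wOf (BsG2.Bs.getD i 0) (wW BsG2.Bs L₀ r) = wW BsG2.Bs L₁ r := by
  decide +kernel

theorem canon_lt : ∀ L₀ ∈ canon, ∀ i ∈ L₀, i < 2 := by decide

theorem exists_canon (L : List ℕ) (hL : ∀ i ∈ L, i < 2) :
    ∃ L₀ ∈ canon, ∀ r < 12, wW BsG2.Bs L r = wW BsG2.Bs L₀ r := by
  induction L with
  | nil => exact ⟨[], by simp [canon], fun r _ => rfl⟩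
  | cons i L ih =>
    obtain ⟨L₀, hL₀, h⟩ := ih (fun j hj => hL j (List.mem_cons_of_mem _ hj))
    obtain ⟨L₁, hL₁, h1⟩ := canon_closed L₀ hL₀ i (hL i List.mem_cons_self)
    refine ⟨L₁, hL₁, fun r hr => ?_⟩
    show wOf (BsG2.Bs.getD i 0) (wW BsG2.Bs L r) = _
    rw [h r hr]
    exact h1 r hr

theorem act_eq_wW (L : List ℕ) (r : ℕ) :
    (wdOf DataG2.fd BsG2.Bs CxG2.mLL).act L r = wW BsG2.Bs L r := by
  induction L with
  | nil => rfl
  | cons i L ih =>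
    show wOf (BsG2.Bs.getD i 0) ((wdOf DataG2.fd BsG2.Bs CxG2.mLL).act L r) = _
    rw [ih]
    rfl

section

variable {F : Type*} [Field F]

/-- two words with the same action differ by an element of `H` -/
theorem nW_eq_of_act (L L' : List ℕ) (hL : ∀ i ∈ L, i < 2) (hL' : ∀ i ∈ L', i < 2)
    (h : ∀ r < 12, wW BsG2.Bs L r = wW BsG2.Bs L' r) :
    ∃ k ∈ chevG2.diagonalSubgroup F, (nW L' : GL chevG2.Idx F) = nW L * k := by
  obtain ⟨h1, h2⟩ := cox_of_check DataG2.fd BsG2.Bs CxG2.mLL CxG2.cox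
  have := nWordU_inv_mul_mem_of_act_eq (F := F) memG DataG2.agrees (allAdd_all chevG2 memG)
    BsG2.Bs CxG2.mLL HsG2.reflBs' h1 h2 L L' hL hL' (by
      intro r hr
      rw [act_eq_wW, act_eq_wW]
      exact h r hr)
  exact ⟨_, this, by group⟩

/-- every element of `N` has one of the twelve types -/
theorem exists_type (n : GL chevG2.Idx F) (hn : n ∈ chevG2.monomialSubgroup F) :
    ∃ L ∈ canon, TY L n := by
  obtain ⟨L, hL, h0, hh0, en⟩ := monomial_le_NWH DataG2.agrees (allAdd_all (F := F) chevG2 memG)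
    BsG2.Bs HsG2.reflBs' HsG2.hform HsG2.gH HsG2.baseH 3 HsG2.rbH HsG2.base_simple hn
  obtain ⟨L₀, hL₀, hact⟩ := exists_canon L hL
  have hL₀2 : ∀ i ∈ L₀, i < 2 := canon_lt L₀ hL₀
  obtain ⟨k, hk, e⟩ := nW_eq_of_act (F := F) L₀ L hL₀2 hL (fun r hr => (hact r hr).symm)
  refine ⟨L₀, hL₀, k * h0, Subgroup.mul_mem _ hk hh0, ?_⟩
  rw [en]
  show nW L * h0 = _
  rw [e]
  group

end

end Cfsg.Agent.Lib.Helper5.Chev.G2O
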