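import Cfsg.Agent.Lib.Helper5.Chev.G2Odd2
import Cfsg.Agent.S1032
import Cfsg.Agent.Lib.Helper5.Chev.UProd
import Mathlib

/-!
# `G₂` over a field of odd order: involutions of `H` (helper5)
-/

set_option autoImplicit false
set_option maxRecDepth 100000

namespace Cfsg.Agent.Lib.Helper5.Chev.G2O

open Cfsg.Lie Cfsg.Agent.Lib.Helper5.Chev Cfsg.Agent.Lib.Helper5.SL2P
open scoped Matrix

section

variable {F : Type*} [Field F]

/-- the rank one pair of a root of `G₂` -/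
noncomputable abbrev PP (r : ℕ) (hr : r < 12) : Pair F (GL chevG2.Idx F) :=
  chevPair chevG2 memG r hr

theorem PP_x (r : ℕ) (hr : r < 12) (t : F) : (PP r hr).x t = xx r t := rfl

theorem PP_y (r : ℕ) (hr : r < 12) (t : F) : (PP r hr).y t = xx (chevG2.neg r) t := rfl

theorem PP_w (r : ℕ) (hr : r < 12) (t : F) :
    (PP r hr).w t = (allAdd_all (F := F) chevG2 memG).wordU (chevG2.nWord r t) := by
  rw [wordU_nWord]; rfl

theorem PP_h (r : ℕ) (hr : r < 12) (t : F) :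
    (PP r hr).h t = (allAdd_all (F := F) chevG2 memG).wordU (chevG2.hWord r t) := by
  rw [wordU_hWord, ← PP_w r hr, ← PP_w r hr]; rfl

theorem PP_h_mem (r : ℕ) (hr : r < 12) (t : F) (ht : t ≠ 0) :
    (PP r hr).h t ∈ chevG2.diagonalSubgroup F := by
  rw [PP_h]
  exact wordU_hWord_mem _ r hr t ht

theorem simple_vals : chevG2.simple 0 = 7 ∧ chevG2.simple 1 = 6 := by decide +kernel

theorem nI_zero : (nI 0 : GL chevG2.Idx F) = (PP 7 (by decide)).w 1 := by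
  rw [PP_w]
  apply Units.ext
  rw [AllAdd.wordU_val, nUi_val DataG2.agrees _ (by decide : 0 < chevG2.rank), simple_vals.1]
  rfl

theorem nI_one : (nI 1 : GL chevG2.Idx F) = (PP 6 (by decide)).w 1 := by
  rw [PP_w]
  apply Units.ext
  rw [AllAdd.wordU_val, nUi_val DataG2.agrees _ (by decide : 1 < chevG2.rank), simple_vals.2]
  rfl

theorem xx_mem_group (r : ℕ) (t : F) : (xx r t : GL chevG2.Idx F) ∈ chevG2.group F :=
  (allAdd_all (F := F) chevG2 memG).xU_mem_group r t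

theorem xx_injective (r : ℕ) (hr : r < 12) (t u : F) (h : (xx r t : GL chevG2.Idx F) = xx r u) :
    t = u :=
  xU_injective _ r (xInj_all chevG2 memG r hr) t u h

/-- `h` acts on the root elements by the scalars `ψ` -/
def Acts (h : GL chevG2.Idx F) (ψ : ℕ → F) : Prop :=
  ∀ s < 12, ∀ u : F, h * xx s u * h⁻¹ = xx s (ψ s * u)

theorem wOf_lt (i : ℕ) (hi : i < 2) (s : ℕ) (hs : s < 12) : wOf (BsG2.Bs.getD i 0) s < 12 :=
  ((HsG2.reflBs' i hi).cert DataG2.agrees).w_lt s hs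

/-- the action of a conjugate under `n_a`, `n_b` -/
theorem Acts.conj_nI {h : GL chevG2.Idx F} {ψ : ℕ → F} (hψ : Acts h ψ) (i : ℕ) (hi : i < 2) :
    Acts (nI i * h * (nI i)⁻¹) (fun s => ψ (wOf (BsG2.Bs.getD i 0) s)) := by
  intro s hs u
  have hcert := (HsG2.reflBs' i hi).cert DataG2.agrees
  have hs' := wOf_lt i hi s hs
  have e1 := conjU' DataG2.agrees (allAdd_all (F := F) chevG2 memG) hi (HsG2.reflBs' i hi) s hs u
  have e2 := hψ (wOf (BsG2.Bs.getD i 0) s) hs'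
    (((etaOf (BsG2.Bs.getD i 0) (wOf (BsG2.Bs.getD i 0) s) : ℤ) : F) * u)
  have e3 := conjU DataG2.agrees (allAdd_all (F := F) chevG2 memG) hi (HsG2.reflBs' i hi)
    (wOf (BsG2.Bs.getD i 0) s) hs'
    (ψ (wOf (BsG2.Bs.getD i 0) s) *
      (((etaOf (BsG2.Bs.getD i 0) (wOf (BsG2.Bs.getD i 0) s) : ℤ) : F) * u))
  rw [hcert.w_w s hs] at e3
  calc nI i * h * (nI i)⁻¹ * xx s u * (nI i * h * (nI i)⁻¹)⁻¹
      = nI i * (h * ((nI i)⁻¹ * xx s u * nI i) * h⁻¹) * (nI i)⁻¹ := by group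
    _ = _ := by
      rw [e1, e2, e3]
      show xx _ _ = xx _ _
      congr 1
      have := hcert.eta_sq (F := F) _ hs'
      calc _ = (((etaOf (BsG2.Bs.getD i 0) (wOf (BsG2.Bs.getD i 0) s) : ℤ) : F) *
            ((etaOf (BsG2.Bs.getD i 0) (wOf (BsG2.Bs.getD i 0) s) : ℤ) : F)) *
              (ψ (wOf (BsG2.Bs.getD i 0) s) * u) := by ring
        _ = _ := by rw [this, one_mul]

/-- an element of `H` is determined by its action on the fundamental root elements -/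
theorem diag_eq_of_acts (h h' : GL chevG2.Idx F) (hh : h ∈ chevG2.diagonalSubgroup F)
    (hh' : h' ∈ chevG2.diagonalSubgroup F) (ψ : ℕ → F) (h1 : Acts h ψ)
    (ψ' : ℕ → F) (h2 : Acts h' ψ') (e7 : ψ 7 = ψ' 7) (e6 : ψ 6 = ψ' 6) : h = h' := by
  obtain ⟨χ, hχ, hm, hact⟩ := diag_char h hh
  obtain ⟨χ', hχ', hm', hact'⟩ := diag_char h' hh'
  have k7 : χ 7 = χ' 7 := by
    apply Units.ext
    have a := xx_injective 7 (by decide) _ _ ((hact 7 (by decide) 1).symm.trans (h1 7 (by decide) 1))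
    have b := xx_injective 7 (by decide) _ _
      ((hact' 7 (by decide) 1).symm.trans (h2 7 (by decide) 1))
    rw [mul_one, mul_one] at a b
    rw [a, b, e7]
  have k6 : χ 6 = χ' 6 := by
    apply Units.ext
    have a := xx_injective 6 (by decide) _ _ ((hact 6 (by decide) 1).symm.trans (h1 6 (by decide) 1))
    have b := xx_injective 6 (by decide) _ _
      ((hact' 6 (by decide) 1).symm.trans (h2 6 (by decide) 1))
    rw [mul_one, mul_one] at a b
    rw [a, b, e6]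
  obtain ⟨a8, a9, a10, a11, a5, a4, a3, a2, a1, a0⟩ := char_vals χ hχ
  obtain ⟨b8, b9, b10, b11, b5, b4, b3, b2, b1, b0⟩ := char_vals χ' hχ'
  have k8 : χ 8 = χ' 8 := by rw [a8, b8, k7, k6]
  have k9 : χ 9 = χ' 9 := by rw [a9, b9, k7, k8]
  have k10 : χ 10 = χ' 10 := by rw [a10, b10, k7, k9]
  have k11 : χ 11 = χ' 11 := by rw [a11, b11, k6, k10]
  have k5 : χ 5 = χ' 5 := by rw [a5, b5, k6]
  have k4 : χ 4 = χ' 4 := by rw [a4, b4, k7]
  have k3 : χ 3 = χ' 3 := by rw [a3, b3, k8]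
  have k2 : χ 2 = χ' 2 := by rw [a2, b2, k9]
  have k1 : χ 1 = χ' 1 := by rw [a1, b1, k10]
  have k0 : χ 0 = χ' 0 := by rw [a0, b0, k11]
  apply Units.ext
  rw [hm, hm']
  unfold ChevalleyDatum.charDiag
  congr 1
  ext x
  rcases x with j | s
  · rfl
  · simp only [Sum.elim_inr]
    have hs : s.val < 12 := s.isLt
    have : χ s.val = χ' s.val := by
      interval_cases hsv : s.val <;> assumption
    rw [this]

theorem wOf_vals : wOf (BsG2.Bs.getD 1 0) 7 = 8 ∧ wOf (BsG2.Bs.getD 1 0) 6 = 5 ∧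
    wOf (BsG2.Bs.getD 0 0) 8 = 9 ∧ wOf (BsG2.Bs.getD 0 0) 5 = 1 := by decide +kernel

theorem acts_one : Acts (1 : GL chevG2.Idx F) (fun _ => 1) := by
  intro s _ u
  simp

/-- an involution of `H` is conjugate under `N` to the one acting by `1` on `X_a` and by `-1`
on `X_b` -/
theorem invol_diag_std (h : GL chevG2.Idx F) (hh : h ∈ chevG2.diagonalSubgroup F)
    (h2 : h * h = 1) (h1 : h ≠ 1) :
    ∃ n ∈ chevG2.monomialSubgroup F, ∃ ψ : ℕ → F, Acts (n * h * n⁻¹) ψ ∧ ψ 7 = 1 ∧ ψ 6 = -1 := by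
  obtain ⟨χ, hχ, hm, hact⟩ := diag_char h hh
  have hA : Acts h (fun s => (χ s : F)) := hact
  have hsq : ∀ s < 12, (χ s : F) * (χ s : F) = 1 := by
    intro s hs
    have e : h * (h * xx s 1 * h⁻¹) * h⁻¹ = xx s 1 := by
      calc h * (h * xx s 1 * h⁻¹) * h⁻¹ = (h * h) * xx s 1 * (h * h)⁻¹ := by group
        _ = xx s 1 := by rw [h2]; group
    rw [hact s hs, hact s hs] at e
    have := xx_injective s hs _ _ e
    rw [mul_one] at this
    exact this
  obtain ⟨a8, a9, a10, a11, a5, a4, a3, a2, a1, a0⟩ := char_vals χ hχ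
  obtain ⟨w1, w2, w3, w4⟩ := wOf_vals
  rcases mul_self_eq_one_iff.1 (hsq 7 (by decide)) with h7 | h7 <;>
    rcases mul_self_eq_one_iff.1 (hsq 6 (by decide)) with h6 | h6
  · exfalso
    apply h1
    exact diag_eq_of_acts h 1 hh (Subgroup.one_mem _) _ hA _ acts_one h7 h6
  · refine ⟨1, Subgroup.one_mem _, fun s => (χ s : F), ?_, h7, h6⟩
    rw [one_mul, inv_one, mul_one]
    exact hA
  · refine ⟨nI 1 * nI 0, Subgroup.mul_mem _ (nI_mem 1) (nI_mem 0),
      fun s => ((χ (wOf (BsG2.Bs.getD 0 0) (wOf (BsG2.Bs.getD 1 0) s)) : Fˣ) : F), ?_, ?_, ?_⟩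
    · have := (hA.conj_nI 0 (by decide)).conj_nI 1 (by decide)
      have e : nI 1 * nI 0 * h * (nI 1 * nI 0)⁻¹ = nI 1 * (nI 0 * h * (nI 0)⁻¹) * (nI 1)⁻¹ := by
        group
      rw [e]
      exact this
    · show ((χ (wOf (BsG2.Bs.getD 0 0) (wOf (BsG2.Bs.getD 1 0) 7)) : Fˣ) : F) = 1
      rw [w1, w3, a9, a8, Units.val_mul, Units.val_mul, h7, h6]
      ring
    · show ((χ (wOf (BsG2.Bs.getD 0 0) (wOf (BsG2.Bs.getD 1 0) 6)) : Fˣ) : F) = -1
      rw [w2, w4, a1, a10, a9, a8, Units.val_inv_eq_inv_val, Units.val_mul, Units.val_mul,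
        Units.val_mul, h7, h6]
      norm_num
  · refine ⟨nI 1, nI_mem 1, fun s => ((χ (wOf (BsG2.Bs.getD 1 0) s) : Fˣ) : F),
      hA.conj_nI 1 (by decide), ?_, ?_⟩
    · show ((χ (wOf (BsG2.Bs.getD 1 0) 7) : Fˣ) : F) = 1
      rw [w1, a8, Units.val_mul, h7, h6]
      ring
    · show ((χ (wOf (BsG2.Bs.getD 1 0) 6) : Fˣ) : F) = -1
      rw [w2, a5, Units.val_inv_eq_inv_val, h6]
      norm_num

/-- any two involutions of `H` are conjugate under `N` -/
theorem invol_diag_conj (h h' : GL chevG2.Idx F) (hh : h ∈ chevG2.diagonalSubgroup F)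
    (hh' : h' ∈ chevG2.diagonalSubgroup F) (h2 : h * h = 1) (h2' : h' * h' = 1) (h1 : h ≠ 1)
    (h1' : h' ≠ 1) : ∃ n ∈ chevG2.monomialSubgroup F, n * h * n⁻¹ = h' := by
  obtain ⟨n, hn, ψ, hψ, e7, e6⟩ := invol_diag_std h hh h2 h1
  obtain ⟨n', hn', ψ', hψ', e7', e6'⟩ := invol_diag_std h' hh' h2' h1'
  have e := diag_eq_of_acts _ _ (monomial_normalizes n h hn hh) (monomial_normalizes n' h' hn' hh')
    ψ hψ ψ' hψ' (e7.trans e7'.symm) (e6.trans e6'.symm)
  refine ⟨n'⁻¹ * n, Subgroup.mul_mem _ (Subgroup.inv_mem _ hn') hn, ?_⟩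
  calc n'⁻¹ * n * h * (n'⁻¹ * n)⁻¹ = n'⁻¹ * (n * h * n⁻¹) * n' := by group
    _ = h' := by rw [e]; group

end

end Cfsg.Agent.Lib.Helper5.Chev.G2O
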