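import Cfsg.Agent.Lib.Helper5.Chev.G2Odd3
import Mathlib

/-!
# `G₂` over a field of odd order: involutions of `N` over a fundamental reflection (helper5)
-/

set_option autoImplicit false
set_option maxRecDepth 100000

namespace Cfsg.Agent.Lib.Helper5.Chev.G2O

open Cfsg.Lie Cfsg.Agent.Lib.Helper5.Chev Cfsg.Agent.Lib.Helper5.SL2P
open scoped Matrix

section abstract

variable {K : Type*} [Field K] {Γ : Type*} [Group Γ]

theorem refl_move (P : Pair K Γ) (h : Γ) (c d : K) (hc : c ≠ 0) (hd2 : d ^ 2 = -c)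
    (hy : ∀ u, h * P.y u * h⁻¹ = P.y (c⁻¹ * u)) :
    P.y d * (P.w 1 * h) * (P.y d)⁻¹ = P.x d⁻¹ * (P.h (-d⁻¹) * (P.h (-1))⁻¹ * h) := by
  have hd : d ≠ 0 := by
    rintro rfl
    apply hc
    have : (0 : K) ^ 2 = 0 := by norm_num
    rw [this] at hd2
    exact neg_eq_zero.1 hd2.symm
  have hy' : ∀ u, (P.w 1 * h) * P.y u * (P.w 1 * h)⁻¹ = P.x ((-c⁻¹) * u) := by
    intro u
    calc (P.w 1 * h) * P.y u * (P.w 1 * h)⁻¹ = P.w 1 * (h * P.y u * h⁻¹) * (P.w 1)⁻¹ := by group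
      _ = P.w 1 * P.y (c⁻¹ * u) * (P.w 1)⁻¹ := by rw [hy]
      _ = P.x (-(1 ^ 2) * (c⁻¹ * u)) := P.conj_y 1 _ one_ne_zero
      _ = _ := by congr 1; ring
  have hη : (-c⁻¹) * d ^ 2 = 1 := by rw [hd2]; field_simp
  rw [rank_one_move P (P.w 1 * h) (-c⁻¹) d hd hy' hη]
  congr 1
  rw [P.w_eq (-d⁻¹)]
  calc P.h (-d⁻¹) * P.w 1 * (P.w 1 * h) = P.h (-d⁻¹) * (P.w 1 * P.w 1) * h := by group
    _ = _ := by rw [P.w_sq]

end abstract

section

variable {F : Type*} [Field F]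

/-- conjugate into `H` -/
def QH (n : GL chevG2.Idx F) : Prop := ∃ g ∈ chevG2.group F, g * n * g⁻¹ ∈ chevG2.diagonalSubgroup F

theorem QH_of_conj (n g : GL chevG2.Idx F) (hg : g ∈ chevG2.group F) (h : QH (g * n * g⁻¹)) :
    QH n := by
  obtain ⟨g', hg', hm⟩ := h
  refine ⟨g' * g, Subgroup.mul_mem _ hg' hg, ?_⟩
  have : g' * g * n * (g' * g)⁻¹ = g' * (g * n * g⁻¹) * g'⁻¹ := by group
  rw [this]
  exact hm

theorem nW_single (i : ℕ) : (nW [i] : GL chevG2.Idx F) = nI i := by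
  rw [nW_cons, nW_nil, mul_one]

/-- an involution of `N` over a fundamental reflection is conjugate into `H` -/
theorem refl_case_aux [Finite F] (hodd : Odd (Nat.card F)) (i r ρ ρ' : ℕ) (hi : i < 2)
    (hr : r < 12) (hρ : ρ < 12) (hρ' : ρ' < 12) (hnI : (nI i : GL chevG2.Idx F) = (PP r hr).w 1)
    (hpos : chevG2.IsPosRoot r)
    (hw1 : wOf (BsG2.Bs.getD i 0) ρ = ρ') (hw2 : wOf (BsG2.Bs.getD i 0) ρ' = ρ)
    (hε : etaOf (BsG2.Bs.getD i 0) ρ * etaOf (BsG2.Bs.getD i 0) ρ' = -1)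
    (hχ : ∀ χ : ℕ → Fˣ, chevG2.IsRootCharacter χ → χ ρ = χ r * χ ρ')
    (n : GL chevG2.Idx F) (hTY : TY [i] n) (h2 : n * n = 1) : QH n := by
  obtain ⟨h, hh, rfl⟩ := hTY
  rw [nW_single] at h2 ⊢
  obtain ⟨χ, hχc, -, hact⟩ := diag_char h hh
  have hadd := allAdd_all (F := F) chevG2 memG
  -- the action of `n` on `X_ρ` and `X_ρ'`
  have eA : ∀ u : F, nI i * h * xx ρ u * (nI i * h)⁻¹ =
      xx ρ' (((etaOf (BsG2.Bs.getD i 0) ρ : ℤ) : F) * ((χ ρ : F) * u)) := by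
    intro u
    have := conjU DataG2.agrees hadd hi (HsG2.reflBs' i hi) ρ hρ ((χ ρ : F) * u)
    rw [hw1] at this
    calc nI i * h * xx ρ u * (nI i * h)⁻¹ = nI i * (h * xx ρ u * h⁻¹) * (nI i)⁻¹ := by group
      _ = _ := by rw [hact ρ hρ]; exact this
  have eB : ∀ u : F, nI i * h * xx ρ' u * (nI i * h)⁻¹ =
      xx ρ (((etaOf (BsG2.Bs.getD i 0) ρ' : ℤ) : F) * ((χ ρ' : F) * u)) := by
    intro u
    have := conjU DataG2.agrees hadd hi (HsG2.reflBs' i hi) ρ' hρ' ((χ ρ' : F) * u)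
    rw [hw2] at this
    calc nI i * h * xx ρ' u * (nI i * h)⁻¹ = nI i * (h * xx ρ' u * h⁻¹) * (nI i)⁻¹ := by group
      _ = _ := by rw [hact ρ' hρ']; exact this
  have e1 : (χ ρ : F) * (χ ρ' : F) = -1 := by
    have e : nI i * h * (nI i * h * xx ρ 1 * (nI i * h)⁻¹) * (nI i * h)⁻¹ = xx ρ 1 := by
      calc nI i * h * (nI i * h * xx ρ 1 * (nI i * h)⁻¹) * (nI i * h)⁻¹
          = (nI i * h * (nI i * h)) * xx ρ 1 * (nI i * h * (nI i * h))⁻¹ := by group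
        _ = xx ρ 1 := by rw [h2]; group
    rw [eA, eB] at e
    have e' := xx_injective ρ hρ _ _ e
    have hε' : ((etaOf (BsG2.Bs.getD i 0) ρ : ℤ) : F) * ((etaOf (BsG2.Bs.getD i 0) ρ' : ℤ) : F)
        = -1 := by
      rw [← Int.cast_mul, hε]; norm_num
    have : (((etaOf (BsG2.Bs.getD i 0) ρ : ℤ) : F) * ((etaOf (BsG2.Bs.getD i 0) ρ' : ℤ) : F)) *
        ((χ ρ : F) * (χ ρ' : F)) = 1 := by
      rw [← e']; ring
    rw [hε'] at this
    linear_combination -this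
  have e2 : (χ ρ : F) = (χ r : F) * (χ ρ' : F) := by
    rw [hχ χ hχc, Units.val_mul]
  have hc : (χ r : F) ≠ 0 := (χ r).ne_zero
  have hd2 : (χ ρ : F) ^ 2 = -(χ r : F) := by
    have h3 : (χ ρ' : F) = (χ ρ : F) * (χ r : F)⁻¹ := by
      rw [e2]; field_simp
    rw [h3] at e1
    field_simp at e1
    linear_combination e1
  have hyy : ∀ u, h * (PP r hr).y u * h⁻¹ = (PP r hr).y ((χ r : F)⁻¹ * u) := by
    intro u
    rw [PP_y, PP_y]
    have hq : chevG2.neg r < 12 := by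
      have := (DataG2.agrees).neg_lt r (by exact hr)
      rw [FD.neg_eq' DataG2.agrees r hr]
      exact this
    rw [hact _ hq, hχc.1 r hr, Units.val_inv_eq_inv_val]
  have key := refl_move (PP r hr) h (χ r : F) (χ ρ : F) hc hd2 hyy
  rw [← hnI] at key
  have hd : (χ ρ : F) ≠ 0 := (χ ρ).ne_zero
  set m : GL chevG2.Idx F := (PP r hr).h (-(χ ρ : F)⁻¹) * ((PP r hr).h (-1))⁻¹ * h with hm
  have hmH : m ∈ chevG2.diagonalSubgroup F := by
    apply Subgroup.mul_mem _ (Subgroup.mul_mem _ ?_ (Subgroup.inv_mem _ ?_)) hh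
    · exact PP_h_mem r hr _ (neg_ne_zero.2 (inv_ne_zero hd))
    · exact PP_h_mem r hr _ (neg_ne_zero.2 one_ne_zero)
  have hmN : m ∈ chevG2.monomialSubgroup F := (le_sup_left : chevG2.diagonalSubgroup F ≤ _) hmH
  have hvU : (PP r hr).x (χ ρ : F)⁻¹ ∈ chevG2.posUnipotent F := by
    apply Subgroup.subset_closure
    exact ⟨r, _, hpos, rfl⟩
  have hsq : (PP r hr).x (χ ρ : F)⁻¹ * m * ((PP r hr).x (χ ρ : F)⁻¹ * m) = 1 := by
    rw [← key]
    calc (PP r hr).y (χ ρ : F) * (nI i * h) * ((PP r hr).y (χ ρ : F))⁻¹ *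
          ((PP r hr).y (χ ρ : F) * (nI i * h) * ((PP r hr).y (χ ρ : F))⁻¹)
        = (PP r hr).y (χ ρ : F) * (nI i * h * (nI i * h)) * ((PP r hr).y (χ ρ : F))⁻¹ := by group
      _ = 1 := by rw [h2]; group
  obtain ⟨-, x, hx, hxe⟩ := invN_main chevG2 memG hodd _ m hvU hmN hsq
  refine ⟨x⁻¹ * (PP r hr).y (χ ρ : F), ?_, ?_⟩
  · apply Subgroup.mul_mem _ (Subgroup.inv_mem _ (hadd.posUnipotent_le hx))
    rw [PP_y]
    exact xx_mem_group _ _
  · have : x⁻¹ * (PP r hr).y (χ ρ : F) * (nI i * h) * (x⁻¹ * (PP r hr).y (χ ρ : F))⁻¹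
        = x⁻¹ * ((PP r hr).y (χ ρ : F) * (nI i * h) * ((PP r hr).y (χ ρ : F))⁻¹) * x := by group
    rw [this, key, ← hxe]
    have : x⁻¹ * (x * m * x⁻¹) * x = m := by group
    rw [this]
    exact hmH

end

end Cfsg.Agent.Lib.Helper5.Chev.G2O
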