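import Cfsg.Agent.Lib.Helper5.Chev.G2Odd4
import Mathlib

/-!
# `G₂` over a field of odd order: every involution of `N` is conjugate into `H` (helper5)
-/

set_option autoImplicit false
set_option maxRecDepth 100000

namespace Cfsg.Agent.Lib.Helper5.Chev.G2O

open Cfsg.Lie Cfsg.Agent.Lib.Helper5.Chev Cfsg.Agent.Lib.Helper5.SL2P
open scoped Matrix

theorem tbl0 : wOf (BsG2.Bs.getD 0 0) 9 = 8 ∧ wOf (BsG2.Bs.getD 0 0) 8 = 9 ∧
    etaOf (BsG2.Bs.getD 0 0) 9 * etaOf (BsG2.Bs.getD 0 0) 8 = -1 ∧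
    wOf (BsG2.Bs.getD 1 0) 11 = 10 ∧ wOf (BsG2.Bs.getD 1 0) 10 = 11 ∧
    etaOf (BsG2.Bs.getD 1 0) 11 * etaOf (BsG2.Bs.getD 1 0) 10 = -1 ∧
    chevG2.IsPosRoot 7 ∧ chevG2.IsPosRoot 6 := by decide +kernel

theorem tblw0 : wW BsG2.Bs w0G2 4 = 7 ∧ sgnW BsG2.Bs w0G2 4 = -1 ∧
    wW BsG2.Bs w0G2 5 = 6 ∧ sgnW BsG2.Bs w0G2 5 = -1 ∧
    wW BsG2.Bs w0G2 6 = 5 ∧ sgnW BsG2.Bs w0G2 6 = -1 ∧
    wW BsG2.Bs w0G2 7 = 4 ∧ sgnW BsG2.Bs w0G2 7 = -1 ∧ chevG2.cartan 1 7 = -1 := by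
  decide +kernel

theorem tblrot : wW BsG2.Bs ([0, 1] ++ [0, 1]) 7 ≠ 7 ∧ wW BsG2.Bs ([1, 0] ++ [1, 0]) 7 ≠ 7 ∧
    wW BsG2.Bs ([0, 1, 0, 1] ++ [0, 1, 0, 1]) 7 ≠ 7 ∧
    wW BsG2.Bs ([1, 0, 1, 0] ++ [1, 0, 1, 0]) 7 ≠ 7 := by decide +kernel

section

variable {F : Type*} [Field F]

theorem refl_case0 [Finite F] (hodd : Odd (Nat.card F)) (n : GL chevG2.Idx F) (hTY : TY [0] n)
    (h2 : n * n = 1) : QH n :=
  refl_case_aux hodd 0 7 9 8 (by decide) (by decide) (by decide) (by decide) nI_zero tbl0.2.2.2.2.2.2.1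
    tbl0.1 tbl0.2.1 tbl0.2.2.1 (fun χ hχ => (char_vals χ hχ).2.1) n hTY h2

theorem refl_case1 [Finite F] (hodd : Odd (Nat.card F)) (n : GL chevG2.Idx F) (hTY : TY [1] n)
    (h2 : n * n = 1) : QH n :=
  refl_case_aux hodd 1 6 11 10 (by decide) (by decide) (by decide) (by decide) nI_one
    tbl0.2.2.2.2.2.2.2 tbl0.2.2.2.1 tbl0.2.2.2.2.1 tbl0.2.2.2.2.2.1
    (fun χ hχ => (char_vals χ hχ).2.2.2.1) n hTY h2

theorem nI_sq_mem (i : ℕ) (hi : i < 2) :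
    (nI i * nI i : GL chevG2.Idx F) ∈ chevG2.diagonalSubgroup F := by
  have hi' : i < chevG2.rank := hi
  show nUi DataG2.agrees _ i * nUi DataG2.agrees _ i ∈ _
  rw [nUi_pos DataG2.agrees _ hi']
  exact nU_sq_mem _ _ _ _

theorem TY_conj (i : ℕ) (hi : i < 2) (L : List ℕ) (n : GL chevG2.Idx F)
    (hTY : TY (i :: (L ++ [i])) n) : TY L ((nI i)⁻¹ * n * nI i) := by
  obtain ⟨h, hh, rfl⟩ := hTY
  rw [nW_cons, nW_append, nW_single]
  exact ⟨(nI i * h * (nI i)⁻¹) * (nI i * nI i),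
    Subgroup.mul_mem _ (monomial_normalizes _ _ (nI_mem i) hh) (nI_sq_mem i hi), by group⟩

theorem sq_conj (n g : GL chevG2.Idx F) (h2 : n * n = 1) : g * n * g⁻¹ * (g * n * g⁻¹) = 1 := by
  calc g * n * g⁻¹ * (g * n * g⁻¹) = g * (n * n) * g⁻¹ := by group
    _ = 1 := by rw [h2]; group

theorem nI_mem_group (i : ℕ) : (nI i : GL chevG2.Idx F) ∈ chevG2.group F :=
  (allAdd_all (F := F) chevG2 memG).monomial_le (nI_mem i)

/-- reduction of the type by conjugation with `n_i` -/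
theorem QH_step (i : ℕ) (hi : i < 2) (L : List ℕ)
    (hrec : ∀ n : GL chevG2.Idx F, TY L n → n * n = 1 → QH n)
    (n : GL chevG2.Idx F) (hTY : TY (i :: (L ++ [i])) n) (h2 : n * n = 1) : QH n := by
  apply QH_of_conj n (nI i)⁻¹ (Subgroup.inv_mem _ (nI_mem_group i))
  have := hrec _ (TY_conj i hi L n hTY) (by
    have := sq_conj n (nI i)⁻¹ h2
    rwa [inv_inv] at this)
  rwa [inv_inv]

/-- the rotations of the Weyl group are not induced by involutions -/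
theorem rot_false (L : List ℕ) (hL : ∀ i ∈ L, i < 2) (hne : wW BsG2.Bs (L ++ L) 7 ≠ 7)
    (n : GL chevG2.Idx F) (hTY : TY L n) (h2 : n * n = 1) : False := by
  obtain ⟨h, hh, rfl⟩ := hTY
  obtain ⟨h1, h2'⟩ := cox_of_check DataG2.fd BsG2.Bs CxG2.mLL CxG2.cox
  have hk : (nW L)⁻¹ * h * nW L * h ∈ chevG2.diagonalSubgroup F := by
    apply Subgroup.mul_mem _ _ hh
    have := monomial_normalizes (nW L)⁻¹ h (Subgroup.inv_mem _ (nW_mem L)) hh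
    rwa [inv_inv] at this
  have e : nW (L ++ L) = ((nW L)⁻¹ * h * nW L * h)⁻¹ := by
    rw [eq_inv_iff_mul_eq_one, nW_append, ← h2]
    group
  have hmem : (nW [] : GL chevG2.Idx F)⁻¹ * nW (L ++ L) ∈ chevG2.diagonalSubgroup F := by
    rw [nW_nil, inv_one, one_mul, e]
    exact Subgroup.inv_mem _ hk
  have hLL : ∀ i ∈ L ++ L, i < 2 := by
    intro i hi
    rw [List.mem_append] at hi
    rcases hi with hi | hi <;> exact hL i hi
  have key := act_eq_of_inv_mul_mem (F := F) memG DataG2.agrees (allAdd_all chevG2 memG)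
    BsG2.Bs CxG2.mLL HsG2.reflBs' h1 h2' HsG2.hform [] (L ++ L)
    (fun x hx => by simp at hx) hLL hmem 7 (by decide)
  rw [act_eq_wW, act_eq_wW] at key
  exact hne key.symm

end

end Cfsg.Agent.Lib.Helper5.Chev.G2O
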