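import Cfsg.Agent.Lib.Helper5.Chev.G2Odd5
import Mathlib

/-!
# `G₂` over a field of odd order: involutions of `N` over the longest element (helper5)
-/

set_option autoImplicit false
set_option maxRecDepth 100000

namespace Cfsg.Agent.Lib.Helper5.Chev.G2O

open Cfsg.Lie Cfsg.Agent.Lib.Helper5.Chev Cfsg.Agent.Lib.Helper5.SL2P
open scoped Matrix

section

variable {F : Type*} [Field F]

/-- the action of `h_r(c)`, `r` fundamental, on the root elements -/
theorem PP_h_conj (i r : ℕ) (hi : i < 2) (hr : r < 12) (hsimp : chevG2.simple i = r) (s : ℕ)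
    (hs : s < 12) (c : F) (hc : c ≠ 0) (v : F) :
    (PP r hr).h c * xx s v * ((PP r hr).h c)⁻¹ = xx s (c ^ (chevG2.cartan i s) * v) := by
  rw [mul_inv_eq_iff_eq_mul]
  apply Units.ext
  rw [Units.val_mul, Units.val_mul, PP_h, AllAdd.wordU_val]
  have := Cfsg.Agent.S1032.result (F := F) chevG2 memG i s hi hs c hc v
  rw [hsimp] at this
  exact this

/-- an involution of `N` over the longest element is conjugate to one over a reflection -/
theorem w0_case [Finite F] (hodd : Odd (Nat.card F)) (n : GL chevG2.Idx F) (hTY : TY w0G2 n)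
    (h2 : n * n = 1) : ∃ g ∈ chevG2.group F, TY [1, 0, 1, 0, 1] (g * n * g⁻¹) := by
  obtain ⟨h, hh, rfl⟩ := hTY
  obtain ⟨χ, hχc, -, hact⟩ := diag_char h hh
  obtain ⟨a8, a9, a10, a11, a5, a4, a3, a2, a1, a0⟩ := char_vals χ hχc
  obtain ⟨t4, s4, t5, s5, t6, s6, t7, s7, hcar⟩ := tblw0
  obtain ⟨-, -, -, -, n6, n7, -, -, -, -⟩ := g2chain
  have hadd := allAdd_all (F := F) chevG2 memG
  have hw0 : ∀ i ∈ w0G2, i < 2 := by decide
  -- the action of `n`
  have nact : ∀ s < 12, ∀ u : F, nW w0G2 * h * xx s u * (nW w0G2 * h)⁻¹ =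
      xx (wW BsG2.Bs w0G2 s) (((sgnW BsG2.Bs w0G2 s : ℤ) : F) * ((χ s : F) * u)) := by
    intro s hs u
    calc nW w0G2 * h * xx s u * (nW w0G2 * h)⁻¹
        = nW w0G2 * (h * xx s u * h⁻¹) * (nW w0G2)⁻¹ := by group
      _ = _ := by rw [hact s hs]; exact (conj_word_sgn w0G2 hw0 s hs _).2
  have hη : -(χ 6 : F) ≠ 0 := neg_ne_zero.2 (χ 6).ne_zero
  have hx6 : ∀ u, nW w0G2 * h * (PP 6 (by decide)).x u * (nW w0G2 * h)⁻¹
      = (PP 6 (by decide)).y (-(χ 6 : F) * u) := by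
    intro u
    rw [PP_x, PP_y, n6, nact 6 (by decide), t6, s6]
    congr 1
    push_cast
    ring
  have hy6 : ∀ u, nW w0G2 * h * (PP 6 (by decide)).y u * (nW w0G2 * h)⁻¹
      = (PP 6 (by decide)).x ((-(χ 6 : F))⁻¹ * u) := by
    intro u
    rw [PP_x, PP_y, n6, nact 5 (by decide), t5, s5, a5, Units.val_inv_eq_inv_val]
    congr 1
    push_cast
    field_simp
  obtain ⟨φ, hrange, hφx, hφy⟩ := (PP (F := F) 6 (by decide)).exists_hom
  have hs0 : -(χ 7 : F)⁻¹ ≠ 0 := neg_ne_zero.2 (inv_ne_zero (χ 7).ne_zero)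
  obtain ⟨k, hk⟩ := torus_move hodd (PP 6 (by decide)) φ hφx hφy (nW w0G2 * h) (-(χ 6 : F)) hη
    hx6 hy6 (-(χ 7 : F)⁻¹) hs0
  have hφG : φ k ∈ chevG2.group F := by
    have : φ k ∈ φ.range := ⟨k, rfl⟩
    rw [hrange] at this
    revert this
    apply (Subgroup.closure_le _).2
    rintro _ (⟨t, rfl⟩ | ⟨t, rfl⟩)
    · exact xx_mem_group _ _
    · exact xx_mem_group _ _
  -- the rank one move for the root `a`
  have hy7 : ∀ u, (PP 6 (by decide)).h (-(χ 7 : F)⁻¹) * (nW w0G2 * h) * (PP 7 (by decide)).y u *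
      ((PP 6 (by decide)).h (-(χ 7 : F)⁻¹) * (nW w0G2 * h))⁻¹ = (PP 7 (by decide)).x (1 * u) := by
    intro u
    rw [PP_x, PP_y, n7]
    calc (PP 6 (by decide)).h (-(χ 7 : F)⁻¹) * (nW w0G2 * h) * xx 4 u *
          ((PP 6 (by decide)).h (-(χ 7 : F)⁻¹) * (nW w0G2 * h))⁻¹
        = (PP 6 (by decide)).h (-(χ 7 : F)⁻¹) * (nW w0G2 * h * xx 4 u * (nW w0G2 * h)⁻¹) *
            ((PP 6 (by decide)).h (-(χ 7 : F)⁻¹))⁻¹ := by group
      _ = _ := by
        rw [nact 4 (by decide), t4, s4,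
          PP_h_conj 1 6 (by decide) (by decide) simple_vals.2 7 (by decide) _ hs0, hcar, a4,
          Units.val_inv_eq_inv_val]
        congr 1
        have := (χ 7).ne_zero
        push_cast
        rw [zpow_neg_one]
        field_simp
  have key := rank_one_move (PP 7 (by decide))
    ((PP 6 (by decide)).h (-(χ 7 : F)⁻¹) * (nW w0G2 * h)) 1 1 one_ne_zero hy7 (by norm_num)
  set m : GL chevG2.Idx F := (PP 7 (by decide)).w (-(1 : F)⁻¹) *
    ((PP 6 (by decide)).h (-(χ 7 : F)⁻¹) * (nW w0G2 * h)) with hm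
  -- the type of `m`
  have hTYm : TY [1, 0, 1, 0, 1] m := by
    have e1 : (PP 7 (by decide)).w (-(1 : F)⁻¹) = (PP 7 (by decide)).h (-(1 : F)⁻¹) * nI 0 := by
      rw [(PP 7 (by decide)).w_eq, nI_zero]
    have e2 : (nW w0G2 : GL chevG2.Idx F) = nI 0 * nW [1, 0, 1, 0, 1] := by
      show nW [0, 1, 0, 1, 0, 1] = _
      rw [nW_cons]
    have hk1 : (PP 7 (by decide)).h (-(1 : F)⁻¹) *
        (nI 0 * (PP 6 (by decide)).h (-(χ 7 : F)⁻¹) * (nI 0)⁻¹) * (nI 0 * nI 0)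
          ∈ chevG2.diagonalSubgroup F := by
      apply Subgroup.mul_mem _ (Subgroup.mul_mem _ ?_ ?_) (nI_sq_mem 0 (by decide))
      · exact PP_h_mem 7 (by decide) _ (neg_ne_zero.2 (inv_ne_zero one_ne_zero))
      · exact monomial_normalizes _ _ (nI_mem 0) (PP_h_mem 6 (by decide) _ hs0)
    refine ⟨(nW [1, 0, 1, 0, 1])⁻¹ * ((PP 7 (by decide)).h (-(1 : F)⁻¹) *
        (nI 0 * (PP 6 (by decide)).h (-(χ 7 : F)⁻¹) * (nI 0)⁻¹) * (nI 0 * nI 0)) *
          nW [1, 0, 1, 0, 1] * h, Subgroup.mul_mem _ ?_ hh, ?_⟩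
    · have := monomial_normalizes (nW [1, 0, 1, 0, 1])⁻¹ _
        (Subgroup.inv_mem _ (nW_mem [1, 0, 1, 0, 1])) hk1
      rwa [inv_inv] at this
    · rw [hm, e1, e2]
      group
  have hmN : m ∈ chevG2.monomialSubgroup F := by
    obtain ⟨h', hh', e⟩ := hTYm
    rw [e]
    exact Subgroup.mul_mem _ (nW_mem _) ((le_sup_left : chevG2.diagonalSubgroup F ≤ _) hh')
  have hvU : (PP 7 (by decide)).x (1 : F)⁻¹ ∈ chevG2.posUnipotent F := by
    apply Subgroup.subset_closure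
    exact ⟨7, _, tbl0.2.2.2.2.2.2.1, rfl⟩
  have hsq : (PP 7 (by decide)).x (1 : F)⁻¹ * m * ((PP 7 (by decide)).x (1 : F)⁻¹ * m) = 1 := by
    rw [← key, ← hk]
    apply sq_conj
    apply sq_conj
    exact h2
  obtain ⟨-, x, hx, hxe⟩ := invN_main chevG2 memG hodd _ m hvU hmN hsq
  refine ⟨x⁻¹ * (PP 7 (by decide)).y (1 : F) * φ k, ?_, ?_⟩
  · apply Subgroup.mul_mem _ (Subgroup.mul_mem _ (Subgroup.inv_mem _ (hadd.posUnipotent_le hx)) ?_)
      hφG
    rw [PP_y]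
    exact xx_mem_group _ _
  · have : x⁻¹ * (PP 7 (by decide)).y (1 : F) * φ k * (nW w0G2 * h) *
        (x⁻¹ * (PP 7 (by decide)).y (1 : F) * φ k)⁻¹
        = x⁻¹ * ((PP 7 (by decide)).y (1 : F) * (φ k * (nW w0G2 * h) * (φ k)⁻¹) *
            ((PP 7 (by decide)).y (1 : F))⁻¹) * x := by group
    rw [this, hk, key, ← hxe]
    have : x⁻¹ * (x * m * x⁻¹) * x = m := by group
    rw [this]
    exact hTYm

end

end Cfsg.Agent.Lib.Helper5.Chev.G2O
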