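import Cfsg.Agent.Lib.Helper5.Chev.G2Odd6
import Mathlib

/-!
# `G₂` over a field of odd order: all involutions are conjugate (helper5)
-/

set_option autoImplicit false
set_option maxRecDepth 100000

namespace Cfsg.Agent.Lib.Helper5.Chev.G2O

open Cfsg.Lie Cfsg.Agent.Lib.Helper5.Chev Cfsg.Agent.Lib.Helper5.SL2P
open scoped Matrix

section

variable {F : Type*} [Field F]

/-- every involution of `N` is conjugate into `H` -/
theorem invol_N_conj [Finite F] (hodd : Odd (Nat.card F)) (n : GL chevG2.Idx F)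
    (hn : n ∈ chevG2.monomialSubgroup F) (h2 : n * n = 1) : QH n := by
  have q0 := refl_case0 (F := F) hodd
  have q1 := refl_case1 (F := F) hodd
  have q010 : ∀ n : GL chevG2.Idx F, TY [0, 1, 0] n → n * n = 1 → QH n :=
    QH_step 0 (by decide) [1] q1
  have q101 : ∀ n : GL chevG2.Idx F, TY [1, 0, 1] n → n * n = 1 → QH n :=
    QH_step 1 (by decide) [0] q0
  have q01010 : ∀ n : GL chevG2.Idx F, TY [0, 1, 0, 1, 0] n → n * n = 1 → QH n :=
    QH_step 0 (by decide) [1, 0, 1] q101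
  have q10101 : ∀ n : GL chevG2.Idx F, TY [1, 0, 1, 0, 1] n → n * n = 1 → QH n :=
    QH_step 1 (by decide) [0, 1, 0] q010
  obtain ⟨L, hL, hTY⟩ := exists_type n hn
  simp only [canon, List.mem_cons, List.not_mem_nil, or_false] at hL
  rcases hL with rfl | rfl | rfl | rfl | rfl | rfl | rfl | rfl | rfl | rfl | rfl | rfl
  · obtain ⟨h, hh, rfl⟩ := hTY
    refine ⟨1, Subgroup.one_mem _, ?_⟩
    rw [nW_nil, one_mul, one_mul, inv_one, mul_one]
    exact hh
  · exact q0 n hTY h2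
  · exact q1 n hTY h2
  · exact (rot_false [0, 1] (by decide) tblrot.1 n hTY h2).elim
  · exact (rot_false [1, 0] (by decide) tblrot.2.1 n hTY h2).elim
  · exact q010 n hTY h2
  · exact q101 n hTY h2
  · exact (rot_false [0, 1, 0, 1] (by decide) tblrot.2.2.1 n hTY h2).elim
  · exact (rot_false [1, 0, 1, 0] (by decide) tblrot.2.2.2 n hTY h2).elim
  · exact q01010 n hTY h2
  · exact q10101 n hTY h2
  · obtain ⟨g, hg, hTY'⟩ := w0_case hodd n hTY h2
    exact QH_of_conj n g hg (q10101 _ hTY' (sq_conj n g h2))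

/-- every involution of the group is conjugate to an involution of `H` -/
theorem invol_conj_diag [Finite F] (hodd : Odd (Nat.card F)) (t : GL chevG2.Idx F)
    (ht : t ∈ chevG2.group F) (h2 : t * t = 1) :
    ∃ g ∈ chevG2.group F, g * t * g⁻¹ ∈ chevG2.diagonalSubgroup F := by
  obtain ⟨g, hg, n, hn, hn2, e⟩ := invN_conj chevG2 memG hodd t ht h2
  obtain ⟨g', hg', hm⟩ := invol_N_conj hodd n hn hn2
  refine ⟨g' * g, Subgroup.mul_mem _ hg' hg, ?_⟩
  have : g' * g * t * (g' * g)⁻¹ = g' * (g * t * g⁻¹) * g'⁻¹ := by group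
  rw [this, e]
  exact hm

/-- any two involutions of `G₂(q)`, `q` odd, are conjugate -/
theorem invol_conj [Finite F] (hodd : Odd (Nat.card F)) (s t : GL chevG2.Idx F)
    (hs : s ∈ chevG2.group F) (ht : t ∈ chevG2.group F) (hs2 : s * s = 1) (ht2 : t * t = 1)
    (hs1 : s ≠ 1) (ht1 : t ≠ 1) : ∃ g ∈ chevG2.group F, g * s * g⁻¹ = t := by
  have hadd := allAdd_all (F := F) chevG2 memG
  obtain ⟨g, hg, hm⟩ := invol_conj_diag hodd s hs hs2
  obtain ⟨g', hg', hm'⟩ := invol_conj_diag hodd t ht ht2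
  have hne : g * s * g⁻¹ ≠ 1 := by
    intro e
    apply hs1
    calc s = g⁻¹ * (g * s * g⁻¹) * g := by group
      _ = 1 := by rw [e]; group
  have hne' : g' * t * g'⁻¹ ≠ 1 := by
    intro e
    apply ht1
    calc t = g'⁻¹ * (g' * t * g'⁻¹) * g' := by group
      _ = 1 := by rw [e]; group
  obtain ⟨n, hn, e⟩ := invol_diag_conj _ _ hm hm' (sq_conj s g hs2) (sq_conj t g' ht2) hne hne'
  refine ⟨g'⁻¹ * n * g, Subgroup.mul_mem _ (Subgroup.mul_mem _ (Subgroup.inv_mem _ hg')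
    (hadd.monomial_le hn)) hg, ?_⟩
  calc g'⁻¹ * n * g * s * (g'⁻¹ * n * g)⁻¹ = g'⁻¹ * (n * (g * s * g⁻¹) * n⁻¹) * g' := by group
    _ = t := by rw [e]; group

end

end Cfsg.Agent.Lib.Helper5.Chev.G2O
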