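import Cfsg.Agent.Lib.Helper5.Chev.UNorm
import Cfsg.Agent.Lib.Helper5.Chev.HAll
import Cfsg.Agent.Lib.Helper5.Chev.TriAll
import Mathlib

/-!
# Table checks for the centraliser of the unipotent radical of a parabolic subgroup (helper5)
-/

set_option autoImplicit false
set_option maxRecDepth 100000

namespace Cfsg.Agent.Lib.Helper5.Chev

open Cfsg.Lie

/-- for `i ≠ j`: a positive root `r` with the fundamental root `i` in its support, moved by the
reflection `w_j`, such that `r + p_j` is a root -/
structure WitOK (T : FD) (D : ChevalleyDatum) : Prop where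
  wit : ∀ i < D.rank, ∀ j < D.rank, i ≠ j → ∃ r k, D.nroots / 2 ≤ r ∧ r < D.nroots ∧
    (T.corootL r).getD i 0 ≠ 0 ∧ T.reflect j r ≠ r ∧ T.chainRoot (T.simple j) r 1 = some k ∧
    D.nroots / 2 ≤ k ∧ k < D.nroots ∧ (T.corootL k).getD i 0 ≠ 0

/-- the test of a candidate `r` -/
def witTest (T : FD) (n h i j r : ℕ) : Bool :=
  !zbeq ((T.corootL r).getD i 0) 0 && !Nat.beq (T.reflect j r) r &&
    (match T.chainRoot (T.simple j) r 1 with
     | some k => Nat.ble h k && Nat.blt k n && !zbeq ((T.corootL k).getD i 0) 0
     | none => false)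

/-- the boolean check -/
def witb (T : FD) : Bool :=
  forceNat T.rank fun l => forceNat T.nroots fun n => forceNat (Nat.div n 2) fun h =>
    allBelow l fun i => allBelow l fun j => Nat.beq i j ||
      (List.range' h h).any fun r => witTest T n h i j r

theorem witOK_of_check {T : FD} {D : ChevalleyDatum} (hA : T.Agrees D) (h : witb T = true) :
    WitOK T D := by
  unfold witb at h
  rw [forceNat_eq, forceNat_eq, forceNat_eq, hA.nroots_eq, hA.rank_eq] at h
  have e : D.nroots.div 2 = D.nroots / 2 := rfl
  rw [e] at h
  refine ⟨?_⟩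
  intro i hi j hj hij
  have h1 := allBelow_spec _ _ (allBelow_spec _ _ h i hi) j hj
  rw [Bool.or_eq_true, FD.nbeq, List.any_eq_true] at h1
  rcases h1 with h1 | ⟨r, hr, h1⟩
  · exact absurd h1 hij
  · rw [List.mem_range'_1] at hr
    unfold witTest at h1
    rw [Bool.and_eq_true, Bool.and_eq_true, Bool.not_eq_true', Bool.not_eq_true'] at h1
    obtain ⟨⟨h2, h3⟩, h4⟩ := h1
    cases hk : T.chainRoot (T.simple j) r 1 with
    | none => rw [hk] at h4; exact absurd h4 (by simp)
    | some k =>
      rw [hk] at h4
      simp only [Bool.and_eq_true, Nat.ble_eq, Nat.blt_eq, Bool.not_eq_true'] at h4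
      refine ⟨r, k, hr.1, by omega, ?_, ?_, hk, h4.1.1, h4.1.2, ?_⟩
      · intro h0
        rw [h0] at h2
        simp [zbeq] at h2
      · intro h0
        rw [h0] at h3
        have : Nat.beq r r = true := FD.nbeq.2 rfl
        rw [this] at h3
        exact absurd h3 (by simp)
      · intro h0
        have := h4.2
        rw [h0] at this
        simp [zbeq] at this

/-- every positive root is fundamental or a positive root plus a fundamental root -/
structure GenOK (T : FD) (D : ChevalleyDatum) : Prop where
  gen : ∀ r < D.nroots, D.nroots / 2 ≤ r → ∃ j < D.rank, T.simple j = r ∨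
    ∃ s, D.nroots / 2 ≤ s ∧ s < r ∧ T.chainRoot (T.simple j) s 1 = some r

/-- the test of a candidate -/
def genTest (T : FD) (j r s : ℕ) : Bool :=
  match T.chainRoot (T.simple j) s 1 with
  | some k => Nat.beq k r
  | none => false

/-- the boolean check -/
def genb (T : FD) : Bool :=
  forceNat T.rank fun l => forceNat T.nroots fun n => forceNat (Nat.div n 2) fun h =>
    allBelow n fun r => Nat.blt r h ||
      (List.range l).any fun j => Nat.beq (T.simple j) r ||
        (List.range' h (Nat.sub r h)).any fun s => genTest T j r s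

theorem genOK_of_check {T : FD} {D : ChevalleyDatum} (hA : T.Agrees D) (h : genb T = true) :
    GenOK T D := by
  unfold genb at h
  rw [forceNat_eq, forceNat_eq, forceNat_eq, hA.nroots_eq, hA.rank_eq] at h
  have e : D.nroots.div 2 = D.nroots / 2 := rfl
  rw [e] at h
  refine ⟨?_⟩
  intro r hr hle
  have h1 := allBelow_spec _ _ h r hr
  rw [Bool.or_eq_true, Nat.blt_eq, List.any_eq_true] at h1
  rcases h1 with h1 | ⟨j, hj, h1⟩
  · omega
  · rw [List.mem_range] at hj
    refine ⟨j, hj, ?_⟩
    rw [Bool.or_eq_true, FD.nbeq, List.any_eq_true] at h1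
    rcases h1 with h1 | ⟨s, hs, h1⟩
    · exact Or.inl h1
    · right
      rw [List.mem_range'_1] at hs
      have e2 : Nat.sub r (D.nroots / 2) = r - D.nroots / 2 := rfl
      rw [e2] at hs
      unfold genTest at h1
      cases hk : T.chainRoot (T.simple j) s 1 with
      | none => rw [hk] at h1; exact absurd h1 (by simp)
      | some k =>
        rw [hk] at h1
        simp only [FD.nbeq] at h1
        exact ⟨s, hs.1, by omega, by rw [hk, h1]⟩

theorem ufok2G2 : ufok2b DataG2.fd = true := by decide +kernel
theorem ufok2B2 : ufok2b DataB2.fd = true := by decide +kernel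
theorem ufok2D4 : ufok2b DataD4.fd = true := by decide +kernel
theorem ufok2F4 : ufok2b DataF4.fd = true := by decide +kernel
theorem ufok2E6 : ufok2b DataE6.fd = true := by decide +kernel
theorem ufok2E7 : ufok2b DataE7.fd = true := by decide +kernel
theorem ufok2E8 : ufok2b DataE8.fd = true := by decide +kernel

theorem witG2 : witb DataG2.fd = true := by decide +kernel
theorem witB2 : witb DataB2.fd = true := by decide +kernel
theorem witD4 : witb DataD4.fd = true := by decide +kernel
theorem witF4 : witb DataF4.fd = true := by decide +kernel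
theorem witE6 : witb DataE6.fd = true := by decide +kernel
theorem witE7 : witb DataE7.fd = true := by decide +kernel
theorem witE8 : witb DataE8.fd = true := by decide +kernel

theorem genG2 : genb DataG2.fd = true := by decide +kernel
theorem genB2 : genb DataB2.fd = true := by decide +kernel
theorem genD4 : genb DataD4.fd = true := by decide +kernel
theorem genF4 : genb DataF4.fd = true := by decide +kernel
theorem genE6 : genb DataE6.fd = true := by decide +kernel
theorem genE7 : genb DataE7.fd = true := by decide +kernel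
theorem genE8 : genb DataE8.fd = true := by decide +kernel

/-- all the table facts used for the centraliser of the unipotent radical -/
theorem unorm_known (D : ChevalleyDatum)
    (hD : D ∈ [chevG2, chevB2, chevD4, chevF4, chevE6, chevE7, chevE8]) :
    ∃ (T : FD) (Bs : List ℕ), T.Agrees D ∧ UFOK T D ∧ UFOK2 T D ∧
      (∀ r < D.nroots, TriOK T D r) ∧ (∀ i < D.rank, ReflChecks T D i (Bs.getD i 0)) ∧
      WitOK T D ∧ GenOK T D := by
  simp only [List.mem_cons, List.not_mem_nil, or_false] at hD
  rcases hD with rfl | rfl | rfl | rfl | rfl | rfl | rfl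
  · exact ⟨_, _, DataG2.agrees, UfG2.ufok, ufok2_of_check DataG2.agrees ufok2G2, TrG2.triOK,
      HsG2.reflBs', witOK_of_check DataG2.agrees witG2, genOK_of_check DataG2.agrees genG2⟩
  · exact ⟨_, _, DataB2.agrees, UfB2.ufok, ufok2_of_check DataB2.agrees ufok2B2, TrB2.triOK,
      HsB2.reflBs', witOK_of_check DataB2.agrees witB2, genOK_of_check DataB2.agrees genB2⟩
  · exact ⟨_, _, DataD4.agrees, UfD4.ufok, ufok2_of_check DataD4.agrees ufok2D4, TrD4.triOK,
      HsD4.reflBs', witOK_of_check DataD4.agrees witD4, genOK_of_check DataD4.agrees genD4⟩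
  · exact ⟨_, _, DataF4.agrees, UfF4.ufok, ufok2_of_check DataF4.agrees ufok2F4, TrF4.triOK,
      HsF4.reflBs', witOK_of_check DataF4.agrees witF4, genOK_of_check DataF4.agrees genF4⟩
  · exact ⟨_, _, DataE6.agrees, UfE6.ufok, ufok2_of_check DataE6.agrees ufok2E6, TrE6.triOK,
      HsE6.reflBs', witOK_of_check DataE6.agrees witE6, genOK_of_check DataE6.agrees genE6⟩
  · exact ⟨_, _, DataE7.agrees, UfE7.ufok, ufok2_of_check DataE7.agrees ufok2E7, TrE7.triOK,
      HsE7.reflBs', witOK_of_check DataE7.agrees witE7, genOK_of_check DataE7.agrees genE7⟩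
  · exact ⟨_, _, DataE8.agrees, UfE8.ufok, ufok2_of_check DataE8.agrees ufok2E8, TrE8.triOK,
      HsE8.reflBs', witOK_of_check DataE8.agrees witE8, genOK_of_check DataE8.agrees genE8⟩

end Cfsg.Agent.Lib.Helper5.Chev
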