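import Cfsg.Agent.Lib.Helper5.Chev.RootCentAll
import Cfsg.Agent.Lib.Helper5.Chev.UNormData
import Mathlib

/-!
# The centraliser of a short root element of `G₂` in characteristic two: preparations (helper5)
-/

set_option autoImplicit false
set_option maxRecDepth 100000

namespace Cfsg.Agent.Lib.Helper5.Chev.G2S

open Cfsg.Lie Cfsg.Agent.Lib.Helper5.Chev
open scoped Matrix Pointwise

theorem memG2 : chevG2 ∈ [chevG2, chevB2, chevD4, chevF4, chevE6, chevE7, chevE8] := by simp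

section general

variable {F : Type*} [Field F] {T : FD} {D : ChevalleyDatum}

/-- the elements of a term of the filtration -/
theorem mem_UF_succ (hA : T.Agrees D) (hadd : AllAdd F D) (hok : UFOK T D)
    (htri : ∀ r < D.nroots, TriOK T D r)
    (hcomm : ∀ r < D.nroots, ∀ s < D.nroots, CommOK' F D r s)
    (k : ℕ) (hk : k < D.nroots) (hle : D.nroots / 2 ≤ k) (y : GL D.Idx F)
    (hy : y ∈ UF F D k) : ∃ a : F, ∃ y' ∈ UF F D (k + 1), y = hadd.xU k a * y' := by
  rw [UF_succ hok k hk hle] at hy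
  have hn := rootSubgroup_le_normalizer_UF hA hadd hok htri hcomm k hk hle
  have h1 : y ∈ ((D.rootSubgroup F k ⊔ UF F D (k + 1) : Subgroup (GL D.Idx F)) :
      Set (GL D.Idx F)) := hy
  rw [Subgroup.coe_mul_of_left_le_normalizer_right _ _ hn, Set.mem_mul] at h1
  obtain ⟨x, hx, y', hy', rfl⟩ := h1
  obtain ⟨a, rfl⟩ := (mem_rootSubgroup_iff hadd k x).1 hx
  exact ⟨a, y', hy', rfl⟩

/-- a root element in the next term of the filtration is trivial -/
theorem eq_zero_of_mem_UF (hA : T.Agrees D) (hadd : AllAdd F D) (hok : UFOK T D)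
    (htri : ∀ r < D.nroots, TriOK T D r) (hcor : ∀ s < D.nroots, CorInj F D s)
    (hinj : ∀ s < D.nroots, XInj F D s)
    (k : ℕ) (hk : k < D.nroots) (hle : D.nroots / 2 ≤ k) (a : F)
    (h : hadd.xU k a ∈ UF F D (k + 1)) : a = 0 := by
  have h1 : hadd.xU k a ∈ D.rootSubgroup F k ⊓ UF F D (k + 1) :=
    ⟨xU_mem_rootSubgroup hadd k a, h⟩
  rw [rootSubgroup_inf_UF hA hadd hok htri hcor k hk hle, Subgroup.mem_bot] at h1
  exact hinj k hk a (by rw [← hadd.xU_val, h1]; rfl)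

end general

/-! ### the data of `G₂` -/

/-- the orbit of the triple `(9, 10, 11)` under the Weyl group -/
def orb : List (ℕ × ℕ × ℕ) :=
  [(9, 10, 11), (8, 6, 11), (9, 11, 10), (7, 5, 10), (8, 11, 6), (4, 1, 6), (7, 10, 5), (3, 0, 5),
    (4, 6, 1), (2, 0, 1), (3, 5, 0), (2, 1, 0)]

theorem orb_closed : ∀ p ∈ orb, ∀ i ∈ [0, 1],
    (wOf (BsG2.Bs.getD i 0) p.1, wOf (BsG2.Bs.getD i 0) p.2.1, wOf (BsG2.Bs.getD i 0) p.2.2)
      ∈ orb := by
  decide +kernel

theorem mem_orb (L : List ℕ) (hL : ∀ i ∈ L, i < chevG2.rank) :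
    (wW BsG2.Bs L 9, wW BsG2.Bs L 10, wW BsG2.Bs L 11) ∈ orb := by
  induction L with
  | nil => decide
  | cons i L ih =>
    have hi : i < 2 := hL i List.mem_cons_self
    have ih' := ih (fun j hj => hL j (List.mem_cons_of_mem _ hj))
    have hi' : i ∈ [0, 1] := by
      interval_cases i <;> simp
    exact orb_closed _ ih' i hi'

/-- the triples up to the order of the long roots -/
theorem orb_cases (p : ℕ × ℕ × ℕ) (hp : p ∈ orb) :
    p ∈ [(9, 10, 11), (8, 6, 11), (7, 5, 10), (4, 1, 6), (3, 0, 5), (2, 0, 1)] ∨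
    (p.1, p.2.2, p.2.1) ∈ [(9, 10, 11), (8, 6, 11), (7, 5, 10), (4, 1, 6), (3, 0, 5), (2, 0, 1)] := by
  revert p
  decide

section g2

variable {F : Type*} [Field F]

theorem pos_of_le (r : ℕ) (hr : r < 12) (hle : 6 ≤ r) : chevG2.IsPosRoot r :=
  UfG2.ufok.pos_of_le r hr hle

theorem xU_mem_UF' (hadd : AllAdd F chevG2) (k r : ℕ) (hr : r < 12) (hk : k ≤ r) (hle : 6 ≤ r)
    (a : F) : hadd.xU r a ∈ UF F chevG2 k :=
  xU_mem_UF hadd k r (pos_of_le r hr hle) hk a

theorem UF_le_pos (k : ℕ) (hk : 6 ≤ k) : UF F chevG2 k ≤ chevG2.posUnipotent F := by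
  rw [← UF_half (F := F) TrG2.triOK DataG2.agrees]
  exact UF_anti hk

theorem xU_mem_neg (hadd : AllAdd F chevG2) (r : ℕ) (hr : r < 6) (a : F) :
    hadd.xU r a ∈ chevG2.negUnipotent F :=
  Subgroup.subset_closure ⟨r, a, neg_of_lt_half chevG2 memG2 r (by
    have : chevG2.nroots = 12 := rfl
    omega) hr, rfl⟩

theorem eq_one_of_pos_neg (x : GL chevG2.Idx F) (h1 : x ∈ chevG2.posUnipotent F)
    (h2 : x ∈ chevG2.negUnipotent F) : x = 1 := by
  have h3 : x ∈ chevG2.borelSubgroup F ⊓ chevG2.negUnipotent F :=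
    ⟨(le_sup_left : chevG2.posUnipotent F ≤ chevG2.borelSubgroup F) h1, h2⟩
  rw [(borel_inf_neg_all (F := F) chevG2 memG2).1, Subgroup.mem_bot] at h3
  exact h3

theorem eq_zero_of_mem (hadd : AllAdd F chevG2) (k : ℕ) (hk : k < 12) (hle : 6 ≤ k) (a : F)
    (h : hadd.xU k a ∈ UF F chevG2 (k + 1)) : a = 0 :=
  eq_zero_of_mem_UF DataG2.agrees hadd UfG2.ufok TrG2.triOK (corInj_all chevG2 memG2)
    (xInj_all chevG2 memG2) k hk hle a h

theorem xU_zero (hadd : AllAdd F chevG2) (r : ℕ) : hadd.xU r (0 : F) = 1 :=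
  Units.ext (x_zero r)

/-- the main step: only the Weyl group elements fixing the root `2a + b` occur -/
theorem center_core (hadd : AllAdd F chevG2) (r9 r10 r11 : ℕ)
    (hp : (r9, r10, r11) ∈ [(9, 10, 11), (8, 6, 11), (7, 5, 10), (4, 1, 6), (3, 0, 5), (2, 0, 1)])
    (e c d : F) (he : e ≠ 0)
    (hP : hadd.xU r9 e * (hadd.xU r10 c * hadd.xU r11 d) ∈ UF F chevG2 9)
    (hne : hadd.xU r9 e * (hadd.xU r10 c * hadd.xU r11 d) ≠ 1) : r9 = 9 := by
  simp only [List.mem_cons, List.not_mem_nil, or_false, Prod.mk.injEq] at hp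
  rcases hp with ⟨rfl, rfl, rfl⟩ | ⟨rfl, rfl, rfl⟩ | ⟨rfl, rfl, rfl⟩ | ⟨rfl, rfl, rfl⟩ |
    ⟨rfl, rfl, rfl⟩ | ⟨rfl, rfl, rfl⟩
  · rfl
  · exfalso
    have h1 : hadd.xU 6 c ∈ UF F chevG2 7 := by
      have e1 : hadd.xU 6 c = (hadd.xU 8 e)⁻¹ * (hadd.xU 8 e * (hadd.xU 6 c * hadd.xU 11 d)) *
          (hadd.xU 11 d)⁻¹ := by group
      rw [e1]
      exact Subgroup.mul_mem _ (Subgroup.mul_mem _
        (Subgroup.inv_mem _ (xU_mem_UF' hadd 7 8 (by norm_num) (by norm_num) (by norm_num) e))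
        (UF_anti (by norm_num : 7 ≤ 9) hP))
        (Subgroup.inv_mem _ (xU_mem_UF' hadd 7 11 (by norm_num) (by norm_num) (by norm_num) d))
    have hc := eq_zero_of_mem hadd 6 (by norm_num) (by norm_num) c h1
    rw [hc, xU_zero, one_mul] at hP
    have h2 : hadd.xU 8 e ∈ UF F chevG2 9 := by
      have e1 : hadd.xU 8 e = (hadd.xU 8 e * hadd.xU 11 d) * (hadd.xU 11 d)⁻¹ := by group
      rw [e1]
      exact Subgroup.mul_mem _ hP
        (Subgroup.inv_mem _ (xU_mem_UF' hadd 9 11 (by norm_num) (by norm_num) (by norm_num) d))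
    exact he (eq_zero_of_mem hadd 8 (by norm_num) (by norm_num) e h2)
  · exfalso
    have hPU := UF_le_pos (F := F) 9 (by norm_num) hP
    have h1 : hadd.xU 5 c = 1 := by
      apply eq_one_of_pos_neg _ _ (xU_mem_neg hadd 5 (by norm_num) c)
      have e1 : hadd.xU 5 c = (hadd.xU 7 e)⁻¹ * (hadd.xU 7 e * (hadd.xU 5 c * hadd.xU 10 d)) *
          (hadd.xU 10 d)⁻¹ := by group
      rw [e1]
      exact Subgroup.mul_mem _ (Subgroup.mul_mem _
        (Subgroup.inv_mem _ (UF_le_pos 7 (by norm_num)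
          (xU_mem_UF' hadd 7 7 (by norm_num) (by norm_num) (by norm_num) e))) hPU)
        (Subgroup.inv_mem _ (UF_le_pos 10 (by norm_num)
          (xU_mem_UF' hadd 10 10 (by norm_num) (by norm_num) (by norm_num) d)))
    rw [h1, one_mul] at hP
    have h2 : hadd.xU 7 e ∈ UF F chevG2 8 := by
      have e1 : hadd.xU 7 e = (hadd.xU 7 e * hadd.xU 10 d) * (hadd.xU 10 d)⁻¹ := by group
      rw [e1]
      exact Subgroup.mul_mem _ (UF_anti (by norm_num : 8 ≤ 9) hP)
        (Subgroup.inv_mem _ (xU_mem_UF' hadd 8 10 (by norm_num) (by norm_num) (by norm_num) d))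
    exact he (eq_zero_of_mem hadd 7 (by norm_num) (by norm_num) e h2)
  · exfalso
    have hPU := UF_le_pos (F := F) 9 (by norm_num) hP
    have h1 : hadd.xU 4 e * hadd.xU 1 c = 1 := by
      apply eq_one_of_pos_neg
      · have e1 : hadd.xU 4 e * hadd.xU 1 c = (hadd.xU 4 e * (hadd.xU 1 c * hadd.xU 6 d)) *
            (hadd.xU 6 d)⁻¹ := by group
        rw [e1]
        exact Subgroup.mul_mem _ hPU (Subgroup.inv_mem _ (UF_le_pos 6 (by norm_num)
          (xU_mem_UF' hadd 6 6 (by norm_num) (by norm_num) (by norm_num) d)))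
      · exact Subgroup.mul_mem _ (xU_mem_neg hadd 4 (by norm_num) e)
          (xU_mem_neg hadd 1 (by norm_num) c)
    have h2 : hadd.xU 4 e = hadd.xU 1 (-c) := by
      rw [← xU_inv hadd 1 c]
      exact eq_inv_of_mul_eq_one_left h1
    have := root_eq_of_xU_eq chevG2 memG2 4 1 (by decide) (by decide) e (-c) h2 he
    omega
  · exfalso
    apply hne
    apply eq_one_of_pos_neg _ (UF_le_pos (F := F) 9 (by norm_num) hP)
    exact Subgroup.mul_mem _ (xU_mem_neg hadd 3 (by norm_num) e)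
      (Subgroup.mul_mem _ (xU_mem_neg hadd 0 (by norm_num) c) (xU_mem_neg hadd 5 (by norm_num) d))
  · exfalso
    apply hne
    apply eq_one_of_pos_neg _ (UF_le_pos (F := F) 9 (by norm_num) hP)
    exact Subgroup.mul_mem _ (xU_mem_neg hadd 2 (by norm_num) e)
      (Subgroup.mul_mem _ (xU_mem_neg hadd 0 (by norm_num) c) (xU_mem_neg hadd 1 (by norm_num) d))

end g2

end Cfsg.Agent.Lib.Helper5.Chev.G2S
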