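import Cfsg.Agent.Lib.Helper5.Chev.G2Short
import Mathlib

/-!
# The centraliser of a short root element of `G₂` in characteristic two: auxiliary lemmas (helper5)
-/

set_option autoImplicit false
set_option maxRecDepth 100000

namespace Cfsg.Agent.Lib.Helper5.Chev.G2S

open Cfsg.Lie Cfsg.Agent.Lib.Helper5.Chev
open scoped Matrix Pointwise

section

variable {F : Type*} [Field F]

/-- the subgroup `⟨X_b, X_{-b}⟩` -/
def SB (F : Type*) [Field F] : Subgroup (GL chevG2.Idx F) :=
  Subgroup.closure {g : GL chevG2.Idx F | ∃ (r : ℕ) (t : F), (r = 6 ∨ r = 5) ∧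
    (g : Matrix chevG2.Idx chevG2.Idx F) = chevG2.x F r t}

theorem xU_mem_SB (hadd : AllAdd F chevG2) (r : ℕ) (hr : r = 6 ∨ r = 5) (a : F) :
    hadd.xU r a ∈ SB F :=
  Subgroup.subset_closure ⟨r, a, hr, rfl⟩

/-- root elements commute when the commutator formula has no terms -/
theorem commute_of_nil [CharP F 2] (hadd : AllAdd F chevG2) (r s : ℕ) (hr : r < 12) (hs : s < 12)
    (hne : s ≠ r) (hneg : s ≠ DataG2.fd.neg r) (hnil : DataG2.fd.commTerms r s = []) (t u : F) :
    hadd.xU s u * hadd.xU r t = hadd.xU r t * hadd.xU s u := by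
  have hc : CommOK F chevG2 r s := by
    rcases comm_known (F := F) chevG2 memG2 r hr s hs with h | h | h
    · exact absurd h hne
    · rw [FD.neg_eq' DataG2.agrees r hr] at h
      exact absurd h hneg
    · exact h
  apply Units.ext
  rw [Units.val_mul, Units.val_mul]
  show chevG2.x F s u * chevG2.x F r t = chevG2.x F r t * chevG2.x F s u
  apply commute_of_even chevG2 r s hc
  intro c hc'
  rw [FD.commTerms_eq DataG2.agrees r s hr hs, hnil] at hc'
  simp at hc'

theorem terms5 : ∀ r < 12, 7 ≤ r → ∀ c ∈ DataG2.fd.commTerms 5 r, 7 ≤ c.1 ∧ c.1 < 12 := by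
  decide +kernel

/-- `X_{-b}` normalises `U_b` -/
theorem xU5_mem_normalizer (hadd : AllAdd F chevG2) (c : F) :
    hadd.xU 5 c ∈ Subgroup.normalizer (UF F chevG2 7 : Set (GL chevG2.Idx F)) := by
  have key : ∀ (t' : F) (g : GL chevG2.Idx F), g ∈ genUF F chevG2 7 →
      (hadd.xU 5 t')⁻¹ * g * hadd.xU 5 t' ∈ UF F chevG2 7 := by
    intro t' g hg
    obtain ⟨r, u, hr, hkr, hgv⟩ := hg
    have hg' : g = hadd.xU r u := Units.ext hgv
    have hr12 : r < 12 := hr.1
    have hcm : CommOK F chevG2 5 r := by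
      rcases comm_known (F := F) chevG2 memG2 5 (by decide) r hr12 with h | h | h
      · omega
      · rw [FD.neg_eq' DataG2.agrees 5 (by decide)] at h
        have : DataG2.fd.neg 5 = 6 := by decide +kernel
        omega
      · exact h
    rw [hg', hadd.conj_of_comm 5 r hcm t' u]
    apply Subgroup.mul_mem _ (xU_mem_UF hadd 7 r hr hkr u)
    unfold AllAdd.wordU
    apply Subgroup.list_prod_mem
    intro y hy
    rw [List.mem_map] at hy
    obtain ⟨pr, hpr, rfl⟩ := hy
    unfold ChevalleyDatum.commWord at hpr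
    rw [List.mem_map] at hpr
    obtain ⟨c', hc', rfl⟩ := hpr
    rw [FD.commTerms_eq DataG2.agrees 5 r (by decide) hr12] at hc'
    obtain ⟨h6, h7⟩ := terms5 r hr12 hkr c' hc'
    exact xU_mem_UF' hadd 7 c'.1 h7 h6 (by omega) _
  unfold UF
  apply mem_normalizer_closure
  · intro g hg
    have := key (-c) g hg
    rw [← xU_inv, inv_inv] at this
    exact this
  · intro g hg
    exact key c g hg

theorem cartan9 : ∀ k < 2, DataG2.fd.cartan k 9 = if k = 0 then 1 else 0 := by
  decide +kernel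

/-- the elements of `H` centralising `x_{2a+b}(1)` lie in `⟨X_b, X_{-b}⟩` -/
theorem diag_mem_SB (hadd : AllAdd F chevG2) (h : GL chevG2.Idx F)
    (hh : h ∈ chevG2.diagonalSubgroup F) (hht : h * hadd.xU 9 1 * h⁻¹ = hadd.xU 9 1) :
    h ∈ SB F := by
  have hD := memG2
  have hA := DataG2.agrees
  have hinj := xInj_all (F := F) chevG2 memG2
  obtain ⟨c, hc, hcv⟩ := diagonal_eq_prod hD h hh
  set χ : ℕ → Fˣ := chiL chevG2 (List.range chevG2.rank) (fun k => Units.mk0 (c k) (hc k))
    with hχdef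
  have hχ : chevG2.IsRootCharacter χ :=
    isRootCharacter_chiL hD _ (fun k hk => List.mem_range.1 hk) _
  have hv1 : (h : Matrix chevG2.Idx chevG2.Idx F) = chevG2.charDiag F χ := by
    rw [charDiag_chiL, hcv]; rfl
  have hv2 : ((h⁻¹ : GL chevG2.Idx F) : Matrix chevG2.Idx chevG2.Idx F)
      = chevG2.charDiag F (fun s => (χ s)⁻¹) := by
    have h4 : ((h⁻¹ : GL chevG2.Idx F) : Matrix chevG2.Idx chevG2.Idx F) *
        (h : Matrix chevG2.Idx chevG2.Idx F) = 1 := by
      rw [← Units.val_mul, inv_mul_cancel, Units.val_one]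
    calc ((h⁻¹ : GL chevG2.Idx F) : Matrix chevG2.Idx chevG2.Idx F)
        = ((h⁻¹ : GL chevG2.Idx F) : Matrix chevG2.Idx chevG2.Idx F) *
            ((h : Matrix chevG2.Idx chevG2.Idx F) * chevG2.charDiag F (fun s => (χ s)⁻¹)) := by
          rw [hv1, charDiag_mul_inv, Matrix.mul_one]
      _ = _ := by rw [← Matrix.mul_assoc, h4, Matrix.one_mul]
  have hχρ : (χ 9 : F) = 1 := by
    have e3 : h * hadd.xU 9 1 * h⁻¹ = hadd.xU 9 ((χ 9 : F) * 1) := by
      apply Units.ext
      rw [Units.val_mul, Units.val_mul, hv1, hv2]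
      exact Cfsg.Agent.S2157.result chevG2 hD χ hχ 9 (by decide) 1
    rw [hht, mul_one] at e3
    exact (xU_injective hadd 9 (hinj 9 (by decide)) _ _ e3).symm
  have hck0 : c 0 = 1 := by
    have e4 : (χ 9 : F) = c 0 := by
      rw [hχdef]
      unfold chiL
      have e5 : ∀ k ∈ List.range chevG2.rank, (Units.mk0 (c k) (hc k)) ^ (chevG2.cartan k 9)
          = if k = 0 then Units.mk0 (c 0) (hc 0) else 1 := by
        intro k hk
        have hk' : k < 2 := List.mem_range.1 hk
        rw [FD.cartan_eq' hA k 9 hk' (by decide), cartan9 k hk']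
        by_cases hkk : k = 0
        · rw [if_pos hkk, if_pos hkk, hkk, zpow_one]
        · rw [if_neg hkk, if_neg hkk, zpow_zero]
      rw [List.map_congr_left e5]
      have e6 : ((List.range chevG2.rank).map fun k =>
          if k = 0 then Units.mk0 (c 0) (hc 0) else (1 : Fˣ)).prod
          = Units.mk0 (c 0) (hc 0) := by
        rw [prod_ite_range 0 _ chevG2.rank, if_pos (by decide)]
      rw [e6]
      rfl
    rw [← e4, hχρ]
  set L' : List ℕ := (List.range chevG2.rank).filter fun i => decide (i ≠ 0) with hL'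
  have hL'mem : ∀ i ∈ L', i = 1 := by
    intro i hi
    rw [hL', List.mem_filter, List.mem_range] at hi
    have h1 : i < 2 := hi.1
    have h2 : i ≠ 0 := by simpa using hi.2
    omega
  have e7 : (h : Matrix chevG2.Idx chevG2.Idx F)
      = chevG2.wordMat F (L'.flatMap fun i => chevG2.hWord (chevG2.simple i) (c i)) := by
    rw [wordMat_flatMap, prod_hMat_eq hD L' (fun i hi => by rw [hL'mem i hi]; decide) c
      (fun i _ => hc i), hcv, dProdL_filter chevG2 _ 0 c hck0]
  have e8 : h = hadd.wordU (L'.flatMap fun i => chevG2.hWord (chevG2.simple i) (c i)) :=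
    Units.ext (e7.trans (hadd.wordU_val _).symm)
  rw [e8]
  unfold AllAdd.wordU
  apply Subgroup.list_prod_mem
  intro y hy
  rw [List.mem_map] at hy
  obtain ⟨pr, hpr, rfl⟩ := hy
  rw [List.mem_flatMap] at hpr
  obtain ⟨i, hi, hpri⟩ := hpr
  have hi1 := hL'mem i hi
  subst hi1
  have hs1 : chevG2.simple 1 = 6 := by decide
  have hn6 : chevG2.neg 6 = 5 := by
    rw [FD.neg_eq' hA 6 (by decide)]; decide +kernel
  unfold ChevalleyDatum.hWord ChevalleyDatum.nWord at hpri
  rw [hs1, hn6] at hpri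
  simp only [List.mem_append, List.mem_cons, List.not_mem_nil, or_false] at hpri
  rcases hpri with (rfl | rfl | rfl) | (rfl | rfl | rfl)
  · exact xU_mem_SB hadd 6 (Or.inl rfl) _
  · exact xU_mem_SB hadd 5 (Or.inr rfl) _
  · exact xU_mem_SB hadd 6 (Or.inl rfl) _
  · exact xU_mem_SB hadd 6 (Or.inl rfl) _
  · exact xU_mem_SB hadd 5 (Or.inr rfl) _
  · exact xU_mem_SB hadd 6 (Or.inl rfl) _

end

end Cfsg.Agent.Lib.Helper5.Chev.G2S
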