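import Cfsg.Agent.Lib.Helper5.Chev.GenConj
import Cfsg.Agent.Lib.Helper5.Chev.Comm
import Mathlib

/-!
# Generation of the Chevalley group by the monomial subgroup and a short fundamental root subgroup
(helper5)
-/

set_option autoImplicit false
set_option maxRecDepth 100000

namespace Cfsg.Agent.Lib.Helper5.Chev

open Cfsg.Lie
open scoped Matrix

theorem wW'_append (Bs L1 L2 : List ℕ) (s : ℕ) :
    wW' Bs (L1 ++ L2) s = wW' Bs L2 (wW' Bs L1 s) := by
  induction L1 generalizing s with
  | nil => rfl
  | cons i L ih => exact ih _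

section

variable {F : Type*} [Field F] {T : FD} {D : ChevalleyDatum}

/-- a long root element as a commutator of two short root elements -/
theorem xU_comm_mem (hA : T.Agrees D) (hadd : AllAdd F D) (a b c : ℕ) (C : ℤ)
    (ha : a < D.nroots) (hb : b < D.nroots) (hcomm : commb T a b = true)
    (hterms : T.commTerms a b = [(c, C, 1, 1)]) (hC : (C : F) ≠ 0)
    (K : Subgroup (GL D.Idx F)) (hKa : ∀ t : F, hadd.xU a t ∈ K) (hKb : ∀ t : F, hadd.xU b t ∈ K)
    (t : F) : hadd.xU c t ∈ K := by
  have key := comm_of_check (F := F) hA a b ha hb hcomm (-(t / (C : F))) 1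
  have e1 : D.wordMat F (D.commWord F a b (-(t / (C : F))) 1) = D.x F c t := by
    unfold ChevalleyDatum.wordMat ChevalleyDatum.commWord
    rw [FD.commTerms_eq hA a b ha hb, hterms]
    simp only [List.map_cons, List.map_nil, List.prod_cons, List.prod_nil, mul_one, neg_neg,
      pow_one]
    congr 1
    field_simp
  rw [e1] at key
  have e2 : hadd.xU c t = (hadd.xU a (-(t / (C : F))) * hadd.xU b 1)⁻¹ *
      (hadd.xU b 1 * hadd.xU a (-(t / (C : F)))) := by
    rw [eq_inv_mul_iff_mul_eq]
    apply Units.ext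
    rw [Units.val_mul, Units.val_mul, Units.val_mul]
    exact key.symm
  rw [e2]
  exact K.mul_mem (K.inv_mem (K.mul_mem (hKa _) (hKb _))) (K.mul_mem (hKb _) (hKa _))

/-- generation by `N` and the root subgroup of a short fundamental root, for two root lengths -/
theorem group_le_short_of (D : ChevalleyDatum)
    (hD : D ∈ [chevG2, chevB2, chevD4, chevF4, chevE6, chevE7, chevE8])
    (T : FD) (hA : T.Agrees D) (Bs : List ℕ) (hB : ∀ i < D.rank, ReflChecks T D i (Bs.getD i 0))
    (hconj : ∀ m k, m < D.rank → k < D.rank →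
      D.isLong (D.simple m) = D.isLong (D.simple k) →
      ∃ L : List ℕ, (∀ i ∈ L, i < D.rank) ∧ wW' Bs L (D.simple m) = D.simple k)
    (a b c : ℕ) (C : ℤ) (ha : a < D.nroots) (hb : b < D.nroots) (hcomm : commb T a b = true)
    (hterms : T.commTerms a b = [(c, C, 1, 1)]) (hC : (C : F) ≠ 0)
    (i0 : ℕ) (hi0 : i0 < D.rank) (hi0s : D.isLong (D.simple i0) = false)
    (La Lb : List ℕ) (hLa : ∀ i ∈ La, i < D.rank) (hLb : ∀ i ∈ Lb, i < D.rank)
    (hwa : wW' Bs La a = D.simple i0) (hwb : wW' Bs Lb b = D.simple i0)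
    (hlong : ∀ m < D.rank, D.isLong (D.simple m) = true →
      ∃ L : List ℕ, (∀ i ∈ L, i < D.rank) ∧ wW' Bs L (D.simple m) = c)
    (i : ℕ) (hi : i < D.rank) (hshort : D.isLong (D.simple i) = false) :
    D.group F ≤ D.monomialSubgroup F ⊔ D.rootSubgroup F (D.simple i) := by
  have hadd := allAdd_all (F := F) D hD
  have hN : D.monomialSubgroup F ≤ D.monomialSubgroup F ⊔ D.rootSubgroup F (D.simple i) :=
    le_sup_left
  -- the short fundamental root elements
  have hS : ∀ m < D.rank, D.isLong (D.simple m) = false → ∀ t : F,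
      hadd.xU (D.simple m) t ∈ D.monomialSubgroup F ⊔ D.rootSubgroup F (D.simple i) := by
    intro m hm hlm t
    have hms := (simple_lt_all D hD m hm).1
    obtain ⟨L, hL, hw⟩ := hconj m i hm hi (by rw [hlm, hshort])
    apply xU_mem_of_conj hA hadd Bs hB _ hN _ hms L hL
    intro t'
    rw [hw]
    exact Subgroup.mem_sup_right (xU_mem_rootSubgroup hadd _ t')
  have hKa : ∀ t : F, hadd.xU a t ∈ D.monomialSubgroup F ⊔ D.rootSubgroup F (D.simple i) := by
    intro t
    apply xU_mem_of_conj hA hadd Bs hB _ hN _ ha La hLa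
    intro t'
    rw [hwa]
    exact hS i0 hi0 hi0s t'
  have hKb : ∀ t : F, hadd.xU b t ∈ D.monomialSubgroup F ⊔ D.rootSubgroup F (D.simple i) := by
    intro t
    apply xU_mem_of_conj hA hadd Bs hB _ hN _ hb Lb hLb
    intro t'
    rw [hwb]
    exact hS i0 hi0 hi0s t'
  have hKc := xU_comm_mem hA hadd a b c C ha hb hcomm hterms hC _ hKa hKb
  apply group_le_of D hD
  · intro m hm t
    have hms := (simple_lt_all D hD m hm).1
    cases hlm : D.isLong (D.simple m) with
    | false => exact hS m hm hlm t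
    | true =>
      obtain ⟨L, hL, hw⟩ := hlong m hm hlm
      apply xU_mem_of_conj hA hadd Bs hB _ hN _ hms L hL
      intro t'
      rw [hw]
      exact hKc t'
  · intro m _ hp hq
    exact hN (AllAdd.nU_mem _ _ hp hq)

/-- generation by `N` and the root subgroup of a fundamental root, for one root length -/
theorem group_le_one_of (D : ChevalleyDatum)
    (hD : D ∈ [chevG2, chevB2, chevD4, chevF4, chevE6, chevE7, chevE8])
    (T : FD) (hA : T.Agrees D) (Bs : List ℕ) (hB : ∀ i < D.rank, ReflChecks T D i (Bs.getD i 0))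
    (to0 fr0 : List (List ℕ)) (hto : ∀ m < D.rank, ∀ j ∈ to0.getD m [], j < D.rank)
    (hfr : ∀ m < D.rank, ∀ j ∈ fr0.getD m [], j < D.rank)
    (hto' : ∀ m < D.rank, wW' Bs (to0.getD m []) (D.simple m) = D.simple 0)
    (hfr' : ∀ m < D.rank, wW' Bs (fr0.getD m []) (D.simple 0) = D.simple m)
    (i : ℕ) (hi : i < D.rank) :
    D.group F ≤ D.monomialSubgroup F ⊔ D.rootSubgroup F (D.simple i) := by
  have hadd := allAdd_all (F := F) D hD
  have hN : D.monomialSubgroup F ≤ D.monomialSubgroup F ⊔ D.rootSubgroup F (D.simple i) :=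
    le_sup_left
  apply group_le_of D hD
  · intro m hm t
    have hms := (simple_lt_all D hD m hm).1
    apply xU_mem_of_conj hA hadd Bs hB _ hN _ hms (to0.getD m [] ++ fr0.getD i [])
    · intro j hj
      rw [List.mem_append] at hj
      rcases hj with hj | hj
      · exact hto m hm j hj
      · exact hfr i hi j hj
    · intro t'
      rw [wW'_append, hto' m hm, hfr' i hi]
      exact Subgroup.mem_sup_right (xU_mem_rootSubgroup hadd _ t')
  · intro m _ hp hq
    exact hN (AllAdd.nU_mem _ _ hp hq)

end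

end Cfsg.Agent.Lib.Helper5.Chev
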