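import Cfsg.Agent.Lib.Helper5.Chev.GenShort
import Cfsg.Agent.Lib.Helper5.Chev.HAll
import Mathlib

/-!
# Generation of the Chevalley group by the monomial subgroup and a short fundamental root subgroup:
all types (helper5)
-/

set_option autoImplicit false
set_option maxRecDepth 100000

namespace Cfsg.Agent.Lib.Helper5.Chev

open Cfsg.Lie
open scoped Matrix

theorem to0_D4 : ∀ m < chevD4.rank,
    (∀ j ∈ ([[], [0, 1], [1, 0, 2, 1], [1, 0, 3, 1]] : List (List ℕ)).getD m [], j < chevD4.rank) ∧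
    (∀ j ∈ ([[], [1, 0], [1, 0, 2, 1], [1, 0, 3, 1]] : List (List ℕ)).getD m [], j < chevD4.rank) ∧
    wW' BsD4.Bs (([[], [0, 1], [1, 0, 2, 1], [1, 0, 3, 1]] : List (List ℕ)).getD m []) (chevD4.simple m) = chevD4.simple 0 ∧
    wW' BsD4.Bs (([[], [1, 0], [1, 0, 2, 1], [1, 0, 3, 1]] : List (List ℕ)).getD m []) (chevD4.simple 0) = chevD4.simple m := by
  intro m hm
  have hm' : m < 4 := hm
  interval_cases m <;> refine ⟨by decide, by decide, by decide +kernel, by decide +kernel⟩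

theorem group_le_short_D4 {F : Type*} [Field F] (i : ℕ) (hi : i < chevD4.rank) :
    chevD4.group F ≤ chevD4.monomialSubgroup F ⊔ chevD4.rootSubgroup F (chevD4.simple i) :=
  group_le_one_of chevD4 (by simp) _ DataD4.agrees _ HsD4.reflBs' _ _
    (fun m hm => (to0_D4 m hm).1) (fun m hm => (to0_D4 m hm).2.1)
    (fun m hm => (to0_D4 m hm).2.2.1) (fun m hm => (to0_D4 m hm).2.2.2) i hi

theorem to0_E6 : ∀ m < chevE6.rank,
    (∀ j ∈ ([[], [3, 1, 2, 0, 3, 2], [0, 2], [2, 0, 3, 2], [3, 2, 0, 4, 3, 2], [4, 3, 2, 0, 5, 4, 3, 2]] : List (List ℕ)).getD m [], j < chevE6.rank) ∧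
    (∀ j ∈ ([[], [2, 0, 3, 1, 2, 3], [2, 0], [2, 0, 3, 2], [2, 0, 3, 2, 4, 3], [2, 0, 3, 2, 4, 3, 5, 4]] : List (List ℕ)).getD m [], j < chevE6.rank) ∧
    wW' BsE6.Bs (([[], [3, 1, 2, 0, 3, 2], [0, 2], [2, 0, 3, 2], [3, 2, 0, 4, 3, 2], [4, 3, 2, 0, 5, 4, 3, 2]] : List (List ℕ)).getD m []) (chevE6.simple m) = chevE6.simple 0 ∧
    wW' BsE6.Bs (([[], [2, 0, 3, 1, 2, 3], [2, 0], [2, 0, 3, 2], [2, 0, 3, 2, 4, 3], [2, 0, 3, 2, 4, 3, 5, 4]] : List (List ℕ)).getD m []) (chevE6.simple 0) = chevE6.simple m := by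
  intro m hm
  have hm' : m < 6 := hm
  interval_cases m <;> refine ⟨by decide, by decide, by decide +kernel, by decide +kernel⟩

theorem group_le_short_E6 {F : Type*} [Field F] (i : ℕ) (hi : i < chevE6.rank) :
    chevE6.group F ≤ chevE6.monomialSubgroup F ⊔ chevE6.rootSubgroup F (chevE6.simple i) :=
  group_le_one_of chevE6 (by simp) _ DataE6.agrees _ HsE6.reflBs' _ _
    (fun m hm => (to0_E6 m hm).1) (fun m hm => (to0_E6 m hm).2.1)
    (fun m hm => (to0_E6 m hm).2.2.1) (fun m hm => (to0_E6 m hm).2.2.2) i hi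

theorem to0_E7 : ∀ m < chevE7.rank,
    (∀ j ∈ ([[], [3, 1, 2, 0, 3, 2], [0, 2], [2, 0, 3, 2], [3, 2, 0, 4, 3, 2], [4, 3, 2, 0, 5, 4, 3, 2], [5, 4, 3, 2, 0, 6, 5, 4, 3, 2]] : List (List ℕ)).getD m [], j < chevE7.rank) ∧
    (∀ j ∈ ([[], [2, 0, 3, 1, 2, 3], [2, 0], [2, 0, 3, 2], [2, 0, 3, 2, 4, 3], [2, 0, 3, 2, 4, 3, 5, 4], [2, 0, 3, 2, 4, 3, 5, 4, 6, 5]] : List (List ℕ)).getD m [], j < chevE7.rank) ∧
    wW' BsE7.Bs (([[], [3, 1, 2, 0, 3, 2], [0, 2], [2, 0, 3, 2], [3, 2, 0, 4, 3, 2], [4, 3, 2, 0, 5, 4, 3, 2], [5, 4, 3, 2, 0, 6, 5, 4, 3, 2]] : List (List ℕ)).getD m []) (chevE7.simple m) = chevE7.simple 0 ∧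
    wW' BsE7.Bs (([[], [2, 0, 3, 1, 2, 3], [2, 0], [2, 0, 3, 2], [2, 0, 3, 2, 4, 3], [2, 0, 3, 2, 4, 3, 5, 4], [2, 0, 3, 2, 4, 3, 5, 4, 6, 5]] : List (List ℕ)).getD m []) (chevE7.simple 0) = chevE7.simple m := by
  intro m hm
  have hm' : m < 7 := hm
  interval_cases m <;> refine ⟨by decide, by decide, by decide +kernel, by decide +kernel⟩

theorem group_le_short_E7 {F : Type*} [Field F] (i : ℕ) (hi : i < chevE7.rank) :
    chevE7.group F ≤ chevE7.monomialSubgroup F ⊔ chevE7.rootSubgroup F (chevE7.simple i) :=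
  group_le_one_of chevE7 (by simp) _ DataE7.agrees _ HsE7.reflBs' _ _
    (fun m hm => (to0_E7 m hm).1) (fun m hm => (to0_E7 m hm).2.1)
    (fun m hm => (to0_E7 m hm).2.2.1) (fun m hm => (to0_E7 m hm).2.2.2) i hi

theorem to0_E8 : ∀ m < chevE8.rank,
    (∀ j ∈ ([[], [3, 1, 2, 0, 3, 2], [0, 2], [2, 0, 3, 2], [3, 2, 0, 4, 3, 2], [4, 3, 2, 0, 5, 4, 3, 2], [5, 4, 3, 2, 0, 6, 5, 4, 3, 2], [6, 5, 4, 3, 2, 0, 7, 6, 5, 4, 3, 2]] : List (List ℕ)).getD m [], j < chevE8.rank) ∧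
    (∀ j ∈ ([[], [2, 0, 3, 1, 2, 3], [2, 0], [2, 0, 3, 2], [2, 0, 3, 2, 4, 3], [2, 0, 3, 2, 4, 3, 5, 4], [2, 0, 3, 2, 4, 3, 5, 4, 6, 5], [2, 0, 3, 2, 4, 3, 5, 4, 6, 5, 7, 6]] : List (List ℕ)).getD m [], j < chevE8.rank) ∧
    wW' BsE8.Bs (([[], [3, 1, 2, 0, 3, 2], [0, 2], [2, 0, 3, 2], [3, 2, 0, 4, 3, 2], [4, 3, 2, 0, 5, 4, 3, 2], [5, 4, 3, 2, 0, 6, 5, 4, 3, 2], [6, 5, 4, 3, 2, 0, 7, 6, 5, 4, 3, 2]] : List (List ℕ)).getD m []) (chevE8.simple m) = chevE8.simple 0 ∧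
    wW' BsE8.Bs (([[], [2, 0, 3, 1, 2, 3], [2, 0], [2, 0, 3, 2], [2, 0, 3, 2, 4, 3], [2, 0, 3, 2, 4, 3, 5, 4], [2, 0, 3, 2, 4, 3, 5, 4, 6, 5], [2, 0, 3, 2, 4, 3, 5, 4, 6, 5, 7, 6]] : List (List ℕ)).getD m []) (chevE8.simple 0) = chevE8.simple m := by
  intro m hm
  have hm' : m < 8 := hm
  interval_cases m <;> refine ⟨by decide, by decide, by decide +kernel, by decide +kernel⟩

theorem group_le_short_E8 {F : Type*} [Field F] (i : ℕ) (hi : i < chevE8.rank) :
    chevE8.group F ≤ chevE8.monomialSubgroup F ⊔ chevE8.rootSubgroup F (chevE8.simple i) :=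
  group_le_one_of chevE8 (by simp) _ DataE8.agrees _ HsE8.reflBs' _ _
    (fun m hm => (to0_E8 m hm).1) (fun m hm => (to0_E8 m hm).2.1)
    (fun m hm => (to0_E8 m hm).2.2.1) (fun m hm => (to0_E8 m hm).2.2.2) i hi

theorem commb_B2 : commb DataB2.fd 1 2 = true := by decide +kernel

theorem commTerms_B2 : DataB2.fd.commTerms 1 2 = [(0, 2, 1, 1)] := by decide +kernel

theorem long_B2 : ∀ m < chevB2.rank, chevB2.isLong (chevB2.simple m) = true →
    ∃ L : List ℕ, (∀ i ∈ L, i < chevB2.rank) ∧ wW' BsB2.Bs L (chevB2.simple m) = 0 := by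
  intro m hm
  have hm' : m < 2 := hm
  interval_cases m
  · intro h; exact absurd h (by decide +kernel)
  · intro _; exact ⟨[1, 0], by decide, by decide +kernel⟩

theorem group_le_short_B2 {F : Type*} [Field F] (hC : ((2 : ℤ) : F) ≠ 0) (i : ℕ)
    (hi : i < chevB2.rank) (hshort : chevB2.isLong (chevB2.simple i) = false) :
    chevB2.group F ≤ chevB2.monomialSubgroup F ⊔ chevB2.rootSubgroup F (chevB2.simple i) :=
  group_le_short_of chevB2 (by simp) _ DataB2.agrees _ HsB2.reflBs' conj_simple_B2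
    1 2 0 2 (by decide +kernel) (by decide +kernel) commb_B2 commTerms_B2 hC
    0 (by decide) (by decide +kernel) [1, 0] [0] (by decide) (by decide)
    (by decide +kernel) (by decide +kernel) long_B2 i hi hshort

theorem commb_F4 : commb DataF4.fd 3 18 = true := by decide +kernel

theorem commTerms_F4 : DataF4.fd.commTerms 3 18 = [(0, 2, 1, 1)] := by decide +kernel

theorem long_F4 : ∀ m < chevF4.rank, chevF4.isLong (chevF4.simple m) = true →
    ∃ L : List ℕ, (∀ i ∈ L, i < chevF4.rank) ∧ wW' BsF4.Bs L (chevF4.simple m) = 0 := by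
  intro m hm
  have hm' : m < 4 := hm
  interval_cases m
  · intro h; exact absurd h (by decide +kernel)
  · intro h; exact absurd h (by decide +kernel)
  · intro _; exact ⟨[2, 1, 0, 3, 2, 1, 2, 3], by decide, by decide +kernel⟩
  · intro _; exact ⟨[3, 2, 1, 0, 2, 1, 2, 3], by decide, by decide +kernel⟩

theorem group_le_short_F4 {F : Type*} [Field F] (hC : ((2 : ℤ) : F) ≠ 0) (i : ℕ)
    (hi : i < chevF4.rank) (hshort : chevF4.isLong (chevF4.simple i) = false) :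
    chevF4.group F ≤ chevF4.monomialSubgroup F ⊔ chevF4.rootSubgroup F (chevF4.simple i) :=
  group_le_short_of chevF4 (by simp) _ DataF4.agrees _ HsF4.reflBs' conj_simple_F4
    3 18 0 2 (by decide +kernel) (by decide +kernel) commb_F4 commTerms_F4 hC
    0 (by decide) (by decide +kernel) [0, 1, 2, 1, 3, 2, 1, 0] [0, 3, 2, 1, 0] (by decide) (by decide)
    (by decide +kernel) (by decide +kernel) long_F4 i hi hshort

theorem commb_G2 : commb DataG2.fd 2 3 = true := by decide +kernel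

theorem commTerms_G2 : DataG2.fd.commTerms 2 3 = [(0, 3, 1, 1)] := by decide +kernel

theorem long_G2 : ∀ m < chevG2.rank, chevG2.isLong (chevG2.simple m) = true →
    ∃ L : List ℕ, (∀ i ∈ L, i < chevG2.rank) ∧ wW' BsG2.Bs L (chevG2.simple m) = 0 := by
  intro m hm
  have hm' : m < 2 := hm
  interval_cases m
  · intro h; exact absurd h (by decide +kernel)
  · intro _; exact ⟨[1, 0, 1], by decide, by decide +kernel⟩

theorem group_le_short_G2 {F : Type*} [Field F] (hC : ((3 : ℤ) : F) ≠ 0) (i : ℕ)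
    (hi : i < chevG2.rank) (hshort : chevG2.isLong (chevG2.simple i) = false) :
    chevG2.group F ≤ chevG2.monomialSubgroup F ⊔ chevG2.rootSubgroup F (chevG2.simple i) :=
  group_le_short_of chevG2 (by simp) _ DataG2.agrees _ HsG2.reflBs' conj_simple_G2
    2 3 0 3 (by decide +kernel) (by decide +kernel) commb_G2 commTerms_G2 hC
    0 (by decide) (by decide +kernel) [0, 1, 0] [1, 0] (by decide) (by decide)
    (by decide +kernel) (by decide +kernel) long_G2 i hi hshort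

section

variable {F : Type*} [Field F]

theorem three_ne_zero_of_ringChar (h : ringChar F ≠ 3) : ((3 : ℤ) : F) ≠ 0 := by
  intro h0
  have h1 : ((3 : ℕ) : F) = 0 := by exact_mod_cast h0
  rw [CharP.cast_eq_zero_iff F (ringChar F) 3] at h1
  rcases (Nat.dvd_prime Nat.prime_three).1 h1 with h2 | h2
  · exact CharP.ringChar_ne_one h2
  · exact h h2

theorem two_ne_zero_of_ringChar (h : ringChar F ≠ 2) : ((2 : ℤ) : F) ≠ 0 := by
  have := Ring.two_ne_zero h
  exact_mod_cast this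

/-- generation by `N` and the root subgroup of a short fundamental root -/
theorem group_le_short_all (D : ChevalleyDatum)
    (hD : D ∈ [chevG2, chevB2, chevD4, chevF4, chevE6, chevE7, chevE8])
    (h2 : D ∈ [chevB2, chevF4] → ringChar F ≠ 2) (h3 : D = chevG2 → ringChar F ≠ 3)
    (i : ℕ) (hi : i < D.rank) (hshort : D.isLong (D.simple i) = false) :
    D.group F ≤ D.monomialSubgroup F ⊔ D.rootSubgroup F (D.simple i) := by
  simp only [List.mem_cons, List.not_mem_nil, or_false] at hD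
  rcases hD with rfl | rfl | rfl | rfl | rfl | rfl | rfl
  · exact group_le_short_G2 (three_ne_zero_of_ringChar (h3 rfl)) i hi hshort
  · exact group_le_short_B2 (two_ne_zero_of_ringChar (h2 (by simp))) i hi hshort
  · exact group_le_short_D4 i hi
  · exact group_le_short_F4 (two_ne_zero_of_ringChar (h2 (by simp))) i hi hshort
  · exact group_le_short_E6 i hi
  · exact group_le_short_E7 i hi
  · exact group_le_short_E8 i hi

end

end Cfsg.Agent.Lib.Helper5.Chev
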