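import Cfsg.Agent.Lib.Helper5.Chev.HTransfer
import Mathlib

/-!
# The weight of `h_s(c)` for an arbitrary root `s` (helper5)
-/

set_option autoImplicit false

namespace Cfsg.Agent.Lib.Helper5.Chev

open Cfsg.Lie
open scoped Matrix

/-- both forms of `h_s(c)` are the diagonal matrix of the weight `κ` -/
def HFormK (F : Type*) [Field F] (D : ChevalleyDatum) (s : ℕ) (κ : ℕ → ℤ) : Prop :=
  ∀ c : F, c ≠ 0 →
    D.nMat F s c * D.nMat F s (-1) = dK F D κ c ∧ D.nMat F s (-c) * D.nMat F s 1 = dK F D κ c

/-- the integer `2(s, v)/(s, s)` from the tables -/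
def pairD (D : ChevalleyDatum) (s v : ℕ) : ℤ :=
  ((List.range D.rank).map fun k => (D.coroot.getD s #[]).getD k 0 * D.cartan k v).sum

section

variable {F : Type*} [Field F] {T : FD} {D : ChevalleyDatum}

theorem HFormK.congr {s : ℕ} {κ κ' : ℕ → ℤ} (h : HFormK F D s κ)
    (hk : ∀ v < D.nroots, κ v = κ' v) : HFormK F D s κ' := by
  intro c hc
  rw [← dK_congr D κ κ' hk c]
  exact h c hc

theorem HFormK.hMat {s : ℕ} {κ : ℕ → ℤ} (h : HFormK F D s κ) (c : F) (hc : c ≠ 0) :
    D.hMat F s c = dK F D κ c := by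
  rw [hMat_eq]; exact (h c hc).1

/-- transfer of the diagonal form, with the weight -/
theorem ReflChecks.hformK_transfer {i B : ℕ} (hA : T.Agrees D) (hi : i < D.rank)
    (c : ReflChecks T D i B) (hp : Additive F D (D.simple i))
    (hq : Additive F D (D.neg (D.simple i))) (s : ℕ) (hs : s < D.nroots) (κ : ℕ → ℤ)
    (h : HFormK F D (wOf B s) κ) : HFormK F D s (fun v => κ (wOf B v)) := by
  have hcert := c.cert hA
  have hr := hcert.w_lt s hs
  intro z hz
  have key : ∀ z₁ z₂ : F, D.nMat F s z₁ * D.nMat F s z₂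
      = D.nMat F (D.simple i) 1 * (D.nMat F (wOf B s) (((etaOf B (wOf B s) : ℤ) : F) * z₁) *
          D.nMat F (wOf B s) (((etaOf B (wOf B s) : ℤ) : F) * z₂)) * nInv F D (D.simple i) := by
    intro z₁ z₂
    have h1 := c.conj_nMat2 (F := F) hA hi (wOf B s) hr (((etaOf B (wOf B s) : ℤ) : F) * z₁)
      (((etaOf B (wOf B s) : ℤ) : F) * z₂)
    have e3 : ∀ y : F, ((etaOf B (wOf B s) : ℤ) : F) * (((etaOf B (wOf B s) : ℤ) : F) * y) = y := by
      intro y
      rw [← mul_assoc, hcert.eta_sq (F := F) _ hr, one_mul]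
    rw [hcert.w_w s hs, e3, e3] at h1
    rw [h1, Matrix.mul_assoc, nMat_mul_nInv hp hq, Matrix.mul_one]
  have fin : ∀ M : Matrix D.Idx D.Idx F, M = dK F D κ z →
      D.nMat F (D.simple i) 1 * M * nInv F D (D.simple i) = dK F D (fun v => κ (wOf B v)) z := by
    intro M hM
    rw [hM, c.nMat_mul_dK hA hi, Matrix.mul_assoc, nMat_mul_nInv hp hq, Matrix.mul_one]
  rcases etaOf_pm B (wOf B s) with he | he
  · rw [key, key, he]
    simp only [Int.cast_one, one_mul]
    exact ⟨fin _ (h z hz).1, fin _ (h z hz).2⟩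
  · rw [key, key, he]
    simp only [Int.cast_neg, Int.cast_one, neg_mul, one_mul, neg_neg]
    exact ⟨fin _ (h z hz).2, fin _ (h z hz).1⟩

/-- invariance of the pairing under a fundamental reflection -/
theorem ReflChecks.pair_inv {i B : ℕ} (hA : T.Agrees D) (c : ReflChecks T D i B)
    (s v : ℕ) (hs : s < D.nroots) (hv : v < D.nroots) :
    pairD D (wOf B s) (wOf B v) = pairD D s v := by
  have hcert := c.cert hA
  have hws := hcert.w_lt s hs
  have hwv := hcert.w_lt v hv
  have hi := hcert.i_lt
  unfold pairD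
  rw [list_sum_range_eq, list_sum_range_eq]
  have e1 : ∀ k ∈ Finset.range D.rank,
      (D.coroot.getD (wOf B s) #[]).getD k 0 * D.cartan k (wOf B v)
        = ((T.corootL s).getD k 0 - (if k = i then
            ∑ j ∈ Finset.range D.rank, T.cartan j (T.simple i) * (T.corootL s).getD j 0 else 0)) *
          (T.cartan k v - T.cartan k (T.simple i) * T.cartan i v) := by
    intro k hk
    have hk' := Finset.mem_range.1 hk
    rw [← hA.coroot_eq _ hws k hk', FD.cartan_eq' hA k _ hk' hwv, hcert.coroot_w k hk' s hs,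
      list_sum_range_eq]
    have := hcert.cartan_w k hk' (wOf B v) hwv
    rw [hcert.w_w v hv] at this
    rw [this]
  have e2 : ∀ k ∈ Finset.range D.rank,
      (D.coroot.getD s #[]).getD k 0 * D.cartan k v = (T.corootL s).getD k 0 * T.cartan k v := by
    intro k hk
    have hk' := Finset.mem_range.1 hk
    rw [← hA.coroot_eq _ hs k hk', FD.cartan_eq' hA k _ hk' hv]
  rw [Finset.sum_congr rfl e1, Finset.sum_congr rfl e2]
  set S := ∑ j ∈ Finset.range D.rank, T.cartan j (T.simple i) * (T.corootL s).getD j 0 with hS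
  have e3 : ∀ k ∈ Finset.range D.rank,
      ((T.corootL s).getD k 0 - (if k = i then S else 0)) *
          (T.cartan k v - T.cartan k (T.simple i) * T.cartan i v)
        = (T.corootL s).getD k 0 * T.cartan k v
          - (T.cartan k (T.simple i) * (T.corootL s).getD k 0) * T.cartan i v
          - (if k = i then S * (T.cartan k v - T.cartan k (T.simple i) * T.cartan i v) else 0) := by
    intro k _
    split_ifs <;> ring
  rw [Finset.sum_congr rfl e3, Finset.sum_sub_distrib, Finset.sum_sub_distrib, ← Finset.sum_mul,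
    ← hS, Finset.sum_ite_eq' (Finset.range D.rank) i, if_pos (Finset.mem_range.2 hi)]
  have ha : T.cartan i (T.simple i) = 2 := hcert.a_i
  rw [ha]
  ring

/-- the weight of `h_s(c)` for all roots -/
theorem hformK_all (hA : T.Agrees D) (Bs : List ℕ)
    (hB : ∀ i < D.rank, ReflChecks T D i (Bs.getD i 0))
    (hadd : ∀ s < D.nroots, Additive F D s)
    (gH : ℕ) (baseH : List ℕ) (fuel : ℕ) (hr : reachb T Bs gH baseH fuel = true)
    (hbase : ∀ s ∈ baseH, ∃ j < D.rank, s = D.simple j)
    (hm : ∀ j < D.rank, nmatcb T j (Bs.getD j 0) = true)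
    (hcor : ∀ j < D.rank, ∀ k < D.rank,
      (D.coroot.getD (D.simple j) #[]).getD k 0 = if k = j then 1 else 0) :
    ∀ s < D.nroots, HFormK F D s (pairD D s) := by
  apply reach_all hA (fun s => HFormK F D s (pairD D s)) Bs gH baseH fuel hr
  · intro s hs
    obtain ⟨j, hj, rfl⟩ := hbase s hs
    have h1 : HFormK F D (D.simple j) (T.cartan j) :=
      fun z hz => (hB j hj).hform_base hA hj (hm j hj) z hz
    apply h1.congr
    intro v hv
    unfold pairD
    rw [list_sum_range_eq, Finset.sum_eq_single j]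
    · rw [hcor j hj j hj, if_pos rfl, one_mul, FD.cartan_eq' hA j v hj hv]
    · intro k hk hkj
      rw [hcor j hj k (Finset.mem_range.1 hk), if_neg hkj, zero_mul]
    · intro hh
      exact absurd (Finset.mem_range.2 hj) hh
  · intro i hi s hs
    exact ((hB i hi).cert hA).w_lt s hs
  · intro i hi s hs h
    have hp : D.simple i < D.nroots := by
      rw [FD.simple_eq' hA i hi]; exact hA.simple_lt i hi
    have hq : D.neg (D.simple i) < D.nroots := by
      rw [FD.neg_eq' hA _ hp, FD.simple_eq' hA i hi]; exact hA.neg_lt _ (hA.simple_lt i hi)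
    have h2 := (hB i hi).hformK_transfer hA hi (hadd _ hp) (hadd _ hq) s hs _ h
    apply h2.congr
    intro v hv
    exact (hB i hi).pair_inv hA s v hs hv

end

end Cfsg.Agent.Lib.Helper5.Chev
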