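import Cfsg.Agent.Lib.Helper5.Chev.NMat
import Mathlib

/-!
# The elements `h_{p_j}(c)` as diagonal matrices (helper5)
-/

set_option autoImplicit false

namespace Cfsg.Agent.Lib.Helper5.Chev

open Cfsg.Lie
open scoped Matrix

/-- normalisation of monomials under `t u = 1` -/
def nrmTU (e : Ent) : Ent :=
  ⟨e.row, e.c, Nat.sub e.a (cond (Nat.ble e.a e.b) e.a e.b),
    Nat.sub e.b (cond (Nat.ble e.a e.b) e.a e.b), e.d⟩

theorem nrmTU_val {F : Type*} [Field F] (t u v : F) (htu : t * u = 1) (e : Ent) :
    (nrmTU e).row = e.row ∧ (nrmTU e).val t u v = e.val t u v := by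
  refine ⟨rfl, ?_⟩
  simp only [nrmTU, Ent.val]
  by_cases h : Nat.ble e.a e.b = true
  · rw [h, cond_true]
    have hle : e.a ≤ e.b := Nat.le_of_ble_eq_true h
    have e1 : Nat.sub e.a e.a = 0 := Nat.sub_self _
    have e2 : u ^ e.b = u ^ (Nat.sub e.b e.a) * u ^ e.a := by
      rw [← pow_add]
      congr 1
      show e.b = e.b - e.a + e.a
      omega
    rw [e1, e2, pow_zero]
    have : t ^ e.a * u ^ e.a = 1 := by rw [← mul_pow, htu, one_pow]
    linear_combination (-((e.c : F) * u ^ (Nat.sub e.b e.a) * v ^ e.d)) * this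
  · rw [Bool.not_eq_true] at h
    rw [h, cond_false]
    have hle : e.b ≤ e.a := by
      by_contra hh
      have : Nat.ble e.a e.b = true := Nat.ble_eq_true_of_le (by omega)
      rw [h] at this
      exact absurd this (by simp)
    have e1 : Nat.sub e.b e.b = 0 := Nat.sub_self _
    have e2 : t ^ e.a = t ^ (Nat.sub e.a e.b) * t ^ e.b := by
      rw [← pow_add]
      congr 1
      show e.a = e.a - e.b + e.b
      omega
    rw [e1, e2, pow_zero]
    have : t ^ e.b * u ^ e.b = 1 := by rw [← mul_pow, htu, one_pow]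
    linear_combination (-((e.c : F) * t ^ (Nat.sub e.a e.b) * v ^ e.d)) * this

theorem zpow_split {F : Type*} [Field F] (c : F) (hc : c ≠ 0) (A : ℤ) :
    c ^ (Int.toNat A) * c⁻¹ ^ (Int.toNat (-A)) = c ^ A := by
  rcases le_total 0 A with h | h
  · have h1 : Int.toNat (-A) = 0 := Int.toNat_eq_zero.2 (by omega)
    rw [h1, pow_zero, mul_one]
    conv_rhs => rw [← Int.toNat_of_nonneg h]
    rw [zpow_natCast]
  · have h1 : Int.toNat A = 0 := Int.toNat_eq_zero.2 h
    rw [h1, pow_zero, one_mul, inv_pow, ← zpow_natCast, Int.toNat_of_nonneg (by omega), ← zpow_neg,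
      neg_neg]

/-- the diagonal matrix of a weight -/
def dK (F : Type*) [Field F] (D : ChevalleyDatum) (κ : ℕ → ℤ) (c : F) : Matrix D.Idx D.Idx F :=
  Matrix.diagonal (Sum.elim (fun _ => (1 : F)) (fun s : Fin D.nroots => c ^ (κ s.val)))

theorem dK_congr {F : Type*} [Field F] (D : ChevalleyDatum) (κ κ' : ℕ → ℤ)
    (h : ∀ s < D.nroots, κ s = κ' s) (c : F) : dK F D κ c = dK F D κ' c := by
  unfold dK
  congr 1
  ext x
  rcases x with j | s
  · rfl
  · simp only [Sum.elim_inr, h s.val s.2]

/-- generalised monomial matrix with arbitrary scalars -/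
def PmS (F : Type*) [Field F] (D : ChevalleyDatum) (i : ℕ) (a : ℕ → ℤ) (w : ℕ → ℕ) (f : ℕ → F) :
    Matrix D.Idx D.Idx F :=
  Matrix.of (fun (row col : D.Idx) =>
    Sum.elim
      (fun j' : Fin D.rank => Sum.elim
        (fun j : Fin D.rank => (if j' = j then (1 : F) else 0) - (if (j' : ℕ) = i then ((a j : ℤ) : F) else 0))
        (fun _ => (0 : F)) col)
      (fun s' : Fin D.nroots => Sum.elim
        (fun _ => (0 : F))
        (fun s : Fin D.nroots => if (s' : ℕ) = w s then f s else 0) col)
      row)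

section PmS

variable {F : Type*} [Field F] {D : ChevalleyDatum} {i : ℕ} {a : ℕ → ℤ} {w : ℕ → ℕ} {f g : ℕ → F}

theorem PmS_ll (k j : Fin D.rank) : PmS F D i a w f (Sum.inl k) (Sum.inl j)
    = (if k = j then (1 : F) else 0) - (if (k : ℕ) = i then ((a j : ℤ) : F) else 0) := rfl
theorem PmS_lr (k : Fin D.rank) (s : Fin D.nroots) : PmS F D i a w f (Sum.inl k) (Sum.inr s) = 0 := rfl
theorem PmS_rl (u : Fin D.nroots) (j : Fin D.rank) : PmS F D i a w f (Sum.inr u) (Sum.inl j) = 0 := rfl
theorem PmS_rr (u s : Fin D.nroots) : PmS F D i a w f (Sum.inr u) (Sum.inr s)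
    = if (u : ℕ) = w s then f s else 0 := rfl

theorem PmS_mul (hi : i < D.rank) (ha : a i = 2) (hlt : ∀ s < D.nroots, w s < D.nroots)
    (hw : ∀ s < D.nroots, w (w s) = s) :
    PmS F D i a w f * PmS F D i a w g
      = Matrix.diagonal (Sum.elim (fun _ => (1 : F)) (fun s : Fin D.nroots => f (w s.val) * g s.val)) := by
  ext x y
  rw [Matrix.mul_apply, Fintype.sum_sum_type]
  rcases x with k | u <;> rcases y with j | s
  · simp only [PmS_ll, PmS_lr, PmS_rl, zero_mul, Finset.sum_const_zero, add_zero]
    have h1 : ∀ x : Fin D.rank, ((if k = x then (1 : F) else 0) - (if (k : ℕ) = i then ((a x : ℤ) : F) else 0)) *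
        ((if x = j then (1 : F) else 0) - (if (x : ℕ) = i then ((a j : ℤ) : F) else 0))
        = (if x = k then ((if k = j then (1 : F) else 0) - (if (k : ℕ) = i then ((a j : ℤ) : F) else 0)) else 0)
          - (if x = j then (if (k : ℕ) = i then ((a j : ℤ) : F) else 0) else 0)
          + (if x = (⟨i, hi⟩ : Fin D.rank) then
              (if (k : ℕ) = i then ((a i : ℤ) : F) * ((a j : ℤ) : F) else 0) else 0) := by
      intro x
      by_cases hxk : x = k
      · subst hxk
        by_cases hxj : x = j
        · subst hxj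
          by_cases hxi : (x : ℕ) = i
          · have : x = (⟨i, hi⟩ : Fin D.rank) := Fin.ext hxi
            subst this
            simp
            ring
          · have : ¬ x = (⟨i, hi⟩ : Fin D.rank) := fun hh => hxi (congrArg Fin.val hh)
            simp [hxi, this]
        · by_cases hxi : (x : ℕ) = i
          · have : x = (⟨i, hi⟩ : Fin D.rank) := Fin.ext hxi
            subst this
            simp [hxj]
            ring
          · have : ¬ x = (⟨i, hi⟩ : Fin D.rank) := fun hh => hxi (congrArg Fin.val hh)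
            simp [hxi, this, hxj]
      · have hkx : ¬ k = x := fun hh => hxk hh.symm
        by_cases hxj : x = j
        · subst hxj
          by_cases hxi : (x : ℕ) = i
          · have : x = (⟨i, hi⟩ : Fin D.rank) := Fin.ext hxi
            subst this
            by_cases hki : (k : ℕ) = i
            · exact absurd (Fin.ext hki) hkx
            · simp [hxk, hkx, hki]
          · have : ¬ x = (⟨i, hi⟩ : Fin D.rank) := fun hh => hxi (congrArg Fin.val hh)
            simp [hxk, hkx, hxi, this]
        · by_cases hxi : (x : ℕ) = i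
          · have : x = (⟨i, hi⟩ : Fin D.rank) := Fin.ext hxi
            subst this
            simp [hxk, hkx, hxj]
          · have : ¬ x = (⟨i, hi⟩ : Fin D.rank) := fun hh => hxi (congrArg Fin.val hh)
            simp [hxk, hkx, hxi, this, hxj]
    simp only [h1, Finset.sum_add_distrib, Finset.sum_sub_distrib, Finset.sum_ite_eq',
      Finset.mem_univ, if_true, ha]
    rw [Matrix.diagonal_apply]
    simp only [Sum.inl.injEq, Sum.elim_inl]
    split_ifs <;> push_cast <;> ring
  · simp only [PmS_ll, PmS_lr, PmS_rr, zero_mul, mul_zero, Finset.sum_const_zero, add_zero]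
    rw [Matrix.diagonal_apply_ne _ (by simp)]
  · simp only [PmS_ll, PmS_rl, PmS_rr, zero_mul, mul_zero, Finset.sum_const_zero, add_zero]
    rw [Matrix.diagonal_apply_ne _ (by simp)]
  · simp only [PmS_lr, PmS_rl, PmS_rr, zero_mul, Finset.sum_const_zero, zero_add]
    rw [Finset.sum_eq_single (⟨w s.val, hlt s.val s.2⟩ : Fin D.nroots)]
    · simp only [if_true]
      rw [Matrix.diagonal_apply]
      simp only [Sum.inr.injEq, Sum.elim_inr]
      by_cases hus : u = s
      · subst hus
        rw [if_pos (hw u.val u.2).symm, if_pos rfl]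
      · have : ¬ (u : ℕ) = w (w s.val) := by
          rw [hw s.val s.2]
          exact fun hh => hus (Fin.ext hh)
        rw [if_neg this, if_neg hus, zero_mul]
    · intro v _ hv
      have : ¬ (v : ℕ) = w s.val := fun hh => hv (Fin.ext hh)
      rw [if_neg this, mul_zero]
    · intro hh; exact absurd (Finset.mem_univ _) hh

end PmS

/-- the monomial matrix of `n_i(c)` as a sparse matrix in `t = c`, `u = c⁻¹` -/
def PmcSPM (T : FD) (l i ca B : ℕ) : SPM := fun j =>
  cond (Nat.blt j l)
    [⟨j, 1, 0, 0, 0⟩, ⟨i, Int.neg (decodeCartan ca j), 0, 0, 0⟩]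
    [⟨Nat.add l (wOf B (Nat.sub j l)), etaOf B (Nat.sub j l),
      Int.toNat (Int.neg (T.cartan i (Nat.sub j l))), Int.toNat (T.cartan i (Nat.sub j l)), 0⟩]

theorem wf_PmcSPM (T : FD) (D : ChevalleyDatum) (i ca B : ℕ) (hi : i < D.rank)
    (hw : ∀ s < D.nroots, wOf B s < D.nroots) :
    SPM.WF (D.rank + D.nroots) (PmcSPM T D.rank i ca B) := by
  intro j hj e he
  unfold PmcSPM at he
  by_cases h : Nat.blt j D.rank = true
  · rw [h, cond_true] at he
    rw [Nat.blt_eq] at h
    simp only [List.mem_cons, List.not_mem_nil, or_false] at he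
    rcases he with rfl | rfl
    · exact hj
    · simp only; omega
  · rw [Bool.not_eq_true] at h
    rw [h, cond_false] at he
    have h' : ¬ j < D.rank := by rw [← Nat.blt_eq, h]; simp
    simp only [List.mem_cons, List.not_mem_nil, or_false] at he
    subst he
    have := hw (j - D.rank) (by omega)
    show D.rank + wOf B (j - D.rank) < _
    omega

theorem eval_PmcSPM {F : Type*} [Field F] (T : FD) (D : ChevalleyDatum) (i ca B : ℕ)
    (hi : i < D.rank) (c : F) (hc : c ≠ 0) :
    SPM.eval D (PmcSPM T D.rank i ca B) c c⁻¹ 1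
      = PmS F D i (fun j => decodeCartan ca j) (wOf B)
          (fun s => ((etaOf B s : ℤ) : F) * c ^ (-(T.cartan i s))) := by
  ext x y
  simp only [SPM.eval, Matrix.of_apply]
  generalize hcx : code D x = cx
  rcases y with j | s
  · have hj : Nat.blt j.val D.rank = true := by rw [Nat.blt_eq]; exact j.2
    have hcol : PmcSPM T D.rank i ca B (code D (Sum.inl j))
        = [⟨j.val, 1, 0, 0, 0⟩, ⟨i, Int.neg (decodeCartan ca j.val), 0, 0, 0⟩] := by
      simp only [PmcSPM, code, Sum.elim_inl, hj, cond_true]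
    rw [hcol]
    simp only [SVec.eval, List.map_cons, List.map_nil, List.sum_cons, List.sum_nil, add_zero, Ent.val,
      pow_zero, mul_one]
    have e : ((Int.neg (decodeCartan ca j.val) : ℤ) : F) = - ((decodeCartan ca j.val : ℤ) : F) := by
      show (((-(decodeCartan ca j.val) : ℤ)) : F) = _
      push_cast; rfl
    rw [e]
    rcases x with k | u
    · have hcx' : cx = k.val := by rw [← hcx]; rfl
      subst hcx'
      rw [PmS_ll]
      have e1 : (j.val = k.val) ↔ (k = j) := ⟨fun hh => Fin.ext hh.symm, fun hh => by rw [hh]⟩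
      have e2 : (i = k.val) ↔ (k.val = i) := ⟨fun hh => hh.symm, fun hh => hh.symm⟩
      simp only [e1, e2]
      split_ifs <;> simp <;> ring
    · have hcx' : cx = D.rank + u.val := by rw [← hcx]; rfl
      subst hcx'
      rw [PmS_rl]
      have h1 : ¬ (j.val = D.rank + u.val) := by have := j.2; omega
      have h2 : ¬ (i = D.rank + u.val) := by omega
      simp only [h1, h2, if_false, zero_add]
  · have hs : Nat.blt (D.rank + s.val) D.rank = false := by
      rw [← Bool.not_eq_true, Nat.blt_eq]; omega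
    have hsub : Nat.sub (D.rank + s.val) D.rank = s.val := by
      show D.rank + s.val - D.rank = s.val
      omega
    have hcol : PmcSPM T D.rank i ca B (code D (Sum.inr s))
        = [⟨Nat.add D.rank (wOf B s.val), etaOf B s.val,
            Int.toNat (Int.neg (T.cartan i s.val)), Int.toNat (T.cartan i s.val), 0⟩] := by
      simp only [PmcSPM, code, Sum.elim_inr, hs, cond_false, hsub]
    rw [hcol]
    simp only [SVec.eval, List.map_cons, List.map_nil, List.sum_cons, List.sum_nil, add_zero, Ent.val,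
      pow_zero, mul_one]
    have hz : c ^ (Int.toNat (Int.neg (T.cartan i s.val))) * c⁻¹ ^ (Int.toNat (T.cartan i s.val))
        = c ^ (-(T.cartan i s.val)) := by
      have := zpow_split c hc (-(T.cartan i s.val))
      rw [neg_neg] at this
      exact this
    rcases x with k | u
    · have hcx' : cx = k.val := by rw [← hcx]; rfl
      subst hcx'
      rw [PmS_lr]
      have h1 : ¬ (Nat.add D.rank (wOf B s.val) = k.val) := by
        show ¬ (D.rank + wOf B s.val = k.val)
        have := k.2; omega
      rw [if_neg h1]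
    · have hcx' : cx = D.rank + u.val := by rw [← hcx]; rfl
      subst hcx'
      rw [PmS_rr]
      have e1 : (Nat.add D.rank (wOf B s.val) = D.rank + u.val) ↔ (u.val = wOf B s.val) := by
        show (D.rank + wOf B s.val = D.rank + u.val) ↔ _
        constructor <;> intro hh <;> omega
      simp only [e1]
      split_ifs
      · rw [mul_assoc, hz]
      · rfl

/-- the check that `n_i(c)` is the monomial matrix -/
def nmatcb (T : FD) (i B : ℕ) : Bool :=
  forceNat T.rank fun l => forceNat T.nroots fun n => forceNat (T.simple i) fun p =>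
    RD.force (T.rdOf p) fun Rp => RD.force (T.rdOf Rp.negr) fun Rq =>
      wordEqb (Nat.add l n) nrmTU
        [xPR l Rp 1 1 0 0, xPR l Rq (Int.negSucc 0) 0 1 0, xPR l Rp 1 1 0 0]
        [PmcSPM T l i Rp.car B]

section

variable {F : Type*} [Field F] {T : FD} {D : ChevalleyDatum}

theorem nMat_eq_prod (r : ℕ) (c : F) :
    D.nMat F r c = D.x F r c * (D.x F (D.neg r) (-c⁻¹) * D.x F r c) := by
  unfold ChevalleyDatum.nMat ChevalleyDatum.nWord ChevalleyDatum.wordMat
  simp

theorem nMatc_eq (hA : T.Agrees D) (i B : ℕ) (hi : i < D.rank)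
    (hw : ∀ s < D.nroots, wOf B s < D.nroots) (h : nmatcb T i B = true) (c : F) (hc : c ≠ 0) :
    D.nMat F (D.simple i) c
      = PmS F D i (fun j => T.cartan j (T.simple i)) (wOf B)
          (fun s => ((etaOf B s : ℤ) : F) * c ^ (-(T.cartan i s))) := by
  unfold nmatcb at h
  rw [forceNat_eq, forceNat_eq, forceNat_eq, RD.force_eq, RD.force_eq] at h
  have hN : Nat.add T.rank T.nroots = D.rank + D.nroots := by rw [hA.rank_eq, hA.nroots_eq]; rfl
  rw [hN] at h
  have hp := hA.simple_lt i hi
  have hq := hA.neg_lt _ hp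
  have htu : c * c⁻¹ = 1 := mul_inv_cancel₀ hc
  have e := wordEqb_sound D nrmTU c c⁻¹ (1 : F) (nrmTU_val c c⁻¹ 1 htu)
    [T.xP (T.simple i) 1 1 0 0, T.xP (T.neg (T.simple i)) (Int.negSucc 0) 0 1 0,
      T.xP (T.simple i) 1 1 0 0] [PmcSPM T T.rank i (T.rdOf (T.simple i)).car B]
    (by
      intro C hC
      simp only [List.mem_cons, List.not_mem_nil, or_false] at hC
      rcases hC with rfl | rfl | rfl
      · exact FD.wf_xP hA _ hp _ _ _ _
      · exact FD.wf_xP hA _ hq _ _ _ _
      · exact FD.wf_xP hA _ hp _ _ _ _)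
    (by
      intro C hC
      simp only [List.mem_cons, List.not_mem_nil, or_false] at hC
      subst hC
      rw [hA.rank_eq]
      exact wf_PmcSPM T D i _ B hi hw) h
  simp only [List.map_cons, List.map_nil, List.prod_cons, List.prod_nil, mul_one] at e
  rw [FD.eval_xP hA _ hp, FD.eval_xP hA _ hq, hA.rank_eq, eval_PmcSPM T D i _ B hi c hc] at e
  rw [nMat_eq_prod, FD.simple_eq' hA i hi, FD.neg_eq' hA _ hp]
  have z1 : ((1 : ℤ) : F) * c ^ 1 * c⁻¹ ^ 0 * 1 ^ 0 = c := by simp
  have z2 : ((Int.negSucc 0 : ℤ) : F) * c ^ 0 * c⁻¹ ^ 1 * 1 ^ 0 = -c⁻¹ := by simp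
  rw [z1, z2] at e
  rw [e]
  rfl

end

end Cfsg.Agent.Lib.Helper5.Chev
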