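import Cfsg.Agent.Lib.Helper5.Chev.HMat
import Cfsg.Agent.Lib.Helper5.Chev.Transfer
import Mathlib

/-!
# Transfer of the diagonal form of `h_s(c)` along the Weyl group (helper5)
-/

set_option autoImplicit false

namespace Cfsg.Agent.Lib.Helper5.Chev

open Cfsg.Lie
open scoped Matrix

variable {F : Type*} [Field F] {T : FD} {D : ChevalleyDatum}

theorem hMat_eq (r : ℕ) (c : F) : D.hMat F r c = D.nMat F r c * D.nMat F r (-1) := by
  unfold ChevalleyDatum.hMat ChevalleyDatum.hWord ChevalleyDatum.nMat ChevalleyDatum.wordMat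
  rw [List.map_append, List.prod_append]

theorem dK_mul (κ : ℕ → ℤ) (c₁ c₂ : F) :
    dK F D κ c₁ * dK F D κ c₂ = dK F D κ (c₁ * c₂) := by
  unfold dK
  rw [Matrix.diagonal_mul_diagonal]
  congr 1
  ext x
  rcases x with j | s
  · simp
  · simp [mul_zpow]

theorem Pm_mul_dK (i : ℕ) (a : ℕ → ℤ) (w : ℕ → ℕ) (η : ℕ → ℤ)
    (hw : ∀ s < D.nroots, w (w s) = s) (κ : ℕ → ℤ) (c : F) :
    Pm F D i a w η * dK F D κ c = dK F D (fun v => κ (w v)) c * Pm F D i a w η := by
  ext x y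
  unfold dK
  rw [Matrix.mul_diagonal, Matrix.diagonal_mul]
  rcases x with k | u <;> rcases y with j | s
  · simp only [Sum.elim_inl, mul_one, one_mul]
  · simp only [Pm_lr, zero_mul, mul_zero]
  · simp only [Pm_rl, zero_mul, mul_zero]
  · rw [Pm_rr]
    simp only [Sum.elim_inr]
    split_ifs with h
    · rw [h, hw s.val s.2, mul_comm]
    · simp

/-- both forms of `h_s(c)` are the same diagonal matrix of a weight -/
def HForm (F : Type*) [Field F] (D : ChevalleyDatum) (s : ℕ) : Prop :=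
  ∃ κ : ℕ → ℤ, ∀ c : F, c ≠ 0 →
    D.nMat F s c * D.nMat F s (-1) = dK F D κ c ∧ D.nMat F s (-c) * D.nMat F s 1 = dK F D κ c

theorem HForm.hMat_eq' {s : ℕ} (h : HForm F D s) :
    ∃ κ : ℕ → ℤ, ∀ c : F, c ≠ 0 → D.hMat F s c = dK F D κ c := by
  obtain ⟨κ, hκ⟩ := h
  exact ⟨κ, fun c hc => by rw [hMat_eq]; exact (hκ c hc).1⟩

theorem HForm.mul {s : ℕ} (h : HForm F D s) (c₁ c₂ : F) (h₁ : c₁ ≠ 0) (h₂ : c₂ ≠ 0) :
    D.hMat F s c₁ * D.hMat F s c₂ = D.hMat F s (c₁ * c₂) := by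
  obtain ⟨κ, hκ⟩ := h.hMat_eq'
  rw [hκ c₁ h₁, hκ c₂ h₂, hκ _ (mul_ne_zero h₁ h₂), dK_mul]

theorem HForm.second {s : ℕ} (h : HForm F D s) (c : F) (hc : c ≠ 0) :
    D.nMat F s (-c) * D.nMat F s 1 = D.hMat F s c := by
  obtain ⟨κ, hκ⟩ := h
  rw [hMat_eq, (hκ c hc).1, (hκ c hc).2]

theorem neg_one_zpow_natAbs (k : ℤ) : ((-1 : F)) ^ k.natAbs = (-1 : F) ^ k := by
  rcases Int.natAbs_eq k with h | h
  · conv_rhs => rw [h, zpow_natCast]
  · conv_rhs => rw [h, zpow_neg, zpow_natCast, ← inv_pow, inv_neg, inv_one]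

/-- the product of two of the monomial matrices of `n_i` -/
theorem ReflChecks.nn_eq {i B : ℕ} (hA : T.Agrees D) (hi : i < D.rank)
    (c : ReflChecks T D i B) (hcb : nmatcb T i B = true) (z d : F) (hz : z ≠ 0) (hd : d ≠ 0) :
    D.nMat F (D.simple i) z * D.nMat F (D.simple i) d
      = Matrix.diagonal (Sum.elim (fun _ => (1 : F)) (fun s : Fin D.nroots =>
          (-1 : F) ^ (T.cartan i s.val) * (z ^ (T.cartan i s.val) * d ^ (-(T.cartan i s.val))))) := by
  have hcert := c.cert hA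
  rw [nMatc_eq hA i B hi hcert.w_lt hcb z hz, nMatc_eq hA i B hi hcert.w_lt hcb d hd,
    PmS_mul (a := fun j => T.cartan j (T.simple i)) hi hcert.a_i hcert.w_lt hcert.w_w]
  congr 1
  ext x
  rcases x with j | s
  · rfl
  · simp only [Sum.elim_inr]
    have hk : T.cartan i (wOf B s.val) = -(T.cartan i s.val) := by
      have := hcert.cartan_w i hcert.i_lt s.val s.2
      simp only [hcert.a_i] at this
      linarith
    have hside := ((c.side hA).2.2 s.val s.2).1
    have hside' : ((etaOf B s.val : ℤ) : F) * ((etaOf B (wOf B s.val) : ℤ) : F)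
        = (-1 : F) ^ (T.cartan i s.val) := by
      rw [← Int.cast_mul, hside, ← neg_one_zpow_natAbs]
      push_cast
      rfl
    rw [hk, neg_neg, ← hside']
    ring

/-- the diagonal form of `h_{p_i}(c)`, both forms -/
theorem ReflChecks.hform_base {i B : ℕ} (hA : T.Agrees D) (hi : i < D.rank)
    (c : ReflChecks T D i B) (hcb : nmatcb T i B = true) (z : F) (hz : z ≠ 0) :
    D.nMat F (D.simple i) z * D.nMat F (D.simple i) (-1) = dK F D (T.cartan i) z ∧
      D.nMat F (D.simple i) (-z) * D.nMat F (D.simple i) 1 = dK F D (T.cartan i) z := by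
  have h1 : ∀ k : ℤ, (-1 : F) ^ k * (-1 : F) ^ (-k) = 1 := by
    intro k
    rw [← zpow_add₀ (by norm_num : (-1 : F) ≠ 0), add_neg_cancel, zpow_zero]
  have h2 : ∀ k : ℤ, (-1 : F) ^ k * (-1 : F) ^ k = 1 := by
    intro k
    rw [← mul_zpow, neg_mul_neg, one_mul, one_zpow]
  constructor
  · rw [c.nn_eq hA hi hcb z (-1) hz (by norm_num)]
    unfold dK
    congr 1
    ext x
    rcases x with j | s
    · rfl
    · simp only [Sum.elim_inr]
      linear_combination (z ^ T.cartan i s.val) * h1 (T.cartan i s.val)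
  · rw [c.nn_eq hA hi hcb (-z) 1 (neg_ne_zero.2 hz) one_ne_zero]
    unfold dK
    congr 1
    ext x
    rcases x with j | s
    · rfl
    · simp only [Sum.elim_inr]
      have : (-z) ^ (T.cartan i s.val) = (-1 : F) ^ (T.cartan i s.val) * z ^ (T.cartan i s.val) := by
        rw [← mul_zpow, neg_one_mul]
      rw [this, one_zpow]
      linear_combination (z ^ T.cartan i s.val) * h2 (T.cartan i s.val)

theorem ReflChecks.hform_simple {i B : ℕ} (hA : T.Agrees D) (hi : i < D.rank)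
    (c : ReflChecks T D i B) (hcb : nmatcb T i B = true) : HForm F D (D.simple i) :=
  ⟨T.cartan i, fun z hz => c.hform_base hA hi hcb z hz⟩

/-- the diagonal matrix of `h_{p_i}(c)` -/
theorem ReflChecks.hMat_simple {i B : ℕ} (hA : T.Agrees D) (hi : i < D.rank)
    (c : ReflChecks T D i B) (hcb : nmatcb T i B = true) (z : F) (hz : z ≠ 0) :
    D.hMat F (D.simple i) z = dK F D (D.cartan i) z := by
  rw [hMat_eq, (c.hform_base hA hi hcb z hz).1]
  exact dK_congr D _ _ (fun s hs => (FD.cartan_eq' hA i s hi hs).symm) z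

theorem eta_inv (η : ℤ) (hη : η = 1 ∨ η = -1) (z : F) :
    -((η : F) * z)⁻¹ = (η : F) * (-z⁻¹) := by
  rcases hη with h | h <;> rw [h] <;> simp [inv_neg]

/-- `n_i n_s(z) = n_{w s}(η z) n_i` -/
theorem ReflChecks.conj_nMat {i B : ℕ} (hA : T.Agrees D) (hi : i < D.rank)
    (c : ReflChecks T D i B) (s : ℕ) (hs : s < D.nroots) (z : F) :
    D.nMat F (D.simple i) 1 * D.nMat F s z
      = D.nMat F (wOf B s) (((etaOf B s : ℤ) : F) * z) * D.nMat F (D.simple i) 1 := by
  have hcert := c.cert hA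
  have hns := hA.neg_lt s hs
  have e1 := c.conj_x (F := F) hA hi s hs z
  have e2 := c.conj_x (F := F) hA hi (D.neg s) (by rw [FD.neg_eq' hA s hs]; exact hns) (-z⁻¹)
  have hw : wOf B (D.neg s) = D.neg (wOf B s) := by
    rw [FD.neg_eq' hA s hs, FD.neg_eq' hA _ (hcert.w_lt s hs), hcert.neg_w s hs]
  have he : etaOf B (D.neg s) = etaOf B s := by
    rw [FD.neg_eq' hA s hs, hcert.neg_eta s hs]
  rw [hw, he] at e2
  rw [nMat_eq_prod s, nMat_eq_prod (wOf B s), eta_inv _ (etaOf_pm B s)]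
  calc D.nMat F (D.simple i) 1 * (D.x F s z * (D.x F (D.neg s) (-z⁻¹) * D.x F s z))
      = (D.nMat F (D.simple i) 1 * D.x F s z) * (D.x F (D.neg s) (-z⁻¹) * D.x F s z) := by
        simp only [Matrix.mul_assoc]
    _ = D.x F (wOf B s) (((etaOf B s : ℤ) : F) * z) *
          ((D.nMat F (D.simple i) 1 * D.x F (D.neg s) (-z⁻¹)) * D.x F s z) := by
        rw [e1]; simp only [Matrix.mul_assoc]
    _ = D.x F (wOf B s) (((etaOf B s : ℤ) : F) * z) *
          (D.x F (D.neg (wOf B s)) (((etaOf B s : ℤ) : F) * -z⁻¹) *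
            (D.nMat F (D.simple i) 1 * D.x F s z)) := by
        rw [e2]; simp only [Matrix.mul_assoc]
    _ = _ := by
        rw [e1]; simp only [Matrix.mul_assoc]

/-- `n_i (n_s(z₁) n_s(z₂)) = n_{w s}(η z₁) n_{w s}(η z₂) n_i` -/
theorem ReflChecks.conj_nMat2 {i B : ℕ} (hA : T.Agrees D) (hi : i < D.rank)
    (c : ReflChecks T D i B) (s : ℕ) (hs : s < D.nroots) (z₁ z₂ : F) :
    D.nMat F (D.simple i) 1 * (D.nMat F s z₁ * D.nMat F s z₂)
      = D.nMat F (wOf B s) (((etaOf B s : ℤ) : F) * z₁) *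
          D.nMat F (wOf B s) (((etaOf B s : ℤ) : F) * z₂) * D.nMat F (D.simple i) 1 := by
  rw [← Matrix.mul_assoc, c.conj_nMat hA hi s hs, Matrix.mul_assoc, c.conj_nMat hA hi s hs,
    Matrix.mul_assoc]

theorem ReflChecks.nMat_mul_dK {i B : ℕ} (hA : T.Agrees D) (hi : i < D.rank)
    (c : ReflChecks T D i B) (κ : ℕ → ℤ) (z : F) :
    D.nMat F (D.simple i) 1 * dK F D κ z
      = dK F D (fun v => κ (wOf B v)) z * D.nMat F (D.simple i) 1 := by
  have hcert := c.cert hA
  rw [nMat_eq hA i B hi hcert.w_lt c.hN]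
  exact Pm_mul_dK i _ _ _ hcert.w_w κ z

/-- transfer of the diagonal form -/
theorem ReflChecks.hform_transfer {i B : ℕ} (hA : T.Agrees D) (hi : i < D.rank)
    (c : ReflChecks T D i B) (hp : Additive F D (D.simple i))
    (hq : Additive F D (D.neg (D.simple i))) (s : ℕ) (hs : s < D.nroots)
    (h : HForm F D (wOf B s)) : HForm F D s := by
  have hcert := c.cert hA
  obtain ⟨κ, hκ⟩ := h
  have hr := hcert.w_lt s hs
  refine ⟨fun v => κ (wOf B v), fun z hz => ?_⟩
  -- move everything to the root `r = w s`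
  have key : ∀ z₁ z₂ : F, D.nMat F s z₁ * D.nMat F s z₂
      = D.nMat F (D.simple i) 1 * (D.nMat F (wOf B s) (((etaOf B (wOf B s) : ℤ) : F) * z₁) *
          D.nMat F (wOf B s) (((etaOf B (wOf B s) : ℤ) : F) * z₂)) * nInv F D (D.simple i) := by
    intro z₁ z₂
    have h1 := c.conj_nMat2 (F := F) hA hi (wOf B s) hr (((etaOf B (wOf B s) : ℤ) : F) * z₁)
      (((etaOf B (wOf B s) : ℤ) : F) * z₂)
    have e3 : ∀ y : F, ((etaOf B (wOf B s) : ℤ) : F) * (((etaOf B (wOf B s) : ℤ) : F) * y) = y := by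
      intro y
      rw [← mul_assoc, hcert.eta_sq (F := F) _ hr, one_mul]
    rw [hcert.w_w s hs, e3, e3] at h1
    rw [h1, Matrix.mul_assoc, nMat_mul_nInv hp hq, Matrix.mul_one]
  have fin : ∀ M : Matrix D.Idx D.Idx F, M = dK F D κ z →
      D.nMat F (D.simple i) 1 * M * nInv F D (D.simple i) = dK F D (fun v => κ (wOf B v)) z := by
    intro M hM
    rw [hM, c.nMat_mul_dK hA hi, Matrix.mul_assoc, nMat_mul_nInv hp hq, Matrix.mul_one]
  have hz' : -z ≠ 0 := neg_ne_zero.2 hz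
  rcases etaOf_pm B (wOf B s) with he | he
  · rw [key, key, he]
    simp only [Int.cast_one, one_mul]
    exact ⟨fin _ (hκ z hz).1, fin _ (hκ z hz).2⟩
  · rw [key, key, he]
    simp only [Int.cast_neg, Int.cast_one, neg_mul, one_mul, neg_neg]
    exact ⟨fin _ (hκ z hz).2, fin _ (hκ z hz).1⟩

/-- conjugation of `h_s(t)` by `n_i` -/
theorem ReflChecks.conj_hMat {i B : ℕ} (hA : T.Agrees D) (hi : i < D.rank)
    (c : ReflChecks T D i B) (s : ℕ) (hs : s < D.nroots) (hH : HForm F D (wOf B s)) (t : F)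
    (ht : t ≠ 0) :
    D.nMat F (D.simple i) 1 * D.hMat F s t
      = D.hMat F (D.reflectRoot i s) t * D.nMat F (D.simple i) 1 := by
  have hw : D.reflectRoot i s = wOf B s := by
    rw [FD.reflect_eq hA i s hi hs, ((c.side hA).2.2 s hs).2.2]
  rw [hw, hMat_eq, c.conj_nMat2 hA hi s hs]
  rcases etaOf_pm B s with he | he
  · rw [he, hMat_eq]
    simp only [Int.cast_one, one_mul]
  · rw [he]
    simp only [Int.cast_neg, Int.cast_one, neg_mul, one_mul, neg_neg]
    rw [hH.second t ht]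

/-- the diagonal form for all roots -/
theorem hform_all (hA : T.Agrees D) (Bs : List ℕ)
    (hB : ∀ i < D.rank, ReflChecks T D i (Bs.getD i 0))
    (hadd : ∀ s < D.nroots, Additive F D s)
    (gH : ℕ) (baseH : List ℕ) (fuel : ℕ) (hr : reachb T Bs gH baseH fuel = true)
    (hbase : ∀ s ∈ baseH, ∃ j < D.rank, s = D.simple j)
    (hm : ∀ j < D.rank, nmatcb T j (Bs.getD j 0) = true) :
    ∀ s < D.nroots, HForm F D s := by
  apply reach_all hA (HForm F D) Bs gH baseH fuel hr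
  · intro s hs
    obtain ⟨j, hj, rfl⟩ := hbase s hs
    exact (hB j hj).hform_simple hA hj (hm j hj)
  · intro i hi s hs
    exact ((hB i hi).cert hA).w_lt s hs
  · intro i hi s hs h
    have hp : D.simple i < D.nroots := by
      rw [FD.simple_eq' hA i hi]; exact hA.simple_lt i hi
    have hq : D.neg (D.simple i) < D.nroots := by
      rw [FD.neg_eq' hA _ hp, FD.simple_eq' hA i hi]; exact hA.neg_lt _ (hA.simple_lt i hi)
    exact (hB i hi).hform_transfer hA hi (hadd _ hp) (hadd _ hq) s hs h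

end Cfsg.Agent.Lib.Helper5.Chev
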