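import Cfsg.Agent.Lib.Helper5.Chev.LeviGrade
import Cfsg.Agent.Lib.Helper5.Chev.DataG2
import Cfsg.Agent.Lib.Helper5.Chev.TrG2
import Mathlib

set_option autoImplicit false
set_option maxRecDepth 100000

namespace Cfsg.Agent.Lib.Helper5.Chev.LvG2

open Cfsg.Lie Cfsg.Agent.Lib.Helper5.Chev Cfsg.Agent.Lib.Helper5.Chev.BT

/-- the coordinates of the roots in the fundamental roots -/
def mT : BT (List ℤ) := (node (node (node (node leaf [Int.ofNat 1, Int.ofNat 0] leaf) [Int.negSucc 0, Int.negSucc 0] (node leaf [Int.ofNat 3, Int.ofNat 2] leaf)) [Int.negSucc 2, Int.negSucc 0] (node (node leaf [Int.ofNat 2, Int.ofNat 1] leaf) [Int.ofNat 0, Int.negSucc 0] leaf)) [Int.negSucc 2, Int.negSucc 1] (node (node (node leaf [Int.ofNat 1, Int.ofNat 1] leaf) [Int.negSucc 0, Int.ofNat 0] leaf) [Int.negSucc 1, Int.negSucc 0] (node (node leaf [Int.ofNat 3, Int.ofNat 1] leaf) [Int.ofNat 0, Int.ofNat 1] leaf)))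

theorem rc0 : rcb DataG2.fd mT 0 12 = true := by decide +kernel

theorem rcOK : ∀ r < chevG2.nroots, RootCoordOK DataG2.fd chevG2 mT r :=
  rootCoordOK_all DataG2.agrees mT 12 1 (by norm_num) (by decide)
    (by intro q hq; interval_cases q
        · exact rc0
    )

theorem lv0 : levib DataG2.fd 0 12 = true := by decide +kernel

theorem posIff : ∀ r < chevG2.nroots, (chevG2.IsPosRoot r ↔ chevG2.nroots / 2 ≤ r) :=
  pos_iff_of_tri DataG2.agrees TrG2.triOK (pos_or_neg_all chevG2 (by simp))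

theorem leviOK : ∀ r < chevG2.nroots, LeviOK DataG2.fd chevG2 r :=
  leviOK_all DataG2.agrees posIff 12 1 (by norm_num) (by decide)
    (by intro q hq; interval_cases q
        · exact lv0
    )

end Cfsg.Agent.Lib.Helper5.Chev.LvG2
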