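import Cfsg.Agent.Lib.Helper5.Chev.HCard
import Cfsg.Agent.Lib.Helper5.Chev.LvG2
import Mathlib

set_option autoImplicit false
set_option maxRecDepth 100000

namespace Cfsg.Agent.Lib.Helper5.Chev.HcG2

open Cfsg.Lie Cfsg.Agent.Lib.Helper5.Chev

def PL : List (List ℤ) := [[Int.ofNat 0, Int.negSucc 0], [Int.ofNat 1, Int.ofNat 2]]
def P : Matrix (Fin chevG2.rank) (Fin chevG2.rank) ℤ := fun i j => (PL.getD i.val []).getD j.val 0
def P'L : List (List ℤ) := [[Int.ofNat 2, Int.ofNat 1], [Int.negSucc 0, Int.ofNat 0]]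
def P' : Matrix (Fin chevG2.rank) (Fin chevG2.rank) ℤ := fun i j => (P'L.getD i.val []).getD j.val 0
def QL : List (List ℤ) := [[Int.ofNat 1, Int.ofNat 2], [Int.ofNat 0, Int.ofNat 1]]
def Q : Matrix (Fin chevG2.rank) (Fin chevG2.rank) ℤ := fun i j => (QL.getD i.val []).getD j.val 0
def Q'L : List (List ℤ) := [[Int.ofNat 1, Int.negSucc 1], [Int.ofNat 0, Int.ofNat 1]]
def Q' : Matrix (Fin chevG2.rank) (Fin chevG2.rank) ℤ := fun i j => (Q'L.getD i.val []).getD j.val 0
def dL : List ℕ := [1, 1]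
def d : Fin chevG2.rank → ℕ := fun i => dL.getD i.val 0
def Mt : Matrix (Fin chevG2.rank) (Fin chevG2.nroots) ℤ := fun j v => mOf LvG2.mT v.val j.val

theorem hC : cartanM chevG2 = cartanA chevG2 * Mt := by decide +kernel
theorem hP : P' * P = 1 := by decide +kernel
theorem hP2 : P * P' = 1 := by decide +kernel
theorem hQ : Q * Q' = 1 := by decide +kernel
theorem hS : P * cartanA chevG2 * Q = Matrix.diagonal fun i => (d i : ℤ) := by decide +kernel

end Cfsg.Agent.Lib.Helper5.Chev.HcG2
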