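import Cfsg.Agent.Lib.Helper5.Chev.IrrChev
import Mathlib

set_option autoImplicit false
set_option maxRecDepth 100000

namespace Cfsg.Agent.Lib.Helper5.Chev.IrG2

open Cfsg.Lie Cfsg.Agent.Lib.Helper5.Chev

theorem irr : irrb DataG2.fd BsG2.Bs CxG2.mLL [0, 1] [0, 0] = true := by decide +kernel

end Cfsg.Agent.Lib.Helper5.Chev.IrG2
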