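import Cfsg.Agent.Lib.Helper5.Chev.BNPairChev
import Mathlib

/-!
# Irreducibility of the `(B, N)`-pair of a Chevalley group (helper5)
-/

set_option autoImplicit false

namespace Cfsg.Agent.Lib.Helper5.Chev

open Cfsg.Lie
open scoped Matrix

/-- a crossing edge for a predicate that is neither empty nor full, along an enumeration of the
nodes in which every node but the first is joined to an earlier one -/
theorem exists_crossing (l : ℕ) (adj : ℕ → ℕ → Prop) (ord par : ℕ → ℕ)
    (hsurj : ∀ i < l, ∃ k < l, ord k = i) (hlt : ∀ k < l, ord k < l)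
    (hpar : ∀ k < l, k ≠ 0 → par k < k ∧ adj (ord (par k)) (ord k)) (A : ℕ → Prop)
    (hin : ∃ i < l, A i) (hout : ∃ j < l, ¬ A j) :
    ∃ i < l, ∃ j < l, A i ∧ ¬ A j ∧ (adj i j ∨ adj j i) := by
  classical
  obtain ⟨i1, hi1, ha1⟩ := hin
  obtain ⟨j1, hj1, ha2⟩ := hout
  obtain ⟨k1, hk1, rfl⟩ := hsurj i1 hi1
  obtain ⟨k2, hk2, rfl⟩ := hsurj j1 hj1
  have hex : ∃ k, k < l ∧ ¬ (A (ord k) ↔ A (ord 0)) := by
    by_cases h0 : A (ord 0)
    · exact ⟨k2, hk2, fun h => ha2 (h.2 h0)⟩
    · exact ⟨k1, hk1, fun h => h0 (h.1 ha1)⟩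
  have hk := Nat.find_spec hex
  have hmin := fun m (hm : m < Nat.find hex) => Nat.find_min hex hm
  set k := Nat.find hex with hkdef
  have hk0 : k ≠ 0 := by
    intro h0
    rw [h0] at hk
    exact hk.2 Iff.rfl
  obtain ⟨hp1, hp2⟩ := hpar k hk.1 hk0
  have hpk : A (ord (par k)) ↔ A (ord 0) := by
    by_contra hcon
    exact hmin (par k) hp1 ⟨by omega, hcon⟩
  by_cases hA : A (ord k)
  · refine ⟨ord k, hlt k hk.1, ord (par k), hlt _ (by omega), hA, ?_, Or.inr hp2⟩
    intro h
    exact hk.2 ⟨fun _ => hpk.1 h, fun _ => hA⟩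
  · refine ⟨ord (par k), hlt _ (by omega), ord k, hlt k hk.1, ?_, hA, Or.inl hp2⟩
    by_contra h
    apply hk.2
    constructor
    · intro h'; exact absurd h' hA
    · intro h'; exact absurd (hpk.2 h') h

/-- the check of the connectivity of the diagram and of the descents of `(w_i w_j)²` for the
joined nodes -/
def irrb (T : FD) (Bs : List ℕ) (mLL : List (List ℕ)) (ord par : List ℕ) : Bool :=
  forceNat T.nroots fun n => forceNat T.rank fun l => forceNat (Nat.div n 2) fun h =>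
    (allBelow l fun i => anyBelow l fun k => Nat.beq (ord.getD k l) i) &&
    (allBelow l fun k => Nat.blt (ord.getD k l) l &&
      (Nat.beq k 0 || (Nat.blt (par.getD k 0) k &&
        Nat.ble 3 (mOfL mLL (ord.getD (par.getD k 0) l) (ord.getD k l))))) &&
    (allBelow l fun i => allBelow l fun j => Nat.beq i j || Nat.blt (mOfL mLL i j) 3 ||
      anyBelow l fun i' => Nat.blt (wW Bs [i, j, i, j] (T.simple i')) h)

structure IrrOK (T : FD) (Bs : List ℕ) (mLL : List (List ℕ)) : Prop where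
  cross : ∀ A : ℕ → Prop, (∃ i < T.rank, A i) → (∃ j < T.rank, ¬ A j) →
    ∃ i < T.rank, ∃ j < T.rank, A i ∧ ¬ A j ∧ (3 ≤ mOfL mLL i j ∨ 3 ≤ mOfL mLL j i)
  desc : ∀ i < T.rank, ∀ j < T.rank, i ≠ j → 3 ≤ mOfL mLL i j →
    ∃ i' < T.rank, wW Bs [i, j, i, j] (T.simple i') < T.nroots / 2

theorem irrOK_of_check (T : FD) (Bs : List ℕ) (mLL : List (List ℕ)) (ord par : List ℕ)
    (h : irrb T Bs mLL ord par = true) : IrrOK T Bs mLL := by
  unfold irrb at h
  rw [forceNat_eq, forceNat_eq, forceNat_eq, Bool.and_eq_true, Bool.and_eq_true] at h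
  have hdiv : Nat.div T.nroots 2 = T.nroots / 2 := rfl
  rw [hdiv] at h
  obtain ⟨⟨h1, h2⟩, h3⟩ := h
  constructor
  · apply exists_crossing T.rank (fun i j => 3 ≤ mOfL mLL i j) (fun k => ord.getD k T.rank)
      (fun k => par.getD k 0)
    · intro i hi
      obtain ⟨k, hk, hk2⟩ := anyBelow_spec _ _ (allBelow_spec _ _ h1 i hi)
      exact ⟨k, hk, Nat.eq_of_beq_eq_true hk2⟩
    · intro k hk
      have := allBelow_spec _ _ h2 k hk
      rw [Bool.and_eq_true, Nat.blt_eq] at this
      exact this.1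
    · intro k hk hk0
      have := allBelow_spec _ _ h2 k hk
      rw [Bool.and_eq_true, Bool.or_eq_true, Bool.and_eq_true, Nat.blt_eq, Nat.ble_eq] at this
      rcases this.2 with h4 | h4
      · exact absurd (Nat.eq_of_beq_eq_true h4) hk0
      · exact ⟨by have := h4.1; rwa [Nat.blt_eq] at this, h4.2⟩
  · intro i hi j hj hij hm
    have := allBelow_spec _ _ (allBelow_spec _ _ h3 i hi) j hj
    rw [Bool.or_eq_true, Bool.or_eq_true] at this
    rcases this with (h4 | h4) | h4
    · exact absurd (Nat.eq_of_beq_eq_true h4) hij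
    · rw [Nat.blt_eq] at h4; omega
    · obtain ⟨i', hi', h5⟩ := anyBelow_spec _ _ h4
      rw [Nat.blt_eq] at h5
      exact ⟨i', hi', h5⟩

end Cfsg.Agent.Lib.Helper5.Chev
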