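import Cfsg.Agent.Lib.Helper5.Chev.Bridge
import Mathlib

/-!
# Monomial symmetries of Chevalley data (helper5)

A certificate for a reflection `w` of the roots with signs `η`, given on the fast datum, and the
matrix identity `P * x_r(t) = x_{w r}(η_r t) * P` for the monomial matrix `P` it defines.
-/

set_option autoImplicit false

namespace Cfsg.Agent.Lib.Helper5.Chev

open Cfsg.Lie
open scoped Matrix

/-- the chain entry transformed by the symmetry -/
def adjCh (w : ℕ → ℕ) (η : ℕ → ℤ) (er es : ℤ) (L : List (ℕ × ℤ)) : List (ℕ × ℤ) :=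
  L.zipIdx.map fun q => (w q.1.1, Int.mul (Int.mul (Int.mul (η q.1.1) es) (zpow' er (Nat.succ q.2))) q.1.2)

/-- certificate of a monomial symmetry -/
structure MonoCert (T : FD) (n l i : ℕ) (a : ℕ → ℤ) (w : ℕ → ℕ) (η : ℕ → ℤ) : Prop where
  i_lt : i < l
  a_i : a i = 2
  w_lt : ∀ s < n, w s < n
  w_w : ∀ s < n, w (w s) = s
  eta_pm : ∀ s < n, η s = 1 ∨ η s = -1
  neg_w : ∀ s < n, T.neg (w s) = w (T.neg s)
  neg_eta : ∀ s < n, η (T.neg s) = η s
  cartan_w : ∀ j < l, ∀ s < n, T.cartan j s = T.cartan j (w s) - a j * T.cartan i (w s)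
  coroot_w : ∀ k < l, ∀ s < n, (T.corootL (w s)).getD k 0 = (T.corootL s).getD k 0 -
    (if k = i then ((List.range l).map fun j => a j * (T.corootL s).getD j 0).sum else 0)
  chain_w : ∀ r < n, ∀ s < n, T.ch (w r) (w s) = adjCh w η (η r) (η s) (T.ch r s)

section

variable {F : Type*} [Field F] {T : FD} {D : ChevalleyDatum} {i : ℕ} {a : ℕ → ℤ} {w : ℕ → ℕ}
  {η : ℕ → ℤ}

/-- the monomial matrix -/
def Pm (F : Type*) [Field F] (D : ChevalleyDatum) (i : ℕ) (a : ℕ → ℤ) (w : ℕ → ℕ) (η : ℕ → ℤ) :
    Matrix D.Idx D.Idx F :=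
  Matrix.of (fun (row col : D.Idx) =>
    Sum.elim
      (fun j' : Fin D.rank => Sum.elim
        (fun j : Fin D.rank => (if j' = j then (1 : F) else 0) - (if (j' : ℕ) = i then ((a j : ℤ) : F) else 0))
        (fun _ => (0 : F)) col)
      (fun s' : Fin D.nroots => Sum.elim
        (fun _ => (0 : F))
        (fun s : Fin D.nroots => if (s' : ℕ) = w s then ((η s : ℤ) : F) else 0) col)
      row)

theorem zipIdx_map_zipIdx {α β : Type*} (g : α × ℕ → β) (L : List α) (k : ℕ) :
    ((L.zipIdx k).map g).zipIdx k = (L.zipIdx k).map fun q => (g q, q.2) := by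
  induction L generalizing k with
  | nil => rfl
  | cons x L ih =>
    rw [List.zipIdx_cons, List.map_cons, List.zipIdx_cons, List.map_cons, ih]

variable (c : MonoCert T D.nroots D.rank i a w η)
include c

theorem MonoCert.w_inj {r s : ℕ} (hr : r < D.nroots) (hs : s < D.nroots) (h : w r = w s) : r = s := by
  rw [← c.w_w r hr, ← c.w_w s hs, h]

theorem MonoCert.eta_sq (s : ℕ) (hs : s < D.nroots) : ((η s : ℤ) : F) * ((η s : ℤ) : F) = 1 := by
  rcases c.eta_pm s hs with h | h <;> rw [h] <;> simp

/-- the chain coefficients are compatible with the symmetry -/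
theorem MonoCert.chain_inv (h : T.Agrees D) (r s u : ℕ) (hr : r < D.nroots) (hs : s < D.nroots)
    (hu : u < D.nroots) :
    D.chainCoeff (w r) (w s) (w u) =
      (D.chainCoeff r s u).map (fun km => (km.1, η u * η s * η r ^ km.1 * km.2)) := by
  rw [FD.chainCoeff_eq h _ _ _ (c.w_lt r hr) (c.w_lt s hs), FD.chainCoeff_eq h _ _ _ hr hs,
    c.chain_w r hr s hs]
  unfold FD.coeffOf adjCh
  rw [zipIdx_map_zipIdx, List.filter_map, List.map_map, List.map_map]
  have hfilt : ((T.ch r s).zipIdx.filter ((fun q : (ℕ × ℤ) × ℕ => decide (q.1.1 = w u)) ∘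
      fun q : (ℕ × ℤ) × ℕ => ((w q.1.1,
        Int.mul (Int.mul (Int.mul (η q.1.1) (η s)) (zpow' (η r) (Nat.succ q.2))) q.1.2), q.2)))
      = (T.ch r s).zipIdx.filter (fun q => decide (q.1.1 = u)) := by
    apply List.filter_congr
    intro q hq
    have hq1 : q.1 ∈ T.ch r s := by
      have := List.mem_zipIdx_iff_getElem?.1 hq
      exact List.mem_of_getElem? this
    have hlt := h.chain_lt r hr s hs q.1 hq1
    simp only [Function.comp]
    exact decide_eq_decide.2 ⟨fun hh => c.w_inj hlt hu hh, fun hh => by rw [hh]⟩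
  rw [hfilt]
  apply List.map_congr_left
  intro q hq
  have hqu : q.1.1 = u := by
    have := (List.mem_filter.1 hq).2
    simpa using this
  simp only [Function.comp, hqu, zpow'_eq]
  rfl

end

section conj

variable {F : Type*} [Field F] {T : FD} {D : ChevalleyDatum} {i : ℕ} {a : ℕ → ℤ} {w : ℕ → ℕ}
  {η : ℕ → ℤ}

theorem xMat_ll (r : Fin D.nroots) (t : F) (i' i : Fin D.rank) :
    D.xMat F r t (Sum.inl i') (Sum.inl i) = if i' = i then 1 else 0 := rfl

theorem xMat_rl (r : Fin D.nroots) (t : F) (u : Fin D.nroots) (i : Fin D.rank) :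
    D.xMat F r t (Sum.inr u) (Sum.inl i)
      = if u = r then - (((D.cartanSR.getD i.val #[]).getD r.val 0 : ℤ) : F) * t else 0 := rfl

theorem xMat_lr (r : Fin D.nroots) (t : F) (k : Fin D.rank) (s : Fin D.nroots) :
    D.xMat F r t (Sum.inl k) (Sum.inr s)
      = if s.val = D.negIdx.getD r.val 0 ∧ s ≠ r
          then (((D.coroot.getD r.val #[]).getD k.val 0 : ℤ) : F) * t else 0 := by
  simp only [ChevalleyDatum.xMat, Matrix.of_apply]
  by_cases h1 : s = r
  · simp [h1]
  · by_cases h2 : s.val = D.negIdx.getD r.val 0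
    · simp [h1, h2]
    · simp [h1, h2]

variable (c : MonoCert T D.nroots D.rank i a w η)
include c

/-- the image of a root -/
def MonoCert.wF (r : Fin D.nroots) : Fin D.nroots := ⟨w r.val, c.w_lt r.val r.2⟩

omit [Field F] in
theorem MonoCert.wF_inj : Function.Injective c.wF := by
  intro r s hrs
  exact Fin.ext (c.w_inj r.2 s.2 (congrArg Fin.val hrs))

omit [Field F] in
theorem MonoCert.wF_wF (r : Fin D.nroots) : c.wF (c.wF r) = r := Fin.ext (c.w_w r.val r.2)

/-- root-root entries -/
theorem MonoCert.core_rr (h : T.Agrees D) (r : Fin D.nroots) (t : F) (u s : Fin D.nroots) :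
    ((η u.val : ℤ) : F) * D.xMat F r t (Sum.inr u) (Sum.inr s) * ((η s.val : ℤ) : F)
      = D.xMat F (c.wF r) (((η r.val : ℤ) : F) * t) (Sum.inr (c.wF u)) (Sum.inr (c.wF s)) := by
  have hsq := fun (x : Fin D.nroots) => c.eta_sq (F := F) x.val x.2
  simp only [ChevalleyDatum.xMat, Matrix.of_apply, c.wF_inj.eq_iff]
  by_cases h1 : s = r
  · simp only [if_pos h1]
    split_ifs with hh
    · subst hh; subst h1
      rw [mul_one]; exact hsq _
    · simp
  · simp only [if_neg h1]
    have hnegiff : ((c.wF s).val = D.negIdx.getD (c.wF r).val 0) ↔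
        (s.val = D.negIdx.getD r.val 0) := by
      simp only [MonoCert.wF]
      rw [← h.neg_eq _ (c.w_lt r.val r.2), c.neg_w r.val r.2, ← h.neg_eq r.val r.2]
      constructor
      · intro hh
        exact c.w_inj s.2 (h.neg_lt r.val r.2) hh
      · intro hh
        rw [hh]
    by_cases h2 : s.val = D.negIdx.getD r.val 0
    · simp only [if_pos h2, if_pos (hnegiff.2 h2)]
      have heps : ((η s.val : ℤ) : F) = ((η r.val : ℤ) : F) := by
        rw [h2, ← h.neg_eq r.val r.2, c.neg_eta r.val r.2]
      split_ifs with h3 h4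
      · subst h3
        rw [mul_one]; exact hsq _
      · subst h4
        rw [heps]
        ring
      · simp
    · simp only [if_neg h2, if_neg (fun hh => h2 (hnegiff.1 hh))]
      have hch := c.chain_inv h r.val s.val u.val r.2 s.2 u.2
      simp only [MonoCert.wF]
      rw [hch, List.map_map, mul_add, add_mul]
      congr 1
      · split_ifs with hh
        · subst hh
          rw [mul_one]; exact hsq _
        · simp
      · rw [← List.sum_map_mul_left, ← List.sum_map_mul_right]
        congr 1
        apply List.map_congr_left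
        intro km _
        simp only [Function.comp]
        push_cast
        have h5 : ((η r.val : ℤ) : F) ^ km.1 * ((η r.val : ℤ) : F) ^ km.1 = 1 := by
          rw [← mul_pow, hsq r, one_pow]
        rw [mul_pow]
        linear_combination (-(((η u.val : ℤ) : F) * ((η s.val : ℤ) : F) *
          ((km.2 : ℤ) : F) * t ^ km.1)) * h5

end conj

theorem list_sum_range_eq {M : Type*} [AddCommMonoid M] (f : ℕ → M) (l : ℕ) :
    ((List.range l).map f).sum = ∑ j ∈ Finset.range l, f j := by
  induction l with
  | zero => simp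
  | succ l ih => rw [List.range_succ, List.map_append, List.sum_append, ih, Finset.sum_range_succ]; simp

section conj2

variable {F : Type*} [Field F] {T : FD} {D : ChevalleyDatum} {i : ℕ} {a : ℕ → ℤ} {w : ℕ → ℕ}
  {η : ℕ → ℤ}

theorem Pm_ll (k j : Fin D.rank) : Pm F D i a w η (Sum.inl k) (Sum.inl j)
    = (if k = j then (1 : F) else 0) - (if (k : ℕ) = i then ((a j : ℤ) : F) else 0) := rfl
theorem Pm_lr (k : Fin D.rank) (s : Fin D.nroots) : Pm F D i a w η (Sum.inl k) (Sum.inr s) = 0 := rfl
theorem Pm_rl (u : Fin D.nroots) (j : Fin D.rank) : Pm F D i a w η (Sum.inr u) (Sum.inl j) = 0 := rfl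
theorem Pm_rr (u s : Fin D.nroots) : Pm F D i a w η (Sum.inr u) (Sum.inr s)
    = if (u : ℕ) = w s then ((η s : ℤ) : F) else 0 := rfl

variable (c : MonoCert T D.nroots D.rank i a w η)
include c

theorem MonoCert.conj (h : T.Agrees D) (r : Fin D.nroots) (t : F) :
    Pm F D i a w η * D.xMat F r t
      = D.xMat F (c.wF r) (((η r.val : ℤ) : F) * t) * Pm F D i a w η := by
  have hsq := fun (x : Fin D.nroots) => c.eta_sq (F := F) x.val x.2
  have hnegiff : ∀ s : Fin D.nroots, ((c.wF s).val = D.negIdx.getD (c.wF r).val 0) ↔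
      (s.val = D.negIdx.getD r.val 0) := by
    intro s
    simp only [MonoCert.wF]
    rw [← h.neg_eq _ (c.w_lt r.val r.2), c.neg_w r.val r.2, ← h.neg_eq r.val r.2]
    constructor
    · intro hh
      exact c.w_inj s.2 (h.neg_lt r.val r.2) hh
    · intro hh
      rw [hh]
  ext x y
  rw [Matrix.mul_apply, Matrix.mul_apply, Fintype.sum_sum_type, Fintype.sum_sum_type]
  rcases x with k | u <;> rcases y with j | s
  · simp only [Pm_ll, Pm_lr, Pm_rl, xMat_ll, xMat_lr, zero_mul, mul_zero, Finset.sum_const_zero,
      add_zero, mul_ite, mul_one, ite_mul, one_mul, Finset.sum_ite_eq, Finset.sum_ite_eq',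
      Finset.mem_univ, if_true]
  · simp only [Pm_ll, Pm_lr, Pm_rr, xMat_ll, xMat_lr, zero_mul, mul_zero, Finset.sum_const_zero,
      add_zero, zero_add]
    rw [Finset.sum_eq_single (c.wF s)]
    · rw [if_pos (show ((c.wF s : Fin D.nroots) : ℕ) = w s.val from rfl)]
      by_cases hs : s.val = D.negIdx.getD r.val 0 ∧ s ≠ r
      · have hs' : (c.wF s).val = D.negIdx.getD (c.wF r).val 0 ∧ c.wF s ≠ c.wF r :=
          ⟨(hnegiff s).2 hs.1, fun hh => hs.2 (c.wF_inj hh)⟩
        simp only [if_pos hs, if_pos hs']
        have heps : ((η s.val : ℤ) : F) = ((η r.val : ℤ) : F) := by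
          rw [hs.1, ← h.neg_eq r.val r.2, c.neg_eta r.val r.2]
        have hcor := c.coroot_w
        have e1 : ∀ k' : Fin D.rank, (D.coroot.getD r.val #[]).getD k'.val 0
            = (T.corootL r.val).getD k'.val 0 := fun k' => (h.coroot_eq r.val r.2 k'.val k'.2).symm
        have e2 : (D.coroot.getD (c.wF r).val #[]).getD k.val 0
            = (T.corootL (w r.val)).getD k.val 0 :=
          (h.coroot_eq _ (c.w_lt r.val r.2) k.val k.2).symm
        rw [e2, hcor k.val k.2 r.val r.2, list_sum_range_eq, ← Fin.sum_univ_eq_sum_range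
          (fun j => a j * (T.corootL r.val).getD j 0) D.rank]
        simp only [e1, sub_mul, Finset.sum_sub_distrib, ite_mul, one_mul, zero_mul,
          Finset.sum_ite_eq, Finset.mem_univ, if_true]
        rw [heps]
        by_cases hki : k.val = i
        · simp only [if_pos hki]
          push_cast
          have this : ((η r.val : ℤ) : F) * ((η r.val : ℤ) : F) = 1 := hsq r
          have e4 : ∑ x : Fin D.rank, ((a x.val : ℤ) : F) * ((((T.corootL r.val).getD x.val 0 : ℤ) : F) * t)
              = (∑ x : Fin D.rank, ((a x.val : ℤ) : F) * (((T.corootL r.val).getD x.val 0 : ℤ) : F)) * t := by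
            rw [Finset.sum_mul]
            apply Finset.sum_congr rfl
            intro x _
            ring
          rw [e4]
          linear_combination (-((((T.corootL r.val).getD k.val 0 : ℤ) : F) -
            ∑ x : Fin D.rank, ((a x.val : ℤ) : F) * ((((T.corootL r.val).getD x.val 0 : ℤ) : F))) * t) * this
        · simp only [if_neg hki, Finset.sum_const_zero, sub_zero]
          have this : ((η r.val : ℤ) : F) * ((η r.val : ℤ) : F) = 1 := hsq r
          linear_combination (-(((T.corootL r.val).getD k.val 0 : ℤ) : F) * t) * this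
      · have hs' : ¬ ((c.wF s).val = D.negIdx.getD (c.wF r).val 0 ∧ c.wF s ≠ c.wF r) :=
          fun hh => hs ⟨(hnegiff s).1 hh.1, fun h2 => hh.2 (by rw [h2])⟩
        simp only [if_neg hs, if_neg hs', mul_zero, Finset.sum_const_zero, zero_mul]
    · intro v _ hv
      have hv' : ¬ (v.val = w s.val) := fun hh => hv (Fin.ext hh)
      rw [if_neg hv', mul_zero]
    · intro hh; exact absurd (Finset.mem_univ _) hh
  · simp only [Pm_ll, Pm_rl, Pm_rr, xMat_ll, xMat_rl, zero_mul, mul_zero, Finset.sum_const_zero,
      add_zero, zero_add]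
    rw [Finset.sum_eq_single r]
    · by_cases hu : u = c.wF r
      · subst hu
        simp only [MonoCert.wF, if_true]
        have e1 : ∀ k' : Fin D.rank, (D.cartanSR.getD k'.val #[]).getD (w r.val) 0
            = T.cartan k'.val (w r.val) := fun k' =>
          (h.cartan_eq k'.val k'.2 _ (c.w_lt r.val r.2)).symm
        have e2 : (D.cartanSR.getD j.val #[]).getD r.val 0 = T.cartan j.val r.val :=
          (h.cartan_eq j.val j.2 r.val r.2).symm
        simp only [e1, e2, c.cartan_w j.val j.2 r.val r.2, mul_sub, Finset.sum_sub_distrib, mul_ite,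
          mul_one, mul_zero, Finset.sum_ite_eq, Finset.sum_ite_eq', Finset.mem_univ, if_true]
        have hi' : ∑ x : Fin D.rank, (if x.val = i then
            -((T.cartan x.val (w r.val) : ℤ) : F) * (((η r.val : ℤ) : F) * t) * ((a j.val : ℤ) : F) else 0)
            = -((T.cartan i (w r.val) : ℤ) : F) * (((η r.val : ℤ) : F) * t) * ((a j.val : ℤ) : F) := by
          rw [Finset.sum_eq_single (⟨i, c.i_lt⟩ : Fin D.rank)]
          · simp
          · intro b _ hb
            rw [if_neg (fun hh => hb (Fin.ext hh))]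
          · intro hh; exact absurd (Finset.mem_univ _) hh
        rw [hi']
        push_cast
        ring
      · have hu' : ¬ (u.val = w r.val) := fun hh => hu (Fin.ext hh)
        simp only [if_neg hu', zero_mul, if_neg hu, Finset.sum_const_zero]
    · intro v _ hv
      rw [if_neg hv, mul_zero]
    · intro hh; exact absurd (Finset.mem_univ _) hh
  · simp only [Pm_lr, Pm_rl, Pm_rr, zero_mul, mul_zero, Finset.sum_const_zero, zero_add]
    rw [Finset.sum_eq_single (c.wF u), Finset.sum_eq_single (c.wF s)]
    · have hw : (u : ℕ) = w (c.wF u).val := by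
        simp only [MonoCert.wF]; exact (c.w_w u.val u.2).symm
      rw [if_pos hw, if_pos (show ((c.wF s : Fin D.nroots) : ℕ) = w s.val from rfl)]
      have hcore := c.core_rr h r t (c.wF u) s
      rw [c.wF_wF u] at hcore
      rw [← hcore]
      have := hsq s
      linear_combination (-(((η (c.wF u).val : ℤ) : F) * D.xMat F r t (Sum.inr (c.wF u)) (Sum.inr s))) * this
    · intro v _ hv
      have hv' : ¬ (v.val = w s.val) := fun hh => hv (Fin.ext hh)
      rw [if_neg hv', mul_zero]
    · intro hh; exact absurd (Finset.mem_univ _) hh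
    · intro v _ hv
      have : ¬ ((u : ℕ) = w v.val) := by
        intro hh
        apply hv
        apply Fin.ext
        simp only [MonoCert.wF]
        rw [hh, c.w_w v.val v.2]
      rw [if_neg this, zero_mul]
    · intro hh; exact absurd (Finset.mem_univ _) hh

end conj2

end Cfsg.Agent.Lib.Helper5.Chev
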