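import Cfsg.Agent.Lib.Helper5.Chev.MonoQ
import Cfsg.Agent.Lib.Helper5.Chev.CxG2
import Cfsg.Agent.Lib.Helper5.Chev.CxB2
import Cfsg.Agent.Lib.Helper5.Chev.CxD4
import Cfsg.Agent.Lib.Helper5.Chev.CxF4
import Cfsg.Agent.Lib.Helper5.Chev.CxE6
import Cfsg.Agent.Lib.Helper5.Chev.CxE7
import Cfsg.Agent.Lib.Helper5.Chev.CxE8
import Cfsg.Agent.Lib.Helper5.Chev.TriAll
import Mathlib

/-!
# `B ∩ N = H` and `U ∩ N = 1` (helper5)
-/

set_option autoImplicit false

namespace Cfsg.Agent.Lib.Helper5.Chev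

open Cfsg.Lie
open scoped Matrix

/-- the fast datum with the checks on the words in the fundamental reflections -/
theorem cox_known (D : ChevalleyDatum)
    (hD : D ∈ [chevG2, chevB2, chevD4, chevF4, chevE6, chevE7, chevE8]) :
    ∃ (T : FD) (Bs : List ℕ) (mLL : List (List ℕ)) (gH : ℕ) (baseH : List ℕ) (fuel : ℕ),
      T.Agrees D ∧ (∀ i < D.rank, ReflChecks T D i (Bs.getD i 0)) ∧
      reachb T Bs gH baseH fuel = true ∧ (∀ s ∈ baseH, ∃ j < D.rank, s = D.simple j) ∧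
      coxb T Bs mLL = true := by
  simp only [List.mem_cons, List.not_mem_nil, or_false] at hD
  rcases hD with rfl | rfl | rfl | rfl | rfl | rfl | rfl
  · exact ⟨_, _, _, _, _, _, DataG2.agrees, HsG2.reflBs', HsG2.rbH, HsG2.base_simple, CxG2.cox⟩
  · exact ⟨_, _, _, _, _, _, DataB2.agrees, HsB2.reflBs', HsB2.rbH, HsB2.base_simple, CxB2.cox⟩
  · exact ⟨_, _, _, _, _, _, DataD4.agrees, HsD4.reflBs', HsD4.rbH, HsD4.base_simple, CxD4.cox⟩
  · exact ⟨_, _, _, _, _, _, DataF4.agrees, HsF4.reflBs', HsF4.rbH, HsF4.base_simple, CxF4.cox⟩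
  · exact ⟨_, _, _, _, _, _, DataE6.agrees, HsE6.reflBs', HsE6.rbH, HsE6.base_simple, CxE6.cox⟩
  · exact ⟨_, _, _, _, _, _, DataE7.agrees, HsE7.reflBs', HsE7.rbH, HsE7.base_simple, CxE7.cox⟩
  · exact ⟨_, _, _, _, _, _, DataE8.agrees, HsE8.reflBs', HsE8.rbH, HsE8.base_simple, CxE8.cox⟩

/-- the positive roots are those of the second half -/
theorem pos_iff_all (D : ChevalleyDatum)
    (hD : D ∈ [chevG2, chevB2, chevD4, chevF4, chevE6, chevE7, chevE8]) :
    ∀ r < D.nroots, (D.IsPosRoot r ↔ D.nroots / 2 ≤ r) := by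
  obtain ⟨T, hA, htri⟩ := tri_known D hD
  exact pos_iff_of_tri hA htri (pos_or_neg_all D hD)

theorem neg_of_lt_half (D : ChevalleyDatum)
    (hD : D ∈ [chevG2, chevB2, chevD4, chevF4, chevE6, chevE7, chevE8]) (r : ℕ) (hr : r < D.nroots)
    (h : r < D.nroots / 2) : D.IsNegRoot r := by
  rcases pos_or_neg_all D hD r hr with hp | hn
  · have := (pos_iff_all D hD r hr).1 hp
    omega
  · exact hn

section

variable {F : Type*} [Field F]

/-- `B` normalises `U` -/
theorem borel_le_normalizer_all (D : ChevalleyDatum)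
    (hD : D ∈ [chevG2, chevB2, chevD4, chevF4, chevE6, chevE7, chevE8]) :
    D.borelSubgroup F ≤ Subgroup.normalizer (D.posUnipotent F : Set (GL D.Idx F)) :=
  sup_le Subgroup.le_normalizer (borel_semidirect_all D hD).1

/-- the action on the roots of a word `n_{i_1} ⋯ n_{i_k}` with `n_{i_1} ⋯ n_{i_k} h ∈ B` has no
descent -/
theorem no_desc_of_mem_borel {T : FD} (D : ChevalleyDatum)
    (hD : D ∈ [chevG2, chevB2, chevD4, chevF4, chevE6, chevE7, chevE8]) (hA : T.Agrees D)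
    (hadd : AllAdd F D) (Bs : List ℕ) (hB : ∀ i < D.rank, ReflChecks T D i (Bs.getD i 0))
    (L : List ℕ) (hL : ∀ i ∈ L, i < D.rank) (h : GL D.Idx F) (hh : h ∈ D.diagonalSubgroup F)
    (hnB : nWordU hA hadd L * h ∈ D.borelSubgroup F) :
    ∀ i < D.rank, D.nroots / 2 ≤ wW Bs L (D.simple i) := by
  intro i hi
  by_contra hcon
  rw [not_le] at hcon
  obtain ⟨hp, hq⟩ := simple_lt_all D hD i hi
  obtain ⟨u', e2⟩ := conj_diag_x hD hadd h hh (D.simple i) hp (1 : F)
  obtain ⟨hlt, t', e1⟩ := conj_word hA hadd Bs hB L hL (D.simple i) hp u'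
  have hneg := neg_of_lt_half D hD _ hlt hcon
  -- the conjugate lies in `U` and in `V`
  have hxU : hadd.xU (D.simple i) 1 ∈ D.posUnipotent F :=
    Subgroup.subset_closure ⟨_, 1, pos_simple_all D hD i hi, rfl⟩
  have hconjU := (Subgroup.mem_normalizer_iff.1
    (borel_le_normalizer_all D hD hnB) (hadd.xU (D.simple i) 1)).1 hxU
  have e3 : nWordU hA hadd L * h * hadd.xU (D.simple i) 1 * (nWordU hA hadd L * h)⁻¹
      = hadd.xU (wW Bs L (D.simple i)) t' := by
    rw [← e1, ← e2]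
    group
  rw [e3] at hconjU
  have hV : hadd.xU (wW Bs L (D.simple i)) t' ∈ D.negUnipotent F :=
    Subgroup.subset_closure ⟨_, t', hneg, rfl⟩
  have hbot : hadd.xU (wW Bs L (D.simple i)) t' ∈ D.borelSubgroup F ⊓ D.negUnipotent F :=
    ⟨Subgroup.mem_sup_left hconjU, hV⟩
  rw [(borel_inf_neg_all D hD).1, Subgroup.mem_bot] at hbot
  rw [hbot] at e3
  have e4 : hadd.xU (D.simple i) (1 : F) = 1 := by
    have e5 : hadd.xU (D.simple i) (1 : F) = (nWordU hA hadd L * h)⁻¹ *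
        (nWordU hA hadd L * h * hadd.xU (D.simple i) 1 * (nWordU hA hadd L * h)⁻¹) *
        (nWordU hA hadd L * h) := by group
    rw [e5, e3]
    group
  have := xInj_all (F := F) D hD (D.simple i) hp 1 (by
    have := congrArg Units.val e4
    exact this)
  exact one_ne_zero this

/-- `U ∩ N = 1` and `B ∩ N = H` -/
theorem borel_inf_monomial_all (D : ChevalleyDatum)
    (hD : D ∈ [chevG2, chevB2, chevD4, chevF4, chevE6, chevE7, chevE8]) :
    D.posUnipotent F ⊓ D.monomialSubgroup F = ⊥ ∧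
      D.borelSubgroup F ⊓ D.monomialSubgroup F = D.diagonalSubgroup F := by
  have hadd := allAdd_all (F := F) D hD
  have hH := hform_all' (F := F) D hD
  obtain ⟨T, Bs, mLL, gH, baseH, fuel, hA, hB, hr, hbase, hcox⟩ := cox_known D hD
  obtain ⟨h1, h2⟩ := cox_of_check T Bs mLL hcox
  have key : D.borelSubgroup F ⊓ D.monomialSubgroup F = D.diagonalSubgroup F := by
    apply le_antisymm
    · rintro n ⟨hnB, hnN⟩
      obtain ⟨L, hL, h, hh, rfl⟩ := monomial_le_NWH hA hadd Bs hB hH gH baseH fuel hr hbase hnN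
      apply Subgroup.mul_mem _ _ hh
      exact nWordU_mem_diagonal hD hA hadd Bs mLL hB h1 h2 L hL
        (no_desc_of_mem_borel D hD hA hadd Bs hB L hL h hh hnB)
    · exact le_inf le_sup_right le_sup_left
  refine ⟨?_, key⟩
  rw [eq_bot_iff]
  rintro g ⟨hgU, hgN⟩
  have hgH : g ∈ D.diagonalSubgroup F := by
    rw [← key]
    exact ⟨Subgroup.mem_sup_left hgU, hgN⟩
  have := (borel_semidirect_all (F := F) D hD).2
  rw [← this]
  exact ⟨hgU, hgH⟩

end

end Cfsg.Agent.Lib.Helper5.Chev
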