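import Cfsg.Agent.Lib.Helper5.Chev.Mono
import Mathlib

/-!
# Boolean check of the monomial certificate (helper5)
-/

set_option autoImplicit false

namespace Cfsg.Agent.Lib.Helper5.Chev

open Cfsg.Lie

/-- slot of a packed symmetry: 12 bits per root, `2 * w s + (1 if η s = -1)` -/
def wSlot (B s : ℕ) : ℕ := Nat.land (Nat.shiftRight B (Nat.mul 12 s)) 4095
/-- the image of a root -/
def wOf (B s : ℕ) : ℕ := Nat.div (wSlot B s) 2
/-- the sign of a root -/
def etaOf (B s : ℕ) : ℤ := cond (Nat.beq (Nat.mod (wSlot B s) 2) 0) (Int.ofNat 1) (Int.negSucc 0)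

theorem etaOf_pm (B s : ℕ) : etaOf B s = 1 ∨ etaOf B s = -1 := by
  unfold etaOf
  cases Nat.beq (Nat.mod (wSlot B s) 2) 0
  · right; rfl
  · left; rfl

/-- equality test of chain entries -/
def chBeq : List (ℕ × ℤ) → List (ℕ × ℤ) → Bool
  | [], [] => true
  | q :: L, q' :: L' => Nat.beq q.1 q'.1 && zbeq q.2 q'.2 && chBeq L L'
  | _, _ => false

theorem chBeq_iff : ∀ (L L' : List (ℕ × ℤ)), chBeq L L' = true ↔ L = L'
  | [], [] => by simp [chBeq]
  | [], _ :: _ => by simp [chBeq]
  | _ :: _, [] => by simp [chBeq]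
  | q :: L, q' :: L' => by
    simp only [chBeq, Bool.and_eq_true, FD.nbeq, zbeq_iff, chBeq_iff L L', List.cons.injEq]
    constructor
    · rintro ⟨⟨h1, h2⟩, h3⟩
      exact ⟨Prod.ext h1 h2, h3⟩
    · rintro ⟨h1, h3⟩
      exact ⟨⟨congrArg Prod.fst h1, congrArg Prod.snd h1⟩, h3⟩

/-- equality test of lists of integers -/
def zlBeq : List ℤ → List ℤ → Bool
  | [], [] => true
  | q :: L, q' :: L' => zbeq q q' && zlBeq L L'
  | _, _ => false

/-- the weighted sum `Σ_j a_j c_j` -/
def wsum (car : ℕ) : List ℤ → ℕ → ℤ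
  | [], _ => 0
  | c :: L, j => Int.add (Int.mul (decodeCartan car j) c) (wsum car L (Nat.succ j))

theorem wsum_eq (car : ℕ) (L : List ℤ) (j : ℕ) :
    wsum car L j = ((List.range L.length).map fun k => decodeCartan car (j + k) * L.getD k 0).sum := by
  induction L generalizing j with
  | nil => rfl
  | cons c L ih =>
    rw [wsum, ih, List.length_cons, List.range_succ_eq_map, List.map_cons, List.sum_cons, List.map_map]
    show decodeCartan car j * c + _ = _
    congr 1
    congr 1
    apply List.map_congr_left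
    intro k _
    simp only [Function.comp, List.getD_cons_succ]
    rw [Nat.succ_add]
    rfl

/-- the global part of the check: everything except the chains -/
def monoG (T : FD) (i B : ℕ) : Bool :=
  forceNat T.rank fun l => forceNat T.nroots fun n => forceNat (T.rdOf (T.simple i)).car fun ca =>
  Nat.blt i l && zbeq (decodeCartan ca i) 2 &&
  allBelow n fun s => forceNat (wOf B s) fun ws =>
    Nat.blt ws n && Nat.beq (wOf B ws) s &&
    RD.force (T.rdOf s) fun Rs => RD.force (T.rdOf ws) fun Rw =>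
      Nat.beq Rw.negr (wOf B Rs.negr) && zbeq (etaOf B Rs.negr) (etaOf B s) &&
      allBelow l (fun j => zbeq (decodeCartan Rs.car j)
        (Int.sub (decodeCartan Rw.car j) (Int.mul (decodeCartan ca j) (decodeCartan Rw.car i)))) &&
      forceInt (wsum ca Rs.cor 0) fun sm =>
      allBelow l (fun k => zbeq (Rw.cor.getD k 0)
        (Int.sub (Rs.cor.getD k 0) (cond (Nat.beq k i) sm 0)))

/-- slot of a packed chain row -/
def slot36 (row s : ℕ) : ℕ := Nat.land (Nat.shiftRight row (Nat.mul 36 s)) 68719476735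

theorem decodeRow_eq (row s : ℕ) : decodeRow row s = dec3 (slot36 row s) := rfl

theorem dec3_zero : dec3 0 = [] := rfl

/-- the chain part of the check, for the roots `lo ≤ r < lo + len` -/
def monoC (T : FD) (B lo len : ℕ) : Bool :=
  forceNat T.nroots fun n =>
  (List.range' lo len).all fun r => forceNat (wOf B r) fun wr => forceInt (etaOf B r) fun er =>
    forceNat (T.rdOf r).row fun rowr => forceNat (T.rdOf wr).row fun roww =>
      allBelow n fun s => forceNat (slot36 rowr s) fun v =>
        cond (Nat.beq v 0) (Nat.beq (slot36 roww (wOf B s)) 0)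
          (chBeq (dec3 (slot36 roww (wOf B s))) (adjCh (wOf B) (etaOf B) er (etaOf B s) (dec3 v)))

/-- the chain condition for a root -/
def ChainOK (T : FD) (n : ℕ) (w : ℕ → ℕ) (η : ℕ → ℤ) (r : ℕ) : Prop :=
  ∀ s < n, T.ch (w r) (w s) = adjCh w η (η r) (η s) (T.ch r s)

theorem chainOK_of_monoC (T : FD) (B lo len : ℕ) (h : monoC T B lo len = true) (r : ℕ)
    (h1 : lo ≤ r) (h2 : r < lo + len) : ChainOK T T.nroots (wOf B) (etaOf B) r := by
  unfold monoC at h
  rw [forceNat_eq, List.all_eq_true] at h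
  have := h r (by rw [List.mem_range'_1]; exact ⟨h1, h2⟩)
  rw [forceNat_eq, forceInt_eq, forceNat_eq, forceNat_eq] at this
  intro s hs
  have := allBelow_spec _ _ this s hs
  rw [forceNat_eq] at this
  show decodeRow _ _ = adjCh _ _ _ _ (decodeRow _ _)
  rw [decodeRow_eq, decodeRow_eq]
  by_cases hv : Nat.beq (slot36 (T.rdOf r).row s) 0 = true
  · rw [hv, cond_true, FD.nbeq] at this
    rw [FD.nbeq] at hv
    rw [hv, this, dec3_zero]
    rfl
  · rw [Bool.not_eq_true] at hv
    rw [hv, cond_false, chBeq_iff] at this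
    exact this

theorem monoCert_of_check (T : FD) (D : ChevalleyDatum) (hA : T.Agrees D) (i B : ℕ)
    (hG : monoG T i B = true) (hC : ∀ r < D.nroots, ChainOK T D.nroots (wOf B) (etaOf B) r) :
    MonoCert T D.nroots D.rank i (fun j => T.cartan j (T.simple i)) (wOf B) (etaOf B) := by
  unfold monoG at hG
  rw [forceNat_eq, forceNat_eq, forceNat_eq, Bool.and_eq_true, Bool.and_eq_true, Nat.blt_eq,
    zbeq_iff, hA.rank_eq, hA.nroots_eq] at hG
  obtain ⟨⟨h1, h2⟩, h3⟩ := hG
  have key := fun s hs => allBelow_spec _ _ h3 s hs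
  simp only [forceNat_eq, RD.force_eq, forceInt_eq, Bool.and_eq_true, Nat.blt_eq, FD.nbeq, zbeq_iff]
    at key
  have key' : ∀ s < D.nroots, (wOf B s < D.nroots ∧ wOf B (wOf B s) = s) ∧
      (((T.rdOf (wOf B s)).negr = wOf B (T.rdOf s).negr ∧ etaOf B (T.rdOf s).negr = etaOf B s) ∧
        (allBelow D.rank fun j => zbeq (decodeCartan (T.rdOf s).car j)
          ((decodeCartan (T.rdOf (wOf B s)).car j).sub
            ((decodeCartan (T.rdOf (T.simple i)).car j).mul (decodeCartan (T.rdOf (wOf B s)).car i)))) =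
          true) ∧
      (allBelow D.rank fun k => zbeq ((T.rdOf (wOf B s)).cor.getD k 0)
        (((T.rdOf s).cor.getD k 0).sub
          (bif k.beq i then wsum (T.rdOf (T.simple i)).car (T.rdOf s).cor 0 else 0))) = true :=
    fun s hs => key s hs
  refine ⟨h1, h2, fun s hs => (key' s hs).1.1, fun s hs => (key' s hs).1.2, fun s _ => etaOf_pm B s,
    fun s hs => (key' s hs).2.1.1.1, fun s hs => (key' s hs).2.1.1.2, ?_, ?_, hC⟩
  · intro j hj s hs
    have := allBelow_spec _ _ (key' s hs).2.1.2 j hj
    rw [zbeq_iff] at this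
    exact this
  · intro k hk s hs
    have := allBelow_spec _ _ (key' s hs).2.2 k hk
    rw [zbeq_iff] at this
    rw [show (T.corootL (wOf B s)).getD k 0 = ((T.rdOf (wOf B s)).cor).getD k 0 from rfl, this,
      wsum_eq]
    show ((_ : ℤ) - _ : ℤ) = _ - _
    congr 1
    by_cases hki : k = i
    · have : Nat.beq k i = true := FD.nbeq.2 hki
      rw [this, cond_true, if_pos hki]
      have hlen : ((T.rdOf s).cor).length = D.rank := hA.coroot_len s hs
      rw [hlen]
      congr 1
      apply List.map_congr_left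
      intro j _
      rw [Nat.zero_add]
      rfl
    · have : Nat.beq k i = false := by
        rw [← Bool.not_eq_true, FD.nbeq]; exact hki
      rw [this, cond_false, if_neg hki]

end Cfsg.Agent.Lib.Helper5.Chev
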