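import Cfsg.Agent.Lib.Helper5.Chev.MonoW
import Mathlib

/-!
# Words in the `n_i` acting on the roots without descent lie in `H` (helper5)
-/

set_option autoImplicit false

namespace Cfsg.Agent.Lib.Helper5.Chev

open Cfsg.Lie
open scoped Matrix

section

variable {F : Type*} [Field F] {T : FD} {D : ChevalleyDatum}

theorem act_eq_wW (T : FD) (Bs : List ℕ) (mLL : List (List ℕ)) (L : List ℕ) (s : ℕ) :
    (wdOf T Bs mLL).act L s = wW Bs L s := by
  induction L with
  | nil => rfl
  | cons i L ih =>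
    show wOf (Bs.getD i 0) ((wdOf T Bs mLL).act L s) = wOf (Bs.getD i 0) (wW Bs L s)
    rw [ih]

/-- conjugation of `n_s(z)` by a word in the `n_i` -/
theorem conj_nMat_word (hA : T.Agrees D) (hadd : AllAdd F D) (Bs : List ℕ)
    (hB : ∀ i < D.rank, ReflChecks T D i (Bs.getD i 0)) (L : List ℕ) (hL : ∀ i ∈ L, i < D.rank)
    (s : ℕ) (hs : s < D.nroots) (z : F) :
    ∃ ε : ℤ, (ε = 1 ∨ ε = -1) ∧ wW Bs L s < D.nroots ∧
      ((nWordU hA hadd L : GL D.Idx F) : Matrix D.Idx D.Idx F) * D.nMat F s z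
        = D.nMat F (wW Bs L s) ((ε : F) * z) *
          ((nWordU hA hadd L : GL D.Idx F) : Matrix D.Idx D.Idx F) := by
  induction L with
  | nil =>
    refine ⟨1, Or.inl rfl, hs, ?_⟩
    simp [nWordU, wW]
  | cons i L ih =>
    have hi := hL i List.mem_cons_self
    obtain ⟨ε, hε, h1, h2⟩ := ih (fun j hj => hL j (List.mem_cons_of_mem _ hj))
    refine ⟨etaOf (Bs.getD i 0) (wW Bs L s) * ε, ?_, ((hB i hi).cert hA).w_lt _ h1, ?_⟩
    · rcases etaOf_pm (Bs.getD i 0) (wW Bs L s) with h3 | h3 <;> rcases hε with h4 | h4 <;>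
        rw [h3, h4] <;> simp
    · rw [nWordU_cons, Units.val_mul, Matrix.mul_assoc, h2, ← Matrix.mul_assoc,
        nUi_val hA hadd hi, (hB i hi).conj_nMat hA hi _ h1, Matrix.mul_assoc]
      congr 2
      push_cast
      ring

end

section quot

variable {F : Type*} [Field F] {T : FD} {D : ChevalleyDatum}

/-- the image of `n_i` in `N / H` -/
noncomputable def gQ (hA : T.Agrees D) (hadd : AllAdd F D)
    [((D.diagonalSubgroup F).subgroupOf (D.monomialSubgroup F)).Normal] (i : ℕ) :
    (D.monomialSubgroup F) ⧸ ((D.diagonalSubgroup F).subgroupOf (D.monomialSubgroup F)) :=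
  QuotientGroup.mk (⟨nUi hA hadd i, nUi_mem hA hadd i⟩ : D.monomialSubgroup F)

theorem gW_gQ (hA : T.Agrees D) (hadd : AllAdd F D)
    [((D.diagonalSubgroup F).subgroupOf (D.monomialSubgroup F)).Normal] (L : List ℕ) :
    WD.gW (gQ hA hadd) L
      = QuotientGroup.mk (⟨nWordU hA hadd L, nWordU_mem hA hadd L⟩ : D.monomialSubgroup F) := by
  induction L with
  | nil => rfl
  | cons i L ih =>
    have e : WD.gW (gQ hA hadd) (i :: L) = gQ hA hadd i * WD.gW (gQ hA hadd) L := by
      unfold WD.gW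
      rw [List.map_cons, List.prod_cons]
    rw [e, ih]
    unfold gQ
    rw [← QuotientGroup.mk_mul]
    congr 1

/-- the relations in `N / H` -/
theorem rel_gQ (hA : T.Agrees D) (hadd : AllAdd F D)
    [((D.diagonalSubgroup F).subgroupOf (D.monomialSubgroup F)).Normal] (Bs : List ℕ)
    (mLL : List (List ℕ)) (hB : ∀ i < D.rank, ReflChecks T D i (Bs.getD i 0))
    (h2 : ∀ i < T.rank, ∀ j < T.rank, i ≠ j → Cox2 T Bs mLL i j) :
    WD.Rel (wdOf T Bs mLL) (gQ hA hadd) := by
  have hl : T.rank = D.rank := hA.rank_eq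
  have hsq : ∀ i < (wdOf T Bs mLL).l, gQ hA hadd i * gQ hA hadd i = 1 := by
    intro i hi
    have hi' : i < D.rank := hl ▸ hi
    unfold gQ
    rw [← QuotientGroup.mk_mul, QuotientGroup.eq_one_iff, Subgroup.mem_subgroupOf]
    show nUi hA hadd i * nUi hA hadd i ∈ D.diagonalSubgroup F
    rw [nUi_pos hA hadd hi']
    exact nU_sq_mem hadd _ _ _
  refine ⟨hsq, ?_, ?_⟩
  · intro i hi j hj hij
    have hi' : i < D.rank := hl ▸ hi
    have hj' : j < D.rank := hl ▸ hj
    have hc := h2 i hi j hj hij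
    set m := mOfL mLL i j with hm
    have hm1 : 1 ≤ m := hc.m_pos
    have hmm : (wdOf T Bs mLL).m i j = m := rfl
    rw [hmm]
    have e1 : WD.alt i j m = WD.alt i j (m - 1) ++ [WD.nxt i j (m - 1)] := by
      rw [← WD.alt_succ, Nat.sub_add_cancel hm1]
    have e2 : WD.alt j i m = j :: WD.alt i j (m - 1) := by
      conv_lhs => rw [← Nat.sub_add_cancel hm1]
      rfl
    rw [e1, e2, WD.gW_append, WD.gW_singleton,
      show j :: WD.alt i j (m - 1) = [j] ++ WD.alt i j (m - 1) from rfl, WD.gW_append,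
      WD.gW_singleton]
    set u := WD.alt i j (m - 1) with hu
    set c := WD.nxt i j (m - 1) with hcdef
    have hcl : c < D.rank := WD.nxt_lt i j _ hi' hj' _
    have hul : ∀ x ∈ u, x < D.rank := WD.alt_lt i j _ hi' hj' _
    obtain ⟨ε, hε, -, hconj⟩ := conj_nMat_word hA hadd Bs hB u hul (D.simple c)
      (simple_lt' hA hcl) (1 : F)
    have hlast : wW Bs u (D.simple c) = D.simple j := by
      rw [FD.simple_eq' hA c hcl, FD.simple_eq' hA j hj', ← act_eq_wW T Bs mLL]
      exact hc.last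
    rw [hlast, mul_one] at hconj
    rw [gW_gQ]
    unfold gQ
    rw [← QuotientGroup.mk_mul, ← QuotientGroup.mk_mul]
    rcases hε with rfl | rfl
    · congr 1
      apply Subtype.ext
      show nWordU hA hadd u * nUi hA hadd c = nUi hA hadd j * nWordU hA hadd u
      apply Units.ext
      rw [Units.val_mul, Units.val_mul, nUi_val hA hadd hcl, nUi_val hA hadd hj', hconj]
      simp
    · have e3 : nWordU hA hadd u * nUi hA hadd c = (nUi hA hadd j)⁻¹ * nWordU hA hadd u := by
        apply Units.ext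
        rw [Units.val_mul, Units.val_mul, nUi_val hA hadd hcl, hconj]
        congr 1
        rw [nUi_pos hA hadd hj']
        show D.nMat F (D.simple j) (((-1 : ℤ) : F)) = nInv F D (D.simple j)
        rw [nInv_eq]
        simp
      have e4 : ((⟨nWordU hA hadd u, nWordU_mem hA hadd u⟩ : D.monomialSubgroup F) *
          ⟨nUi hA hadd c, nUi_mem hA hadd c⟩)
          = (⟨nUi hA hadd j, nUi_mem hA hadd j⟩ : D.monomialSubgroup F)⁻¹ *
            ⟨nWordU hA hadd u, nWordU_mem hA hadd u⟩ := Subtype.ext e3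
      rw [e4, QuotientGroup.mk_mul, QuotientGroup.mk_inv, QuotientGroup.mk_mul]
      congr 1
      exact inv_eq_of_mul_eq_one_right (hsq j hj)
  · intro i hi j hj hij
    exact (h2 i hi j hj hij).m_pos

/-- a word in the `n_i` whose action on the roots has no descent lies in `H` -/
theorem nWordU_mem_diagonal (hD : D ∈ [chevG2, chevB2, chevD4, chevF4, chevE6, chevE7, chevE8])
    (hA : T.Agrees D) (hadd : AllAdd F D) (Bs : List ℕ)
    (mLL : List (List ℕ)) (hB : ∀ i < D.rank, ReflChecks T D i (Bs.getD i 0)) (h1 : Cox1 T Bs)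
    (h2 : ∀ i < T.rank, ∀ j < T.rank, i ≠ j → Cox2 T Bs mLL i j) (L : List ℕ)
    (hL : ∀ i ∈ L, i < D.rank) (hnd : ∀ i < D.rank, D.nroots / 2 ≤ wW Bs L (D.simple i)) :
    nWordU hA hadd L ∈ D.diagonalSubgroup F := by
  have := diagonal_normal_all (F := F) D hD
  have hl : T.rank = D.rank := hA.rank_eq
  have hn : T.nroots = D.nroots := hA.nroots_eq
  have key := WD.gW_eq_one (gQ hA hadd) (wdOf_valid hA Bs mLL hB h1 h2)
    (wdOf_rankTwo hA Bs mLL hB h1 h2) (rel_gQ hA hadd Bs mLL hB h2) L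
    (fun x hx => by show x < T.rank; rw [hl]; exact hL x hx)
    (by
      intro i hi
      have hi' : i < D.rank := hl ▸ hi
      show T.nroots / 2 ≤ (wdOf T Bs mLL).act L (T.simple i)
      rw [act_eq_wW, hn, ← FD.simple_eq' hA i hi']
      exact hnd i hi')
  rw [gW_gQ, QuotientGroup.eq_one_iff, Subgroup.mem_subgroupOf] at key
  exact key

end quot

end Cfsg.Agent.Lib.Helper5.Chev
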