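import Cfsg.Agent.Lib.Helper5.Chev.CoxChev
import Cfsg.Agent.Lib.Helper5.Chev.NormalAll
import Cfsg.Agent.Lib.Helper5.Chev.RankOne
import Mathlib

/-!
# The elements of the monomial subgroup as words in the `n_i` times elements of `H` (helper5)
-/

set_option autoImplicit false

namespace Cfsg.Agent.Lib.Helper5.Chev

open Cfsg.Lie
open scoped Matrix

section

variable {F : Type*} [Field F] {T : FD} {D : ChevalleyDatum}

theorem nWordU_nil (hA : T.Agrees D) (hadd : AllAdd F D) : nWordU hA hadd [] = 1 := rfl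

theorem nWordU_cons (hA : T.Agrees D) (hadd : AllAdd F D) (i : ℕ) (L : List ℕ) :
    nWordU hA hadd (i :: L) = nUi hA hadd i * nWordU hA hadd L := by
  simp [nWordU]

theorem nWordU_append (hA : T.Agrees D) (hadd : AllAdd F D) (L L' : List ℕ) :
    nWordU hA hadd (L ++ L') = nWordU hA hadd L * nWordU hA hadd L' := by
  simp [nWordU]

theorem nWordU_singleton (hA : T.Agrees D) (hadd : AllAdd F D) (i : ℕ) :
    nWordU hA hadd [i] = nUi hA hadd i := by
  simp [nWordU]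

/-- the words in the `n_i` normalise `H` -/
theorem nWordU_mem_normalizer (hA : T.Agrees D) (hadd : AllAdd F D) (Bs : List ℕ)
    (hB : ∀ i < D.rank, ReflChecks T D i (Bs.getD i 0)) (hH : ∀ s < D.nroots, HForm F D s)
    (L : List ℕ) (hL : ∀ i ∈ L, i < D.rank) :
    nWordU hA hadd L ∈ Subgroup.normalizer (D.diagonalSubgroup F : Set (GL D.Idx F)) := by
  unfold nWordU
  apply Subgroup.list_prod_mem
  intro g hg
  rw [List.mem_map] at hg
  obtain ⟨i, hi, rfl⟩ := hg
  exact nUi_mem_normalizer hA hadd (hL i hi) (hB i (hL i hi)) hH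

/-- `n_i⁻¹ = n_i k` with `k ∈ H` -/
theorem nUi_inv (hA : T.Agrees D) (hadd : AllAdd F D) {i : ℕ} (hi : i < D.rank) :
    ∃ k ∈ D.diagonalSubgroup F, (nUi hA hadd i)⁻¹ = nUi hA hadd i * k := by
  refine ⟨(nUi hA hadd i * nUi hA hadd i)⁻¹, ?_, by group⟩
  apply Subgroup.inv_mem
  rw [nUi_pos hA hadd hi]
  exact nU_sq_mem hadd _ _ _

theorem conj_mem_of_normalizer {G : Type*} [Group G] (H : Subgroup G) (g h : G)
    (hg : g ∈ Subgroup.normalizer (H : Set G)) (hh : h ∈ H) :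
    g * h * g⁻¹ ∈ H ∧ g⁻¹ * h * g ∈ H := by
  rw [Subgroup.mem_normalizer_iff] at hg
  refine ⟨(hg h).1 hh, ?_⟩
  rw [hg]
  have : g * (g⁻¹ * h * g) * g⁻¹ = h := by group
  rw [this]; exact hh

/-- the inverse of a word in the `n_i` -/
theorem nWordU_inv (hA : T.Agrees D) (hadd : AllAdd F D) (Bs : List ℕ)
    (hB : ∀ i < D.rank, ReflChecks T D i (Bs.getD i 0)) (hH : ∀ s < D.nroots, HForm F D s)
    (L : List ℕ) (hL : ∀ i ∈ L, i < D.rank) :
    ∃ h ∈ D.diagonalSubgroup F, (nWordU hA hadd L)⁻¹ = nWordU hA hadd L.reverse * h := by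
  induction L with
  | nil => exact ⟨1, Subgroup.one_mem _, by simp [nWordU]⟩
  | cons i L ih =>
    have hi := hL i List.mem_cons_self
    obtain ⟨h, hh, e⟩ := ih (fun j hj => hL j (List.mem_cons_of_mem _ hj))
    obtain ⟨k, hk, ek⟩ := nUi_inv hA hadd hi
    have hn := nUi_mem_normalizer hA hadd hi (hB i hi) hH
    refine ⟨(nUi hA hadd i)⁻¹ * h * nUi hA hadd i * k,
      Subgroup.mul_mem _ (conj_mem_of_normalizer _ _ _ hn hh).2 hk, ?_⟩
    rw [nWordU_cons, mul_inv_rev, e, List.reverse_cons, nWordU_append, nWordU_singleton]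
    calc nWordU hA hadd L.reverse * h * (nUi hA hadd i)⁻¹
        = nWordU hA hadd L.reverse * h * (nUi hA hadd i * k) := by rw [← ek]
      _ = _ := by group

/-- the subgroup of the elements `n_{i_1} ⋯ n_{i_k} h` -/
def NWH (hA : T.Agrees D) (hadd : AllAdd F D) (Bs : List ℕ)
    (hB : ∀ i < D.rank, ReflChecks T D i (Bs.getD i 0)) (hH : ∀ s < D.nroots, HForm F D s) :
    Subgroup (GL D.Idx F) where
  carrier := {g | ∃ L : List ℕ, (∀ i ∈ L, i < D.rank) ∧
    ∃ h ∈ D.diagonalSubgroup F, g = nWordU hA hadd L * h}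
  one_mem' := ⟨[], by simp, 1, Subgroup.one_mem _, by simp [nWordU]⟩
  mul_mem' := by
    rintro a b ⟨L1, hL1, h1, hh1, rfl⟩ ⟨L2, hL2, h2, hh2, rfl⟩
    have hn := nWordU_mem_normalizer hA hadd Bs hB hH L2 hL2
    refine ⟨L1 ++ L2, ?_, (nWordU hA hadd L2)⁻¹ * h1 * nWordU hA hadd L2 * h2,
      Subgroup.mul_mem _ (conj_mem_of_normalizer _ _ _ hn hh1).2 hh2, ?_⟩
    · intro i hi
      rw [List.mem_append] at hi
      rcases hi with hi | hi
      · exact hL1 i hi
      · exact hL2 i hi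
    · rw [nWordU_append]
      group
  inv_mem' := by
    rintro a ⟨L, hL, h, hh, rfl⟩
    obtain ⟨h', hh', e⟩ := nWordU_inv hA hadd Bs hB hH L hL
    have hL' : ∀ i ∈ L.reverse, i < D.rank := fun i hi => hL i (List.mem_reverse.1 hi)
    have hn := nWordU_mem_normalizer hA hadd Bs hB hH L.reverse hL'
    refine ⟨L.reverse, hL', (nWordU hA hadd L.reverse)⁻¹ * h⁻¹ * nWordU hA hadd L.reverse * h',
      Subgroup.mul_mem _ (conj_mem_of_normalizer _ _ _ hn (Subgroup.inv_mem _ hh)).2 hh', ?_⟩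
    rw [mul_inv_rev, e]
    group

theorem mem_NWH_iff (hA : T.Agrees D) (hadd : AllAdd F D) (Bs : List ℕ)
    (hB : ∀ i < D.rank, ReflChecks T D i (Bs.getD i 0)) (hH : ∀ s < D.nroots, HForm F D s)
    (g : GL D.Idx F) :
    g ∈ NWH hA hadd Bs hB hH ↔ ∃ L : List ℕ, (∀ i ∈ L, i < D.rank) ∧
      ∃ h ∈ D.diagonalSubgroup F, g = nWordU hA hadd L * h := Iff.rfl

theorem diagonal_le_NWH (hA : T.Agrees D) (hadd : AllAdd F D) (Bs : List ℕ)
    (hB : ∀ i < D.rank, ReflChecks T D i (Bs.getD i 0)) (hH : ∀ s < D.nroots, HForm F D s) :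
    D.diagonalSubgroup F ≤ NWH hA hadd Bs hB hH := by
  intro h hh
  exact ⟨[], by simp, h, hh, by simp [nWordU]⟩

theorem nUi_mem_NWH (hA : T.Agrees D) (hadd : AllAdd F D) (Bs : List ℕ)
    (hB : ∀ i < D.rank, ReflChecks T D i (Bs.getD i 0)) (hH : ∀ s < D.nroots, HForm F D s)
    {i : ℕ} (hi : i < D.rank) : nUi hA hadd i ∈ NWH hA hadd Bs hB hH := by
  refine ⟨[i], ?_, 1, Subgroup.one_mem _, by simp [nWordU]⟩
  intro j hj
  rw [List.mem_singleton] at hj
  rw [hj]; exact hi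

/-- the elements `n_s(z)` lie in the subgroup -/
def InNW (hA : T.Agrees D) (hadd : AllAdd F D) (Bs : List ℕ)
    (hB : ∀ i < D.rank, ReflChecks T D i (Bs.getD i 0)) (hH : ∀ s < D.nroots, HForm F D s)
    (s : ℕ) : Prop :=
  ∀ z : F, z ≠ 0 → hadd.wordU (D.nWord s z) ∈ NWH hA hadd Bs hB hH

theorem inNW_simple (hA : T.Agrees D) (hadd : AllAdd F D) (Bs : List ℕ)
    (hB : ∀ i < D.rank, ReflChecks T D i (Bs.getD i 0)) (hH : ∀ s < D.nroots, HForm F D s)
    {j : ℕ} (hj : j < D.rank) : InNW hA hadd Bs hB hH (D.simple j) := by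
  intro z hz
  have hp := simple_lt' hA hj
  have hq := neg_simple_lt' hA hj
  rw [wordU_nWord_eq hadd _ hp hq z]
  apply Subgroup.mul_mem
  · exact diagonal_le_NWH hA hadd Bs hB hH (wordU_hWord_mem hadd _ hp z hz)
  · have := nUi_mem_NWH hA hadd Bs hB hH hj
    rwa [nUi_pos hA hadd hj] at this

theorem inNW_transfer (hA : T.Agrees D) (hadd : AllAdd F D) (Bs : List ℕ)
    (hB : ∀ i < D.rank, ReflChecks T D i (Bs.getD i 0)) (hH : ∀ s < D.nroots, HForm F D s)
    {i : ℕ} (hi : i < D.rank) (s : ℕ) (hs : s < D.nroots)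
    (h : InNW hA hadd Bs hB hH (wOf (Bs.getD i 0) s)) : InNW hA hadd Bs hB hH s := by
  intro z hz
  have e := (hB i hi).conj_nMat (F := F) hA hi s hs z
  have hne : ((etaOf (Bs.getD i 0) s : ℤ) : F) * z ≠ 0 := by
    apply mul_ne_zero _ hz
    rcases etaOf_pm (Bs.getD i 0) s with h1 | h1 <;> rw [h1] <;> simp
  have h2 := h _ hne
  have hn := nUi_mem_NWH hA hadd Bs hB hH hi
  have : hadd.wordU (D.nWord s z) = (nUi hA hadd i)⁻¹ *
      hadd.wordU (D.nWord (wOf (Bs.getD i 0) s) (((etaOf (Bs.getD i 0) s : ℤ) : F) * z)) *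
      nUi hA hadd i := by
    rw [mul_assoc, eq_inv_mul_iff_mul_eq]
    apply Units.ext
    rw [Units.val_mul, Units.val_mul, nUi_val hA hadd hi, hadd.wordU_val, hadd.wordU_val]
    exact e
  rw [this]
  exact Subgroup.mul_mem _ (Subgroup.mul_mem _ (Subgroup.inv_mem _ hn) h2) hn

/-- every element of `N` is a word in the `n_i` times an element of `H` -/
theorem monomial_le_NWH (hA : T.Agrees D) (hadd : AllAdd F D) (Bs : List ℕ)
    (hB : ∀ i < D.rank, ReflChecks T D i (Bs.getD i 0)) (hH : ∀ s < D.nroots, HForm F D s)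
    (gH : ℕ) (baseH : List ℕ) (fuel : ℕ) (hr : reachb T Bs gH baseH fuel = true)
    (hbase : ∀ s ∈ baseH, ∃ j < D.rank, s = D.simple j) :
    D.monomialSubgroup F ≤ NWH hA hadd Bs hB hH := by
  have key : ∀ s < D.nroots, InNW hA hadd Bs hB hH s := by
    apply reach_all hA (InNW hA hadd Bs hB hH) Bs gH baseH fuel hr
    · intro s hs
      obtain ⟨j, hj, rfl⟩ := hbase s hs
      exact inNW_simple hA hadd Bs hB hH hj
    · intro i hi s hs
      exact ((hB i hi).cert hA).w_lt s hs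
    · intro i hi s hs h
      exact inNW_transfer hA hadd Bs hB hH hi s hs h
  unfold ChevalleyDatum.monomialSubgroup
  apply sup_le (diagonal_le_NWH hA hadd Bs hB hH)
  rw [Subgroup.closure_le]
  rintro g ⟨r, hr', hg⟩
  have : g = hadd.wordU (D.nWord r 1) := by
    apply Units.ext
    rw [hg, hadd.wordU_val]
    rfl
  rw [this]
  exact key r hr' 1 one_ne_zero

end

end Cfsg.Agent.Lib.Helper5.Chev
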