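import Cfsg.Agent.Lib.Helper5.Chev.NMat
import Mathlib

/-!
# The statements on `n_i` from the boolean checks (helper5)
-/

set_option autoImplicit false

namespace Cfsg.Agent.Lib.Helper5.Chev

open Cfsg.Lie
open scoped Matrix

variable {F : Type*} [Field F] {T : FD} {D : ChevalleyDatum}

theorem Pm_congr (i : ℕ) (a a' : ℕ → ℤ) (w w' : ℕ → ℕ) (η : ℕ → ℤ)
    (ha : ∀ j < D.rank, a j = a' j) (hw : ∀ s < D.nroots, w s = w' s) :
    Pm F D i a w η = Pm F D i a' w' η := by
  ext x y
  rcases x with k | u <;> rcases y with j | s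
  · rw [Pm_ll, Pm_ll, ha j j.2]
  · rfl
  · rfl
  · rw [Pm_rr, Pm_rr, hw s s.2]

/-- all the checks for one fundamental reflection -/
structure ReflChecks (T : FD) (D : ChevalleyDatum) (i B : ℕ) : Prop where
  hG : monoG T i B = true
  hC : ∀ r < D.nroots, ChainOK T D.nroots (wOf B) (etaOf B) r
  hN : nmatb T i B = true
  hS : sideb T i B = true

theorem ReflChecks.cert {i B : ℕ} (hA : T.Agrees D) (c : ReflChecks T D i B) :
    MonoCert T D.nroots D.rank i (fun j => T.cartan j (T.simple i)) (wOf B) (etaOf B) :=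
  monoCert_of_check T D hA i B c.hG c.hC

theorem ReflChecks.side {i B : ℕ} (hA : T.Agrees D) (c : ReflChecks T D i B) :
    etaOf B (T.simple i) = -1 ∧ etaOf B (T.neg (T.simple i)) = -1 ∧
      ∀ s < D.nroots, etaOf B s * etaOf B (wOf B s) = (-1) ^ (T.cartan i s).natAbs ∧
        etaOf B s * etaOf B (T.neg s) = 1 ∧ T.reflect i s = wOf B s := by
  have h := c.hS
  unfold sideb at h
  rw [forceNat_eq, Bool.and_eq_true, Bool.and_eq_true, zbeq_iff, zbeq_iff, hA.nroots_eq] at h
  refine ⟨h.1.1, h.1.2, fun s hs => ?_⟩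
  have := allBelow_spec _ _ h.2 s hs
  rw [Bool.and_eq_true, Bool.and_eq_true, zbeq_iff, zbeq_iff, FD.nbeq, zpow'_eq] at this
  exact ⟨this.1.1, this.1.2, this.2⟩

theorem ReflChecks.nmat {i B : ℕ} (hA : T.Agrees D) (hi : i < D.rank) (c : ReflChecks T D i B) :
    D.nMat F (D.simple i) 1
      = Pm F D i (fun j => D.cartan j (D.simple i)) (D.reflectRoot i) (etaOf B) := by
  rw [nMat_eq hA i B hi (c.cert hA).w_lt c.hN]
  apply Pm_congr
  · intro j hj
    rw [FD.simple_eq' hA i hi, FD.cartan_eq' hA j _ hj (hA.simple_lt i hi)]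
  · intro s hs
    rw [FD.reflect_eq hA i s hi hs, ((c.side hA).2.2 s hs).2.2]

/-- the statement on the matrix of `n_i` -/
theorem ReflChecks.s1095 {i B : ℕ} (hA : T.Agrees D) (hi : i < D.rank) (c : ReflChecks T D i B) :
    ∃ η : ℕ → ℤ, (∀ s < D.nroots, η s = 1 ∨ η s = -1) ∧ η (D.simple i) = -1 ∧
      η (D.neg (D.simple i)) = -1 ∧
      (∀ s < D.nroots, η s * η (D.reflectRoot i s) = (-1) ^ (D.cartan i s).natAbs ∧
        η s * η (D.neg s) = 1) ∧
      D.nMat F (D.simple i) 1 = Matrix.of (fun (row col : D.Idx) =>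
        Sum.elim
          (fun j' : Fin D.rank => Sum.elim
            (fun j : Fin D.rank => (if j' = j then (1 : F) else 0) -
              (if (j' : ℕ) = i then ((D.cartan j (D.simple i) : ℤ) : F) else 0))
            (fun _ => (0 : F)) col)
          (fun s' : Fin D.nroots => Sum.elim
            (fun _ => (0 : F))
            (fun s : Fin D.nroots => if (s' : ℕ) = D.reflectRoot i s then ((etaOf B s : ℤ) : F) else 0) col)
          row) := by
  obtain ⟨s1, s2, s3⟩ := c.side hA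
  have hp := hA.simple_lt i hi
  refine ⟨etaOf B, fun s _ => etaOf_pm B s, ?_, ?_, ?_, c.nmat hA hi⟩
  · rw [FD.simple_eq' hA i hi]; exact s1
  · rw [FD.simple_eq' hA i hi, FD.neg_eq' hA _ hp]; exact s2
  · intro s hs
    obtain ⟨t1, t2, t3⟩ := s3 s hs
    rw [FD.reflect_eq hA i s hi hs, t3, FD.cartan_eq' hA i s hi hs, FD.neg_eq' hA s hs]
    exact ⟨t1, t2⟩

/-- conjugation of root elements by `n_i` -/
theorem ReflChecks.s1031 {i B : ℕ} (hA : T.Agrees D) (hi : i < D.rank) (c : ReflChecks T D i B)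
    (s : ℕ) (hs : s < D.nroots) :
    ∃ η : ℤ, (η = 1 ∨ η = -1) ∧ ∀ t : F,
      D.nMat F (D.simple i) 1 * D.x F s t
        = D.x F (D.reflectRoot i s) ((η : F) * t) * D.nMat F (D.simple i) 1 := by
  have hcert := c.cert hA
  refine ⟨etaOf B s, etaOf_pm B s, fun t => ?_⟩
  have hw : D.reflectRoot i s = wOf B s := by
    rw [FD.reflect_eq hA i s hi hs, ((c.side hA).2.2 s hs).2.2]
  rw [nMat_eq hA i B hi hcert.w_lt c.hN, hw, x_eq_xMat s hs, x_eq_xMat _ (hcert.w_lt s hs)]
  exact hcert.conj hA ⟨s, hs⟩ t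

theorem chain_all (T : FD) (B n step k : ℕ) (hstep : 0 < step) (hn : n ≤ k * step)
    (h : ∀ q < k, monoC T B (q * step) step = true) :
    ∀ r < n, ChainOK T T.nroots (wOf B) (etaOf B) r := by
  intro r hr
  have hq : r / step < k := by
    rw [Nat.div_lt_iff_lt_mul hstep]
    omega
  have h1 : r / step * step ≤ r := Nat.div_mul_le_self r step
  have h2 : r < r / step * step + step := by
    have := Nat.lt_div_mul_add hstep (a := r)
    omega
  exact chainOK_of_monoC T B _ step (h _ hq) r h1 h2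

end Cfsg.Agent.Lib.Helper5.Chev
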