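import Cfsg.Agent.Lib.Helper5.Chev.MonoCheck
import Mathlib

/-!
# The elements `n_i` as monomial matrices (helper5)
-/

set_option autoImplicit false

namespace Cfsg.Agent.Lib.Helper5.Chev

open Cfsg.Lie
open scoped Matrix

/-- the monomial matrix as a sparse matrix -/
def PmSPM (l i ca B : ℕ) : SPM := fun j =>
  cond (Nat.blt j l)
    [⟨j, 1, 0, 0, 0⟩, ⟨i, Int.neg (decodeCartan ca j), 0, 0, 0⟩]
    [⟨Nat.add l (wOf B (Nat.sub j l)), etaOf B (Nat.sub j l), 0, 0, 0⟩]

theorem wf_PmSPM (D : ChevalleyDatum) (i ca B : ℕ) (hi : i < D.rank)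
    (hw : ∀ s < D.nroots, wOf B s < D.nroots) :
    SPM.WF (D.rank + D.nroots) (PmSPM D.rank i ca B) := by
  intro j hj e he
  unfold PmSPM at he
  by_cases h : Nat.blt j D.rank = true
  · rw [h, cond_true] at he
    rw [Nat.blt_eq] at h
    simp only [List.mem_cons, List.not_mem_nil, or_false] at he
    rcases he with rfl | rfl
    · exact hj
    · simp only; omega
  · rw [Bool.not_eq_true] at h
    rw [h, cond_false] at he
    have h' : ¬ j < D.rank := by rw [← Nat.blt_eq, h]; simp
    simp only [List.mem_cons, List.not_mem_nil, or_false] at he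
    subst he
    have := hw (j - D.rank) (by omega)
    show D.rank + wOf B (j - D.rank) < _
    omega

theorem eval_PmSPM {F : Type*} [Field F] (D : ChevalleyDatum) (i ca B : ℕ) (hi : i < D.rank)
    (t u v : F) :
    SPM.eval D (PmSPM D.rank i ca B) t u v
      = Pm F D i (fun j => decodeCartan ca j) (wOf B) (etaOf B) := by
  ext x y
  simp only [SPM.eval, Matrix.of_apply]
  generalize hcx : code D x = cx
  rcases y with j | s
  · have hj : Nat.blt j.val D.rank = true := by rw [Nat.blt_eq]; exact j.2
    have hc : PmSPM D.rank i ca B (code D (Sum.inl j))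
        = [⟨j.val, 1, 0, 0, 0⟩, ⟨i, Int.neg (decodeCartan ca j.val), 0, 0, 0⟩] := by
      simp only [PmSPM, code, Sum.elim_inl, hj, cond_true]
    rw [hc]
    simp only [SVec.eval, List.map_cons, List.map_nil, List.sum_cons, List.sum_nil, add_zero, Ent.val,
      pow_zero, mul_one]
    have e : ((Int.neg (decodeCartan ca j.val) : ℤ) : F) = - ((decodeCartan ca j.val : ℤ) : F) := by
      show (((-(decodeCartan ca j.val) : ℤ)) : F) = _
      push_cast; rfl
    rw [e]
    rcases x with k | u
    · have hcx' : cx = k.val := by rw [← hcx]; rfl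
      subst hcx'
      rw [Pm_ll]
      have e1 : (j.val = k.val) ↔ (k = j) := ⟨fun hh => Fin.ext hh.symm, fun hh => by rw [hh]⟩
      have e2 : (i = k.val) ↔ (k.val = i) := ⟨fun hh => hh.symm, fun hh => hh.symm⟩
      simp only [e1, e2]
      split_ifs <;> simp <;> ring
    · have hcx' : cx = D.rank + u.val := by rw [← hcx]; rfl
      subst hcx'
      rw [Pm_rl]
      have h1 : ¬ (j.val = D.rank + u.val) := by have := j.2; omega
      have h2 : ¬ (i = D.rank + u.val) := by omega
      simp only [h1, h2, if_false, zero_add]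
  · have hs : Nat.blt (D.rank + s.val) D.rank = false := by
      rw [← Bool.not_eq_true, Nat.blt_eq]; omega
    have hsub : Nat.sub (D.rank + s.val) D.rank = s.val := by
      show D.rank + s.val - D.rank = s.val
      omega
    have hc : PmSPM D.rank i ca B (code D (Sum.inr s))
        = [⟨Nat.add D.rank (wOf B s.val), etaOf B s.val, 0, 0, 0⟩] := by
      simp only [PmSPM, code, Sum.elim_inr, hs, cond_false, hsub]
    rw [hc]
    simp only [SVec.eval, List.map_cons, List.map_nil, List.sum_cons, List.sum_nil, add_zero, Ent.val,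
      pow_zero, mul_one]
    rcases x with k | u
    · have hcx' : cx = k.val := by rw [← hcx]; rfl
      subst hcx'
      rw [Pm_lr]
      have h1 : ¬ (Nat.add D.rank (wOf B s.val) = k.val) := by
        show ¬ (D.rank + wOf B s.val = k.val)
        have := k.2; omega
      rw [if_neg h1]
    · have hcx' : cx = D.rank + u.val := by rw [← hcx]; rfl
      subst hcx'
      rw [Pm_rr]
      have e1 : (Nat.add D.rank (wOf B s.val) = D.rank + u.val) ↔ (u.val = wOf B s.val) := by
        show (D.rank + wOf B s.val = D.rank + u.val) ↔ _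
        constructor <;> intro hh <;> omega
      simp only [e1]

/-- the check that `n_i` is the monomial matrix -/
def nmatb (T : FD) (i B : ℕ) : Bool :=
  forceNat T.rank fun l => forceNat T.nroots fun n => forceNat (T.simple i) fun p =>
    RD.force (T.rdOf p) fun Rp => RD.force (T.rdOf Rp.negr) fun Rq =>
      wordEqb (Nat.add l n) id
        [xPR l Rp 1 0 0 0, xPR l Rq (Int.negSucc 0) 0 0 0, xPR l Rp 1 0 0 0] [PmSPM l i Rp.car B]

namespace FD

variable (T : FD)

/-- `chainRoot` on the fast datum -/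
def chainRoot (r s k : ℕ) : Option ℕ := ((T.ch r s)[k - 1]?).map Prod.fst

/-- `reflectRoot` on the fast datum -/
def reflect (i s : ℕ) : ℕ :=
  if s = T.simple i then T.neg (T.simple i)
  else if s = T.neg (T.simple i) then T.simple i
  else if 0 < T.cartan i s then (T.chainRoot (T.neg (T.simple i)) s (T.cartan i s).toNat).getD s
  else if T.cartan i s < 0 then (T.chainRoot (T.simple i) s (-(T.cartan i s)).toNat).getD s
  else s

variable {T} {D : ChevalleyDatum}

theorem simple_eq' (hA : T.Agrees D) (i : ℕ) (hi : i < D.rank) : D.simple i = T.simple i :=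
  (hA.simple_eq i hi).symm

theorem neg_eq' (hA : T.Agrees D) (r : ℕ) (hr : r < D.nroots) : D.neg r = T.neg r :=
  (hA.neg_eq r hr).symm

theorem cartan_eq' (hA : T.Agrees D) (i r : ℕ) (hi : i < D.rank) (hr : r < D.nroots) :
    D.cartan i r = T.cartan i r := (hA.cartan_eq i hi r hr).symm

theorem chainRoot_eq (hA : T.Agrees D) (r s k : ℕ) (hr : r < D.nroots) (hs : s < D.nroots) :
    D.chainRoot r s k = T.chainRoot r s k := by
  unfold ChevalleyDatum.chainRoot chainRoot
  rw [chainEntry_eq hA r s hr hs]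

theorem reflect_eq (hA : T.Agrees D) (i s : ℕ) (hi : i < D.rank) (hs : s < D.nroots) :
    D.reflectRoot i s = T.reflect i s := by
  have hp := hA.simple_lt i hi
  have hq := hA.neg_lt _ hp
  unfold ChevalleyDatum.reflectRoot reflect
  simp only [simple_eq' hA i hi, neg_eq' hA _ hp, cartan_eq' hA i s hi hs,
    chainRoot_eq hA _ s _ hp hs, chainRoot_eq hA _ s _ hq hs]

end FD

/-- the side conditions of the statement on `n_i` -/
def sideb (T : FD) (i B : ℕ) : Bool :=
  forceNat T.nroots fun n =>
    zbeq (etaOf B (T.simple i)) (Int.negSucc 0) && zbeq (etaOf B (T.neg (T.simple i))) (Int.negSucc 0) &&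
    allBelow n fun s =>
      zbeq (Int.mul (etaOf B s) (etaOf B (wOf B s))) (zpow' (Int.negSucc 0) (Int.natAbs (T.cartan i s))) &&
      zbeq (Int.mul (etaOf B s) (etaOf B (T.neg s))) 1 && Nat.beq (T.reflect i s) (wOf B s)

section final

variable {F : Type*} [Field F] {T : FD} {D : ChevalleyDatum}

theorem x_eq_xMat (r : ℕ) (hr : r < D.nroots) (t : F) : D.x F r t = D.xMat F ⟨r, hr⟩ t := by
  rw [ChevalleyDatum.x, dif_pos hr]

theorem nMat_eq (hA : T.Agrees D) (i B : ℕ) (hi : i < D.rank)
    (hw : ∀ s < D.nroots, wOf B s < D.nroots) (h : nmatb T i B = true) :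
    D.nMat F (D.simple i) 1
      = Pm F D i (fun j => T.cartan j (T.simple i)) (wOf B) (etaOf B) := by
  unfold nmatb at h
  rw [forceNat_eq, forceNat_eq, forceNat_eq, RD.force_eq, RD.force_eq] at h
  have hN : Nat.add T.rank T.nroots = D.rank + D.nroots := by rw [hA.rank_eq, hA.nroots_eq]; rfl
  rw [hN] at h
  have hp := hA.simple_lt i hi
  have hq := hA.neg_lt _ hp
  have e := wordEqb_sound D id (1 : F) 1 1 (fun e => ⟨rfl, rfl⟩)
    [T.xP (T.simple i) 1 0 0 0, T.xP (T.neg (T.simple i)) (Int.negSucc 0) 0 0 0,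
      T.xP (T.simple i) 1 0 0 0] [PmSPM T.rank i (T.rdOf (T.simple i)).car B]
    (by
      intro C hC
      simp only [List.mem_cons, List.not_mem_nil, or_false] at hC
      rcases hC with rfl | rfl | rfl
      · exact FD.wf_xP hA _ hp _ _ _ _
      · exact FD.wf_xP hA _ hq _ _ _ _
      · exact FD.wf_xP hA _ hp _ _ _ _)
    (by
      intro C hC
      simp only [List.mem_cons, List.not_mem_nil, or_false] at hC
      subst hC
      rw [hA.rank_eq]
      exact wf_PmSPM D i _ B hi hw) h
  simp only [List.map_cons, List.map_nil, List.prod_cons, List.prod_nil, mul_one] at e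
  rw [FD.eval_xP hA _ hp, FD.eval_xP hA _ hq, hA.rank_eq, eval_PmSPM D i _ B hi] at e
  unfold ChevalleyDatum.nMat ChevalleyDatum.nWord ChevalleyDatum.wordMat
  simp only [List.map_cons, List.map_nil, List.prod_cons, List.prod_nil, mul_one]
  rw [FD.simple_eq' hA i hi, FD.neg_eq' hA _ hp]
  have e1 : ((1 : ℤ) : F) * 1 ^ 0 * 1 ^ 0 * 1 ^ 0 = 1 := by simp
  have e2 : ((Int.negSucc 0 : ℤ) : F) * 1 ^ 0 * 1 ^ 0 * 1 ^ 0 = -1⁻¹ := by simp
  rw [e1, e2] at e
  rw [e]
  rfl

end final

end Cfsg.Agent.Lib.Helper5.Chev
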