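import Cfsg.Agent.Lib.Helper5.Chev.NFinal
import Mathlib

/-!
# The statement on the matrix of `n_i` (helper5)
-/

set_option autoImplicit false

namespace Cfsg.Agent.Lib.Helper5.Chev

open Cfsg.Lie
open scoped Matrix

variable {F : Type*} [Field F] {T : FD} {D : ChevalleyDatum}

/-- the statement on the matrix of `n_i` -/
theorem ReflChecks.nmat_stmt {i B : ℕ} (hA : T.Agrees D) (hi : i < D.rank) (c : ReflChecks T D i B) :
    ∃ η : ℕ → ℤ, (∀ s < D.nroots, η s = 1 ∨ η s = -1) ∧ η (D.simple i) = -1 ∧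
      η (D.neg (D.simple i)) = -1 ∧
      (∀ s < D.nroots, η s * η (D.reflectRoot i s) = (-1) ^ (D.cartan i s).natAbs ∧
        η s * η (D.neg s) = 1) ∧
      D.nMat F (D.simple i) 1 = Matrix.of (fun (row col : D.Idx) =>
        Sum.elim
          (fun j' : Fin D.rank => Sum.elim
            (fun j : Fin D.rank => (if j' = j then (1 : F) else 0) -
              (if (j' : ℕ) = i then ((D.cartan j (D.simple i) : ℤ) : F) else 0))
            (fun _ => (0 : F)) col)
          (fun s' : Fin D.nroots => Sum.elim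
            (fun _ => (0 : F))
            (fun s : Fin D.nroots => if (s' : ℕ) = D.reflectRoot i s then ((η s : ℤ) : F) else 0) col)
          row) := by
  obtain ⟨s1, s2, s3⟩ := c.side hA
  have hp := hA.simple_lt i hi
  refine ⟨etaOf B, fun s _ => etaOf_pm B s, ?_, ?_, ?_, c.nmat hA hi⟩
  · rw [FD.simple_eq' hA i hi]; exact s1
  · rw [FD.simple_eq' hA i hi, FD.neg_eq' hA _ hp]; exact s2
  · intro s hs
    obtain ⟨t1, t2, t3⟩ := s3 s hs
    rw [FD.reflect_eq hA i s hi hs, t3, FD.cartan_eq' hA i s hi hs, FD.neg_eq' hA s hs]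
    exact ⟨t1, t2⟩

end Cfsg.Agent.Lib.Helper5.Chev
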