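import Cfsg.Agent.Lib.Helper5.Chev.CommTransfer
import Mathlib

/-!
# The check that no root chain has three steps (helper5)
-/

set_option autoImplicit false

namespace Cfsg.Agent.Lib.Helper5.Chev

open Cfsg.Lie

theorem dec3_two (v : ℕ) (h : Nat.beq (Nat.div v 16777216) 0 = true) : (dec3 v)[2]? = none := by
  unfold dec3
  rw [h]
  cases Nat.beq v 0 <;> cases Nat.beq (Nat.div v 4096) 0 <;> rfl

/-- the check that no root chain has three steps -/
def noThreeb (T : FD) : Bool :=
  forceNat T.nroots fun n => allBelow n fun r => forceNat (T.rdOf r).row fun row =>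
    allBelow n fun s =>
      Nat.beq (Nat.div (Nat.land (Nat.shiftRight row (Nat.mul 36 s)) 68719476735) 16777216) 0

theorem noThree_of_check {T : FD} {D : ChevalleyDatum} (hA : T.Agrees D) (h : noThreeb T = true) :
    NoThree T D.nroots := by
  unfold noThreeb at h
  rw [forceNat_eq, hA.nroots_eq] at h
  intro r hr s hs
  have h1 := allBelow_spec _ _ h r hr
  rw [forceNat_eq] at h1
  have h2 := allBelow_spec _ _ h1 s hs
  unfold FD.chainRoot FD.ch decodeRow
  rw [show (3 : ℕ) - 1 = 2 from rfl, dec3_two _ h2]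
  rfl

theorem simple_lt_of {T : FD} {D : ChevalleyDatum} (hA : T.Agrees D) (i : ℕ) (hi : i < D.rank) :
    D.simple i < D.nroots ∧ D.neg (D.simple i) < D.nroots := by
  have hp : D.simple i < D.nroots := by
    rw [FD.simple_eq' hA i hi]; exact hA.simple_lt i hi
  refine ⟨hp, ?_⟩
  rw [FD.neg_eq' hA _ hp, FD.simple_eq' hA i hi]
  exact hA.neg_lt _ (hA.simple_lt i hi)

/-- the direct check of the commutator formula for all `s` and a fixed `r` -/
def commRowb (T : FD) (r : ℕ) : Bool :=
  forceNat T.nroots fun n => allBelow n fun s =>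
    Nat.beq s r || Nat.beq s (T.neg r) || commb T r s

theorem comm_row_of_check {F : Type*} [Field F] {T : FD} {D : ChevalleyDatum} (hA : T.Agrees D)
    (r : ℕ) (hr : r < D.nroots) (h : commRowb T r = true) :
    ∀ s < D.nroots, CommOK' F D r s := by
  unfold commRowb at h
  rw [forceNat_eq, hA.nroots_eq] at h
  intro s hs
  have h1 := allBelow_spec _ _ h s hs
  rw [Bool.or_eq_true, Bool.or_eq_true] at h1
  rcases h1 with (h1 | h1) | h1
  · exact Or.inl (Nat.eq_of_beq_eq_true h1)
  · right; left
    rw [FD.neg_eq' hA r hr]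
    exact Nat.eq_of_beq_eq_true h1
  · exact commOK'_of_check hA r s hr hs h1

end Cfsg.Agent.Lib.Helper5.Chev
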