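import Cfsg.Agent.Lib.Helper5.Chev.UNormData
import Cfsg.Agent.Lib.Helper5.Chev.NormRad
import Mathlib

/-!
# The centraliser of the unipotent radical of a proper parabolic subgroup lies in `U` (helper5)
-/

set_option autoImplicit false
set_option maxRecDepth 100000

namespace Cfsg.Agent.Lib.Helper5.Chev

open Cfsg.Lie
open scoped Matrix Pointwise

section

variable {F : Type*} [Field F] {T : FD} {D : ChevalleyDatum}

/-- conjugation of a root element by `n_j` -/
theorem nU_conj (hA : T.Agrees D) (hadd : AllAdd F D) {j B : ℕ} (hj : j < D.rank)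
    (c : ReflChecks T D j B) (hp : D.simple j < D.nroots) (hq : D.neg (D.simple j) < D.nroots)
    (s : ℕ) (hs : s < D.nroots) (t : F) :
    hadd.nU (D.simple j) hp hq * hadd.xU s t * (hadd.nU (D.simple j) hp hq)⁻¹
      = hadd.xU (T.reflect j s) (((etaOf B s : ℤ) : F) * t) := by
  rw [mul_inv_eq_iff_eq_mul]
  apply Units.ext
  rw [Units.val_mul, Units.val_mul]
  have h := c.conj_x (F := F) hA hj s hs t
  rw [((c.side hA).2.2 s hs).2.2]
  exact h

theorem reflect_lt (hA : T.Agrees D) {j B : ℕ} (c : ReflChecks T D j B) (s : ℕ)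
    (hs : s < D.nroots) : T.reflect j s < D.nroots := by
  rw [((c.side hA).2.2 s hs).2.2]
  exact (c.cert hA).w_lt s hs

theorem eta_ne_zero (B s : ℕ) : ((etaOf B s : ℤ) : F) ≠ 0 := by
  rcases etaOf_pm B s with h | h <;> rw [h] <;> simp

/-- decomposition of the elements of `B` -/
theorem exists_mul_of_mem_borel (hD : D ∈ [chevG2, chevB2, chevD4, chevF4, chevE6, chevE7, chevE8])
    (b : GL D.Idx F) (hb : b ∈ D.borelSubgroup F) :
    ∃ u ∈ D.posUnipotent F, ∃ h ∈ D.diagonalSubgroup F, b = u * h := by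
  have h1 := (borel_semidirect_all (F := F) D hD).1
  have h2 := Subgroup.coe_mul_of_right_le_normalizer_left (D.posUnipotent F)
    (D.diagonalSubgroup F) h1
  have h3 : b ∈ ((D.posUnipotent F ⊔ D.diagonalSubgroup F : Subgroup (GL D.Idx F)) :
      Set (GL D.Idx F)) := hb
  rw [h2, Set.mem_mul] at h3
  obtain ⟨u, hu, h, hh, rfl⟩ := h3
  exact ⟨u, hu, h, hh, rfl⟩

end

section

variable {F : Type*} [Field F]

/-- the centraliser of `U_J` in a proper parabolic subgroup `P_J` lies in `U` -/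
theorem centralizer_radical_le (D : ChevalleyDatum)
    (hD : D ∈ [chevG2, chevB2, chevD4, chevF4, chevE6, chevE7, chevE8]) (J : Set ℕ)
    (hJ : ∃ i, i < D.rank ∧ i ∉ J) :
    Subgroup.centralizer (D.unipotentRadical F J : Set (GL D.Idx F)) ⊓ D.parabolicSubgroup F J
      ≤ D.posUnipotent F := by
  obtain ⟨T, Bs, hA, hok, hok2, htri, hB, hwit, hgen⟩ := unorm_known D hD
  have hadd := allAdd_all (F := F) D hD
  have hcomm := comm_known (F := F) D hD
  have hcor := corInj_all (F := F) D hD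
  have hinj := xInj_all (F := F) D hD
  obtain ⟨P, hPB, -, hPS⟩ := bnPair_all (F := F) D hD
  obtain ⟨i0, hi0, hi0J⟩ := hJ
  have hPN : D.parabolicSubgroup F J ≤
      Subgroup.normalizer (D.unipotentRadical F J : Set (GL D.Idx F)) :=
    (levi_decomposition_all (F := F) D hD J).1
  have hPG : D.parabolicSubgroup F J ≤ D.group F := parabolic_le_group (F := F) D hD J
  have hBP : D.borelSubgroup F ≤ D.parabolicSubgroup F J := le_sup_left
  have hUB : D.posUnipotent F ≤ D.borelSubgroup F := le_sup_left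
  have hRU : D.unipotentRadical F J ≤ D.posUnipotent F := by
    unfold ChevalleyDatum.unipotentRadical ChevalleyDatum.posUnipotent
    apply Subgroup.closure_mono
    rintro g ⟨r, t, h1, -, h3⟩
    exact ⟨r, t, h1, h3⟩
  have hpos : ∀ r, D.IsPosRoot r → D.nroots / 2 ≤ r := by
    intro r hr
    have := ((htri r hr.1).1 hr).1
    rwa [hA.nroots_eq] at this
  have hnegT : ∀ r < D.nroots, D.nroots / 2 ≤ r → T.neg r < D.nroots / 2 := by
    intro r hr hle
    have := ((htri r hr).1 (hok.pos_of_le r hr hle)).2.1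
    rwa [hA.nroots_eq] at this
  -- membership of root elements in the radical
  have hxR : ∀ r, r < D.nroots → D.nroots / 2 ≤ r → ¬ D.InRootSub J r → ∀ a : F,
      hadd.xU r a ∈ D.unipotentRadical F J := fun r hr hle hnot a =>
    Subgroup.subset_closure ⟨r, a, hok.pos_of_le r hr hle, hnot, rfl⟩
  -- the fundamental roots outside `J`
  have hsimple : ∀ j < D.rank, j ∉ J → D.simple j < D.nroots ∧ D.nroots / 2 ≤ D.simple j ∧
      ¬ D.InRootSub J (D.simple j) := by
    intro j hj hjJ
    obtain ⟨hp, -⟩ := simple_lt_all D hD j hj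
    refine ⟨hp, hpos _ (pos_simple_all D hD j hj), ?_⟩
    intro h
    have := h.2 j hj hjJ
    rw [coroot_simple_all D hD j hj j hj, if_pos rfl] at this
    exact one_ne_zero this
  -- the action of an element of `B` on a root element, modulo the filtration
  have hact : ∀ b ∈ D.borelSubgroup F, ∃ u ∈ D.posUnipotent F, ∃ h ∈ D.diagonalSubgroup F,
      ∃ χ : ℕ → Fˣ, D.IsRootCharacter χ ∧ b = u * h ∧
        (h : Matrix D.Idx D.Idx F) = D.charDiag F χ ∧
        ∀ r, r < D.nroots → D.nroots / 2 ≤ r → ∀ a : F,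
          (hadd.xU r ((χ r : F) * a))⁻¹ * (b * hadd.xU r a * b⁻¹) ∈ UF F D (r + 1) := by
    intro b hb
    obtain ⟨u, hu, h, hh, rfl⟩ := exists_mul_of_mem_borel hD b hb
    obtain ⟨χ, hχ, h1, h2⟩ := exists_char_of_mem hD h hh
    exact ⟨u, hu, h, hh, χ, hχ, rfl, h1, fun r hr hle a =>
      conj_borel_mem hD hA hadd hok hok2 htri hcomm r hr hle u h hu χ hχ h1 h2 a⟩
  -- a root element in the next term of the filtration is trivial
  have htriv : ∀ r, r < D.nroots → D.nroots / 2 ≤ r → ∀ a : F,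
      hadd.xU r a ∈ UF F D (r + 1) → a = 0 := by
    intro r hr hle a ha
    have h1 : hadd.xU r a ∈ D.rootSubgroup F r ⊓ UF F D (r + 1) :=
      ⟨xU_mem_rootSubgroup hadd r a, ha⟩
    rw [rootSubgroup_inf_UF hA hadd hok htri hcor r hr hle, Subgroup.mem_bot] at h1
    exact hinj r hr a (by rw [← hadd.xU_val, h1]; rfl)
  -- `B` normalises the centraliser
  set Cc : Subgroup (GL D.Idx F) :=
    Subgroup.centralizer (D.unipotentRadical F J : Set (GL D.Idx F)) ⊓ D.parabolicSubgroup F J
    with hCc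
  have hconjC : ∀ p ∈ D.parabolicSubgroup F J, ∀ c ∈ Cc, p * c * p⁻¹ ∈ Cc := by
    intro p hp c hc
    rw [hCc, Subgroup.mem_inf] at hc ⊢
    refine ⟨?_, Subgroup.mul_mem _ (Subgroup.mul_mem _ hp hc.2) (Subgroup.inv_mem _ hp)⟩
    rw [Subgroup.mem_centralizer_iff]
    intro y hy
    have hy' : p⁻¹ * y * p⁻¹⁻¹ ∈ D.unipotentRadical F J :=
      (Subgroup.mem_normalizer_iff.1 (hPN (Subgroup.inv_mem _ hp)) y).1 hy
    have h1 := Subgroup.mem_centralizer_iff.1 hc.1 _ hy'
    calc y * (p * c * p⁻¹) = p * ((p⁻¹ * y * p⁻¹⁻¹) * c) * p⁻¹ := by group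
      _ = p * (c * (p⁻¹ * y * p⁻¹⁻¹)) * p⁻¹ := by rw [h1]
      _ = p * c * p⁻¹ * y := by group
  have hBnorm : D.borelSubgroup F ≤ Subgroup.normalizer (Cc : Set (GL D.Idx F)) := by
    intro b hb
    rw [Subgroup.mem_normalizer_iff]
    intro c
    constructor
    · exact hconjC b (hBP hb) c
    · intro hc
      have := hconjC b⁻¹ (Subgroup.inv_mem _ (hBP hb)) _ hc
      have e : b⁻¹ * (b * c * b⁻¹) * b⁻¹⁻¹ = c := by group
      rwa [e] at this
  -- an element `n_j` is not in `Cc B`
  have hW : ∀ j < D.rank, ∀ (hp : D.simple j < D.nroots) (hq : D.neg (D.simple j) < D.nroots),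
      ∀ c ∈ Cc, ∀ b ∈ D.borelSubgroup F, hadd.nU (D.simple j) hp hq = c * b → False := by
    intro j hj hp hq c hc b hb hn
    -- the witness root
    have hwr : ∃ r, r < D.nroots ∧ D.nroots / 2 ≤ r ∧ ¬ D.InRootSub J r ∧ T.reflect j r ≠ r := by
      by_cases hjJ : j ∈ J
      · have hne : i0 ≠ j := fun h => hi0J (h ▸ hjJ)
        obtain ⟨r, k, h1, h2, h3, h4, -⟩ := hwit.wit i0 hi0 j hj hne
        exact ⟨r, h2, h1, not_inRootSub_of hA J r h2 i0 hi0 hi0J h3, h4⟩
      · obtain ⟨h1, h2, h3⟩ := hsimple j hj hjJ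
        refine ⟨D.simple j, h1, h2, h3, ?_⟩
        unfold FD.reflect
        rw [if_pos (FD.simple_eq' hA j hj)]
        have := hnegT _ h1 h2
        rw [FD.simple_eq' hA j hj] at this h2 ⊢
        omega
    obtain ⟨r, hr, hrle, hrJ, hrefl⟩ := hwr
    have hr' := reflect_lt hA (hB j hj) r hr
    set r' := T.reflect j r with hr'def
    set η : F := ((etaOf (Bs.getD j 0) r : ℤ) : F) with hη
    have hη0 : η ≠ 0 := eta_ne_zero _ _
    have e1 := nU_conj hA hadd hj (hB j hj) hp hq r hr (1 : F)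
    rw [← hr'def, ← hη, mul_one] at e1
    -- `y = b x_r(1) b⁻¹`
    have hyR : b * hadd.xU r 1 * b⁻¹ ∈ D.unipotentRadical F J :=
      (Subgroup.mem_normalizer_iff.1 (hPN (hBP hb)) _).1 (hxR r hr hrle hrJ 1)
    have hcy := Subgroup.mem_centralizer_iff.1 hc.1 _ hyR
    have hy : b * hadd.xU r 1 * b⁻¹ = hadd.xU r' η := by
      rw [← e1, hn]
      calc b * hadd.xU r 1 * b⁻¹ = (b * hadd.xU r 1 * b⁻¹) * c * c⁻¹ := by group
        _ = c * (b * hadd.xU r 1 * b⁻¹) * c⁻¹ := by rw [hcy]
        _ = c * b * hadd.xU r 1 * (c * b)⁻¹ := by group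
    obtain ⟨u, hu, h, hh, χ, hχ, -, -, hmod⟩ := hact b hb
    have hm := hmod r hr hrle 1
    rw [hy, mul_one] at hm
    have hone : hadd.xU r' η ≠ 1 := by
      intro h1
      apply hη0
      exact hinj r' hr' η (by rw [← hadd.xU_val, h1]; rfl)
    rcases Nat.lt_or_ge r' (D.nroots / 2) with hlt | hge
    · -- `r'` negative
      have hx : hadd.xU r' η ∈ D.borelSubgroup F ⊓ D.negUnipotent F := by
        constructor
        · rw [← hy]
          exact hUB (hRU hyR)
        · apply Subgroup.subset_closure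
          exact ⟨r', η, neg_of_lt_half D hD r' hr' hlt, rfl⟩
      rw [(borel_inf_neg_all D hD).1, Subgroup.mem_bot] at hx
      exact hone hx
    · rcases Nat.lt_or_ge r' r with hlt | hge2
      · -- `r' < r`
        have h1 : hadd.xU r' η ∈ UF F D r := by
          have h2 := Subgroup.mul_mem _ (xU_mem_UF hadd r r (hok.pos_of_le r hr hrle) le_rfl
            ((χ r : F))) (UF_anti (F := F) (D := D) (Nat.le_succ r) hm)
          rwa [mul_inv_cancel_left] at h2
        have h3 := UF_anti (F := F) (D := D) (by omega : r' + 1 ≤ r) h1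
        exact hη0 (htriv r' hr' hge η h3)
      · have hgt : r < r' := lt_of_le_of_ne hge2 (fun h => hrefl h.symm)
        have h1 : hadd.xU r' η ∈ UF F D (r + 1) :=
          xU_mem_UF hadd (r + 1) r' (hok.pos_of_le r' hr' hge) hgt η
        have h2 : hadd.xU r (χ r : F) ∈ UF F D (r + 1) := by
          have := Subgroup.mul_mem _ h1 (Subgroup.inv_mem _ hm)
          have e : hadd.xU r' η * ((hadd.xU r (χ r : F))⁻¹ * hadd.xU r' η)⁻¹
              = hadd.xU r (χ r : F) := by group
          rwa [e] at this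
        exact (χ r).ne_zero (htriv r hr hrle _ h2)
  -- `Cc ≤ B`
  have hCB : Cc ≤ D.borelSubgroup F := by
    have hcoe := Subgroup.coe_mul_of_right_le_normalizer_left Cc (D.borelSubgroup F) hBnorm
    have hMG : Cc ⊔ D.borelSubgroup F ≤ D.group F :=
      sup_le (inf_le_right.trans hPG) (hBP.trans hPG)
    set M : Subgroup ↥(D.group F) := (Cc ⊔ D.borelSubgroup F).subgroupOf (D.group F) with hM
    have hBM : P.B ≤ M := by
      rw [hPB]
      intro x hx
      rw [Subgroup.mem_subgroupOf] at hx ⊢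
      exact Subgroup.mem_sup_right hx
    obtain ⟨K, hK, hMK⟩ := Cfsg.Agent.S0311.result P M hBM
    have hKe : K = ∅ := by
      rw [Set.eq_empty_iff_forall_notMem]
      intro s hs
      have hsS := hK hs
      rw [hPS] at hsS
      obtain ⟨j, hj, hsj⟩ := hsS
      have hsM : s ∈ M := by
        rw [hMK]
        unfold BNPair.parabolic
        exact Subgroup.mem_sup_right (Subgroup.subset_closure hs)
      rw [hM, Subgroup.mem_subgroupOf] at hsM
      have hsM' : (s : GL D.Idx F) ∈ ((Cc ⊔ D.borelSubgroup F : Subgroup (GL D.Idx F)) :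
          Set (GL D.Idx F)) := hsM
      rw [hcoe, Set.mem_mul] at hsM'
      obtain ⟨c, hc, b, hb, hcb⟩ := hsM'
      obtain ⟨hp, hq⟩ := simple_lt_all D hD j hj
      have hs' : (s : GL D.Idx F) = hadd.nU (D.simple j) hp hq := Units.ext hsj
      exact hW j hj hp hq c hc b hb (by rw [← hs', hcb])
    intro c hc
    have hcG : c ∈ D.group F := hPG hc.2
    have hcM : (⟨c, hcG⟩ : ↥(D.group F)) ∈ M := by
      rw [hM, Subgroup.mem_subgroupOf]
      exact Subgroup.mem_sup_left hc
    rw [hMK, hKe] at hcM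
    unfold BNPair.parabolic at hcM
    rw [Subgroup.closure_empty, sup_bot_eq, hPB, Subgroup.mem_subgroupOf] at hcM
    exact hcM
  -- the elements of `Cc` have trivial diagonal part
  intro c hc
  obtain ⟨u, hu, h, hh, χ, hχ, hcuh, h1, hmod⟩ := hact c (hCB hc)
  -- `χ = 1` outside `Φ_J`
  have hχ1 : ∀ r, r < D.nroots → D.nroots / 2 ≤ r → ¬ D.InRootSub J r → χ r = 1 := by
    intro r hr hrle hrJ
    have hcx := Subgroup.mem_centralizer_iff.1 hc.1 _ (hxR r hr hrle hrJ 1)
    have hm := hmod r hr hrle 1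
    have e : c * hadd.xU r 1 * c⁻¹ = hadd.xU r 1 := by
      rw [← hcx, mul_inv_cancel_right]
    rw [e, mul_one, xU_inv] at hm
    have e2 : hadd.xU r (-(χ r : F)) * hadd.xU r 1 = hadd.xU r (-(χ r : F) + 1) :=
      Units.ext (hadd.x_add r _ _)
    rw [e2] at hm
    have := htriv r hr hrle _ hm
    apply Units.ext
    rw [Units.val_one]
    linear_combination -this
  -- `χ = 1` on the fundamental roots
  have hχs : ∀ j < D.rank, χ (D.simple j) = 1 := by
    intro j hj
    by_cases hjJ : j ∈ J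
    · have hne : i0 ≠ j := fun h => hi0J (h ▸ hjJ)
      obtain ⟨r, k, h2, h3, h4, -, h5, h6, h7, h8⟩ := hwit.wit i0 hi0 j hj hne
      obtain ⟨hp, -⟩ := simple_lt_all D hD j hj
      have hch : D.chainRoot (D.simple j) r 1 = some k := by
        rw [FD.chainRoot_eq hA _ r 1 hp h3, FD.simple_eq' hA j hj]
        exact h5
      have e := hχ.2 (D.simple j) r k hp h3 hch
      rw [hχ1 r h3 h2 (not_inRootSub_of hA J r h3 i0 hi0 hi0J h4),
        hχ1 k h7 h6 (not_inRootSub_of hA J k h7 i0 hi0 hi0J h8), mul_one] at e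
      exact e.symm
    · obtain ⟨h2, h3, h4⟩ := hsimple j hj hjJ
      exact hχ1 _ h2 h3 h4
  -- `χ = 1` on the positive roots
  have hχp : ∀ r, r < D.nroots → D.nroots / 2 ≤ r → χ r = 1 := by
    intro r
    induction r using Nat.strong_induction_on with
    | _ r ih =>
      intro hr hrle
      obtain ⟨j, hj, h2⟩ := hgen.gen r hr hrle
      obtain ⟨hp, -⟩ := simple_lt_all D hD j hj
      rcases h2 with h2 | ⟨s, hs1, hs2, hs3⟩
      · rw [← h2, ← FD.simple_eq' hA j hj]
        exact hχs j hj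
      · have hs : s < D.nroots := by omega
        have hch : D.chainRoot (D.simple j) s 1 = some r := by
          rw [FD.chainRoot_eq hA _ s 1 hp hs, FD.simple_eq' hA j hj]
          exact hs3
        rw [hχ.2 (D.simple j) s r hp hs hch, hχs j hj, ih s hs2 hs hs1, mul_one]
  -- `χ = 1` on all roots
  have hχa : ∀ r, r < D.nroots → χ r = 1 := by
    intro r hr
    rcases Nat.lt_or_ge r (D.nroots / 2) with hlt | hge
    · have hn := neg_of_lt_half D hD r hr hlt
      have h2 := ((htri r hr).2 hn).2.1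
      rw [hA.nroots_eq] at h2
      have h3 := hA.neg_lt r hr
      have h4 := hχ.1 (T.neg r) h3
      rw [FD.neg_eq' hA _ h3, hok.neg_neg r hr, hχp _ h3 h2, inv_one] at h4
      exact h4
    · exact hχp r hr hge
  have hh1 : h = 1 := by
    apply Units.ext
    rw [h1, Units.val_one]
    unfold ChevalleyDatum.charDiag
    rw [← Matrix.diagonal_one]
    congr 1
    ext x
    rcases x with i | s
    · rfl
    · simp only [Sum.elim_inr]
      rw [hχa s.val s.2]
      rfl
  rw [hcuh, hh1, mul_one]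
  exact hu

end

end Cfsg.Agent.Lib.Helper5.Chev
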