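import Cfsg.Agent.Lib.Helper5.Chev.RankOne
import Cfsg.Agent.Lib.Helper5.Chev.Core
import Mathlib

/-!
# The standard parabolic subgroups are generated by `H` and root subgroups (helper5)
-/

set_option autoImplicit false

namespace Cfsg.Agent.Lib.Helper5.Chev

open Cfsg.Lie
open scoped Matrix

/-- the support of the coroot of `r'` lies in the support of the coroot of `r` -/
def suppLe (T : FD) (l r' r : ℕ) : Bool :=
  allBelow l fun i => zbeq ((T.corootL r').getD i 0) 0 || !(zbeq ((T.corootL r).getD i 0) 0)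

/-- the root `r` is carried to the opposite of a fundamental root by at most `k` fundamental
reflections, each in the support of the root it is applied to and not enlarging the support -/
def reachP (T : FD) (Bs : List ℕ) (gB l : ℕ) : ℕ → ℕ → Bool
  | 0, r => Nat.blt (gOf gB r) l && !(zbeq ((T.corootL r).getD (gOf gB r) 0) 0) &&
      Nat.beq r (T.neg (T.simple (gOf gB r)))
  | k + 1, r => Nat.blt (gOf gB r) l && !(zbeq ((T.corootL r).getD (gOf gB r) 0) 0) &&
      (Nat.beq r (T.neg (T.simple (gOf gB r))) ||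
        (suppLe T l (wOf (Bs.getD (gOf gB r) 0) r) r &&
          reachP T Bs gB l k (wOf (Bs.getD (gOf gB r) 0) r)))

/-- the check for all negative roots -/
def parab (T : FD) (D : ChevalleyDatum) (Bs : List ℕ) (gB fuel : ℕ) : Bool :=
  forceNat T.nroots fun n => forceNat T.rank fun l =>
    allBelow n fun r => !decide (D.IsNegRoot r) || reachP T Bs gB l fuel r

section

variable {F : Type*} [Field F] {T : FD} {D : ChevalleyDatum}

theorem inRootSub_of_suppLe (hA : T.Agrees D) (J : Set ℕ) (r r' : ℕ) (hr : r < D.nroots)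
    (hr' : r' < D.nroots) (h : suppLe T D.rank r' r = true) (hJ : D.InRootSub J r) :
    D.InRootSub J r' := by
  refine ⟨hr', fun i hi hiJ => ?_⟩
  have h1 := allBelow_spec _ _ h i hi
  rw [Bool.or_eq_true] at h1
  rcases h1 with h1 | h1
  · rw [zbeq_iff] at h1
    rw [← hA.coroot_eq r' hr' i hi]
    exact h1
  · have h2 := hJ.2 i hi hiJ
    rw [← hA.coroot_eq r hr i hi] at h2
    rw [h2] at h1
    exact absurd h1 (by decide)

/-- the root elements of the roots of `Φ_J` reached by the check lie in a subgroup containing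
`U` and the `n_j`, `j ∈ J` -/
theorem mem_of_reachP (hA : T.Agrees D) (hadd : AllAdd F D) (Bs : List ℕ)
    (hB : ∀ i < D.rank, ReflChecks T D i (Bs.getD i 0)) (gB : ℕ) (J : Set ℕ)
    (P : Subgroup (GL D.Idx F))
    (hx : ∀ j < D.rank, ∀ t : F, hadd.xU (D.simple j) t ∈ P)
    (hn : ∀ j (_ : j < D.rank) (hp : D.simple j < D.nroots) (hq : D.neg (D.simple j) < D.nroots),
      j ∈ J → hadd.nU (D.simple j) hp hq ∈ P) :
    ∀ k r, r < D.nroots → reachP T Bs gB D.rank k r = true → D.InRootSub J r →
      ∀ t : F, hadd.xU r t ∈ P := by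
  have hsimple := fun j hj => simple_lt_of hA j hj
  have base : ∀ r, r < D.nroots → gOf gB r < D.rank →
      (zbeq ((T.corootL r).getD (gOf gB r) 0) 0) = false →
      r = T.neg (T.simple (gOf gB r)) → D.InRootSub J r → ∀ t : F, hadd.xU r t ∈ P := by
    intro r hr hj hc he hJ t
    have hjJ : gOf gB r ∈ J := by
      by_contra hcon
      have h2 := hJ.2 _ hj hcon
      rw [← hA.coroot_eq r hr _ hj] at h2
      rw [h2] at hc
      exact absurd hc (by decide)
    obtain ⟨hp, hq⟩ := hsimple _ hj
    have e := nU_conj_xU hA hadd _ _ hj (hB _ hj) hp hq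
      (((etaOf (Bs.getD (gOf gB r) 0) (D.simple (gOf gB r)) : ℤ) : F) * t)
    rw [← mul_assoc, ((hB _ hj).cert hA).eta_sq (F := F) _ hp, one_mul] at e
    have hr' : r = D.neg (D.simple (gOf gB r)) := by
      rw [FD.neg_eq' hA _ hp, FD.simple_eq' hA _ hj]
      exact he
    have : hadd.xU r t = hadd.xU (D.neg (D.simple (gOf gB r))) t := by rw [← hr']
    rw [this, ← e]
    have hnP := hn _ hj hp hq hjJ
    exact P.mul_mem (P.mul_mem hnP (hx _ hj _)) (P.inv_mem hnP)
  intro k
  induction k with
  | zero =>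
    intro r hr h hJ t
    rw [reachP, Bool.and_eq_true, Bool.and_eq_true, Nat.blt_eq, Bool.not_eq_true'] at h
    exact base r hr h.1.1 h.1.2 (Nat.eq_of_beq_eq_true h.2) hJ t
  | succ k ih =>
    intro r hr h hJ t
    rw [reachP, Bool.and_eq_true, Bool.and_eq_true, Nat.blt_eq, Bool.not_eq_true',
      Bool.or_eq_true, Bool.and_eq_true] at h
    obtain ⟨⟨hj, hc⟩, h3⟩ := h
    rcases h3 with h3 | ⟨h3, h4⟩
    · exact base r hr hj hc (Nat.eq_of_beq_eq_true h3) hJ t
    · have hjJ : gOf gB r ∈ J := by
        by_contra hcon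
        have h2 := hJ.2 _ hj hcon
        rw [← hA.coroot_eq r hr _ hj] at h2
        rw [h2] at hc
        exact absurd hc (by decide)
      obtain ⟨hp, hq⟩ := hsimple _ hj
      have hwr := ((hB _ hj).cert hA).w_lt r hr
      have hJ' := inRootSub_of_suppLe hA J r _ hr hwr h3 hJ
      have e := (hB _ hj).x_eq_conj (F := F) hA hj (hadd _ hp) (hadd _ hq) r hr t
      have : hadd.xU r t = hadd.nU (D.simple (gOf gB r)) hp hq *
          hadd.xU (wOf (Bs.getD (gOf gB r) 0) r)
            (((etaOf (Bs.getD (gOf gB r) 0) (wOf (Bs.getD (gOf gB r) 0) r) : ℤ) : F) * t) *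
          (hadd.nU (D.simple (gOf gB r)) hp hq)⁻¹ := by
        apply Units.ext
        rw [Units.val_mul, Units.val_mul]
        exact e
      rw [this]
      have hnP := hn _ hj hp hq hjJ
      exact P.mul_mem (P.mul_mem hnP (ih _ hwr h4 hJ' _)) (P.inv_mem hnP)

end

end Cfsg.Agent.Lib.Helper5.Chev
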