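import Cfsg.Agent.Lib.Helper5.Chev.PcCheck
import Cfsg.Agent.Lib.Helper5.Chev.BorelCard
import Mathlib

/-!
# The order of a Chevalley group from a chain of parabolic subgroups of the Weyl group (helper5)
-/

set_option autoImplicit false

namespace Cfsg.Agent.Lib.Helper5.Chev

open Cfsg.Lie

/-! ### polynomials as lists of coefficients -/

/-- the value of a polynomial -/
def evalZ : List ℤ → ℤ → ℤ
  | [], _ => 0
  | c :: L, x => c + x * evalZ L x

/-- the sum -/
def addZ : List ℤ → List ℤ → List ℤ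
  | [], B => B
  | a :: A, [] => a :: A
  | a :: A, b :: B => (a + b) :: addZ A B

/-- the multiple -/
def smulZ (c : ℤ) : List ℤ → List ℤ
  | [] => []
  | b :: B => (c * b) :: smulZ c B

/-- the product -/
def mulZ : List ℤ → List ℤ → List ℤ
  | [], _ => []
  | a :: A, B => addZ (smulZ a B) (0 :: mulZ A B)

theorem evalZ_addZ : ∀ (A B : List ℤ) (x : ℤ), evalZ (addZ A B) x = evalZ A x + evalZ B x
  | [], B, x => by simp [addZ, evalZ]
  | a :: A, [], x => by simp [addZ, evalZ]
  | a :: A, b :: B, x => by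
    simp only [addZ, evalZ, evalZ_addZ A B x]
    ring

theorem evalZ_smulZ (c : ℤ) : ∀ (B : List ℤ) (x : ℤ), evalZ (smulZ c B) x = c * evalZ B x
  | [], x => by simp [smulZ, evalZ]
  | b :: B, x => by
    simp only [smulZ, evalZ, evalZ_smulZ c B x]
    ring

theorem evalZ_mulZ : ∀ (A B : List ℤ) (x : ℤ), evalZ (mulZ A B) x = evalZ A x * evalZ B x
  | [], B, x => by simp [mulZ, evalZ]
  | a :: A, B, x => by
    simp only [mulZ, evalZ, evalZ_addZ, evalZ_smulZ, evalZ_mulZ A B x]
    ring

/-- the power -/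
def powZ (A : List ℤ) : ℕ → List ℤ
  | 0 => [1]
  | k + 1 => mulZ A (powZ A k)

theorem evalZ_powZ (A : List ℤ) (x : ℤ) : ∀ k : ℕ, evalZ (powZ A k) x = evalZ A x ^ k
  | 0 => by simp [powZ, evalZ]
  | k + 1 => by rw [powZ, evalZ_mulZ, evalZ_powZ A x k, pow_succ, mul_comm]

/-- the product of a list -/
def prodZ : List (List ℤ) → List ℤ
  | [] => [1]
  | A :: L => mulZ A (prodZ L)

theorem evalZ_prodZ (x : ℤ) : ∀ L : List (List ℤ), evalZ (prodZ L) x = (L.map fun A => evalZ A x).prod
  | [] => by simp [prodZ, evalZ]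
  | A :: L => by rw [prodZ, evalZ_mulZ, evalZ_prodZ x L, List.map_cons, List.prod_cons]

/-- `x ^ d` times a polynomial -/
def shiftZ : ℕ → List ℤ → List ℤ
  | 0, A => A
  | d + 1, A => 0 :: shiftZ d A

theorem evalZ_shiftZ (A : List ℤ) (x : ℤ) : ∀ d : ℕ, evalZ (shiftZ d A) x = x ^ d * evalZ A x
  | 0 => by simp [shiftZ]
  | d + 1 => by
    rw [shiftZ, evalZ, evalZ_shiftZ A x d]
    ring

/-- `x ^ d - 1` -/
def monoSubOne (d : ℕ) : List ℤ := -1 :: shiftZ (d - 1) [1]

theorem evalZ_monoSubOne (d : ℕ) (hd : 1 ≤ d) (x : ℤ) : evalZ (monoSubOne d) x = x ^ d - 1 := by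
  obtain ⟨k, rfl⟩ : ∃ k, d = k + 1 := ⟨d - 1, by omega⟩
  rw [monoSubOne, evalZ, Nat.add_sub_cancel, evalZ_shiftZ]
  simp only [evalZ]
  ring

/-- adding `x ^ d` -/
def addMono : ℕ → List ℤ → List ℤ
  | 0, [] => [1]
  | 0, c :: L => (c + 1) :: L
  | d + 1, [] => 0 :: addMono d []
  | d + 1, c :: L => c :: addMono d L

theorem evalZ_addMono : ∀ (d : ℕ) (L : List ℤ) (x : ℤ), evalZ (addMono d L) x = x ^ d + evalZ L x
  | 0, [], x => by simp [addMono, evalZ]
  | 0, c :: L, x => by
    simp only [addMono, evalZ]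
    ring
  | d + 1, [], x => by
    simp only [addMono, evalZ, evalZ_addMono d [] x]
    ring
  | d + 1, c :: L, x => by
    simp only [addMono, evalZ, evalZ_addMono d L x]
    ring

/-- the polynomial `∑ x ^ d` of a list of exponents -/
def histo : List ℕ → List ℤ
  | [] => []
  | d :: ds => addMono d (histo ds)

theorem evalZ_histo (x : ℤ) : ∀ ds : List ℕ, evalZ (histo ds) x = (ds.map fun d => x ^ d).sum
  | [] => by simp [histo, evalZ]
  | d :: ds => by rw [histo, evalZ_addMono, evalZ_histo x ds, List.map_cons, List.sum_cons]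

/-! ### chains -/

/-- a chain of levels: the subsets and the certificates -/
abbrev PcChainData := List (List ℕ × List PcEntry)

/-- the check of a chain, starting from `K` -/
def chainOK (W : WD) : List ℕ → PcChainData → Bool
  | _, [] => true
  | K, (K', certs) :: rest => levelOK W K K' certs && chainOK W K' rest

/-- the last subset of a chain -/
def lastK : List ℕ → PcChainData → List ℕ
  | K, [] => K
  | _, (K', _) :: rest => lastK K' rest

/-- the product of the sums `∑ q ^ l(x)` over the representatives -/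
def chainPoly (q : ℕ) : PcChainData → ℕ
  | [] => 1
  | (_, certs) :: rest => (certs.map fun c => q ^ c.1.length).sum * chainPoly q rest

/-- the product of the polynomials of the levels -/
def chainZ : PcChainData → List ℤ
  | [] => [1]
  | (_, certs) :: rest => mulZ (histo (certs.map fun c => c.1.length)) (chainZ rest)

theorem cast_chainPoly (q : ℕ) : ∀ ch : PcChainData, ((chainPoly q ch : ℕ) : ℤ) = evalZ (chainZ ch) q
  | [] => by simp [chainPoly, chainZ, evalZ]
  | (_, certs) :: rest => by
    rw [chainPoly, chainZ, evalZ_mulZ, Nat.cast_mul, cast_chainPoly q rest, evalZ_histo]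
    congr 1
    rw [List.map_map]
    induction certs with
    | nil => simp
    | cons c certs ih =>
      rw [List.map_cons, List.sum_cons, Nat.cast_add, ih, List.map_cons, List.sum_cons]
      simp

/-- the identity of polynomials gives the identity of numbers -/
theorem chainPoly_identity (q : ℕ) (hq : 1 ≤ q) (l : ℕ) (ch : PcChainData) (degs : List ℕ)
    (hdeg : ∀ d ∈ degs, 1 ≤ d)
    (hpoly : mulZ (powZ [-1, 1] l) (chainZ ch) = prodZ (degs.map monoSubOne)) :
    (q - 1) ^ l * chainPoly q ch = (degs.map fun d => q ^ d - 1).prod := by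
  apply Nat.cast_injective (R := ℤ)
  have h1 := congrArg (fun A => evalZ A (q : ℤ)) hpoly
  simp only [evalZ_mulZ, evalZ_powZ, evalZ_prodZ, ← cast_chainPoly] at h1
  rw [Nat.cast_mul, Nat.cast_pow, Nat.cast_sub hq, Nat.cast_one]
  have e1 : evalZ [-1, 1] (q : ℤ) = (q : ℤ) - 1 := by
    simp only [evalZ]
    ring
  rw [e1] at h1
  rw [h1, List.map_map]
  clear h1 hpoly
  induction degs with
  | nil => simp
  | cons d degs ih =>
    have hd : 1 ≤ d := hdeg d List.mem_cons_self
    rw [List.map_cons, List.prod_cons, List.map_cons, List.prod_cons, Nat.cast_mul,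
      ih (fun d' hd' => hdeg d' (List.mem_cons_of_mem _ hd'))]
    congr 1
    show evalZ (monoSubOne d) (q : ℤ) = _
    rw [evalZ_monoSubOne d hd, Nat.cast_sub (Nat.one_le_pow _ _ hq), Nat.cast_pow, Nat.cast_one]

section

variable {T : FD} {D : ChevalleyDatum}

variable (hD : D ∈ [chevG2, chevB2, chevD4, chevF4, chevE6, chevE7, chevE8])
  (hA : T.Agrees D) (Bs : List ℕ) (mLL : List (List ℕ))
  (hB : ∀ i < D.rank, ReflChecks T D i (Bs.getD i 0)) (h1 : Cox1 T Bs)
  (h2 : ∀ i < T.rank, ∀ j < T.rank, i ≠ j → Cox2 T Bs mLL i j)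

include hD hA hB h1 h2 in
/-- the sum along a chain -/
theorem psum_chain (q : ℕ) : ∀ (K : List ℕ) (ch : PcChainData),
    chainOK (wdOf T Bs mLL) K ch = true →
    (wdOf T Bs mLL).psum {i | i ∈ lastK K ch} q
      = chainPoly q ch * (wdOf T Bs mLL).psum {i | i ∈ K} q
  | K, [], _ => by rw [lastK, chainPoly, one_mul]
  | K, (K', certs) :: rest, h => by
    rw [chainOK, Bool.and_eq_true] at h
    rw [lastK, chainPoly, psum_chain q K' rest h.2,
      psum_step_check hD hA Bs mLL hB h1 h2 K K' certs h.1 q]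
    ring

include hD hA hB h1 h2 in
/-- the sum over the whole group along a chain from the empty set -/
theorem psum_univ_chain (q : ℕ) (ch : PcChainData)
    (hch : chainOK (wdOf T Bs mLL) [] ch = true) (hall : ∀ i < T.rank, i ∈ lastK [] ch) :
    (wdOf T Bs mLL).psum Set.univ q = chainPoly q ch := by
  rw [psum_congr _ Set.univ {i | i ∈ lastK [] ch} (fun i hi => ⟨fun _ => hall i hi, fun _ => trivial⟩),
    psum_chain hD hA Bs mLL hB h1 h2 q [] ch hch,
    psum_congr _ {i | i ∈ ([] : List ℕ)} ∅ (fun i _ => by simp), psum_empty, mul_one]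

variable {F : Type*} [Field F] [Finite F]

include hD hA hB h1 h2 in
/-- the order of the group along a chain -/
theorem card_group_chain (gH : ℕ) (baseH : List ℕ) (fuel : ℕ)
    (hr : reachb T Bs gH baseH fuel = true) (hbase : ∀ s ∈ baseH, ∃ j < D.rank, s = D.simple j)
    (ch : PcChainData)
    (hch : chainOK (wdOf T Bs mLL) [] ch = true) (hall : ∀ i < T.rank, i ∈ lastK [] ch) :
    Nat.card (D.group F) = Nat.card F ^ (D.nroots / 2) * Nat.card (D.diagonalSubgroup F)
      * chainPoly (Nat.card F) ch := by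
  rw [card_group_eq_psum hD hA Bs mLL hB gH baseH fuel hr hbase h1 h2, card_borel D hD,
    card_posUnipotent D hD, psum_univ_chain hD hA Bs mLL hB h1 h2 _ ch hch hall]

include hD hA hB h1 h2 in
/-- the order of the group from the order of the diagonal subgroup and the identity of
polynomials -/
theorem card_group_final (gH : ℕ) (baseH : List ℕ) (fuel : ℕ)
    (hr : reachb T Bs gH baseH fuel = true) (hbase : ∀ s ∈ baseH, ∃ j < D.rank, s = D.simple j)
    (ch : PcChainData)
    (hch : chainOK (wdOf T Bs mLL) [] ch = true) (hall : ∀ i < T.rank, i ∈ lastK [] ch)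
    (d l : ℕ) (hH : d * Nat.card (D.diagonalSubgroup F) = (Nat.card F - 1) ^ l)
    (degs : List ℕ) (hdeg : ∀ d ∈ degs, 1 ≤ d)
    (hpoly : mulZ (powZ [-1, 1] l) (chainZ ch) = prodZ (degs.map monoSubOne)) :
    d * Nat.card (D.group F)
      = Nat.card F ^ (D.nroots / 2) * (degs.map fun d => Nat.card F ^ d - 1).prod := by
  have hq : 1 ≤ Nat.card F := Nat.one_le_iff_ne_zero.2 Nat.card_pos.ne'
  rw [card_group_chain hD hA Bs mLL hB h1 h2 gH baseH fuel hr hbase ch hch hall,
    ← chainPoly_identity (Nat.card F) hq l ch degs hdeg hpoly, ← hH]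
  ring

end

end Cfsg.Agent.Lib.Helper5.Chev
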