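import Cfsg.Agent.Lib.Helper5.Chev.Poincare
import Mathlib

/-!
# Boolean check of the representatives of the cosets of a parabolic subgroup (helper5)
-/

set_option autoImplicit false

namespace Cfsg.Agent.Lib.Helper5.Chev

open Cfsg.Lie

/-- equality test of lists of natural numbers -/
def nlBeq : List ℕ → List ℕ → Bool
  | [], [] => true
  | a :: L, a' :: L' => Nat.beq a a' && nlBeq L L'
  | _, _ => false

theorem nlBeq_iff : ∀ (L L' : List ℕ), nlBeq L L' = true ↔ L = L'
  | [], [] => by simp [nlBeq]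
  | [], _ :: _ => by simp [nlBeq]
  | _ :: _, [] => by simp [nlBeq]
  | a :: L, a' :: L' => by
    simp only [nlBeq, Bool.and_eq_true, FD.nbeq, nlBeq_iff L L', List.cons.injEq]

/-- membership test -/
def nElem (i : ℕ) : List ℕ → Bool
  | [] => false
  | a :: L => Nat.beq i a || nElem i L

theorem nElem_iff (i : ℕ) : ∀ (L : List ℕ), nElem i L = true ↔ i ∈ L
  | [] => by simp [nElem]
  | a :: L => by
    simp only [nElem, Bool.or_eq_true, FD.nbeq, nElem_iff i L, List.mem_cons]

namespace WD

variable (W : WD)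

/-- every letter of the word is an ascent of the inverse of the rest of the word -/
def ascAll (h : ℕ) : List ℕ → Bool
  | [] => true
  | i :: x => Nat.ble h (W.act x.reverse (W.p i)) && ascAll h x

theorem inv_nil : W.inv [] = 0 := by
  unfold inv
  rw [Finset.card_eq_zero, Finset.filter_eq_empty_iff]
  intro r _
  show ¬ (W.h ≤ r ∧ r < W.h)
  omega

theorem Valid.inv_cons_asc {W : WD} (hV : W.Valid) {x : List ℕ} (hx : W.IsWord x) {i : ℕ}
    (hi : i < W.l) (ha : W.h ≤ W.act x.reverse (W.p i)) : W.inv (i :: x) = W.inv x + 1 := by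
  have h1 : W.inv (i :: x) = W.inv (x.reverse ++ [i]) := by
    rw [← hV.inv_reverse (IsWord.concat W hx.reverse hi)]
    simp
  rw [h1, hV.inv_asc_eq hx.reverse hi ha, hV.inv_reverse hx]

theorem Valid.inv_eq_length {W : WD} (hV : W.Valid) :
    ∀ (x : List ℕ), W.IsWord x → W.ascAll W.h x = true → W.inv x = x.length
  | [], _, _ => W.inv_nil
  | i :: x, hx, h => by
    unfold ascAll at h
    rw [Bool.and_eq_true, Nat.ble_eq] at h
    have hx' : W.IsWord x := fun k hk => hx k (List.mem_cons_of_mem _ hk)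
    rw [hV.inv_cons_asc hx' (hx i List.mem_cons_self) h.1, hV.inv_eq_length x hx' h.2,
      List.length_cons]

/-- the list is the list of the images `act x (p k)` for `k0 ≤ k < l` -/
def checkS (l : ℕ) (x : List ℕ) : ℕ → List ℕ → Bool
  | k, [] => Nat.beq k l
  | k, s :: S => Nat.beq s (W.act x (W.p k)) && checkS l x (Nat.succ k) S

theorem checkS_spec (l : ℕ) (x : List ℕ) : ∀ (k : ℕ) (S : List ℕ), W.checkS l x k S = true →
    k + S.length = l ∧ ∀ j < S.length, S.getD j 0 = W.act x (W.p (k + j))
  | k, [], h => by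
    unfold checkS at h
    exact ⟨by simpa using Nat.eq_of_beq_eq_true h, fun j hj => by simp at hj⟩
  | k, s :: S, h => by
    unfold checkS at h
    rw [Bool.and_eq_true] at h
    obtain ⟨h1, h2⟩ := checkS_spec l x (k + 1) S h.2
    refine ⟨by rw [List.length_cons]; omega, ?_⟩
    intro j hj
    cases j with
    | zero => simpa using Nat.eq_of_beq_eq_true h.1
    | succ j =>
      rw [List.length_cons] at hj
      rw [List.getD_cons_succ, h2 j (by omega)]
      congr 2
      omega

end WD

/-- a certificate entry: the word, the images of the fundamental roots, the tags -/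
abbrev PcEntry := List ℕ × List ℕ × List (Bool × ℕ)

/-- the entry at a position -/
def pcNth : List PcEntry → ℕ → Option PcEntry
  | [], _ => none
  | c :: _, 0 => some c
  | _ :: L, t + 1 => pcNth L t

theorem pcNth_mem : ∀ (L : List PcEntry) (t : ℕ) (c : PcEntry), pcNth L t = some c → c ∈ L
  | [], _, _, h => by simp [pcNth] at h
  | c :: _, 0, c', h => by
    simp only [pcNth, Option.some.injEq] at h
    rw [h]; exact List.mem_cons_self
  | _ :: L, t + 1, c', h => by
    simp only [pcNth] at h
    exact List.mem_cons_of_mem _ (pcNth_mem L t c' h)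

/-- the check of the tags of an entry: for each `i` in `K'`, either `s_i x` is given by the entry
at the position `t`, or `x` maps the fundamental root `t` in `K` to the fundamental root `i` -/
def tagsOK (W : WD) (l : ℕ) (KL : List ℕ) (certs : List PcEntry) (S : List ℕ) :
    List ℕ → List (Bool × ℕ) → Bool
  | [], [] => true
  | i :: K', (b, t) :: tags =>
    (cond b (nElem t KL && Nat.blt t l && Nat.beq (S.getD t 0) (W.p i))
      (match pcNth certs t with
        | some c => nlBeq (S.map (W.w i)) c.2.1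
        | none => false)) && tagsOK W l KL certs S K' tags
  | _, _ => false

theorem tagsOK_spec (W : WD) (l : ℕ) (KL : List ℕ) (certs : List PcEntry) (S : List ℕ) :
    ∀ (K' : List ℕ) (tags : List (Bool × ℕ)), tagsOK W l KL certs S K' tags = true →
      ∀ i ∈ K', (∃ t ∈ KL, t < l ∧ S.getD t 0 = W.p i) ∨ (∃ c ∈ certs, S.map (W.w i) = c.2.1)
  | [], _, _ => fun i hi => by simp at hi
  | _ :: _, [], h => by simp [tagsOK] at h
  | i :: K', (b, t) :: tags, h => by
    unfold tagsOK at h
    rw [Bool.and_eq_true] at h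
    intro i' hi'
    rw [List.mem_cons] at hi'
    rcases hi' with rfl | hi'
    · cases b with
      | true =>
        left
        have h1 := h.1
        simp only [cond_true, Bool.and_eq_true, nElem_iff, Nat.blt_eq, FD.nbeq] at h1
        exact ⟨t, h1.1.1, h1.1.2, h1.2⟩
      | false =>
        right
        have h1 := h.1
        simp only [cond_false] at h1
        cases hc : pcNth certs t with
        | none => rw [hc] at h1; exact absurd h1 (by simp)
        | some c =>
          rw [hc] at h1
          exact ⟨c, pcNth_mem _ _ _ hc, (nlBeq_iff _ _).1 h1⟩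
    · exact tagsOK_spec W l KL certs S K' tags h.2 i' hi'

/-- the check of an entry -/
def entryOK (W : WD) (l h : ℕ) (KL KL' : List ℕ) (certs : List PcEntry) (c : PcEntry) : Bool :=
  (c.1.all fun i => Nat.blt i l && nElem i KL') && W.checkS l c.1 0 c.2.1 &&
    (KL.all fun j => Nat.ble h (c.2.1.getD j 0)) && W.ascAll h c.1 &&
    tagsOK W l KL certs c.2.1 KL' c.2.2

/-- the lists of images are pairwise distinct -/
def distinctB : List PcEntry → Bool
  | [] => true
  | c :: L => (L.all fun c' => !nlBeq c.2.1 c'.2.1) && distinctB L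

theorem distinctB_spec : ∀ (L : List PcEntry), distinctB L = true →
    L.Pairwise fun c c' => c.2.1 ≠ c'.2.1
  | [], _ => List.Pairwise.nil
  | c :: L, h => by
    unfold distinctB at h
    rw [Bool.and_eq_true, List.all_eq_true] at h
    refine List.Pairwise.cons ?_ (distinctB_spec L h.2)
    intro c' hc' e
    have := h.1 c' hc'
    rw [(nlBeq_iff _ _).2 e] at this
    exact absurd this (by simp)

/-- the first word is empty -/
def headNil : List PcEntry → Bool
  | ([], _, _) :: _ => true
  | _ => false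

theorem headNil_spec : ∀ (L : List PcEntry), headNil L = true → [] ∈ L.map (·.1)
  | [], h => by simp [headNil] at h
  | ([], _, _) :: _, _ => by simp
  | (_ :: _, _, _) :: _, h => by simp [headNil] at h

/-- the check of a level -/
def levelOK (W : WD) (KL KL' : List ℕ) (certs : List PcEntry) : Bool :=
  forceNat W.l fun l => forceNat W.h fun h =>
    (KL.all fun i => nElem i KL') && headNil certs &&
      (certs.all fun c => entryOK W l h KL KL' certs c) && distinctB certs

section

variable {T : FD} {D : ChevalleyDatum}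

theorem repsOK_of_check (Bs : List ℕ) (mLL : List (List ℕ)) (KL KL' : List ℕ)
    (certs : List PcEntry) (hc : levelOK (wdOf T Bs mLL) KL KL' certs = true) :
    RepsOK T Bs mLL {i | i ∈ KL} {i | i ∈ KL'} (certs.map (·.1)) ∧
      ∀ c ∈ certs, (wdOf T Bs mLL).IsWord c.1 ∧
        (wdOf T Bs mLL).ascAll (wdOf T Bs mLL).h c.1 = true := by
  set W := wdOf T Bs mLL with hW
  unfold levelOK at hc
  rw [forceNat_eq, forceNat_eq, Bool.and_eq_true, Bool.and_eq_true, Bool.and_eq_true,
    List.all_eq_true, List.all_eq_true] at hc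
  obtain ⟨⟨⟨hsub, hnil⟩, hent⟩, hdist⟩ := hc
  -- the facts on an entry
  have key : ∀ c ∈ certs, (∀ i ∈ c.1, i < W.l ∧ i ∈ KL') ∧ c.2.1.length = W.l ∧
      (∀ k < W.l, c.2.1.getD k 0 = W.act c.1 (W.p k)) ∧
      (∀ j ∈ KL, W.h ≤ c.2.1.getD j 0) ∧ W.ascAll W.h c.1 = true ∧
      ∀ i ∈ KL', (∃ t ∈ KL, t < W.l ∧ c.2.1.getD t 0 = W.p i) ∨
        (∃ c' ∈ certs, c.2.1.map (W.w i) = c'.2.1) := by
    intro c hcm
    have := hent c hcm
    unfold entryOK at this
    rw [Bool.and_eq_true, Bool.and_eq_true, Bool.and_eq_true, Bool.and_eq_true,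
      List.all_eq_true, List.all_eq_true] at this
    obtain ⟨⟨⟨⟨e1, e2⟩, e3⟩, e4⟩, e5⟩ := this
    obtain ⟨s1, s2⟩ := W.checkS_spec W.l c.1 0 c.2.1 e2
    rw [Nat.zero_add] at s1
    refine ⟨?_, s1, ?_, ?_, e4, tagsOK_spec W W.l KL certs c.2.1 KL' c.2.2 e5⟩
    · intro i hi
      have := e1 i hi
      rw [Bool.and_eq_true, Nat.blt_eq, nElem_iff] at this
      exact this
    · intro k hk
      rw [s2 k (s1 ▸ hk), Nat.zero_add]
    · intro j hj
      have := e3 j hj
      rwa [Nat.ble_eq] at this
  refine ⟨⟨?_, headNil_spec certs hnil, ?_, ?_, ?_, ?_⟩, ?_⟩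
  · intro i hi
    have := hsub i hi
    rwa [nElem_iff] at this
  · intro x hx
    rw [List.mem_map] at hx
    obtain ⟨c, hcm, rfl⟩ := hx
    intro i hi
    exact (key c hcm).1 i hi
  · intro x hx j hj hjK
    rw [List.mem_map] at hx
    obtain ⟨c, hcm, rfl⟩ := hx
    obtain ⟨-, -, k2, k3, -, -⟩ := key c hcm
    have := k3 j hjK
    rwa [k2 j hj] at this
  · intro x hx i hi hiK'
    rw [List.mem_map] at hx
    obtain ⟨c, hcm, rfl⟩ := hx
    obtain ⟨-, k1, k2, -, -, k5⟩ := key c hcm
    rcases k5 i hiK' with ⟨t, htK, htl, ht⟩ | ⟨c', hc'm, hc'⟩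
    · right
      exact ⟨t, htl, htK, (k2 t htl).symm.trans ht⟩
    · left
      refine ⟨c'.1, List.mem_map.2 ⟨c', hc'm, rfl⟩, ?_⟩
      intro k hk
      obtain ⟨-, k1', k2', -, -, -⟩ := key c' hc'm
      show W.w i (W.act c.1 (W.p k)) = W.act c'.1 (W.p k)
      rw [← k2' k hk, ← hc', ← k2 k hk]
      have hk' : k < c.2.1.length := k1 ▸ hk
      rw [List.getD_eq_getElem (l := c.2.1) (d := 0) hk',
        List.getD_eq_getElem (l := List.map (W.w i) c.2.1) (d := 0) (by simpa using hk'),
        List.getElem_map]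
  · rw [List.pairwise_map]
    apply (distinctB_spec certs hdist).imp_of_mem
    intro c c' hcm hc'm hne
    obtain ⟨-, k1, k2, -, -, -⟩ := key c hcm
    obtain ⟨-, k1', k2', -, -, -⟩ := key c' hc'm
    by_contra hcon
    push Not at hcon
    apply hne
    apply List.ext_getElem (by rw [k1, k1'])
    intro k hk hk'
    have hkl : k < W.l := k1 ▸ hk
    have : W.act c.1 (W.p k) = W.act c'.1 (W.p k) := hcon k hkl
    rw [← k2 k hkl, ← k2' k hkl, List.getD_eq_getElem _ _ hk, List.getD_eq_getElem _ _ hk'] at this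
    exact this
  · intro c hcm
    obtain ⟨k0, -, -, -, k4, -⟩ := key c hcm
    exact ⟨fun i hi => (k0 i hi).1, k4⟩

variable (hD : D ∈ [chevG2, chevB2, chevD4, chevF4, chevE6, chevE7, chevE8])
  (hA : T.Agrees D) (Bs : List ℕ) (mLL : List (List ℕ))
  (hB : ∀ i < D.rank, ReflChecks T D i (Bs.getD i 0)) (h1 : Cox1 T Bs)
  (h2 : ∀ i < T.rank, ∀ j < T.rank, i ≠ j → Cox2 T Bs mLL i j)

include hD hA hB h1 h2 in
/-- a step along the chain, from the check -/
theorem psum_step_check (KL KL' : List ℕ) (certs : List PcEntry)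
    (hc : levelOK (wdOf T Bs mLL) KL KL' certs = true) (q : ℕ) :
    (wdOf T Bs mLL).psum {i | i ∈ KL'} q
      = (certs.map fun c => q ^ c.1.length).sum * (wdOf T Bs mLL).psum {i | i ∈ KL} q := by
  obtain ⟨hok, hasc⟩ := repsOK_of_check Bs mLL KL KL' certs hc
  have hV := wdOf_valid hA Bs mLL hB h1 h2
  rw [psum_step hD hA Bs mLL hB h1 h2 _ _ _ hok q, List.map_map]
  congr 1
  apply congrArg List.sum
  apply List.map_congr_left
  intro c hcm
  show q ^ (wdOf T Bs mLL).inv c.1 = q ^ c.1.length
  rw [hV.inv_eq_length c.1 (hasc c hcm).1 (hasc c hcm).2]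

end

end Cfsg.Agent.Lib.Helper5.Chev
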