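import Cfsg.Agent.Lib.Helper5.Chev.CmAll
import Cfsg.Agent.Lib.Helper5.Chev.PosAll
import Cfsg.Agent.Lib.Helper5.Chev.RankOne
import Cfsg.Agent.S1032
import Mathlib

/-!
# The Chevalley groups are perfect (helper5)
-/

set_option autoImplicit false

namespace Cfsg.Agent.Lib.Helper5.Chev

open Cfsg.Lie
open scoped Matrix
open scoped commutatorElement

section

variable {F : Type*} [Field F] {T : FD} {D : ChevalleyDatum}

/-- a root element is a commutator of elements of the group -/
def IsComm (F : Type*) [Field F] (D : ChevalleyDatum) (g : GL D.Idx F) : Prop :=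
  ∃ g1 g2 : GL D.Idx F, g1 ∈ D.group F ∧ g2 ∈ D.group F ∧ g = g1 * g2 * g1⁻¹ * g2⁻¹

/-- from the commutator formula -/
theorem isComm_of_commTerms (hA : T.Agrees D) (hadd : AllAdd F D) (a b r : ℕ) (C : ℤ)
    (ha : a < D.nroots) (hb : b < D.nroots) (hcm : CommOK F D a b)
    (hterms : T.commTerms a b = [(r, C, 1, 1)]) (hC : (C : F) ≠ 0) (t : F) :
    IsComm F D (hadd.xU r t) := by
  refine ⟨(hadd.xU b 1)⁻¹, (hadd.xU a (-(t / (C : F))))⁻¹,
    Subgroup.inv_mem _ (hadd.xU_mem_group b 1), Subgroup.inv_mem _ (hadd.xU_mem_group a _), ?_⟩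
  have key := hcm (-(t / (C : F))) 1
  have e1 : D.wordMat F (D.commWord F a b (-(t / (C : F))) 1) = D.x F r t := by
    unfold ChevalleyDatum.wordMat ChevalleyDatum.commWord
    rw [FD.commTerms_eq hA a b ha hb, hterms]
    simp only [List.map_cons, List.map_nil, List.prod_cons, List.prod_nil, mul_one, neg_neg,
      pow_one]
    congr 1
    field_simp
  rw [e1] at key
  have e2 : hadd.xU r t = (hadd.xU a (-(t / (C : F))) * hadd.xU b 1)⁻¹ *
      (hadd.xU b 1 * hadd.xU a (-(t / (C : F)))) := by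
    rw [eq_inv_mul_iff_mul_eq]
    apply Units.ext
    rw [Units.val_mul, Units.val_mul, Units.val_mul]
    exact key.symm
  rw [e2]
  group

/-- from the action of the diagonal subgroup -/
theorem isComm_of_torus (hD : D ∈ [chevG2, chevB2, chevD4, chevF4, chevE6, chevE7, chevE8])
    (hadd : AllAdd F D) (i r : ℕ) (hi : i < D.rank) (hr : r < D.nroots) (lam : F) (hl : lam ≠ 0)
    (hlc : lam ^ (D.cartan i r) ≠ 1) (t : F) :
    IsComm F D (hadd.xU r t) := by
  have hp := (simple_lt_all D hD i hi).1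
  have hne : lam ^ (D.cartan i r) - 1 ≠ 0 := sub_ne_zero.2 hlc
  refine ⟨hadd.wordU (D.hWord (D.simple i) lam), hadd.xU r (t / (lam ^ (D.cartan i r) - 1)),
    hadd.diagonal_le (wordU_hWord_mem hadd _ hp lam hl), hadd.xU_mem_group _ _, ?_⟩
  have h := Cfsg.Agent.S1032.result D hD i r hi hr lam hl (t / (lam ^ (D.cartan i r) - 1))
  have e : hadd.wordU (D.hWord (D.simple i) lam) * hadd.xU r (t / (lam ^ (D.cartan i r) - 1))
      = hadd.xU r (lam ^ (D.cartan i r) * (t / (lam ^ (D.cartan i r) - 1))) *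
        hadd.wordU (D.hWord (D.simple i) lam) := by
    apply Units.ext
    rw [Units.val_mul, Units.val_mul, hadd.wordU_val]
    exact h
  rw [e, mul_inv_cancel_right]
  have e2 : (hadd.xU r (t / (lam ^ (D.cartan i r) - 1)))⁻¹
      = hadd.xU r (-(t / (lam ^ (D.cartan i r) - 1))) := by
    rw [inv_eq_iff_mul_eq_one]
    apply Units.ext
    rw [Units.val_mul]
    exact hadd.x_mul_neg r _
  rw [e2]
  apply Units.ext
  rw [Units.val_mul]
  have := hadd.x_add r (lam ^ (D.cartan i r) * (t / (lam ^ (D.cartan i r) - 1)))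
    (-(t / (lam ^ (D.cartan i r) - 1)))
  rw [AllAdd.xU_val, AllAdd.xU_val, AllAdd.xU_val, this]
  congr 1
  field_simp
  ring

/-- the group is perfect as soon as the fundamental root elements and their opposites are
commutators -/
theorem perfect_of_isComm (hD : D ∈ [chevG2, chevB2, chevD4, chevF4, chevE6, chevE7, chevE8])
    (h : ∀ j < D.rank, ∀ r, r = D.simple j ∨ r = D.neg (D.simple j) → ∀ t : F,
      IsComm F D ((allAdd_all D hD).xU r t)) :
    commutator ↥(D.group F) = ⊤ := by
  have hadd := allAdd_all (F := F) D hD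
  have hK : ∀ g, IsComm F D g → g ∈ (commutator ↥(D.group F)).map (D.group F).subtype := by
    rintro g ⟨g1, g2, h1, h2, rfl⟩
    refine ⟨⁅(⟨g1, h1⟩ : ↥(D.group F)), ⟨g2, h2⟩⁆, ?_, rfl⟩
    exact Subgroup.commutator_mem_commutator (Subgroup.mem_top _) (Subgroup.mem_top _)
  have hle : D.group F ≤ (commutator ↥(D.group F)).map (D.group F).subtype := by
    apply group_le_of D hD
    · intro j hj t
      exact hK _ (h j hj _ (Or.inl rfl) t)
    · intro i hi hp hq
      have : hadd.nU (D.simple i) hp hq = hadd.xU (D.simple i) 1 *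
          (hadd.xU (D.neg (D.simple i)) (-1) * hadd.xU (D.simple i) 1) := by
        apply Units.ext
        rw [Units.val_mul, Units.val_mul]
        exact nMat_one (D.simple i)
      rw [this]
      exact Subgroup.mul_mem _ (hK _ (h i hi _ (Or.inl rfl) 1))
        (Subgroup.mul_mem _ (hK _ (h i hi _ (Or.inr rfl) (-1))) (hK _ (h i hi _ (Or.inl rfl) 1)))
  rw [eq_top_iff]
  rintro ⟨x, hx⟩ -
  obtain ⟨y, hy, hyx⟩ := hle hx
  have : y = ⟨x, hx⟩ := Subtype.ext hyx
  rw [← this]
  exact hy

/-- evidence that the root elements of `r` are commutators: from the commutator formula with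
constant `± 1` -/
def EvB (T : FD) (D : ChevalleyDatum) (r : ℕ) (C : ℤ) : Prop :=
  ∃ a b : ℕ, a < D.nroots ∧ b < D.nroots ∧ b ≠ a ∧ b ≠ D.neg a ∧
    (T.commTerms a b = [(r, C, 1, 1)] ∨ T.commTerms a b = [(r, -C, 1, 1)])

/-- evidence from the diagonal subgroup -/
def EvA (D : ChevalleyDatum) (r : ℕ) (c : ℤ) : Prop :=
  ∃ i < D.rank, D.cartan i r = c ∨ D.cartan i r = -c

theorem isComm_of_evB (hD : D ∈ [chevG2, chevB2, chevD4, chevF4, chevE6, chevE7, chevE8])
    (hA : T.Agrees D) (r : ℕ) (C : ℤ) (hC : (C : F) ≠ 0) (h : EvB T D r C) (t : F) :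
    IsComm F D ((allAdd_all D hD).xU r t) := by
  obtain ⟨a, b, ha, hb, h1, h2, h3⟩ := h
  have hcm : CommOK F D a b := by
    rcases comm_known (F := F) D hD a ha b hb with h | h | h
    · exact absurd h h1
    · exact absurd h h2
    · exact h
  rcases h3 with h3 | h3
  · exact isComm_of_commTerms hA _ a b r C ha hb hcm h3 hC t
  · exact isComm_of_commTerms hA _ a b r (-C) ha hb hcm h3
      (by push_cast; exact neg_ne_zero.2 hC) t

theorem isComm_of_evA (hD : D ∈ [chevG2, chevB2, chevD4, chevF4, chevE6, chevE7, chevE8])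
    (r : ℕ) (hr : r < D.nroots) (c : ℕ) (h : EvA D r c) (lam : F) (hl : lam ≠ 0)
    (hlc : lam ^ c ≠ 1) (t : F) :
    IsComm F D ((allAdd_all D hD).xU r t) := by
  obtain ⟨i, hi, h1⟩ := h
  apply isComm_of_torus hD _ i r hi hr lam hl _ t
  rcases h1 with h1 | h1
  · rw [h1, zpow_natCast]; exact hlc
  · rw [h1, zpow_neg, zpow_natCast]
    intro h
    exact hlc (inv_eq_one.1 h)

end

end Cfsg.Agent.Lib.Helper5.Chev
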