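import Cfsg.Agent.Lib.Helper5.Chev.NStmt
import Cfsg.Agent.Lib.Helper5.Chev.ReflG2
import Cfsg.Agent.Lib.Helper5.Chev.ReflB2
import Cfsg.Agent.Lib.Helper5.Chev.ReflD4
import Cfsg.Agent.Lib.Helper5.Chev.ReflF4
import Cfsg.Agent.Lib.Helper5.Chev.ReflE6
import Cfsg.Agent.Lib.Helper5.Chev.ReflE7
import Cfsg.Agent.Lib.Helper5.Chev.ReflE8
import Mathlib

/-!
# The reflection certificates of the seven data (helper5)
-/

set_option autoImplicit false

namespace Cfsg.Agent.Lib.Helper5.Chev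

open Cfsg.Lie

/-- a fast datum for each of the seven data -/
theorem exists_fd (D : ChevalleyDatum)
    (hD : D ∈ [chevG2, chevB2, chevD4, chevF4, chevE6, chevE7, chevE8]) :
    ∃ T : FD, T.Agrees D ∧ ∀ i < D.rank, ∃ B, ReflChecks T D i B := by
  simp only [List.mem_cons, List.not_mem_nil, or_false] at hD
  rcases hD with rfl | rfl | rfl | rfl | rfl | rfl | rfl
  · exact ⟨_, DataG2.agrees, fun i hi => ReflG2.refl i hi⟩
  · exact ⟨_, DataB2.agrees, fun i hi => ReflB2.refl i hi⟩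
  · exact ⟨_, DataD4.agrees, fun i hi => ReflD4.refl i hi⟩
  · exact ⟨_, DataF4.agrees, fun i hi => ReflF4.refl i hi⟩
  · exact ⟨_, DataE6.agrees, fun i hi => ReflE6.refl i hi⟩
  · exact ⟨_, DataE7.agrees, fun i hi => ReflE7.refl i hi⟩
  · exact ⟨_, DataE8.agrees, fun i hi => ReflE8.refl i hi⟩

end Cfsg.Agent.Lib.Helper5.Chev
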