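import Cfsg.Agent.Lib.Helper5.Chev.NFinal
import Cfsg.Agent.Lib.Helper5.Chev.DataE6
import Mathlib

set_option autoImplicit false
set_option maxRecDepth 100000

namespace Cfsg.Agent.Lib.Helper5.Chev.ReflE6

open Cfsg.Lie Cfsg.Agent.Lib.Helper5.Chev

/-- packed reflection 0 -/
def wB0 : ℕ := 0x8e08c08a08808606e06c06a06806606405a05805605401f08508308107f07d07b06206005e05c07907707507305205004e04c04a04804604404204003e03c01d01b01901703203002e02c01501301100f00d00b07103a03803603402a028026024022020008006004002000
theorem g0 : monoG DataE6.fd 0 wB0 = true := by decide +kernel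
theorem c0_0 : monoC DataE6.fd wB0 0 24 = true := by decide +kernel
theorem c0_1 : monoC DataE6.fd wB0 24 24 = true := by decide +kernel
theorem c0_2 : monoC DataE6.fd wB0 48 24 = true := by decide +kernel
theorem n0 : nmatb DataE6.fd 0 wB0 = true := by decide +kernel
theorem s0 : sideb DataE6.fd 0 wB0 = true := by decide +kernel
theorem refl0 : ReflChecks DataE6.fd chevE6 0 wB0 :=
  ⟨g0, chain_all DataE6.fd wB0 72 24 3 (by norm_num) (by norm_num)
    (by intro q hq; interval_cases q
        · exact c0_0
        · exact c0_1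
        · exact c0_2
    ), n0, s0⟩
end Cfsg.Agent.Lib.Helper5.Chev.ReflE6
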