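import Cfsg.Agent.Lib.Helper5.Chev.NFinal
import Cfsg.Agent.Lib.Helper5.Chev.DataE7
import Mathlib

set_option autoImplicit false
set_option maxRecDepth 100000

namespace Cfsg.Agent.Lib.Helper5.Chev.ReflE7

open Cfsg.Lie Cfsg.Agent.Lib.Helper5.Chev

/-- packed reflection 0 -/
def wB0 : ℕ := 0xf90fa0f60f40f20f00ee0ec0ea0e80e60e40e20e00de0dc0da0b80b60b40b20b00ae0ac0aa0a80a609a0980960940920410d90d70d50d30d10cf0cd0cb0c90c70a40a20a009e09c0c50c30c10bf0bd09008e08c08a08808608408208007e07c07a07807607407207006e06c06a03f03d03b03903705e05c05a05805603503303102f02d02b0290270250230bb06806606406206005405205004e04c04a04804604404202001e01c01a01801601401201000e00c00a008006004000003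
theorem g0 : monoG DataE7.fd 0 wB0 = true := by decide +kernel
theorem c0_0 : monoC DataE7.fd wB0 0 21 = true := by decide +kernel
theorem c0_1 : monoC DataE7.fd wB0 21 21 = true := by decide +kernel
theorem c0_2 : monoC DataE7.fd wB0 42 21 = true := by decide +kernel
theorem c0_3 : monoC DataE7.fd wB0 63 21 = true := by decide +kernel
theorem c0_4 : monoC DataE7.fd wB0 84 21 = true := by decide +kernel
theorem c0_5 : monoC DataE7.fd wB0 105 21 = true := by decide +kernel
theorem n0 : nmatb DataE7.fd 0 wB0 = true := by decide +kernel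
theorem s0 : sideb DataE7.fd 0 wB0 = true := by decide +kernel
theorem refl0 : ReflChecks DataE7.fd chevE7 0 wB0 :=
  ⟨g0, chain_all DataE7.fd wB0 126 21 6 (by norm_num) (by norm_num)
    (by intro q hq; interval_cases q
        · exact c0_0
        · exact c0_1
        · exact c0_2
        · exact c0_3
        · exact c0_4
        · exact c0_5
    ), n0, s0⟩
end Cfsg.Agent.Lib.Helper5.Chev.ReflE7
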