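import Cfsg.Agent.Lib.Helper5.Chev.NFinal
import Cfsg.Agent.Lib.Helper5.Chev.DataE8
import Mathlib

set_option autoImplicit false
set_option maxRecDepth 100000

namespace Cfsg.Agent.Lib.Helper5.Chev.ReflE8

open Cfsg.Lie Cfsg.Agent.Lib.Helper5.Chev

/-- packed reflection 0 -/
def wB0 : ℕ := 0x1de1dc1da1d81d61d41c31d01c11bf1bd1bb1b91b71d21ce1cc1ca1c81c61c41b41b21b01ae1ac1aa1a81a61a41a21a019e19c19a19819619419219018e18c18a18818618418218017e17c17a17817617417217014214013e13c13a13813613413213012e12c12a12812611811611411211010e09b16f16d16b16916716516316115f15d15b15915715515312412212011e11c11a15114f14d14b14914710c10a1081061041021000fe0fc0fa0f80f60f40f20f00ee0ec0ea0e80e60e40e20e00de0dc0da0d80d60d40d209909709509309108f0c40c20c00be0bc0ba08d08b08908708508308107f07d07b0790770750730711450d00ce0cc0ca0c80c60b80b60b40b20b00ae0ac0aa0a80a60a40a20a009e09c06e06c06a06806606406206005e05c05a05805605405205004e04c04a04804604404204003e03c03a03803603403203002e02c02a01a01801601401201000c02902702502302101f00e01d00a008006004002000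
theorem g0 : monoG DataE8.fd 0 wB0 = true := by decide +kernel
theorem c0_0 : monoC DataE8.fd wB0 0 20 = true := by decide +kernel
theorem c0_1 : monoC DataE8.fd wB0 20 20 = true := by decide +kernel
theorem c0_2 : monoC DataE8.fd wB0 40 20 = true := by decide +kernel
theorem c0_3 : monoC DataE8.fd wB0 60 20 = true := by decide +kernel
theorem c0_4 : monoC DataE8.fd wB0 80 20 = true := by decide +kernel
theorem c0_5 : monoC DataE8.fd wB0 100 20 = true := by decide +kernel
theorem c0_6 : monoC DataE8.fd wB0 120 20 = true := by decide +kernel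
theorem c0_7 : monoC DataE8.fd wB0 140 20 = true := by decide +kernel
theorem c0_8 : monoC DataE8.fd wB0 160 20 = true := by decide +kernel
theorem c0_9 : monoC DataE8.fd wB0 180 20 = true := by decide +kernel
theorem c0_10 : monoC DataE8.fd wB0 200 20 = true := by decide +kernel
theorem c0_11 : monoC DataE8.fd wB0 220 20 = true := by decide +kernel
theorem n0 : nmatb DataE8.fd 0 wB0 = true := by decide +kernel
theorem s0 : sideb DataE8.fd 0 wB0 = true := by decide +kernel
theorem refl0 : ReflChecks DataE8.fd chevE8 0 wB0 :=
  ⟨g0, chain_all DataE8.fd wB0 240 20 12 (by norm_num) (by norm_num)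
    (by intro q hq; interval_cases q
        · exact c0_0
        · exact c0_1
        · exact c0_2
        · exact c0_3
        · exact c0_4
        · exact c0_5
        · exact c0_6
        · exact c0_7
        · exact c0_8
        · exact c0_9
        · exact c0_10
        · exact c0_11
    ), n0, s0⟩
end Cfsg.Agent.Lib.Helper5.Chev.ReflE8
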