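import Cfsg.Agent.Lib.Helper5.Chev.RootCent1
import Mathlib

/-!
# The centraliser of the root element `x_ρ(1)` of a dominant root in characteristic two (helper5)

For a root `ρ` fixed by all fundamental reflections but one (`k0`), with `(ρ, p_{k0}^∨) = 1`, and
such that (in characteristic two) `X_ρ` commutes with `U` and with `X_{-p_j}`, `j ≠ k0`, the
centraliser of `x_ρ(1)` in the Chevalley group is generated by `U` and the `X_{-p_j}`, `j ≠ k0`.
-/

set_option autoImplicit false
set_option maxRecDepth 100000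

namespace Cfsg.Agent.Lib.Helper5.Chev

open Cfsg.Lie
open scoped Matrix Pointwise

/-- the table facts on the dominant root `ρ` with the special node `k0` -/
structure DomOK (T : FD) (D : ChevalleyDatum) (ρ k0 : ℕ) : Prop where
  rho_lt : ρ < D.nroots
  rho_pos : D.nroots / 2 ≤ ρ
  k0_lt : k0 < D.rank
  comm_pos : ∀ r < D.nroots, D.nroots / 2 ≤ r → r ≠ ρ → ∀ c ∈ T.commTerms ρ r, (2 : ℤ) ∣ c.2.1
  comm_neg : ∀ j < D.rank, j ≠ k0 → T.neg (T.simple j) ≠ ρ ∧ T.neg (T.simple j) ≠ T.neg ρ ∧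
    ∀ c ∈ T.commTerms ρ (T.neg (T.simple j)), (2 : ℤ) ∣ c.2.1
  refl_k0 : T.reflect k0 ρ ≠ ρ
  cartan_rho : ∀ k < D.rank, T.cartan k ρ = if k = k0 then 1 else 0

/-- evenness of an integer -/
def zeven : ℤ → Bool
  | Int.ofNat a => Nat.beq (Nat.mod a 2) 0
  | Int.negSucc a => Nat.beq (Nat.mod a 2) 1

theorem zeven_dvd (z : ℤ) (h : zeven z = true) : (2 : ℤ) ∣ z := by
  cases z with
  | ofNat a =>
    simp only [zeven, FD.nbeq] at h
    have h' : a % 2 = 0 := h
    exact ⟨(a / 2 : ℕ), by simp only [Int.ofNat_eq_natCast]; omega⟩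
  | negSucc a =>
    simp only [zeven, FD.nbeq] at h
    have h' : a % 2 = 1 := h
    exact ⟨-((a / 2 : ℕ) + 1), by rw [Int.negSucc_eq]; omega⟩

/-- the boolean check -/
def domb (T : FD) (ρ k0 : ℕ) : Bool :=
  forceNat T.rank fun l => forceNat T.nroots fun n => forceNat (Nat.div n 2) fun h =>
    Nat.blt ρ n && Nat.ble h ρ && Nat.blt k0 l &&
    (allBelow n fun r => Nat.blt r h || Nat.beq r ρ ||
      (T.commTerms ρ r).all fun c => zeven c.2.1) &&
    (allBelow l fun j => Nat.beq j k0 || forceNat (T.neg (T.simple j)) fun q =>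
      !Nat.beq q ρ && !Nat.beq q (T.neg ρ) && (T.commTerms ρ q).all fun c => zeven c.2.1) &&
    !Nat.beq (T.reflect k0 ρ) ρ &&
    (allBelow l fun k => zbeq (T.cartan k ρ) (cond (Nat.beq k k0) 1 0))

theorem domOK_of_check {T : FD} {D : ChevalleyDatum} (hA : T.Agrees D) (ρ k0 : ℕ)
    (h : domb T ρ k0 = true) : DomOK T D ρ k0 := by
  unfold domb at h
  rw [forceNat_eq, forceNat_eq, forceNat_eq, hA.nroots_eq, hA.rank_eq] at h
  have e : D.nroots.div 2 = D.nroots / 2 := rfl
  rw [e] at h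
  simp only [Bool.and_eq_true, Nat.blt_eq, Nat.ble_eq] at h
  obtain ⟨⟨⟨⟨⟨⟨h1, h2⟩, h3⟩, h4⟩, h5⟩, h6⟩, h7⟩ := h
  refine ⟨h1, h2, h3, ?_, ?_, ?_, ?_⟩
  · intro r hr hle hne c hc
    have := allBelow_spec _ _ h4 r hr
    rw [Bool.or_eq_true, Bool.or_eq_true, Nat.blt_eq, FD.nbeq, List.all_eq_true] at this
    rcases this with (h8 | h8) | h8
    · omega
    · exact absurd h8 hne
    · exact zeven_dvd _ (h8 c hc)
  · intro j hj hne
    have := allBelow_spec _ _ h5 j hj
    rw [Bool.or_eq_true, FD.nbeq, forceNat_eq, Bool.and_eq_true, Bool.and_eq_true,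
      Bool.not_eq_true', Bool.not_eq_true', List.all_eq_true] at this
    rcases this with h8 | ⟨⟨h8, h9⟩, h10⟩
    · exact absurd h8 hne
    · refine ⟨?_, ?_, fun c hc => zeven_dvd _ (h10 c hc)⟩
      · intro he
        rw [he] at h8
        have : Nat.beq ρ ρ = true := FD.nbeq.2 rfl
        rw [this] at h8
        exact absurd h8 (by simp)
      · intro he
        rw [he] at h9
        have : Nat.beq (T.neg ρ) (T.neg ρ) = true := FD.nbeq.2 rfl
        rw [this] at h9
        exact absurd h9 (by simp)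
  · intro he
    rw [he] at h6
    have : Nat.beq ρ ρ = true := FD.nbeq.2 rfl
    rw [this] at h6
    exact absurd h6 (by simp)
  · intro k hk
    have := (zbeq_iff _ _).1 (allBelow_spec _ _ h7 k hk)
    rw [this]
    by_cases hkk : k = k0
    · rw [if_pos hkk, FD.nbeq.2 hkk]; rfl
    · rw [if_neg hkk]
      have : Nat.beq k k0 = false := by
        rw [Bool.eq_false_iff]
        intro h8
        exact hkk (FD.nbeq.1 h8)
      rw [this]; rfl

end Cfsg.Agent.Lib.Helper5.Chev
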