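import Cfsg.Agent.Lib.Helper5.Chev.RootCent
import Mathlib

/-!
# The centraliser of the root element `x_ρ(1)` of a dominant root in characteristic two: proof
(helper5)
-/

set_option autoImplicit false
set_option maxRecDepth 100000

namespace Cfsg.Agent.Lib.Helper5.Chev

open Cfsg.Lie
open scoped Matrix Pointwise

section

variable {F : Type*} [Field F]

/-- the roots of the generators of the centraliser -/
def CentRoot (D : ChevalleyDatum) (k0 : ℕ) (r : ℕ) : Prop :=
  D.IsPosRoot r ∨ ∃ j < D.rank, j ≠ k0 ∧ r = D.neg (D.simple j)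

/-- the candidate for the centraliser -/
def centGen (F : Type*) [Field F] (D : ChevalleyDatum) (k0 : ℕ) : Subgroup (GL D.Idx F) :=
  Subgroup.closure {g : GL D.Idx F | ∃ (r : ℕ) (t : F), CentRoot D k0 r ∧
    (g : Matrix D.Idx D.Idx F) = D.x F r t}

theorem prod_filter_ne (L : List ℕ) (k0 : ℕ) (f : ℕ → F) (h : f k0 = 1) :
    (L.map f).prod = ((L.filter fun i => decide (i ≠ k0)).map f).prod := by
  induction L with
  | nil => rfl
  | cons i L ih =>
    by_cases hi : i = k0
    · rw [List.map_cons, List.prod_cons, List.filter_cons_of_neg (by simpa using hi), hi, h,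
        one_mul, ih]
    · rw [List.map_cons, List.prod_cons, List.filter_cons_of_pos (by simpa using hi),
        List.map_cons, List.prod_cons, ih]

theorem prod_ite_range {M : Type*} [Monoid M] (k0 : ℕ) (u : M) (n : ℕ) :
    ((List.range n).map fun k => if k = k0 then u else 1).prod = if k0 < n then u else 1 := by
  induction n with
  | zero => simp
  | succ n ih =>
    rw [List.range_succ, List.map_append, List.prod_append, ih, List.map_singleton,
      List.prod_singleton]
    by_cases h1 : k0 < n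
    · rw [if_pos h1, if_neg (by omega), if_pos (by omega), mul_one]
    · rw [if_neg h1]
      by_cases h2 : n = k0
      · rw [if_pos h2, if_pos (by omega), one_mul]
      · rw [if_neg h2, if_neg (by omega), one_mul]

theorem dProdL_filter (D : ChevalleyDatum) (L : List ℕ) (k0 : ℕ) (c : ℕ → F) (h : c k0 = 1) :
    dProdL F D L c = dProdL F D (L.filter fun i => decide (i ≠ k0)) c := by
  unfold dProdL
  congr 1
  ext x
  rcases x with j | v
  · rfl
  · simp only [Sum.elim_inr]
    exact prod_filter_ne L k0 (fun i => c i ^ (D.cartan i v.val)) (by simp [h])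

theorem centralizer_dom [CharP F 2] {T : FD} (D : ChevalleyDatum)
    (hD : D ∈ [chevG2, chevB2, chevD4, chevF4, chevE6, chevE7, chevE8]) (hA : T.Agrees D)
    (ρ k0 : ℕ) (hdom : DomOK T D ρ k0) (t : GL D.Idx F)
    (ht : (t : Matrix D.Idx D.Idx F) = D.x F ρ 1) :
    D.group F ⊓ Subgroup.centralizer {t} = centGen F D k0 := by
  have hadd := allAdd_all (F := F) D hD
  have hcomm := comm_known (F := F) D hD
  have hinj := xInj_all (F := F) D hD
  obtain ⟨P, hPB, hPN, hPS⟩ := bnPair_all (F := F) D hD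
  have hρ := hdom.rho_lt
  have hρpos := hdom.rho_pos
  have hk0 := hdom.k0_lt
  have htU : t = hadd.xU ρ 1 := Units.ext ht
  -- generalities
  obtain ⟨T', hA', hok, htri, -⟩ := ufok_known D hD
  have hposlt : ∀ r, D.IsPosRoot r → D.nroots / 2 ≤ r := by
    intro r hr
    have := ((htri r hr.1).1 hr).1
    rwa [hA'.nroots_eq] at this
  have hcr_lt : ∀ r, CentRoot D k0 r → r < D.nroots := by
    rintro r (hr | ⟨j, hj, -, rfl⟩)
    · exact hr.1
    · exact (simple_lt_all D hD j hj).2
  -- the generators commute with the elements of `X_ρ`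
  have hgen : ∀ r, CentRoot D k0 r → ∀ a c : F,
      hadd.xU r c * hadd.xU ρ a = hadd.xU ρ a * hadd.xU r c := by
    intro r hr a c
    apply Units.ext
    rw [Units.val_mul, Units.val_mul]
    show D.x F r c * D.x F ρ a = D.x F ρ a * D.x F r c
    by_cases hrρ : r = ρ
    · rw [hrρ, hadd ρ hρ, hadd ρ hρ, add_comm]
    · have hrlt := hcr_lt r hr
      rcases hcomm ρ hρ r hrlt with h | h | h
      · exact absurd h hrρ
      · exfalso
        rcases hr with hr | ⟨j, hj, hjk, rfl⟩
        · have h1 := hposlt r hr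
          have h2 := ((htri ρ hρ).1 (hok.pos_of_le ρ hρ hρpos)).2.1
          rw [hA'.nroots_eq, ← FD.neg_eq' hA' ρ hρ, ← h] at h2
          omega
        · have h3 := (hdom.comm_neg j hj hjk).2.1
          apply h3
          obtain ⟨hp, -⟩ := simple_lt_all D hD j hj
          rw [← FD.neg_eq' hA ρ hρ, ← h, FD.neg_eq' hA _ hp, FD.simple_eq' hA j hj]
      · apply commute_of_even D ρ r h
        intro c' hc'
        rw [FD.commTerms_eq hA ρ r hρ hrlt] at hc'
        rcases hr with hr | ⟨j, hj, hjk, rfl⟩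
        · exact hdom.comm_pos r hrlt (hposlt r hr) hrρ c' hc'
        · obtain ⟨hp, -⟩ := simple_lt_all D hD j hj
          rw [FD.neg_eq' hA _ hp, FD.simple_eq' hA j hj] at hc'
          exact (hdom.comm_neg j hj hjk).2.2 c' hc'
  have hRc : ∀ g ∈ centGen F D k0, ∀ a : F, g * hadd.xU ρ a = hadd.xU ρ a * g := by
    intro g hg a
    have : g ∈ Subgroup.centralizer ({hadd.xU ρ a} : Set (GL D.Idx F)) := by
      revert g
      show centGen F D k0 ≤ _
      unfold centGen
      rw [Subgroup.closure_le]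
      rintro g ⟨r, c, hr, hg⟩
      have hg' : g = hadd.xU r c := Units.ext hg
      rw [SetLike.mem_coe, Subgroup.mem_centralizer_iff]
      intro y hy
      rw [Set.mem_singleton_iff] at hy
      rw [hy, hg']
      exact (hgen r hr a c).symm
    exact (Subgroup.mem_centralizer_iff.1 this _ rfl).symm
  -- membership of root elements
  have hxR : ∀ r, CentRoot D k0 r → ∀ c : F, hadd.xU r c ∈ centGen F D k0 :=
    fun r hr c => Subgroup.subset_closure ⟨r, c, hr, rfl⟩
  have hUR : D.posUnipotent F ≤ centGen F D k0 := by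
    unfold ChevalleyDatum.posUnipotent centGen
    apply Subgroup.closure_mono
    rintro g ⟨r, c, hr, hg⟩
    exact ⟨r, c, Or.inl hr, hg⟩
  have hRG : centGen F D k0 ≤ D.group F := by
    unfold centGen
    rw [Subgroup.closure_le]
    rintro g ⟨r, c, -, hg⟩
    exact hadd.mem_group_of_x g r c hg
  -- `H` normalises the candidate
  have hHn : D.diagonalSubgroup F ≤ Subgroup.normalizer (centGen F D k0 : Set (GL D.Idx F)) :=
    diagonal_le_normalizer (F := F) hD (CentRoot D k0) hcr_lt
  -- the elements `n_j`, `j ≠ k0`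
  have hnR : ∀ j (hj : j < D.rank), j ≠ k0 → ∀ (hp : D.simple j < D.nroots)
      (hq : D.neg (D.simple j) < D.nroots), hadd.nU (D.simple j) hp hq ∈ centGen F D k0 := by
    intro j hj hjk hp hq
    have : hadd.nU (D.simple j) hp hq = hadd.xU (D.simple j) 1 *
        (hadd.xU (D.neg (D.simple j)) (-1) * hadd.xU (D.simple j) 1) := by
      apply Units.ext
      rw [Units.val_mul, Units.val_mul]
      exact nMat_one (D.simple j)
    rw [this]
    have h1 := hxR (D.simple j) (Or.inl (pos_simple_all D hD j hj)) (1 : F)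
    have h2 := hxR (D.neg (D.simple j)) (Or.inr ⟨j, hj, hjk, rfl⟩) (-1 : F)
    exact Subgroup.mul_mem _ h1 (Subgroup.mul_mem _ h2 h1)
  -- the action of `B` on `X_ρ`
  have hBρ : ∀ b ∈ D.borelSubgroup F, ∀ a : F, ∃ a' : F,
      b * hadd.xU ρ a * b⁻¹ = hadd.xU ρ a' := by
    intro b hb a
    obtain ⟨u, hu, h, hh, rfl⟩ := exists_mul_of_mem_borel hD b hb
    obtain ⟨a', ha'⟩ := conj_diag_x hD hadd h hh ρ hρ a
    refine ⟨a', ?_⟩
    have e : u * h * hadd.xU ρ a * (u * h)⁻¹ = u * (h * hadd.xU ρ a * h⁻¹) * u⁻¹ := by group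
    rw [e, ha', hRc u (hUR hu) a', mul_inv_cancel_right]
  -- normalising `X_ρ`
  have hnorm_of : ∀ n : GL D.Idx F, (∀ a : F, ∃ a' : F, n * hadd.xU ρ a * n⁻¹ = hadd.xU ρ a') →
      (∀ a : F, ∃ a' : F, n⁻¹ * hadd.xU ρ a * n = hadd.xU ρ a') →
      n ∈ Subgroup.normalizer (D.rootSubgroup F ρ : Set (GL D.Idx F)) := by
    intro n h1 h2
    unfold ChevalleyDatum.rootSubgroup
    apply mem_normalizer_closure
    · rintro x ⟨a, hx⟩
      have hx' : x = hadd.xU ρ a := Units.ext hx
      obtain ⟨a', ha'⟩ := h1 a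
      rw [hx', ha']
      exact Subgroup.subset_closure ⟨a', rfl⟩
    · rintro x ⟨a, hx⟩
      have hx' : x = hadd.xU ρ a := Units.ext hx
      obtain ⟨a', ha'⟩ := h2 a
      rw [hx', ha']
      exact Subgroup.subset_closure ⟨a', rfl⟩
  have hBnorm : D.borelSubgroup F ≤
      Subgroup.normalizer (D.rootSubgroup F ρ : Set (GL D.Idx F)) := by
    intro b hb
    apply hnorm_of b (hBρ b hb)
    intro a
    have := hBρ b⁻¹ (Subgroup.inv_mem _ hb) a
    rwa [inv_inv] at this
  have hone : ∀ a : F, hadd.xU ρ a = 1 → a = 0 := by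
    intro a ha
    exact hinj ρ hρ a (by rw [← hadd.xU_val, ha]; rfl)
  -- the normaliser of `X_ρ` lies in `R H`
  set M : Subgroup ↥(D.group F) :=
    (Subgroup.normalizer (D.rootSubgroup F ρ : Set (GL D.Idx F)) ⊓ D.group F).subgroupOf
      (D.group F) with hM
  have hBM : P.B ≤ M := by
    rw [hPB]
    intro x hx
    rw [Subgroup.mem_subgroupOf] at hx ⊢
    exact ⟨hBnorm hx, x.2⟩
  obtain ⟨K, hK, hMK⟩ := Cfsg.Agent.S0311.result P M hBM
  have hMle : M ≤ (centGen F D k0 ⊔ D.diagonalSubgroup F).subgroupOf (D.group F) := by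
    rw [hMK]
    unfold BNPair.parabolic
    apply sup_le
    · rw [hPB]
      intro x hx
      rw [Subgroup.mem_subgroupOf] at hx ⊢
      have : D.borelSubgroup F ≤ centGen F D k0 ⊔ D.diagonalSubgroup F :=
        sup_le (hUR.trans le_sup_left) le_sup_right
      exact this hx
    · rw [Subgroup.closure_le]
      intro s hs
      have hsS := hK hs
      rw [hPS] at hsS
      obtain ⟨j, hj, hsj⟩ := hsS
      have hsM : s ∈ M := by
        rw [hMK]
        unfold BNPair.parabolic
        exact Subgroup.mem_sup_right (Subgroup.subset_closure hs)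
      rw [hM, Subgroup.mem_subgroupOf] at hsM
      obtain ⟨hp, hq⟩ := simple_lt_all D hD j hj
      have hs' : (s : GL D.Idx F) = hadd.nU (D.simple j) hp hq := Units.ext hsj
      rw [SetLike.mem_coe, Subgroup.mem_subgroupOf]
      apply Subgroup.mem_sup_left
      rw [hs']
      apply hnR j hj _ hp hq
      intro hjk
      -- `n_{k0}` does not normalise `X_ρ`
      subst hjk
      obtain ⟨hlt, η, hη, hconj⟩ := nU_conj_all (F := F) D hD j hj hp hq ρ hρ
      have h1 := (Subgroup.mem_normalizer_iff.1 hsM.1 (hadd.xU ρ 1)).1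
        (xU_mem_rootSubgroup hadd ρ 1)
      rw [hs', hconj 1, mul_one] at h1
      obtain ⟨a', ha'⟩ := (mem_rootSubgroup_iff hadd ρ _).1 h1
      have h2 := root_eq_of_xU_eq D hD _ ρ hlt hρ η a' ha' hη
      apply hdom.refl_k0
      rw [← FD.reflect_eq hA j ρ hj hρ]
      exact h2
  -- the two inclusions
  apply le_antisymm
  · rintro g ⟨hgG, hgC⟩
    have hgt : g * t = t * g := (Subgroup.mem_centralizer_iff.1 hgC t rfl).symm
    -- Bruhat decomposition
    obtain ⟨n, hn⟩ := Cfsg.Agent.Lib.Helper5.BN.exists_N_mem_D P (⟨g, hgG⟩ : ↥(D.group F))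
    rw [Cfsg.Agent.Lib.Helper5.BN.mem_D] at hn
    obtain ⟨b, hb, b', hb', hgb⟩ := hn
    have hbB : (b : GL D.Idx F) ∈ D.borelSubgroup F := by
      rw [hPB, Subgroup.mem_subgroupOf] at hb; exact hb
    have hb'B : (b' : GL D.Idx F) ∈ D.borelSubgroup F := by
      rw [hPB, Subgroup.mem_subgroupOf] at hb'; exact hb'
    have hnN : ((n : ↥(D.group F)) : GL D.Idx F) ∈ D.monomialSubgroup F := by
      have h6 : ∀ x : ↥(D.group F), x ∈ P.N → x ∈ (D.monomialSubgroup F).subgroupOf (D.group F) :=
        fun x hx => by rw [hPN] at hx; exact hx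
      exact Subgroup.mem_subgroupOf.1 (h6 _ n.2)
    have hg' : g = (b : GL D.Idx F) * ((n : ↥(D.group F)) : GL D.Idx F) * (b' : GL D.Idx F) := by
      have := congrArg (fun x : ↥(D.group F) => (x : GL D.Idx F)) hgb
      simpa using this
    set nn : GL D.Idx F := ((n : ↥(D.group F)) : GL D.Idx F) with hnn
    set bb : GL D.Idx F := (b : GL D.Idx F) with hbb
    set bb' : GL D.Idx F := (b' : GL D.Idx F) with hbb'
    obtain ⟨c1, hc1⟩ := hBρ bb' hb'B 1
    obtain ⟨c2, hc2⟩ := hBρ bb⁻¹ (Subgroup.inv_mem _ hbB) 1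
    rw [inv_inv] at hc2
    have hc1ne : c1 ≠ 0 := by
      intro h0
      rw [h0] at hc1
      have h3 : hadd.xU ρ (0 : F) = 1 := Units.ext (x_zero ρ)
      rw [h3] at hc1
      have : hadd.xU ρ (1 : F) = 1 := by
        have e : hadd.xU ρ (1 : F) = bb'⁻¹ * (bb' * hadd.xU ρ 1 * bb'⁻¹) * bb' := by group
        rw [e, hc1]; group
      exact one_ne_zero (hone 1 this)
    have hc2ne : c2 ≠ 0 := by
      intro h0
      rw [h0] at hc2
      have h3 : hadd.xU ρ (0 : F) = 1 := Units.ext (x_zero ρ)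
      rw [h3] at hc2
      have : hadd.xU ρ (1 : F) = 1 := by
        have e : hadd.xU ρ (1 : F) = bb * (bb⁻¹ * hadd.xU ρ 1 * bb) * bb⁻¹ := by group
        rw [e, hc2]; group
      exact one_ne_zero (hone 1 this)
    -- `n x_ρ(c1) n⁻¹ = x_ρ(c2)`
    have hkey : nn * hadd.xU ρ c1 * nn⁻¹ = hadd.xU ρ c2 := by
      rw [← hc1, ← hc2, ← htU]
      have e : nn * (bb' * t * bb'⁻¹) * nn⁻¹ = bb⁻¹ * ((bb * nn * bb') * t * (bb * nn * bb')⁻¹) * bb := by
        group
      rw [e, ← hg', hgt, mul_inv_cancel_right]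
    obtain ⟨⟨r', hr', h1⟩, ⟨r'', hr'', h2⟩⟩ := monomial_conj_root (F := F) D hD nn hnN ρ hρ
    have e1 : r' = ρ := by
      obtain ⟨a', ha'⟩ := h1 c1
      rw [hkey] at ha'
      exact (root_eq_of_xU_eq D hD ρ r' hρ hr' c2 a' ha' hc2ne).symm
    have e2 : r'' = ρ := by
      obtain ⟨a', ha'⟩ := h2 c2
      have : nn⁻¹ * hadd.xU ρ c2 * nn = hadd.xU ρ c1 := by
        rw [← hkey]; group
      rw [this] at ha'
      exact (root_eq_of_xU_eq D hD ρ r'' hρ hr'' c1 a' ha' hc1ne).symm
    rw [e1] at h1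
    rw [e2] at h2
    have hnM : n.1 ∈ M := by
      rw [hM, Subgroup.mem_subgroupOf]
      exact ⟨hnorm_of nn h1 h2, n.1.2⟩
    have hgM : (⟨g, hgG⟩ : ↥(D.group F)) ∈ M := by
      rw [hgb]
      exact M.mul_mem (M.mul_mem (hBM hb) hnM) (hBM hb')
    have hgRH := hMle hgM
    rw [Subgroup.mem_subgroupOf] at hgRH
    have hgRH' : g ∈ ((centGen F D k0 ⊔ D.diagonalSubgroup F : Subgroup (GL D.Idx F)) :
        Set (GL D.Idx F)) := hgRH
    rw [Subgroup.coe_mul_of_right_le_normalizer_left _ _ hHn, Set.mem_mul] at hgRH'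
    obtain ⟨r₁, hr₁, h, hh, hrh⟩ := hgRH'
    -- `h` centralises `t`
    have hht : h * hadd.xU ρ 1 * h⁻¹ = hadd.xU ρ 1 := by
      have e : h = r₁⁻¹ * g := by rw [← hrh]; group
      have h3 := hRc r₁⁻¹ (Subgroup.inv_mem _ hr₁) 1
      rw [e, ← htU]
      calc r₁⁻¹ * g * t * (r₁⁻¹ * g)⁻¹ = r₁⁻¹ * (g * t) * g⁻¹ * r₁ := by group
        _ = r₁⁻¹ * (t * g) * g⁻¹ * r₁ := by rw [hgt]
        _ = (r₁⁻¹ * t) * r₁ := by group
        _ = (t * r₁⁻¹) * r₁ := by rw [htU, h3]
        _ = t := by group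
    -- the parameters of `h`
    obtain ⟨c, hc, hcv⟩ := diagonal_eq_prod hD h hh
    set χ : ℕ → Fˣ := chiL D (List.range D.rank) (fun k => Units.mk0 (c k) (hc k)) with hχdef
    have hχ : D.IsRootCharacter χ :=
      isRootCharacter_chiL hD _ (fun k hk => List.mem_range.1 hk) _
    have hv1 : (h : Matrix D.Idx D.Idx F) = D.charDiag F χ := by
      rw [charDiag_chiL, hcv]; rfl
    have hv2 : ((h⁻¹ : GL D.Idx F) : Matrix D.Idx D.Idx F) = D.charDiag F (fun s => (χ s)⁻¹) := by
      have h4 : ((h⁻¹ : GL D.Idx F) : Matrix D.Idx D.Idx F) * (h : Matrix D.Idx D.Idx F) = 1 := by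
        rw [← Units.val_mul, inv_mul_cancel, Units.val_one]
      calc ((h⁻¹ : GL D.Idx F) : Matrix D.Idx D.Idx F)
          = ((h⁻¹ : GL D.Idx F) : Matrix D.Idx D.Idx F) * ((h : Matrix D.Idx D.Idx F) *
              D.charDiag F (fun s => (χ s)⁻¹)) := by
            rw [hv1, charDiag_mul_inv, Matrix.mul_one]
        _ = _ := by rw [← Matrix.mul_assoc, h4, Matrix.one_mul]
    have hχρ : (χ ρ : F) = 1 := by
      have e3 : h * hadd.xU ρ 1 * h⁻¹ = hadd.xU ρ ((χ ρ : F) * 1) := by
        apply Units.ext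
        rw [Units.val_mul, Units.val_mul, hv1, hv2]
        exact Cfsg.Agent.S2157.result D hD χ hχ ρ hρ 1
      rw [hht, mul_one] at e3
      exact (xU_injective hadd ρ (hinj ρ hρ) _ _ e3).symm
    have hck0 : c k0 = 1 := by
      have e4 : (χ ρ : F) = c k0 := by
        rw [hχdef]
        unfold chiL
        have e5 : ∀ k ∈ List.range D.rank, (Units.mk0 (c k) (hc k)) ^ (D.cartan k ρ)
            = if k = k0 then Units.mk0 (c k0) (hc k0) else 1 := by
          intro k hk
          have hk' := List.mem_range.1 hk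
          rw [FD.cartan_eq' hA k ρ hk' hρ, hdom.cartan_rho k hk']
          by_cases hkk : k = k0
          · rw [if_pos hkk, if_pos hkk, hkk, zpow_one]
          · rw [if_neg hkk, if_neg hkk, zpow_zero]
        rw [List.map_congr_left e5]
        have e6 : ((List.range D.rank).map fun k =>
            if k = k0 then Units.mk0 (c k0) (hc k0) else (1 : Fˣ)).prod
            = Units.mk0 (c k0) (hc k0) := by
          rw [prod_ite_range k0 _ D.rank, if_pos hk0]
        rw [e6]
        rfl
      rw [← e4, hχρ]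
    -- `h` is a product of elements `h_{p_i}(c_i)`, `i ≠ k0`
    have hhR : h ∈ centGen F D k0 := by
      set L' : List ℕ := (List.range D.rank).filter fun i => decide (i ≠ k0) with hL'
      have hL'mem : ∀ i ∈ L', i < D.rank ∧ i ≠ k0 := by
        intro i hi
        rw [hL', List.mem_filter, List.mem_range] at hi
        exact ⟨hi.1, by simpa using hi.2⟩
      have e7 : (h : Matrix D.Idx D.Idx F)
          = D.wordMat F (L'.flatMap fun i => D.hWord (D.simple i) (c i)) := by
        rw [wordMat_flatMap, prod_hMat_eq hD L' (fun i hi => (hL'mem i hi).1) c (fun i _ => hc i),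
          hcv, dProdL_filter D _ k0 c hck0]
      have e8 : h = hadd.wordU (L'.flatMap fun i => D.hWord (D.simple i) (c i)) :=
        Units.ext (e7.trans (hadd.wordU_val _).symm)
      rw [e8]
      unfold AllAdd.wordU
      apply Subgroup.list_prod_mem
      intro y hy
      rw [List.mem_map] at hy
      obtain ⟨pr, hpr, rfl⟩ := hy
      rw [List.mem_flatMap] at hpr
      obtain ⟨i, hi, hpri⟩ := hpr
      obtain ⟨hi1, hi2⟩ := hL'mem i hi
      apply hxR
      unfold ChevalleyDatum.hWord ChevalleyDatum.nWord at hpri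
      simp only [List.mem_append, List.mem_cons, List.not_mem_nil, or_false] at hpri
      rcases hpri with (rfl | rfl | rfl) | (rfl | rfl | rfl)
      · exact Or.inl (pos_simple_all D hD i hi1)
      · exact Or.inr ⟨i, hi1, hi2, rfl⟩
      · exact Or.inl (pos_simple_all D hD i hi1)
      · exact Or.inl (pos_simple_all D hD i hi1)
      · exact Or.inr ⟨i, hi1, hi2, rfl⟩
      · exact Or.inl (pos_simple_all D hD i hi1)
    rw [← hrh]
    exact Subgroup.mul_mem _ hr₁ hhR
  · intro g hg
    rw [Subgroup.mem_inf]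
    refine ⟨hRG hg, ?_⟩
    rw [Subgroup.mem_centralizer_iff]
    intro y hy
    rw [Set.mem_singleton_iff] at hy
    rw [hy, htU]
    exact (hRc g hg 1).symm

end

end Cfsg.Agent.Lib.Helper5.Chev
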