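import Cfsg.Agent.Lib.Helper5.Chev.RootCent2
import Mathlib

/-!
# The centralisers of the root elements of the highest roots in characteristic two (helper5)
-/

set_option autoImplicit false
set_option maxRecDepth 100000

namespace Cfsg.Agent.Lib.Helper5.Chev

open Cfsg.Lie
open scoped Matrix

section

variable {F : Type*} [Field F]

/-- the subgroup generated by the root subgroups of a list of roots -/
def listGen (F : Type*) [Field F] (D : ChevalleyDatum) (L : List ℕ) : Subgroup (GL D.Idx F) :=
  Subgroup.closure {g : GL D.Idx F | ∃ s ∈ L, ∃ c : F, (g : Matrix D.Idx D.Idx F) = D.x F s c}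

theorem listGen_nil (D : ChevalleyDatum) : listGen F D [] = ⊥ := by
  unfold listGen
  rw [Subgroup.closure_eq_bot_iff]
  rintro g ⟨s, hs, -⟩
  exact absurd hs (List.not_mem_nil)

theorem listGen_cons (D : ChevalleyDatum) (a : ℕ) (L : List ℕ) :
    listGen F D (a :: L) = D.rootSubgroup F a ⊔ listGen F D L := by
  unfold listGen ChevalleyDatum.rootSubgroup
  rw [← Subgroup.closure_union]
  congr 1
  ext g
  constructor
  · rintro ⟨s, hs, c, hg⟩
    rw [List.mem_cons] at hs
    rcases hs with rfl | hs
    · exact Or.inl ⟨c, hg⟩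
    · exact Or.inr ⟨s, hs, c, hg⟩
  · rintro (⟨c, hg⟩ | ⟨s, hs, c, hg⟩)
    · exact ⟨a, List.mem_cons_self, c, hg⟩
    · exact ⟨s, List.mem_cons_of_mem _ hs, c, hg⟩

/-- the candidate in terms of the list of the negative fundamental roots -/
theorem centGen_eq (D : ChevalleyDatum) (k0 : ℕ) (L : List ℕ)
    (hL : L = ((List.range D.rank).filter fun j => decide (j ≠ k0)).map
      fun j => D.neg (D.simple j)) :
    centGen F D k0 = D.posUnipotent F ⊔ listGen F D L := by
  unfold centGen ChevalleyDatum.posUnipotent listGen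
  rw [← Subgroup.closure_union]
  congr 1
  ext g
  constructor
  · rintro ⟨r, c, hr | ⟨j, hj, hjk, rfl⟩, hg⟩
    · exact Or.inl ⟨r, c, hr, hg⟩
    · refine Or.inr ⟨_, ?_, c, hg⟩
      rw [hL, List.mem_map]
      refine ⟨j, ?_, rfl⟩
      rw [List.mem_filter, List.mem_range]
      exact ⟨hj, by simpa using hjk⟩
  · rintro (⟨r, c, hr, hg⟩ | ⟨s, hs, c, hg⟩)
    · exact ⟨r, c, Or.inl hr, hg⟩
    · rw [hL, List.mem_map] at hs
      obtain ⟨j, hj, rfl⟩ := hs
      rw [List.mem_filter, List.mem_range] at hj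
      exact ⟨_, c, Or.inr ⟨j, hj.1, by simpa using hj.2, rfl⟩, hg⟩

theorem domE6 : domb DataE6.fd 71 1 = true := by decide +kernel
theorem domE7 : domb DataE7.fd 125 0 = true := by decide +kernel
theorem domE8 : domb DataE8.fd 239 7 = true := by decide +kernel
theorem domF4l : domb DataF4.fd 47 3 = true := by decide +kernel
theorem domF4s : domb DataF4.fd 44 0 = true := by decide +kernel
theorem domG2 : domb DataG2.fd 11 1 = true := by decide +kernel

variable [CharP F 2]

theorem cent_E6 (t : GL chevE6.Idx F)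
    (ht : (t : Matrix chevE6.Idx chevE6.Idx F) = chevE6.x F 71 1) :
    chevE6.group F ⊓ Subgroup.centralizer {t}
      = chevE6.posUnipotent F ⊔ listGen F chevE6 [15, 29, 32, 34, 35] := by
  rw [centralizer_dom chevE6 (by simp) DataE6.agrees 71 1
    (domOK_of_check DataE6.agrees 71 1 domE6) t ht]
  exact centGen_eq chevE6 1 _ (by decide +kernel)

theorem cent_E7 (t : GL chevE7.Idx F)
    (ht : (t : Matrix chevE7.Idx chevE7.Idx F) = chevE7.x F 125 1) :
    chevE7.group F ⊓ Subgroup.centralizer {t}
      = chevE7.posUnipotent F ⊔ listGen F chevE7 [47, 52, 56, 59, 61, 62] := by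
  rw [centralizer_dom chevE7 (by simp) DataE7.agrees 125 0
    (domOK_of_check DataE7.agrees 125 0 domE7) t ht]
  exact centGen_eq chevE7 0 _ (by decide +kernel)

theorem cent_E8 (t : GL chevE8.Idx F)
    (ht : (t : Matrix chevE8.Idx chevE8.Idx F) = chevE8.x F 239 1) :
    chevE8.group F ⊓ Subgroup.centralizer {t}
      = chevE8.posUnipotent F ⊔ listGen F chevE8 [77, 98, 104, 109, 113, 116, 118] := by
  rw [centralizer_dom chevE8 (by simp) DataE8.agrees 239 7
    (domOK_of_check DataE8.agrees 239 7 domE8) t ht]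
  exact centGen_eq chevE8 7 _ (by decide +kernel)

theorem cent_F4l (t : GL chevF4.Idx F)
    (ht : (t : Matrix chevF4.Idx chevF4.Idx F) = chevF4.x F 47 1) :
    chevF4.group F ⊓ Subgroup.centralizer {t}
      = chevF4.posUnipotent F ⊔ listGen F chevF4 [14, 20, 22] := by
  rw [centralizer_dom chevF4 (by simp) DataF4.agrees 47 3
    (domOK_of_check DataF4.agrees 47 3 domF4l) t ht]
  exact centGen_eq chevF4 3 _ (by decide +kernel)

theorem cent_F4s (t : GL chevF4.Idx F)
    (ht : (t : Matrix chevF4.Idx chevF4.Idx F) = chevF4.x F 44 1) :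
    chevF4.group F ⊓ Subgroup.centralizer {t}
      = chevF4.posUnipotent F ⊔ listGen F chevF4 [20, 22, 23] := by
  rw [centralizer_dom chevF4 (by simp) DataF4.agrees 44 0
    (domOK_of_check DataF4.agrees 44 0 domF4s) t ht]
  exact centGen_eq chevF4 0 _ (by decide +kernel)

theorem cent_G2 (t : GL chevG2.Idx F)
    (ht : (t : Matrix chevG2.Idx chevG2.Idx F) = chevG2.x F 11 1) :
    chevG2.group F ⊓ Subgroup.centralizer {t}
      = chevG2.posUnipotent F ⊔ listGen F chevG2 [4] := by
  rw [centralizer_dom chevG2 (by simp) DataG2.agrees 11 1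
    (domOK_of_check DataG2.agrees 11 1 domG2) t ht]
  exact centGen_eq chevG2 1 _ (by decide +kernel)

end

end Cfsg.Agent.Lib.Helper5.Chev
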