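import Cfsg.Agent.Lib.Helper5.Chev.NMat
import Cfsg.Agent.S2157
import Mathlib

/-!
# The Cartan integers as characters of the root lattice (helper5)
-/

set_option autoImplicit false

namespace Cfsg.Agent.Lib.Helper5.Chev

open Cfsg.Lie
open scoped Matrix

/-- the first root of a chain entry, packed -/
def headRoot (v : ℕ) : ℕ := Nat.sub (Nat.mod (Nat.mod v 4096) 512) 1

theorem dec3_head (v : ℕ) (hv : Nat.beq v 0 = false) :
    ∃ m L, dec3 v = (headRoot v, m) :: L := by
  unfold dec3
  rw [hv, cond_false]
  exact ⟨_, _, rfl⟩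

/-- boolean check: the Cartan integers are odd under negation and additive along the chain table,
for the roots `lo ≤ r < lo + len` -/
def cartAddb (T : FD) (lo len : ℕ) : Bool :=
  forceNat T.rank fun l => forceNat T.nroots fun n =>
  (List.range' lo len).all fun r =>
    RD.force (T.rdOf r) fun Rr => forceNat (T.rdOf Rr.negr).car fun cn =>
      (allBelow l fun i => zbeq (decodeCartan cn i) (Int.neg (decodeCartan Rr.car i))) &&
      allBelow n fun s => forceNat (slot36 Rr.row s) fun v =>
        cond (Nat.beq v 0) true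
          (forceNat (headRoot v) fun k =>
            forceNat (T.rdOf k).car fun ck => forceNat (T.rdOf s).car fun cs =>
              allBelow l fun i => zbeq (decodeCartan ck i)
                (Int.add (decodeCartan Rr.car i) (decodeCartan cs i)))

/-- the property checked -/
def CartAdd (T : FD) (r : ℕ) : Prop :=
  (∀ i < T.rank, T.cartan i (T.neg r) = - T.cartan i r) ∧
    ∀ s < T.nroots, ∀ q, (T.ch r s).head? = some q →
      ∀ i < T.rank, T.cartan i q.1 = T.cartan i r + T.cartan i s

theorem cartAdd_of_check (T : FD) (lo len : ℕ) (h : cartAddb T lo len = true) (r : ℕ)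
    (h1 : lo ≤ r) (h2 : r < lo + len) : CartAdd T r := by
  unfold cartAddb at h
  rw [forceNat_eq, forceNat_eq, List.all_eq_true] at h
  have := h r (by rw [List.mem_range'_1]; exact ⟨h1, h2⟩)
  rw [RD.force_eq, forceNat_eq, Bool.and_eq_true] at this
  obtain ⟨ha, hb⟩ := this
  refine ⟨fun i hi => ?_, fun s hs q hq i hi => ?_⟩
  · have := allBelow_spec _ _ ha i hi
    rw [zbeq_iff] at this
    exact this
  · have := allBelow_spec _ _ hb s hs
    rw [forceNat_eq] at this
    have hch : T.ch r s = dec3 (slot36 (T.rdOf r).row s) := rfl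
    rw [hch] at hq
    by_cases hv : Nat.beq (slot36 (T.rdOf r).row s) 0 = true
    · rw [FD.nbeq] at hv
      rw [hv, dec3_zero] at hq
      exact absurd hq (by simp)
    · rw [Bool.not_eq_true] at hv
      rw [hv, cond_false, forceNat_eq, forceNat_eq, forceNat_eq] at this
      obtain ⟨m, L, hd⟩ := dec3_head _ hv
      rw [hd, List.head?_cons, Option.some.injEq] at hq
      subst hq
      have := allBelow_spec _ _ this i hi
      rw [zbeq_iff] at this
      exact this

theorem cartAdd_all (T : FD) (n step k : ℕ) (hstep : 0 < step) (hn : n ≤ k * step)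
    (h : ∀ q < k, cartAddb T (q * step) step = true) :
    ∀ r < n, CartAdd T r := by
  intro r hr
  have hq : r / step < k := by
    rw [Nat.div_lt_iff_lt_mul hstep]
    omega
  have h1 : r / step * step ≤ r := Nat.div_mul_le_self r step
  have h2 : r < r / step * step + step := by
    have := Nat.lt_div_mul_add hstep (a := r)
    omega
  exact cartAdd_of_check T _ step (h _ hq) r h1 h2

section

variable {F : Type*} [Field F] {T : FD} {D : ChevalleyDatum}

theorem isRootCharacter_cartan (hA : T.Agrees D) (hall : ∀ r < D.nroots, CartAdd T r) (i : ℕ)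
    (hi : i < D.rank) (u : Fˣ) : D.IsRootCharacter (fun s => u ^ (D.cartan i s)) := by
  have hi' : i < T.rank := by rw [hA.rank_eq]; exact hi
  constructor
  · intro r hr
    have hn : T.neg r < D.nroots := hA.neg_lt r hr
    show u ^ (D.cartan i (D.neg r)) = (u ^ (D.cartan i r))⁻¹
    rw [FD.neg_eq' hA r hr, FD.cartan_eq' hA i _ hi hn, FD.cartan_eq' hA i r hi hr,
      (hall r hr).1 i hi', zpow_neg]
  · intro r s k hr hs hk
    show u ^ (D.cartan i k) = u ^ (D.cartan i r) * u ^ (D.cartan i s)
    rw [FD.chainRoot_eq hA r s 1 hr hs] at hk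
    unfold FD.chainRoot at hk
    rw [Option.map_eq_some_iff] at hk
    obtain ⟨q, hq, rfl⟩ := hk
    have hq' : (T.ch r s).head? = some q := by
      rw [List.head?_eq_getElem?]
      exact hq
    have hmem : q ∈ T.ch r s := List.mem_of_getElem? hq
    have hlt := hA.chain_lt r hr s hs q hmem
    have hs' : s < T.nroots := by rw [hA.nroots_eq]; exact hs
    rw [FD.cartan_eq' hA i _ hi hlt, FD.cartan_eq' hA i r hi hr, FD.cartan_eq' hA i s hi hs,
      (hall r hr).2 s hs' q hq' i hi', zpow_add]

/-- the diagonal matrix of a Cartan weight is the matrix of a character -/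
theorem charDiag_cartan (i : ℕ) (c : F) (hc : c ≠ 0) :
    D.charDiag F (fun s => (Units.mk0 c hc) ^ (D.cartan i s))
      = Matrix.diagonal (Sum.elim (fun _ => (1 : F)) (fun s : Fin D.nroots => c ^ (D.cartan i s.val))) := by
  unfold ChevalleyDatum.charDiag
  congr 1
  ext x
  rcases x with j | s
  · rfl
  · simp only [Sum.elim_inr, Units.val_zpow_eq_zpow_val, Units.val_mk0]

theorem charDiag_inv_mul (χ : ℕ → Fˣ) :
    D.charDiag F (fun s => (χ s)⁻¹) * D.charDiag F χ = 1 := by
  unfold ChevalleyDatum.charDiag
  rw [Matrix.diagonal_mul_diagonal, ← Matrix.diagonal_one]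
  congr 1
  ext x
  rcases x with j | s
  · simp
  · simp

/-- conjugation of root elements by `h_{p_i}(c)` in diagonal form -/
theorem diag_conj_x (hA : T.Agrees D) (hall : ∀ r < D.nroots, CartAdd T r)
    (hD : D ∈ [chevG2, chevB2, chevD4, chevF4, chevE6, chevE7, chevE8]) (i : ℕ) (hi : i < D.rank)
    (c : F) (hc : c ≠ 0) (s : ℕ) (hs : s < D.nroots) (t : F) :
    Matrix.diagonal (Sum.elim (fun _ => (1 : F)) (fun s : Fin D.nroots => c ^ (D.cartan i s.val)))
        * D.x F s t
      = D.x F s (c ^ (D.cartan i s) * t) *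
        Matrix.diagonal (Sum.elim (fun _ => (1 : F)) (fun s : Fin D.nroots => c ^ (D.cartan i s.val))) := by
  have hχ := isRootCharacter_cartan hA hall i hi (Units.mk0 c hc)
  have key := Cfsg.Agent.S2157.result D hD _ hχ s hs t
  rw [← charDiag_cartan i c hc]
  have e : (((Units.mk0 c hc) ^ (D.cartan i s) : Fˣ) : F) = c ^ (D.cartan i s) := by
    rw [Units.val_zpow_eq_zpow_val, Units.val_mk0]
  rw [← e, ← key, Matrix.mul_assoc, charDiag_inv_mul, Matrix.mul_one]

end

end Cfsg.Agent.Lib.Helper5.Chev
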