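import Cfsg.Agent.Lib.Helper5.Chev.RootCent2
import Cfsg.Agent.Lib.Helper5.Chev.UCardAll
import Mathlib

/-!
# Pairs of conjugates of the root subgroup of a dominant root in characteristic two (helper5)

For a dominant root `ρ` (as in `DomOK`) the subgroup generated by `X_ρ` and a conjugate `g X_ρ g⁻¹`
is a `2`-group or is conjugate to `⟨X_ρ, X_{-ρ}⟩`.
-/

set_option autoImplicit false
set_option maxRecDepth 100000

namespace Cfsg.Agent.Lib.Helper5.Chev

open Cfsg.Lie
open scoped Matrix Pointwise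

/-- positivity of an integer -/
def zposb : ℤ → Bool
  | Int.ofNat (_ + 1) => true
  | _ => false

/-- the first index below the bound satisfying the test -/
def findB (p : ℕ → Bool) : ℕ → Option ℕ
  | 0 => none
  | k + 1 => match findB p k with
    | some j => some j
    | none => cond (p k) (some k) none

/-- a word for the reflection in the positive root `γ` -/
def refWord (T : FD) (Bs : List ℕ) : ℕ → ℕ → List ℕ
  | 0, _ => []
  | fuel + 1, γ =>
    match findB (fun j => Nat.beq (T.simple j) γ) T.rank with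
    | some j => [j]
    | none =>
      match findB (fun j => zposb (T.cartan j γ)) T.rank with
      | some j => j :: (refWord T Bs fuel (wOf (Bs.getD j 0) γ)) ++ [j]
      | none => []

/-- the check: every negative root other than `-ρ` is mapped, together with `ρ`, to a positive root
by the word given by `wit` -/
def posPairb (T : FD) (Bs : List ℕ) (ρ : ℕ) (wit : ℕ → List ℕ) : Bool :=
  forceNat T.nroots fun n => forceNat (Nat.div n 2) fun h => forceNat T.rank fun l =>
    allBelow h fun r => Nat.beq r (T.neg ρ) ||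
      (fun L : List ℕ => L.all (fun i => Nat.blt i l) && Nat.ble h (wW Bs L ρ) &&
        Nat.ble h (wW Bs L r)) (wit r)

theorem posPair_of_check {T : FD} {D : ChevalleyDatum} (hA : T.Agrees D) (Bs : List ℕ)
    (ρ : ℕ) (wit : ℕ → List ℕ) (hρ : ρ < D.nroots) (h : posPairb T Bs ρ wit = true) :
    ∀ r < D.nroots / 2, r ≠ D.neg ρ → ∃ L : List ℕ, (∀ i ∈ L, i < D.rank) ∧
      D.nroots / 2 ≤ wW Bs L ρ ∧ D.nroots / 2 ≤ wW Bs L r := by
  unfold posPairb at h
  rw [forceNat_eq, forceNat_eq, forceNat_eq, hA.nroots_eq, hA.rank_eq] at h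
  have e : D.nroots.div 2 = D.nroots / 2 := rfl
  rw [e] at h
  intro r hr hne
  have := allBelow_spec _ _ h r hr
  rw [Bool.or_eq_true] at this
  rcases this with h1 | h1
  · exfalso
    apply hne
    rw [FD.neg_eq' hA ρ hρ]
    exact FD.nbeq.1 h1
  · simp only [Bool.and_eq_true, List.all_eq_true, Nat.blt_eq, Nat.ble_eq] at h1
    exact ⟨_, h1.1.1, h1.1.2, h1.2⟩

section

variable {F : Type*} [Field F]

/-- `U` centralises `X_ρ` for a dominant root in characteristic two -/
theorem pos_commute_dom [CharP F 2] {T : FD} (D : ChevalleyDatum)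
    (hD : D ∈ [chevG2, chevB2, chevD4, chevF4, chevE6, chevE7, chevE8]) (hA : T.Agrees D)
    (ρ k0 : ℕ) (hdom : DomOK T D ρ k0) (u : GL D.Idx F) (hu : u ∈ D.posUnipotent F) (a : F) :
    u * (allAdd_all (F := F) D hD).xU ρ a = (allAdd_all (F := F) D hD).xU ρ a * u := by
  have hadd := allAdd_all (F := F) D hD
  have hcomm := comm_known (F := F) D hD
  have hρ := hdom.rho_lt
  have hρpos := hdom.rho_pos
  obtain ⟨T', hA', hok, htri, -⟩ := ufok_known D hD
  have hposlt : ∀ r, D.IsPosRoot r → D.nroots / 2 ≤ r := by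
    intro r hr
    have := ((htri r hr.1).1 hr).1
    rwa [hA'.nroots_eq] at this
  have hle : D.posUnipotent F ≤ Subgroup.centralizer ({hadd.xU ρ a} : Set (GL D.Idx F)) := by
    unfold ChevalleyDatum.posUnipotent
    rw [Subgroup.closure_le]
    rintro g ⟨r, c, hr, hg⟩
    have hg' : g = hadd.xU r c := Units.ext hg
    rw [SetLike.mem_coe, Subgroup.mem_centralizer_iff]
    intro y hy
    rw [Set.mem_singleton_iff] at hy
    rw [hy, hg']
    symm
    apply Units.ext
    rw [Units.val_mul, Units.val_mul]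
    show D.x F r c * D.x F ρ a = D.x F ρ a * D.x F r c
    by_cases hrρ : r = ρ
    · rw [hrρ, hadd ρ hρ, hadd ρ hρ, add_comm]
    · have hrlt := hr.1
      rcases hcomm ρ hρ r hrlt with h | h | h
      · exact absurd h hrρ
      · exfalso
        have h1 := hposlt r hr
        have h2 := ((htri ρ hρ).1 (hok.pos_of_le ρ hρ hρpos)).2.1
        rw [hA'.nroots_eq, ← FD.neg_eq' hA' ρ hρ, ← h] at h2
        omega
      · apply commute_of_even D ρ r h
        intro c' hc'
        rw [FD.commTerms_eq hA ρ r hρ hrlt] at hc'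
        exact hdom.comm_pos r hrlt (hposlt r hr) hrρ c' hc'
  exact (Subgroup.mem_centralizer_iff.1 (hle hu) _ rfl).symm

/-- the action of `B` on `X_ρ` -/
theorem borel_conj_dom [CharP F 2] {T : FD} (D : ChevalleyDatum)
    (hD : D ∈ [chevG2, chevB2, chevD4, chevF4, chevE6, chevE7, chevE8]) (hA : T.Agrees D)
    (ρ k0 : ℕ) (hdom : DomOK T D ρ k0) (b : GL D.Idx F) (hb : b ∈ D.borelSubgroup F) (a : F) :
    ∃ a' : F, b * (allAdd_all (F := F) D hD).xU ρ a * b⁻¹ = (allAdd_all (F := F) D hD).xU ρ a' := by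
  have hadd := allAdd_all (F := F) D hD
  obtain ⟨u, hu, h, hh, rfl⟩ := exists_mul_of_mem_borel hD b hb
  obtain ⟨a', ha'⟩ := conj_diag_x hD hadd h hh ρ hdom.rho_lt a
  refine ⟨a', ?_⟩
  have e : u * h * hadd.xU ρ a * (u * h)⁻¹ = u * (h * hadd.xU ρ a * h⁻¹) * u⁻¹ := by group
  rw [e, ha', pos_commute_dom D hD hA ρ k0 hdom u hu a', mul_inv_cancel_right]

/-- conjugation maps a root subgroup onto a root subgroup, given the action on the root elements -/
theorem map_rootSubgroup_eq (D : ChevalleyDatum) (hadd : AllAdd F D) (y : GL D.Idx F) (r r' : ℕ)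
    (h1 : ∀ a : F, ∃ a' : F, y * hadd.xU r a * y⁻¹ = hadd.xU r' a')
    (h2 : ∀ a : F, ∃ a' : F, y⁻¹ * hadd.xU r' a * y = hadd.xU r a') :
    (D.rootSubgroup F r).map (MulAut.conj y).toMonoidHom = D.rootSubgroup F r' := by
  apply le_antisymm
  · rintro _ ⟨g, hg, rfl⟩
    obtain ⟨a, rfl⟩ := (mem_rootSubgroup_iff hadd r g).1 hg
    obtain ⟨a', ha'⟩ := h1 a
    show y * hadd.xU r a * y⁻¹ ∈ _
    rw [ha']
    exact xU_mem_rootSubgroup hadd r' a'
  · intro g hg
    obtain ⟨a, rfl⟩ := (mem_rootSubgroup_iff hadd r' g).1 hg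
    obtain ⟨a', ha'⟩ := h2 a
    refine ⟨hadd.xU r a', xU_mem_rootSubgroup hadd r a', ?_⟩
    show y * hadd.xU r a' * y⁻¹ = _
    rw [← ha']
    group

/-- subgroups of conjugates of `U` are `2`-groups in characteristic two -/
theorem isPGroup_of_le_conj [Fintype F] [CharP F 2] (D : ChevalleyDatum)
    (hD : D ∈ [chevG2, chevB2, chevD4, chevF4, chevE6, chevE7, chevE8])
    (K : Subgroup (GL D.Idx F)) (y : GL D.Idx F)
    (h : K ≤ (D.posUnipotent F).map (MulAut.conj y).toMonoidHom) : IsPGroup 2 K := by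
  have hU : IsPGroup 2 (D.posUnipotent F) := by
    obtain ⟨n, -, hqn⟩ := FiniteField.card F 2
    apply IsPGroup.of_card (n := (n : ℕ) * (D.nroots / 2))
    rw [card_posUnipotent_all D hD, Nat.card_eq_fintype_card, hqn, pow_mul]
  exact (hU.map _).to_le h

end

end Cfsg.Agent.Lib.Helper5.Chev
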