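import Cfsg.Agent.Lib.Helper5.Chev.RootPair
import Mathlib

/-!
# Pairs of conjugates of the root subgroup of a dominant root in characteristic two: the theorem
(helper5)
-/

set_option autoImplicit false
set_option maxRecDepth 100000

namespace Cfsg.Agent.Lib.Helper5.Chev

open Cfsg.Lie
open scoped Matrix Pointwise

section

variable {F : Type*} [Field F]

theorem map_conj_map_conj {G : Type*} [Group G] (K : Subgroup G) (x y : G) :
    (K.map (MulAut.conj x).toMonoidHom).map (MulAut.conj y).toMonoidHom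
      = K.map (MulAut.conj (y * x)).toMonoidHom := by
  rw [Subgroup.map_map]
  congr 1
  ext g
  simp [MulAut.conj_apply, mul_assoc]

theorem map_conj_inv_cancel {G : Type*} [Group G] (K : Subgroup G) (x : G) :
    (K.map (MulAut.conj x).toMonoidHom).map (MulAut.conj x⁻¹).toMonoidHom = K := by
  rw [map_conj_map_conj, inv_mul_cancel]
  ext g
  simp

theorem pair_dom [Fintype F] [CharP F 2] {T : FD} (D : ChevalleyDatum)
    (hD : D ∈ [chevG2, chevB2, chevD4, chevF4, chevE6, chevE7, chevE8]) (hA : T.Agrees D)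
    (ρ k0 : ℕ) (hdom : DomOK T D ρ k0) (Bs : List ℕ)
    (hB : ∀ i < D.rank, ReflChecks T D i (Bs.getD i 0))
    (hwit : ∀ r < D.nroots / 2, r ≠ D.neg ρ → ∃ L : List ℕ, (∀ i ∈ L, i < D.rank) ∧
      D.nroots / 2 ≤ wW Bs L ρ ∧ D.nroots / 2 ≤ wW Bs L r)
    (g : GL D.Idx F) (hg : g ∈ D.group F) :
    IsPGroup 2 ↥(D.rootSubgroup F ρ ⊔
      (D.rootSubgroup F ρ).map (MulAut.conj g).toMonoidHom) ∨
    ∃ h ∈ D.group F, (D.rootSubgroup F ρ ⊔
      (D.rootSubgroup F ρ).map (MulAut.conj g).toMonoidHom).map (MulAut.conj h).toMonoidHom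
        = D.rootSubgroup F ρ ⊔ D.rootSubgroup F (D.neg ρ) := by
  have hadd := allAdd_all (F := F) D hD
  have hinj := xInj_all (F := F) D hD
  obtain ⟨P, hPB, hPN, hPS⟩ := bnPair_all (F := F) D hD
  have hρ := hdom.rho_lt
  have hone : ∀ a : F, hadd.xU ρ a = 1 → a = 0 := by
    intro a ha
    exact hinj ρ hρ a (by rw [← hadd.xU_val, ha]; rfl)
  -- `B` normalises `X_ρ`
  have hBmap : ∀ b ∈ D.borelSubgroup F,
      (D.rootSubgroup F ρ).map (MulAut.conj b).toMonoidHom = D.rootSubgroup F ρ := by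
    intro b hb
    apply map_rootSubgroup_eq D hadd b ρ ρ
    · exact fun a => borel_conj_dom D hD hA ρ k0 hdom b hb a
    · intro a
      have := borel_conj_dom (F := F) D hD hA ρ k0 hdom b⁻¹ (Subgroup.inv_mem _ hb) a
      rwa [inv_inv] at this
  -- Bruhat decomposition
  obtain ⟨n, hn⟩ := Cfsg.Agent.Lib.Helper5.BN.exists_N_mem_D P (⟨g, hg⟩ : ↥(D.group F))
  rw [Cfsg.Agent.Lib.Helper5.BN.mem_D] at hn
  obtain ⟨b, hb, b', hb', hgb⟩ := hn
  have hbB : (b : GL D.Idx F) ∈ D.borelSubgroup F := by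
    rw [hPB, Subgroup.mem_subgroupOf] at hb; exact hb
  have hb'B : (b' : GL D.Idx F) ∈ D.borelSubgroup F := by
    rw [hPB, Subgroup.mem_subgroupOf] at hb'; exact hb'
  have hnN : ((n : ↥(D.group F)) : GL D.Idx F) ∈ D.monomialSubgroup F := by
    have h6 : ∀ x : ↥(D.group F), x ∈ P.N → x ∈ (D.monomialSubgroup F).subgroupOf (D.group F) :=
      fun x hx => by rw [hPN] at hx; exact hx
    exact Subgroup.mem_subgroupOf.1 (h6 _ n.2)
  have hg' : g = (b : GL D.Idx F) * ((n : ↥(D.group F)) : GL D.Idx F) * (b' : GL D.Idx F) := by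
    have := congrArg (fun x : ↥(D.group F) => (x : GL D.Idx F)) hgb
    simpa using this
  set nn : GL D.Idx F := ((n : ↥(D.group F)) : GL D.Idx F) with hnn
  set bb : GL D.Idx F := (b : GL D.Idx F) with hbb
  set bb' : GL D.Idx F := (b' : GL D.Idx F) with hbb'
  -- the image of `X_ρ` under `n`
  obtain ⟨⟨r', hr', h1⟩, -⟩ := monomial_conj_root (F := F) D hD nn hnN ρ hρ
  obtain ⟨-, ⟨r'', hr'', h2⟩⟩ := monomial_conj_root (F := F) D hD nn hnN r' hr'
  have e2 : r'' = ρ := by
    obtain ⟨c, hc⟩ := h1 1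
    obtain ⟨c', hc'⟩ := h2 c
    have : nn⁻¹ * hadd.xU r' c * nn = hadd.xU ρ 1 := by
      rw [← hc]; group
    rw [this] at hc'
    exact (root_eq_of_xU_eq D hD ρ r'' hρ hr'' 1 c' hc' one_ne_zero).symm
  rw [e2] at h2
  have hnmap : (D.rootSubgroup F ρ).map (MulAut.conj nn).toMonoidHom = D.rootSubgroup F r' :=
    map_rootSubgroup_eq D hadd nn ρ r' h1 h2
  -- the pair
  have hpair : D.rootSubgroup F ρ ⊔ (D.rootSubgroup F ρ).map (MulAut.conj g).toMonoidHom
      = (D.rootSubgroup F ρ ⊔ D.rootSubgroup F r').map (MulAut.conj bb).toMonoidHom := by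
    have h3 : (D.rootSubgroup F ρ).map (MulAut.conj g).toMonoidHom
        = (D.rootSubgroup F ρ).map (MulAut.conj (bb * nn)).toMonoidHom := by
      rw [hg', ← map_conj_map_conj (D.rootSubgroup F ρ) bb' (bb * nn), hBmap bb' hb'B]
    rw [h3, Subgroup.map_sup, hBmap bb hbB, ← hnmap, map_conj_map_conj]
  rw [hpair]
  by_cases hneg : r' = D.neg ρ
  · right
    refine ⟨bb⁻¹, Subgroup.inv_mem _ b.2, ?_⟩
    rw [map_conj_inv_cancel, hneg]
  · left
    have hK : ∃ y : GL D.Idx F, D.rootSubgroup F ρ ⊔ D.rootSubgroup F r'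
        ≤ (D.posUnipotent F).map (MulAut.conj y).toMonoidHom := by
      have hposle : ∀ s, s < D.nroots → D.nroots / 2 ≤ s →
          D.rootSubgroup F s ≤ D.posUnipotent F := by
        intro s hs hle
        unfold ChevalleyDatum.rootSubgroup ChevalleyDatum.posUnipotent
        apply Subgroup.closure_mono
        rintro x ⟨t, hx⟩
        exact ⟨s, t, (pos_iff_all D hD s hs).2 hle, hx⟩
      rcases Nat.lt_or_ge r' (D.nroots / 2) with hlt | hge
      · obtain ⟨L, hL, hw1, hw2⟩ := hwit r' hlt hneg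
        refine ⟨(nWordU hA hadd L)⁻¹, ?_⟩
        have hsub : ∀ s, s < D.nroots → D.nroots / 2 ≤ wW Bs L s →
            D.rootSubgroup F s ≤
              (D.posUnipotent F).map (MulAut.conj (nWordU hA hadd L)⁻¹).toMonoidHom := by
          intro s hs hle x hx
          obtain ⟨a, rfl⟩ := (mem_rootSubgroup_iff hadd s x).1 hx
          obtain ⟨hlt', t', ht'⟩ := conj_word hA hadd Bs hB L hL s hs a
          refine ⟨hadd.xU (wW Bs L s) t', hposle _ hlt' hle (xU_mem_rootSubgroup hadd _ t'), ?_⟩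
          show (nWordU hA hadd L)⁻¹ * hadd.xU (wW Bs L s) t' * (nWordU hA hadd L)⁻¹⁻¹ = _
          rw [← ht']
          group
        exact sup_le (hsub ρ hρ hw1) (hsub r' hr' hw2)
      · refine ⟨1, ?_⟩
        have : (D.posUnipotent F).map (MulAut.conj (1 : GL D.Idx F)).toMonoidHom
            = D.posUnipotent F := by
          ext x
          simp
        rw [this]
        exact sup_le (hposle ρ hρ hdom.rho_pos) (hposle r' hr' hge)
    obtain ⟨y, hy⟩ := hK
    exact (isPGroup_of_le_conj D hD _ y hy).map _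

end

end Cfsg.Agent.Lib.Helper5.Chev
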