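import Cfsg.Agent.Lib.Helper5.Chev.RootPair2
import Cfsg.Agent.Lib.Helper5.Chev.RootCentAll
import Mathlib

/-!
# Pairs of conjugates of the highest root subgroup in characteristic two, for the data
`G₂`, `D₄`, `E₆`, `E₇`, `E₈` (helper5)
-/

set_option autoImplicit false
set_option maxRecDepth 100000

namespace Cfsg.Agent.Lib.Helper5.Chev

open Cfsg.Lie
open scoped Matrix

theorem domD4 : domb DataD4.fd 23 1 = true := by decide +kernel

/-- explicit words for `G₂` -/
def pwordG2 (r : ℕ) : List ℕ := [[], [1, 0], [0, 1, 0], [0, 1], [0], [1]].getD r []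
/-- words of reflections for `D₄` -/
def pwordD4 (r : ℕ) : List ℕ := refWord DataD4.fd BsD4.Bs 20 (DataD4.fd.neg r)
/-- words of reflections for `E₆` -/
def pwordE6 (r : ℕ) : List ℕ := refWord DataE6.fd BsE6.Bs 40 (DataE6.fd.neg r)
/-- words of reflections for `E₇` -/
def pwordE7 (r : ℕ) : List ℕ := refWord DataE7.fd BsE7.Bs 40 (DataE7.fd.neg r)
/-- words of reflections for `E₈` -/
def pwordE8 (r : ℕ) : List ℕ := refWord DataE8.fd BsE8.Bs 60 (DataE8.fd.neg r)

theorem ppG2 : posPairb DataG2.fd BsG2.Bs 11 pwordG2 = true := by decide +kernel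
theorem ppD4 : posPairb DataD4.fd BsD4.Bs 23 pwordD4 = true := by decide +kernel
theorem ppE6 : posPairb DataE6.fd BsE6.Bs 71 pwordE6 = true := by decide +kernel
theorem ppE7 : posPairb DataE7.fd BsE7.Bs 125 pwordE7 = true := by decide +kernel
theorem ppE8 : posPairb DataE8.fd BsE8.Bs 239 pwordE8 = true := by decide +kernel

theorem negG2 : DataG2.fd.neg 11 = 0 := by decide +kernel
theorem negD4 : DataD4.fd.neg 23 = 0 := by decide +kernel
theorem negE6 : DataE6.fd.neg 71 = 0 := by decide +kernel
theorem negE7 : DataE7.fd.neg 125 = 0 := by decide +kernel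
theorem negE8 : DataE8.fd.neg 239 = 0 := by decide +kernel

section

variable {F : Type*} [Field F] [Fintype F] [CharP F 2]

theorem pair_all (D : ChevalleyDatum) (hD : D ∈ [chevG2, chevD4, chevE6, chevE7, chevE8])
    (g : GL D.Idx F) (hg : g ∈ D.group F) :
    IsPGroup 2 ↥(D.rootSubgroup F (D.nroots - 1) ⊔
      (D.rootSubgroup F (D.nroots - 1)).map (MulAut.conj g).toMonoidHom) ∨
    ∃ h ∈ D.group F, (D.rootSubgroup F (D.nroots - 1) ⊔
      (D.rootSubgroup F (D.nroots - 1)).map (MulAut.conj g).toMonoidHom).map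
        (MulAut.conj h).toMonoidHom
        = D.rootSubgroup F (D.nroots - 1) ⊔ D.rootSubgroup F 0 := by
  simp only [List.mem_cons, List.not_mem_nil, or_false] at hD
  rcases hD with rfl | rfl | rfl | rfl | rfl
  · have h := pair_dom (F := F) chevG2 (by simp) DataG2.agrees 11 1
      (domOK_of_check DataG2.agrees 11 1 domG2) BsG2.Bs HsG2.reflBs'
      (posPair_of_check DataG2.agrees BsG2.Bs 11 pwordG2 (by decide) ppG2) g hg
    rw [FD.neg_eq' DataG2.agrees 11 (by decide), negG2] at h
    exact h
  · have h := pair_dom (F := F) chevD4 (by simp) DataD4.agrees 23 1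
      (domOK_of_check DataD4.agrees 23 1 domD4) BsD4.Bs HsD4.reflBs'
      (posPair_of_check DataD4.agrees BsD4.Bs 23 pwordD4 (by decide) ppD4) g hg
    rw [FD.neg_eq' DataD4.agrees 23 (by decide), negD4] at h
    exact h
  · have h := pair_dom (F := F) chevE6 (by simp) DataE6.agrees 71 1
      (domOK_of_check DataE6.agrees 71 1 domE6) BsE6.Bs HsE6.reflBs'
      (posPair_of_check DataE6.agrees BsE6.Bs 71 pwordE6 (by decide) ppE6) g hg
    rw [FD.neg_eq' DataE6.agrees 71 (by decide), negE6] at h
    exact h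
  · have h := pair_dom (F := F) chevE7 (by simp) DataE7.agrees 125 0
      (domOK_of_check DataE7.agrees 125 0 domE7) BsE7.Bs HsE7.reflBs'
      (posPair_of_check DataE7.agrees BsE7.Bs 125 pwordE7 (by decide) ppE7) g hg
    rw [FD.neg_eq' DataE7.agrees 125 (by decide), negE7] at h
    exact h
  · have h := pair_dom (F := F) chevE8 (by simp) DataE8.agrees 239 7
      (domOK_of_check DataE8.agrees 239 7 domE8) BsE8.Bs HsE8.reflBs'
      (posPair_of_check DataE8.agrees BsE8.Bs 239 pwordE8 (by decide) ppE8) g hg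
    rw [FD.neg_eq' DataE8.agrees 239 (by decide), negE8] at h
    exact h

end

end Cfsg.Agent.Lib.Helper5.Chev
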