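import Cfsg.Agent.Lib.Helper5.Chev.Fast
import Mathlib

/-!
# Sparse matrices with polynomial entries (helper5)

Columns are lists of entries `(row, coefficient, exponents of three variables)`; the
matrices are indexed by `D.Idx` through the coding `inl i ↦ i`, `inr r ↦ rank + r`.
-/

set_option autoImplicit false

namespace Cfsg.Agent.Lib.Helper5.Chev

open Cfsg.Lie
open scoped Matrix

/-- entry of a sparse polynomial vector -/
structure Ent where
  row : ℕ
  c : ℤ
  a : ℕ
  b : ℕ
  d : ℕ

/-- sparse polynomial vectors -/
abbrev SVec := List Ent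
/-- sparse polynomial matrices, by columns -/
abbrev SPM := ℕ → SVec

section eval

variable {F : Type*} [Field F]

/-- value of an entry -/
def Ent.val (e : Ent) (t u v : F) : F := (e.c : F) * t ^ e.a * u ^ e.b * v ^ e.d

/-- product of entries -/
def Ent.mul (f e : Ent) : Ent := ⟨f.row, f.c * e.c, f.a + e.a, f.b + e.b, f.d + e.d⟩

theorem Ent.val_mul (f e : Ent) (t u v : F) : (f.mul e).val t u v = f.val t u v * e.val t u v := by
  simp only [Ent.val, Ent.mul, Int.cast_mul, pow_add]
  ring

/-- coordinate of a sparse vector -/
def SVec.eval (x : SVec) (t u v : F) (i : ℕ) : F :=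
  (x.map fun e => if e.row = i then e.val t u v else 0).sum

theorem SVec.eval_nil (t u v : F) (i : ℕ) : SVec.eval [] t u v i = 0 := rfl

theorem SVec.eval_cons (e : Ent) (x : SVec) (t u v : F) (i : ℕ) :
    SVec.eval (e :: x) t u v i = (if e.row = i then e.val t u v else 0) + SVec.eval x t u v i := by
  simp [SVec.eval]

theorem SVec.eval_append (x y : SVec) (t u v : F) (i : ℕ) :
    SVec.eval (x ++ y) t u v i = SVec.eval x t u v i + SVec.eval y t u v i := by
  simp [SVec.eval]

/-- apply a sparse matrix to a sparse vector -/
def SPM.apply (C : SPM) (x : SVec) : SVec := x.flatMap fun e => (C e.row).map fun f => f.mul e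

/-- product of sparse matrices -/
def SPM.mul (C₁ C₂ : SPM) : SPM := fun j => C₁.apply (C₂ j)

theorem SPM.eval_apply (C : SPM) (x : SVec) (t u v : F) (i : ℕ) :
    SVec.eval (C.apply x) t u v i = (x.map fun e => SVec.eval (C e.row) t u v i * e.val t u v).sum := by
  induction x with
  | nil => rfl
  | cons e x ih =>
    have : C.apply (e :: x) = ((C e.row).map fun f => f.mul e) ++ C.apply x := by
      simp [SPM.apply]
    rw [this, SVec.eval_append, ih, List.map_cons, List.sum_cons]
    congr 1
    simp only [SVec.eval, List.map_map]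
    rw [← List.sum_map_mul_right]
    congr 1
    apply List.map_congr_left
    intro f _
    simp only [Function.comp, Ent.val_mul]
    have : (f.mul e).row = f.row := rfl
    rw [this]
    split_ifs <;> simp

/-- the coding of indices -/
def code (D : ChevalleyDatum) : D.Idx → ℕ := Sum.elim (fun i => i.val) (fun r => D.rank + r.val)

theorem code_lt (D : ChevalleyDatum) (a : D.Idx) : code D a < D.rank + D.nroots := by
  rcases a with i | r
  · simp only [code, Sum.elim_inl]; have := i.2; omega
  · simp only [code, Sum.elim_inr]; have := r.2; omega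

theorem code_inj (D : ChevalleyDatum) : Function.Injective (code D) := by
  intro a b h
  rcases a with i | r <;> rcases b with j | s <;> simp only [code, Sum.elim_inl, Sum.elim_inr] at h
  · exact congrArg _ (Fin.ext h)
  · have := i.2; omega
  · have := j.2; omega
  · exact congrArg _ (Fin.ext (by omega))

theorem sum_code (D : ChevalleyDatum) (g : ℕ → F) (k : ℕ) (hk : k < D.rank + D.nroots) :
    ∑ c : D.Idx, (if k = code D c then g (code D c) else 0) = g k := by
  rw [Fintype.sum_sum_type]
  simp only [code, Sum.elim_inl, Sum.elim_inr]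
  by_cases h : k < D.rank
  · have h2 : ∀ r : Fin D.nroots, ¬ (k = D.rank + r.val) := fun r => by omega
    simp only [h2, if_false, Finset.sum_const_zero, add_zero]
    rw [Finset.sum_eq_single (⟨k, h⟩ : Fin D.rank)]
    · simp
    · intro b _ hb
      exact if_neg (fun hkb => hb (Fin.ext hkb.symm))
    · simp
  · have h2 : ∀ i : Fin D.rank, ¬ (k = i.val) := fun i => by have := i.2; omega
    simp only [h2, if_false, Finset.sum_const_zero, zero_add]
    rw [Finset.sum_eq_single (⟨k - D.rank, by omega⟩ : Fin D.nroots)]
    · have : D.rank + (k - D.rank) = k := by omega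
      simp [this]
    · intro b _ hb
      exact if_neg (fun hkb => hb (Fin.ext (by simp only; omega)))
    · simp

/-- the matrix of a sparse polynomial matrix at a point -/
def SPM.eval (D : ChevalleyDatum) (C : SPM) (t u v : F) : Matrix D.Idx D.Idx F :=
  Matrix.of fun a b => SVec.eval (C (code D b)) t u v (code D a)

/-- all rows in range -/
def SPM.WF (N : ℕ) (C : SPM) : Prop := ∀ j < N, ∀ e ∈ C j, e.row < N

theorem sum_code_eval (D : ChevalleyDatum) (G : ℕ → F) (x : SVec) (t u v : F)
    (hx : ∀ e ∈ x, e.row < D.rank + D.nroots) :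
    ∑ c : D.Idx, G (code D c) * SVec.eval x t u v (code D c)
      = (x.map fun e => G e.row * e.val t u v).sum := by
  induction x with
  | nil => simp [SVec.eval]
  | cons e x ih =>
    simp only [SVec.eval_cons, mul_add, Finset.sum_add_distrib, List.map_cons, List.sum_cons]
    rw [ih (fun e' he' => hx e' (List.mem_cons_of_mem _ he'))]
    congr 1
    have := sum_code D (fun k => G k * e.val t u v) e.row (hx e List.mem_cons_self)
    rw [← this]
    apply Finset.sum_congr rfl
    intro c _
    split_ifs <;> simp

theorem SPM.eval_mul (D : ChevalleyDatum) (C₁ C₂ : SPM) (h : SPM.WF (D.rank + D.nroots) C₂)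
    (t u v : F) :
    SPM.eval D (C₁.mul C₂) t u v = SPM.eval D C₁ t u v * SPM.eval D C₂ t u v := by
  ext a b
  rw [Matrix.mul_apply]
  simp only [SPM.eval, Matrix.of_apply, SPM.mul]
  rw [SPM.eval_apply]
  exact (sum_code_eval D (fun k => SVec.eval (C₁ k) t u v (code D a)) (C₂ (code D b)) t u v
    (h _ (code_lt D b))).symm

theorem SPM.wf_mul (N : ℕ) (C₁ C₂ : SPM) (h₁ : SPM.WF N C₁) (h₂ : SPM.WF N C₂) :
    SPM.WF N (C₁.mul C₂) := by
  intro j hj e he
  simp only [SPM.mul, SPM.apply, List.mem_flatMap, List.mem_map] at he
  obtain ⟨e', he', f, hf, rfl⟩ := he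
  exact h₁ _ (h₂ j hj e' he') f hf

end eval

/-! ### deciding equality -/

/-- same key (row and exponents) -/
def Ent.sameKey (e f : Ent) : Bool :=
  Nat.beq f.row e.row && Nat.beq f.a e.a && Nat.beq f.b e.b && Nat.beq f.d e.d

theorem Ent.sameKey_iff (e f : Ent) :
    e.sameKey f = true ↔ f.row = e.row ∧ f.a = e.a ∧ f.b = e.b ∧ f.d = e.d := by
  simp only [Ent.sameKey, Bool.and_eq_true, FD.nbeq]
  tauto

/-- boolean test that all coefficients cancel -/
def SVec.isZero (z : SVec) : Bool :=
  z.all fun e => decide (((z.filter fun f => e.sameKey f).map fun f => f.c).sum = 0)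

theorem sum_filter_split {α : Type*} {M : Type*} [AddCommMonoid M] (p : α → Bool) (g : α → M)
    (l : List α) :
    (l.map g).sum = ((l.filter p).map g).sum + ((l.filter fun x => !p x).map g).sum := by
  induction l with
  | nil => simp
  | cons a l ih =>
    by_cases h : p a
    · simp only [List.map_cons, List.sum_cons, List.filter_cons, h, Bool.not_true, if_true]
      rw [ih]
      simp [add_assoc]
    · simp only [List.map_cons, List.sum_cons, List.filter_cons, h, Bool.not_false, if_true]
      rw [ih]
      simp only [Bool.false_eq_true, if_false, List.map_cons, List.sum_cons]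
      abel

theorem SVec.eval_of_isZero {F : Type*} [Field F] (t u v : F) (i : ℕ) :
    ∀ (n : ℕ) (z : SVec), z.length ≤ n → z.isZero = true → SVec.eval z t u v i = 0 := by
  intro n
  induction n with
  | zero =>
    intro z hz _
    have : z = [] := List.eq_nil_of_length_eq_zero (Nat.le_zero.1 hz)
    subst this; rfl
  | succ n ih =>
    intro z hz h0
    rcases z with _ | ⟨e, z'⟩
    · rfl
    set z := e :: z' with hzdef
    have hsplit := sum_filter_split (fun f => e.sameKey f)
      (fun f : Ent => if f.row = i then f.val t u v else 0) z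
    unfold SVec.eval
    rw [hsplit]
    have hall := List.all_eq_true.1 h0
    have h1 : ((z.filter fun f => e.sameKey f).map
        (fun f : Ent => if f.row = i then f.val t u v else 0)).sum = 0 := by
      have he := hall e (by simp [hzdef])
      rw [decide_eq_true_eq] at he
      have : ∀ f ∈ z.filter (fun f => e.sameKey f),
          (if f.row = i then f.val t u v else 0)
            = (f.c : F) * (if e.row = i then t ^ e.a * u ^ e.b * v ^ e.d else 0) := by
        intro f hf
        have hk := (Ent.sameKey_iff e f).1 (List.mem_filter.1 hf).2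
        obtain ⟨h1, h2, h3, h4⟩ := hk
        simp only [Ent.val, h1, h2, h3, h4]
        split_ifs <;> ring
      rw [List.map_congr_left this, List.sum_map_mul_right]
      have hc : ((z.filter fun f => e.sameKey f).map fun f => ((f.c : ℤ) : F)).sum
          = (((z.filter fun f => e.sameKey f).map fun f => f.c).sum : ℤ) := by
        rw [Int.cast_list_sum, List.map_map]
        rfl
      rw [hc, he]
      simp
    rw [h1, zero_add]
    have hlen : (z.filter fun f => !e.sameKey f).length ≤ n := by
      have hself : e.sameKey e = true := (Ent.sameKey_iff e e).2 ⟨rfl, rfl, rfl, rfl⟩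
      have : z.filter (fun f => !e.sameKey f) = z'.filter (fun f => !e.sameKey f) := by
        simp [hzdef, List.filter_cons, hself]
      rw [this]
      have := List.length_filter_le (fun f => !e.sameKey f) z'
      simp only [hzdef, List.length_cons] at hz
      omega
    have hz0 : SVec.isZero (z.filter fun f => !e.sameKey f) = true := by
      unfold SVec.isZero
      rw [List.all_eq_true]
      intro f hf
      have hfz := List.mem_filter.1 hf
      have hf0 := hall f hfz.1
      rw [decide_eq_true_eq] at hf0 ⊢
      rw [← hf0, List.filter_filter]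
      congr 2
      apply List.filter_congr
      intro g _
      by_cases hg : f.sameKey g = true
      · have hne : e.sameKey g = false := by
          by_contra hcon
          have hcon' : e.sameKey g = true := by simpa using hcon
          have h1 := (Ent.sameKey_iff f g).1 hg
          have h2 := (Ent.sameKey_iff e g).1 hcon'
          have : e.sameKey f = true := by
            rw [Ent.sameKey_iff]
            obtain ⟨a1, a2, a3, a4⟩ := h1
            obtain ⟨b1, b2, b3, b4⟩ := h2
            exact ⟨a1 ▸ b1, a2 ▸ b2, a3 ▸ b3, a4 ▸ b4⟩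
          have := hfz.2
          simp_all
        simp [hg, hne]
      · have hg' : f.sameKey g = false := by simpa using hg
        simp [hg']
    have := ih _ hlen hz0
    unfold SVec.eval at this
    exact this

/-- negated entry -/
def Ent.neg (e : Ent) : Ent := ⟨e.row, -e.c, e.a, e.b, e.d⟩

theorem SVec.eval_neg {F : Type*} [Field F] (x : SVec) (t u v : F) (i : ℕ) :
    SVec.eval (x.map Ent.neg) t u v i = - SVec.eval x t u v i := by
  induction x with
  | nil => simp [SVec.eval]
  | cons e x ih =>
    rw [List.map_cons, SVec.eval_cons, SVec.eval_cons, ih]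
    simp only [Ent.neg, Ent.val, Int.cast_neg]
    split_ifs <;> ring

/-- kernel-friendly equality of integers -/
def zbeq : ℤ → ℤ → Bool
  | Int.ofNat a, Int.ofNat b => Nat.beq a b
  | Int.negSucc a, Int.negSucc b => Nat.beq a b
  | _, _ => false

theorem zbeq_iff (x y : ℤ) : zbeq x y = true ↔ x = y := by
  cases x <;> cases y <;> simp [zbeq, FD.nbeq]

/-- syntactic equality of entries -/
def Ent.beq (e f : Ent) : Bool :=
  Nat.beq e.row f.row && zbeq e.c f.c && Nat.beq e.a f.a && Nat.beq e.b f.b && Nat.beq e.d f.d

theorem Ent.beq_iff (e f : Ent) : e.beq f = true ↔ e = f := by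
  rcases e with ⟨r, c, a, b, d⟩
  rcases f with ⟨r', c', a', b', d'⟩
  simp only [Ent.beq, Bool.and_eq_true, FD.nbeq, zbeq_iff, Ent.mk.injEq]
  tauto

/-- syntactic equality of sparse vectors -/
def SVec.beq : SVec → SVec → Bool
  | [], [] => true
  | e :: x, f :: y => e.beq f && SVec.beq x y
  | _, _ => false

theorem SVec.beq_iff : ∀ (x y : SVec), SVec.beq x y = true ↔ x = y
  | [], [] => by simp [SVec.beq]
  | [], _ :: _ => by simp [SVec.beq]
  | _ :: _, [] => by simp [SVec.beq]
  | e :: x, f :: y => by
    simp only [SVec.beq, Bool.and_eq_true, Ent.beq_iff, SVec.beq_iff x y, List.cons.injEq]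

/-- boolean test of equality of sparse vectors as polynomial vectors -/
def SVec.eqv (x y : SVec) : Bool := SVec.beq x y || SVec.isZero (x ++ y.map Ent.neg)

theorem SVec.eval_eq_of_eqv {F : Type*} [Field F] (x y : SVec) (h : SVec.eqv x y = true)
    (t u v : F) (i : ℕ) : SVec.eval x t u v i = SVec.eval y t u v i := by
  unfold SVec.eqv at h
  rw [Bool.or_eq_true] at h
  rcases h with h | h
  · rw [(SVec.beq_iff x y).1 h]
  · have := SVec.eval_of_isZero t u v i _ _ le_rfl h
    rw [SVec.eval_append, SVec.eval_neg] at this
    exact sub_eq_zero.1 (by rw [sub_eq_add_neg]; exact this)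

/-- boolean test of equality of sparse matrices -/
def SPM.eqb (N : ℕ) (C C' : SPM) : Bool := (List.range N).all fun j => SVec.eqv (C j) (C' j)

theorem SPM.eval_eq_of_eqb {F : Type*} [Field F] (D : ChevalleyDatum) (C C' : SPM)
    (h : SPM.eqb (D.rank + D.nroots) C C' = true) (t u v : F) :
    SPM.eval D C t u v = SPM.eval D C' t u v := by
  ext a b
  simp only [SPM.eval, Matrix.of_apply]
  unfold SPM.eqb at h
  rw [List.all_eq_true] at h
  exact SVec.eval_eq_of_eqv _ _ (h _ (List.mem_range.2 (code_lt D b))) t u v _

/-! ### forcing and words -/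

/-- force an entry -/
def Ent.force {β : Sort*} (e : Ent) (k : Ent → β) : β :=
  forceNat e.row fun r => forceInt e.c fun c => forceNat e.a fun a => forceNat e.b fun b =>
    forceNat e.d fun d => k ⟨r, c, a, b, d⟩

theorem Ent.force_eq {β : Sort*} (e : Ent) (k : Ent → β) : e.force k = k e := by
  simp [Ent.force, forceNat_eq, forceInt_eq]

/-- force a sparse vector -/
def SVec.force {β : Sort*} : SVec → (SVec → β) → β
  | [], k => k []
  | e :: x, k => e.force fun e' => SVec.force x fun x' => k (e' :: x')

theorem SVec.force_eq {β : Sort*} (x : SVec) (k : SVec → β) : SVec.force x k = k x := by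
  induction x generalizing k with
  | nil => rfl
  | cons e x ih => simp [SVec.force, Ent.force_eq, ih]

/-- unit vector -/
def SVec.unit (j : ℕ) : SVec := [⟨j, 1, 0, 0, 0⟩]

/-- apply a word of sparse matrices to a sparse vector -/
def applyWord : List SPM → SVec → SVec
  | [], x => x
  | C :: W, x => C.apply (applyWord W x)

/-- the same in continuation passing style, forcing all intermediate results -/
def applyWordF {β : Sort*} : List SPM → SVec → (SVec → β) → β
  | [], x, k => k x
  | C :: W, x, k => applyWordF W x fun y => SVec.force (C.apply y) k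

theorem applyWordF_eq {β : Sort*} (W : List SPM) (x : SVec) (k : SVec → β) :
    applyWordF W x k = k (applyWord W x) := by
  induction W generalizing k with
  | nil => rfl
  | cons C W ih => simp [applyWordF, applyWord, ih, SVec.force_eq]

/-- the sparse matrix of a word -/
def wordSPM (W : List SPM) : SPM := fun j => applyWord W (SVec.unit j)

theorem wordSPM_cons (C : SPM) (W : List SPM) : wordSPM (C :: W) = C.mul (wordSPM W) := rfl

theorem wf_wordSPM (N : ℕ) (W : List SPM) (hW : ∀ C ∈ W, SPM.WF N C) : SPM.WF N (wordSPM W) := by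
  induction W with
  | nil =>
    intro j hj e he
    simp only [wordSPM, applyWord, SVec.unit, List.mem_singleton] at he
    subst he; exact hj
  | cons C W ih =>
    rw [wordSPM_cons]
    exact SPM.wf_mul N C _ (hW C List.mem_cons_self)
      (ih fun C' hC' => hW C' (List.mem_cons_of_mem _ hC'))

theorem eval_wordSPM {F : Type*} [Field F] (D : ChevalleyDatum) (W : List SPM)
    (hW : ∀ C ∈ W, SPM.WF (D.rank + D.nroots) C) (t u v : F) :
    SPM.eval D (wordSPM W) t u v = (W.map fun C => SPM.eval D C t u v).prod := by
  induction W with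
  | nil =>
    ext a b
    simp only [SPM.eval, Matrix.of_apply, wordSPM, applyWord, SVec.unit, SVec.eval, List.map_cons,
      List.map_nil, List.sum_cons, List.sum_nil, add_zero, List.prod_nil, Matrix.one_apply, Ent.val]
    by_cases hab : a = b
    · subst hab; simp
    · rw [if_neg hab, if_neg (fun hh => hab ((code_inj D hh).symm))]
  | cons C W ih =>
    rw [wordSPM_cons, SPM.eval_mul D _ _ (wf_wordSPM _ W fun C' hC' => hW C' (List.mem_cons_of_mem _ hC')),
      ih fun C' hC' => hW C' (List.mem_cons_of_mem _ hC'), List.map_cons, List.prod_cons]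

/-- bounded universal quantifier -/
def allBelow : ℕ → (ℕ → Bool) → Bool
  | 0, _ => true
  | k + 1, p => p k && allBelow k p

theorem allBelow_spec (n : ℕ) (p : ℕ → Bool) (h : allBelow n p = true) (k : ℕ) (hk : k < n) :
    p k = true := by
  induction n with
  | zero => omega
  | succ n ih =>
    rw [allBelow, Bool.and_eq_true] at h
    rcases Nat.lt_succ_iff_lt_or_eq.1 hk with h1 | h1
    · exact ih h.2 h1
    · rw [h1]; exact h.1

/-- boolean test that two words of sparse matrices have the same matrix, after normalising the
entries by `nrm` -/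
def wordEqb (N : ℕ) (nrm : Ent → Ent) (W₁ W₂ : List SPM) : Bool :=
  allBelow N fun j =>
    applyWordF W₁ (SVec.unit j) fun x => applyWordF W₂ (SVec.unit j) fun y =>
      SVec.force (x.map nrm) fun x' => SVec.force (y.map nrm) fun y' => SVec.eqv x' y'

theorem SVec.eval_map_nrm {F : Type*} [Field F] (nrm : Ent → Ent) (t u v : F)
    (hn : ∀ e, (nrm e).row = e.row ∧ (nrm e).val t u v = e.val t u v) (x : SVec) (i : ℕ) :
    SVec.eval (x.map nrm) t u v i = SVec.eval x t u v i := by
  simp only [SVec.eval, List.map_map]
  congr 1
  apply List.map_congr_left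
  intro e _
  simp only [Function.comp, (hn e).1, (hn e).2]

theorem wordEqb_sound {F : Type*} [Field F] (D : ChevalleyDatum) (nrm : Ent → Ent) (t u v : F)
    (hn : ∀ e, (nrm e).row = e.row ∧ (nrm e).val t u v = e.val t u v) (W₁ W₂ : List SPM)
    (h₁ : ∀ C ∈ W₁, SPM.WF (D.rank + D.nroots) C) (h₂ : ∀ C ∈ W₂, SPM.WF (D.rank + D.nroots) C)
    (hc : wordEqb (D.rank + D.nroots) nrm W₁ W₂ = true) :
    (W₁.map fun C => SPM.eval D C t u v).prod = (W₂.map fun C => SPM.eval D C t u v).prod := by
  rw [← eval_wordSPM D W₁ h₁, ← eval_wordSPM D W₂ h₂]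
  ext a b
  simp only [SPM.eval, Matrix.of_apply]
  have := allBelow_spec _ _ hc (code D b) (code_lt D b)
  rw [applyWordF_eq, applyWordF_eq, SVec.force_eq, SVec.force_eq] at this
  have e := SVec.eval_eq_of_eqv _ _ this t u v (code D a)
  rw [SVec.eval_map_nrm nrm t u v hn, SVec.eval_map_nrm nrm t u v hn] at e
  exact e

end Cfsg.Agent.Lib.Helper5.Chev
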