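import Cfsg.Agent.Lib.Helper5.Chev.SimpleComp
import Cfsg.Agent.Lib.Helper5.Chev.CmAll
import Cfsg.Agent.Lib.Helper5.Chev.PosAll
import Mathlib

/-!
# The complement `U_p` of a fundamental root subgroup in `U`: all types (helper5)
-/

set_option autoImplicit false
set_option maxRecDepth 100000

namespace Cfsg.Agent.Lib.Helper5.Chev

open Cfsg.Lie
open scoped Matrix

theorem compG2_0 : compb DataG2.fd chevG2 0 = true := by decide +kernel
theorem compG2_1 : compb DataG2.fd chevG2 1 = true := by decide +kernel

theorem compG2 : ∀ i < chevG2.rank, CompOK DataG2.fd chevG2 i := by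
  intro i hi
  have hi' : i < 2 := hi
  interval_cases i
  · exact compOK_of_check DataG2.agrees 0 compG2_0
  · exact compOK_of_check DataG2.agrees 1 compG2_1

theorem compB2_0 : compb DataB2.fd chevB2 0 = true := by decide +kernel
theorem compB2_1 : compb DataB2.fd chevB2 1 = true := by decide +kernel

theorem compB2 : ∀ i < chevB2.rank, CompOK DataB2.fd chevB2 i := by
  intro i hi
  have hi' : i < 2 := hi
  interval_cases i
  · exact compOK_of_check DataB2.agrees 0 compB2_0
  · exact compOK_of_check DataB2.agrees 1 compB2_1

theorem compD4_0 : compb DataD4.fd chevD4 0 = true := by decide +kernel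
theorem compD4_1 : compb DataD4.fd chevD4 1 = true := by decide +kernel
theorem compD4_2 : compb DataD4.fd chevD4 2 = true := by decide +kernel
theorem compD4_3 : compb DataD4.fd chevD4 3 = true := by decide +kernel

theorem compD4 : ∀ i < chevD4.rank, CompOK DataD4.fd chevD4 i := by
  intro i hi
  have hi' : i < 4 := hi
  interval_cases i
  · exact compOK_of_check DataD4.agrees 0 compD4_0
  · exact compOK_of_check DataD4.agrees 1 compD4_1
  · exact compOK_of_check DataD4.agrees 2 compD4_2
  · exact compOK_of_check DataD4.agrees 3 compD4_3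

theorem compF4_0 : compb DataF4.fd chevF4 0 = true := by decide +kernel
theorem compF4_1 : compb DataF4.fd chevF4 1 = true := by decide +kernel
theorem compF4_2 : compb DataF4.fd chevF4 2 = true := by decide +kernel
theorem compF4_3 : compb DataF4.fd chevF4 3 = true := by decide +kernel

theorem compF4 : ∀ i < chevF4.rank, CompOK DataF4.fd chevF4 i := by
  intro i hi
  have hi' : i < 4 := hi
  interval_cases i
  · exact compOK_of_check DataF4.agrees 0 compF4_0
  · exact compOK_of_check DataF4.agrees 1 compF4_1
  · exact compOK_of_check DataF4.agrees 2 compF4_2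
  · exact compOK_of_check DataF4.agrees 3 compF4_3

theorem compE6_0 : compb DataE6.fd chevE6 0 = true := by decide +kernel
theorem compE6_1 : compb DataE6.fd chevE6 1 = true := by decide +kernel
theorem compE6_2 : compb DataE6.fd chevE6 2 = true := by decide +kernel
theorem compE6_3 : compb DataE6.fd chevE6 3 = true := by decide +kernel
theorem compE6_4 : compb DataE6.fd chevE6 4 = true := by decide +kernel
theorem compE6_5 : compb DataE6.fd chevE6 5 = true := by decide +kernel

theorem compE6 : ∀ i < chevE6.rank, CompOK DataE6.fd chevE6 i := by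
  intro i hi
  have hi' : i < 6 := hi
  interval_cases i
  · exact compOK_of_check DataE6.agrees 0 compE6_0
  · exact compOK_of_check DataE6.agrees 1 compE6_1
  · exact compOK_of_check DataE6.agrees 2 compE6_2
  · exact compOK_of_check DataE6.agrees 3 compE6_3
  · exact compOK_of_check DataE6.agrees 4 compE6_4
  · exact compOK_of_check DataE6.agrees 5 compE6_5

theorem compE7_0 : compb DataE7.fd chevE7 0 = true := by decide +kernel
theorem compE7_1 : compb DataE7.fd chevE7 1 = true := by decide +kernel
theorem compE7_2 : compb DataE7.fd chevE7 2 = true := by decide +kernel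
theorem compE7_3 : compb DataE7.fd chevE7 3 = true := by decide +kernel
theorem compE7_4 : compb DataE7.fd chevE7 4 = true := by decide +kernel
theorem compE7_5 : compb DataE7.fd chevE7 5 = true := by decide +kernel
theorem compE7_6 : compb DataE7.fd chevE7 6 = true := by decide +kernel

theorem compE7 : ∀ i < chevE7.rank, CompOK DataE7.fd chevE7 i := by
  intro i hi
  have hi' : i < 7 := hi
  interval_cases i
  · exact compOK_of_check DataE7.agrees 0 compE7_0
  · exact compOK_of_check DataE7.agrees 1 compE7_1
  · exact compOK_of_check DataE7.agrees 2 compE7_2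
  · exact compOK_of_check DataE7.agrees 3 compE7_3
  · exact compOK_of_check DataE7.agrees 4 compE7_4
  · exact compOK_of_check DataE7.agrees 5 compE7_5
  · exact compOK_of_check DataE7.agrees 6 compE7_6

theorem compE8_0 : compb DataE8.fd chevE8 0 = true := by decide +kernel
theorem compE8_1 : compb DataE8.fd chevE8 1 = true := by decide +kernel
theorem compE8_2 : compb DataE8.fd chevE8 2 = true := by decide +kernel
theorem compE8_3 : compb DataE8.fd chevE8 3 = true := by decide +kernel
theorem compE8_4 : compb DataE8.fd chevE8 4 = true := by decide +kernel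
theorem compE8_5 : compb DataE8.fd chevE8 5 = true := by decide +kernel
theorem compE8_6 : compb DataE8.fd chevE8 6 = true := by decide +kernel
theorem compE8_7 : compb DataE8.fd chevE8 7 = true := by decide +kernel

theorem compE8 : ∀ i < chevE8.rank, CompOK DataE8.fd chevE8 i := by
  intro i hi
  have hi' : i < 8 := hi
  interval_cases i
  · exact compOK_of_check DataE8.agrees 0 compE8_0
  · exact compOK_of_check DataE8.agrees 1 compE8_1
  · exact compOK_of_check DataE8.agrees 2 compE8_2
  · exact compOK_of_check DataE8.agrees 3 compE8_3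
  · exact compOK_of_check DataE8.agrees 4 compE8_4
  · exact compOK_of_check DataE8.agrees 5 compE8_5
  · exact compOK_of_check DataE8.agrees 6 compE8_6
  · exact compOK_of_check DataE8.agrees 7 compE8_7

theorem comp_known (D : ChevalleyDatum)
    (hD : D ∈ [chevG2, chevB2, chevD4, chevF4, chevE6, chevE7, chevE8]) :
    ∃ T : FD, T.Agrees D ∧ ∀ i < D.rank, CompOK T D i := by
  simp only [List.mem_cons, List.not_mem_nil, or_false] at hD
  rcases hD with rfl | rfl | rfl | rfl | rfl | rfl | rfl
  · exact ⟨_, DataG2.agrees, compG2⟩
  · exact ⟨_, DataB2.agrees, compB2⟩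
  · exact ⟨_, DataD4.agrees, compD4⟩
  · exact ⟨_, DataF4.agrees, compF4⟩
  · exact ⟨_, DataE6.agrees, compE6⟩
  · exact ⟨_, DataE7.agrees, compE7⟩
  · exact ⟨_, DataE8.agrees, compE8⟩

/-- `X_p` and `X_{-p}` normalise `U_p`, and `U = U_p X_p` -/
theorem simple_complement {F : Type*} [Field F] (D : ChevalleyDatum)
    (hD : D ∈ [chevG2, chevB2, chevD4, chevF4, chevE6, chevE7, chevE8]) (i : ℕ) (hi : i < D.rank) :
    D.rootSubgroup F (D.simple i) ⊔ D.rootSubgroup F (D.neg (D.simple i)) ≤
        Subgroup.normalizer (Subgroup.closure (compSet F D (D.simple i)) : Set (GL D.Idx F)) ∧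
      Subgroup.closure (compSet F D (D.simple i)) ⊔ D.rootSubgroup F (D.simple i)
        = D.posUnipotent F := by
  obtain ⟨T, hA, hcomp⟩ := comp_known D hD
  have hadd := allAdd_all (F := F) D hD
  have hcomm := comm_known (F := F) D hD
  constructor
  · apply sup_le
    · unfold ChevalleyDatum.rootSubgroup
      rw [Subgroup.closure_le]
      rintro g ⟨t, hg⟩
      have : g = hadd.xU (D.simple i) t := Units.ext hg
      rw [this]
      exact xU_mem_normalizer_comp hA hadd i hi (hcomp i hi) hcomm _ (Or.inl rfl) t
    · unfold ChevalleyDatum.rootSubgroup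
      rw [Subgroup.closure_le]
      rintro g ⟨t, hg⟩
      have : g = hadd.xU (D.neg (D.simple i)) t := Units.ext hg
      rw [this]
      exact xU_mem_normalizer_comp hA hadd i hi (hcomp i hi) hcomm _ (Or.inr rfl) t
  · apply le_antisymm
    · apply sup_le
      · unfold ChevalleyDatum.posUnipotent
        apply Subgroup.closure_mono
        rintro g ⟨s, t, hs, -, hg⟩
        exact ⟨s, t, hs, hg⟩
      · unfold ChevalleyDatum.rootSubgroup ChevalleyDatum.posUnipotent
        apply Subgroup.closure_mono
        rintro g ⟨t, hg⟩
        exact ⟨_, t, pos_simple_all D hD i hi, hg⟩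
    · unfold ChevalleyDatum.posUnipotent
      rw [Subgroup.closure_le]
      rintro g ⟨r, t, hr, hg⟩
      by_cases h : r = D.simple i
      · apply Subgroup.mem_sup_right
        apply Subgroup.subset_closure
        exact ⟨t, by rw [hg, h]⟩
      · apply Subgroup.mem_sup_left
        apply Subgroup.subset_closure
        exact ⟨r, t, hr, h, hg⟩

end Cfsg.Agent.Lib.Helper5.Chev
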