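import Mathlib

/-!
# Matrices raising a grading of the index set; unitriangular groups (helper5)
-/

set_option autoImplicit false
set_option linter.unusedSectionVars false

namespace Cfsg.Agent.Lib.Helper5.Chev

open scoped Matrix

variable {ι : Type*} [Fintype ι] [DecidableEq ι] {R : Type*} [CommRing R]

/-- `M` raises the grading `b` by at least `m`: the entry at row `u` and column `s` vanishes unless
`b s + m ≤ b u` -/
def Filt (b : ι → ℤ) (m : ℤ) (M : Matrix ι ι R) : Prop := ∀ u s, M u s ≠ 0 → b s + m ≤ b u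

namespace Filt

variable {b : ι → ℤ} {m m' : ℤ} {M M' : Matrix ι ι R}

theorem mono (h : Filt b m M) (hm : m' ≤ m) : Filt b m' M := fun u s hne => by
  have := h u s hne
  omega

theorem zero (b : ι → ℤ) (m : ℤ) : Filt b m (0 : Matrix ι ι R) := fun u s hne => by
  simp at hne

theorem one (b : ι → ℤ) : Filt b 0 (1 : Matrix ι ι R) := fun u s hne => by
  by_cases h : u = s
  · subst h; simp
  · rw [Matrix.one_apply_ne h] at hne
    exact absurd rfl hne

theorem add (h : Filt b m M) (h' : Filt b m M') : Filt b m (M + M') := fun u s hne => by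
  by_contra hcon
  apply hne
  have h1 : M u s = 0 := by
    by_contra h1
    exact hcon (h u s h1)
  have h2 : M' u s = 0 := by
    by_contra h2
    exact hcon (h' u s h2)
  rw [Matrix.add_apply, h1, h2, add_zero]

theorem neg (h : Filt b m M) : Filt b m (-M) := fun u s hne => by
  apply h u s
  intro h0
  apply hne
  rw [Matrix.neg_apply, h0, neg_zero]

theorem sub (h : Filt b m M) (h' : Filt b m M') : Filt b m (M - M') := by
  rw [sub_eq_add_neg]
  exact h.add h'.neg

theorem mul (h : Filt b m M) (h' : Filt b m' M') : Filt b (m + m') (M * M') := fun u s hne => by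
  rw [Matrix.mul_apply] at hne
  obtain ⟨v, _, hv⟩ := Finset.exists_ne_zero_of_sum_ne_zero hne
  have h1 : M u v ≠ 0 := fun h0 => hv (by rw [h0, zero_mul])
  have h2 : M' v s ≠ 0 := fun h0 => hv (by rw [h0, mul_zero])
  have := h u v h1
  have := h' v s h2
  omega

theorem pow (h : Filt b m M) (k : ℕ) : Filt b (k * m) (M ^ k) := by
  induction k with
  | zero =>
    rw [pow_zero]
    simpa using Filt.one (R := R) b
  | succ k ih =>
    rw [pow_succ]
    have := ih.mul h
    have e : ((k + 1 : ℕ) : ℤ) * m = (k : ℤ) * m + m := by push_cast; ring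
    rw [e]
    exact this

/-- a matrix raising a bounded grading by more than its width vanishes -/
theorem eq_zero (h : Filt b m M) (lo hi : ℤ) (hb : ∀ u, lo ≤ b u ∧ b u ≤ hi) (hm : hi - lo < m) :
    M = 0 := by
  ext u s
  by_contra hne
  have := h u s hne
  have := (hb u).2
  have := (hb s).1
  rw [Matrix.zero_apply] at hne
  omega

theorem diagonal (b : ι → ℤ) (d : ι → R) : Filt b 0 (Matrix.diagonal d) := fun u s hne => by
  by_cases h : u = s
  · subst h; simp
  · rw [Matrix.diagonal_apply_ne _ h] at hne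
    exact absurd rfl hne

end Filt

/-- the group of invertible matrices `g` with `g - 1` and `g⁻¹ - 1` raising the grading by at least
`m` -/
def UG (b : ι → ℤ) (m : ℕ) : Subgroup (GL ι R) where
  carrier := {g | Filt b m ((g : Matrix ι ι R) - 1) ∧ Filt b m (((g⁻¹ : GL ι R) : Matrix ι ι R) - 1)}
  one_mem' := by
    constructor
    · simpa using Filt.zero (R := R) b m
    · simpa using Filt.zero (R := R) b m
  mul_mem' := by
    rintro g h ⟨g1, g2⟩ ⟨h1, h2⟩
    have key : ∀ A B : Matrix ι ι R, Filt b m (A - 1) → Filt b m (B - 1) → Filt b m (A * B - 1) := by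
      intro A B hA hB
      have e : A * B - 1 = (A - 1) * (B - 1) + (A - 1) + (B - 1) := by noncomm_ring
      rw [e]
      exact (((hA.mul hB).mono (by omega)).add hA).add hB
    constructor
    · rw [Units.val_mul]; exact key _ _ g1 h1
    · rw [mul_inv_rev, Units.val_mul]; exact key _ _ h2 g2
  inv_mem' := by
    rintro g ⟨g1, g2⟩
    exact ⟨g2, by rw [inv_inv]; exact g1⟩

theorem mem_UG {b : ι → ℤ} {m : ℕ} {g : GL ι R} :
    g ∈ UG b m ↔ Filt b m ((g : Matrix ι ι R) - 1) ∧
      Filt b m (((g⁻¹ : GL ι R) : Matrix ι ι R) - 1) := Iff.rfl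

theorem UG_mono (b : ι → ℤ) {m m' : ℕ} (h : m' ≤ m) :
    UG (R := R) b m ≤ UG b m' := fun _ hg =>
  ⟨hg.1.mono (by exact_mod_cast h), hg.2.mono (by exact_mod_cast h)⟩

theorem UG_eq_bot (b : ι → ℤ) (m : ℕ) (lo hi : ℤ) (hb : ∀ u, lo ≤ b u ∧ b u ≤ hi)
    (h : hi - lo < m) : UG (R := R) b m = ⊥ := by
  rw [eq_bot_iff]
  intro g hg
  rw [Subgroup.mem_bot]
  apply Units.ext
  have := hg.1.eq_zero lo hi hb h
  rw [sub_eq_zero] at this
  rw [this]; rfl

/-- matrices in `1 + Filt m` with `m ≥ 0` preserve the grading -/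
theorem filt_zero_of_sub_one {b : ι → ℤ} {m : ℤ} (hm : 0 ≤ m) {A : Matrix ι ι R}
    (h : Filt b m (A - 1)) : Filt b 0 A := by
  have : A = (A - 1) + 1 := by abel
  rw [this]
  exact (h.mono hm).add (Filt.one b)

theorem comm_filt (b : ι → ℤ) {a c : ℤ} (ha : 0 ≤ a) (hc : 0 ≤ c) (A B A' B' : Matrix ι ι R)
    (hA : Filt b a (A - 1)) (hB : Filt b c (B - 1)) (hA' : Filt b a (A' - 1))
    (hB' : Filt b c (B' - 1)) (e1 : A * A' = 1) (e2 : B * B' = 1) :
    Filt b (a + c) (A * B * A' * B' - 1) := by
  have e : A * B * A' * B' - 1 = ((A - 1) * (B - 1) - (B - 1) * (A - 1)) * (A' * B') := by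
    have h1 : ((A - 1) * (B - 1) - (B - 1) * (A - 1)) = A * B - B * A := by noncomm_ring
    rw [h1, sub_mul]
    have h2 : B * A * (A' * B') = 1 := by
      rw [Matrix.mul_assoc, ← Matrix.mul_assoc A, e1, Matrix.one_mul, e2]
    rw [h2]
    simp only [Matrix.mul_assoc]
  rw [e]
  have f1 : Filt b (a + c) ((A - 1) * (B - 1) - (B - 1) * (A - 1)) := by
    apply Filt.sub (hA.mul hB)
    have := hB.mul hA
    rwa [add_comm] at this
  have f2 : Filt b 0 (A' * B') := by
    have := (filt_zero_of_sub_one ha hA').mul (filt_zero_of_sub_one hc hB')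
    simpa using this
  have := f1.mul f2
  simpa using this

theorem val_mul_inv (x : GL ι R) : (x : Matrix ι ι R) * ((x⁻¹ : GL ι R) : Matrix ι ι R) = 1 := by
  rw [← Units.val_mul, mul_inv_cancel, Units.val_one]

/-- the commutator of elements of `UG a` and `UG c` lies in `UG (a + c)` -/
theorem commutator_mem_UG (b : ι → ℤ) {a c : ℕ} (g h : GL ι R)
    (hg : g ∈ UG b a) (hh : h ∈ UG b c) :
    g * h * g⁻¹ * h⁻¹ ∈ UG b (a + c) := by
  constructor
  · simp only [Units.val_mul]
    rw [Nat.cast_add]
    exact comm_filt b (by positivity) (by positivity) _ _ _ _ hg.1 hh.1 hg.2 hh.2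
      (val_mul_inv g) (val_mul_inv h)
  · have e : (g * h * g⁻¹ * h⁻¹)⁻¹ = h * g * h⁻¹ * g⁻¹ := by group
    rw [e]
    simp only [Units.val_mul]
    rw [Nat.cast_add, add_comm (a : ℤ) c]
    exact comm_filt b (by positivity) (by positivity) _ _ _ _ hh.1 hg.1 hh.2 hg.2
      (val_mul_inv h) (val_mul_inv g)

/-- the unitriangular group of a bounded grading is nilpotent -/
theorem UG_isNilpotent (b : ι → ℤ) (lo hi : ℤ) (hb : ∀ u, lo ≤ b u ∧ b u ≤ hi) :
    Group.IsNilpotent (UG (R := R) b 1) := by
  rw [Subgroup.nilpotent_iff_finite_descending_central_series]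
  refine ⟨(hi - lo).toNat, fun k => (UG b (k + 1)).subgroupOf (UG b 1), ⟨?_, ?_⟩, ?_⟩
  · show (UG b (0 + 1)).subgroupOf (UG (R := R) b 1) = ⊤
    rw [Nat.zero_add, Subgroup.subgroupOf_self]
  · intro x n hx g
    rw [Subgroup.mem_subgroupOf] at hx ⊢
    have := commutator_mem_UG b (x : GL ι R) (g : GL ι R) hx g.2
    rw [commutatorElement_def]
    exact this
  · show (UG b ((hi - lo).toNat + 1)).subgroupOf (UG (R := R) b 1) = ⊥
    have hlt : hi - lo < (((hi - lo).toNat + 1 : ℕ) : ℤ) := by
      push_cast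
      have := Int.self_le_toNat (hi - lo)
      omega
    rw [UG_eq_bot b ((hi - lo).toNat + 1) lo hi hb hlt, Subgroup.bot_subgroupOf]

/-- the group of invertible matrices preserving the grading, with their inverses -/
def BG (b : ι → ℤ) : Subgroup (GL ι R) where
  carrier := {g | Filt b 0 (g : Matrix ι ι R) ∧ Filt b 0 ((g⁻¹ : GL ι R) : Matrix ι ι R)}
  one_mem' := by
    constructor
    · exact Filt.one b
    · rw [inv_one]; exact Filt.one b
  mul_mem' := by
    rintro g h ⟨g1, g2⟩ ⟨h1, h2⟩
    constructor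
    · rw [Units.val_mul]; simpa using g1.mul h1
    · rw [mul_inv_rev, Units.val_mul]; simpa using h2.mul g2
  inv_mem' := by
    rintro g ⟨g1, g2⟩
    exact ⟨g2, by rw [inv_inv]; exact g1⟩

theorem UG_le_BG (b : ι → ℤ) (m : ℕ) : UG (R := R) b m ≤ BG b := fun _ hg =>
  ⟨filt_zero_of_sub_one (by positivity) hg.1, filt_zero_of_sub_one (by positivity) hg.2⟩

/-- for an injective grading, matrices preserving it commute up to matrices raising it -/
theorem comm_filt_one (b : ι → ℤ) (hb : Function.Injective b) (A B : Matrix ι ι R)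
    (hA : Filt b 0 A) (hB : Filt b 0 B) : Filt b 1 (A * B - B * A) := by
  intro u s hne
  have h0 : Filt b 0 (A * B - B * A) := by
    have h1 := hA.mul hB
    have h2 := hB.mul hA
    simp only [add_zero] at h1 h2
    exact h1.sub h2
  have := h0 u s hne
  by_contra hcon
  have hbe : b s = b u := by omega
  have hus : s = u := hb hbe
  subst hus
  apply hne
  rw [Matrix.sub_apply, Matrix.mul_apply, Matrix.mul_apply, sub_eq_zero]
  have e1 : ∀ v, A s v * B v s = if v = s then A s s * B s s else 0 := by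
    intro v
    split_ifs with h
    · subst h; rfl
    · by_contra hh
      have h1 : A s v ≠ 0 := fun h0 => hh (by rw [h0, zero_mul])
      have h2 : B v s ≠ 0 := fun h0 => hh (by rw [h0, mul_zero])
      have := hA s v h1
      have := hB v s h2
      exact h (hb (by omega))
  have e2 : ∀ v, B s v * A v s = if v = s then B s s * A s s else 0 := by
    intro v
    split_ifs with h
    · subst h; rfl
    · by_contra hh
      have h1 : B s v ≠ 0 := fun h0 => hh (by rw [h0, zero_mul])
      have h2 : A v s ≠ 0 := fun h0 => hh (by rw [h0, mul_zero])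
      have := hB s v h1
      have := hA v s h2
      exact h (hb (by omega))
  rw [Finset.sum_congr rfl (fun v _ => e1 v), Finset.sum_congr rfl (fun v _ => e2 v),
    Finset.sum_ite_eq', Finset.sum_ite_eq', if_pos (Finset.mem_univ _), if_pos (Finset.mem_univ _),
    mul_comm]

/-- commutators of grading-preserving matrices are unitriangular -/
theorem commutator_mem_UG_one (b : ι → ℤ) (hb : Function.Injective b) (g h : GL ι R)
    (hg : g ∈ BG b) (hh : h ∈ BG b) : g * h * g⁻¹ * h⁻¹ ∈ UG b 1 := by
  have key : ∀ (A B A' B' : Matrix ι ι R), Filt b 0 A → Filt b 0 B → Filt b 0 A' → Filt b 0 B' →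
      A * A' = 1 → B * B' = 1 → Filt b 1 (A * B * A' * B' - 1) := by
    intro A B A' B' hA hB hA' hB' e1 e2
    have e : A * B * A' * B' - 1 = (A * B - B * A) * (A' * B') := by
      rw [sub_mul]
      have h2 : B * A * (A' * B') = 1 := by
        rw [Matrix.mul_assoc, ← Matrix.mul_assoc A, e1, Matrix.one_mul, e2]
      rw [h2]
      simp only [Matrix.mul_assoc]
    rw [e]
    have := (comm_filt_one b hb A B hA hB).mul (hA'.mul hB')
    simpa using this
  constructor
  · simp only [Units.val_mul]
    exact key _ _ _ _ hg.1 hh.1 hg.2 hh.2 (val_mul_inv g) (val_mul_inv h)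
  · have e : (g * h * g⁻¹ * h⁻¹)⁻¹ = h * g * h⁻¹ * g⁻¹ := by group
    rw [e]
    simp only [Units.val_mul]
    exact key _ _ _ _ hh.1 hg.1 hh.2 hg.2 (val_mul_inv h) (val_mul_inv g)

theorem commutator_le_comap_UG (b : ι → ℤ) (hb : Function.Injective b) (K : Subgroup (GL ι R)) (hK : K ≤ BG b) :
    commutator K ≤ (UG (R := R) b 1).comap K.subtype := by
  rw [commutator_def, Subgroup.commutator_le]
  intro p _ q _
  rw [Subgroup.mem_comap, commutatorElement_def]
  have e : K.subtype (p * q * p⁻¹ * q⁻¹)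
      = (p : GL ι R) * (q : GL ι R) * (p : GL ι R)⁻¹ * (q : GL ι R)⁻¹ := by
    simp only [map_mul, map_inv, Subgroup.coe_subtype]
  rw [e]
  have := commutator_mem_UG_one b hb (p : GL ι R) (q : GL ι R) (hK p.2) (hK q.2)
  exact this

/-- the map -/
def commHom (b : ι → ℤ) (hb : Function.Injective b) (K : Subgroup (GL ι R)) (hK : K ≤ BG b) :
    commutator K →* UG (R := R) b 1 where
  toFun := fun x => ⟨((x : K) : GL ι R), commutator_le_comap_UG b hb K hK x.2⟩
  map_one' := rfl
  map_mul' := fun _ _ => rfl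

theorem commHom_inj (b : ι → ℤ) (hb : Function.Injective b) (K : Subgroup (GL ι R)) (hK : K ≤ BG b) :
    Function.Injective (commHom b hb K hK) := by
  intro x y hxy
  have : ((x : K) : GL ι R) = ((y : K) : GL ι R) :=
    congrArg (fun z : UG (R := R) b 1 => (z : GL ι R)) hxy
  exact Subtype.ext (Subtype.ext this)

theorem isSolvable_of_le_BG (b : ι → ℤ) (hb : Function.Injective b) (lo hi : ℤ)
    (hbd : ∀ u, lo ≤ b u ∧ b u ≤ hi) (K : Subgroup (GL ι R)) (hK : K ≤ BG b) :
    Group.IsSolvable K := by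
  have : Group.IsNilpotent (UG (R := R) b 1) := UG_isNilpotent b lo hi hbd
  have : Group.IsSolvable (commutator K) := Group.isSolvable_of_isSolvable_injective (commHom_inj b hb K hK)
  refine Group.isSolvable_of_ker_le_range (commutator K).subtype (Abelianization.of (G := K)) ?_
  rw [Abelianization.ker_of, Subgroup.range_subtype]

end Cfsg.Agent.Lib.Helper5.Chev
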