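import Cfsg.Agent.Lib.Helper5.Chev.Tri
import Cfsg.Agent.Lib.Helper5.Chev.Groups
import Mathlib

/-!
# Triangularity of the root elements of positive and negative roots (helper5)
-/

set_option autoImplicit false

namespace Cfsg.Agent.Lib.Helper5.Chev

open Cfsg.Lie
open scoped Matrix

/-- the property checked on the tables: the order of the root indices is compatible with adding a
positive or a negative root -/
def TriOK (T : FD) (D : ChevalleyDatum) (r : ℕ) : Prop :=
  (D.IsPosRoot r → T.nroots / 2 ≤ r ∧ T.neg r < T.nroots / 2 ∧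
      ∀ s < T.nroots, ∀ q ∈ T.ch r s, s < q.1) ∧
    (D.IsNegRoot r → r < T.nroots / 2 ∧ T.nroots / 2 ≤ T.neg r ∧
      ∀ s < T.nroots, ∀ q ∈ T.ch r s, q.1 < s)

/-- the boolean check, for the roots `lo ≤ r < lo + len` -/
def trib (T : FD) (D : ChevalleyDatum) (lo len : ℕ) : Bool :=
  forceNat T.nroots fun n => forceNat (Nat.div n 2) fun h =>
  (List.range' lo len).all fun r => RD.force (T.rdOf r) fun Rr =>
    (cond (decide (D.IsPosRoot r))
      (Nat.ble h r && Nat.blt Rr.negr h &&
        allBelow n fun s => (decodeRow Rr.row s).all fun q => Nat.blt s q.1) true) &&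
    (cond (decide (D.IsNegRoot r))
      (Nat.blt r h && Nat.ble h Rr.negr &&
        allBelow n fun s => (decodeRow Rr.row s).all fun q => Nat.blt q.1 s) true)

theorem triOK_of_check (T : FD) (D : ChevalleyDatum) (lo len : ℕ) (h : trib T D lo len = true)
    (r : ℕ) (h1 : lo ≤ r) (h2 : r < lo + len) : TriOK T D r := by
  unfold trib at h
  rw [forceNat_eq, forceNat_eq, List.all_eq_true] at h
  have := h r (by rw [List.mem_range'_1]; exact ⟨h1, h2⟩)
  rw [RD.force_eq, Bool.and_eq_true] at this
  obtain ⟨ha, hb⟩ := this
  constructor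
  · intro hp
    rw [decide_eq_true hp, cond_true, Bool.and_eq_true, Bool.and_eq_true, Nat.ble_eq,
      Nat.blt_eq] at ha
    refine ⟨ha.1.1, ha.1.2, fun s hs q hq => ?_⟩
    have := allBelow_spec _ _ ha.2 s hs
    rw [List.all_eq_true] at this
    have := this q hq
    rwa [Nat.blt_eq] at this
  · intro hp
    rw [decide_eq_true hp, cond_true, Bool.and_eq_true, Bool.and_eq_true, Nat.ble_eq,
      Nat.blt_eq] at hb
    refine ⟨hb.1.1, hb.1.2, fun s hs q hq => ?_⟩
    have := allBelow_spec _ _ hb.2 s hs
    rw [List.all_eq_true] at this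
    have := this q hq
    rwa [Nat.blt_eq] at this

theorem triOK_all (T : FD) (D : ChevalleyDatum) (n step k : ℕ) (hstep : 0 < step)
    (hn : n ≤ k * step) (h : ∀ q < k, trib T D (q * step) step = true) :
    ∀ r < n, TriOK T D r := by
  intro r hr
  have hq : r / step < k := by
    rw [Nat.div_lt_iff_lt_mul hstep]
    omega
  have h1 : r / step * step ≤ r := Nat.div_mul_le_self r step
  have h2 : r < r / step * step + step := by
    have := Nat.lt_div_mul_add hstep (a := r)
    omega
  exact triOK_of_check T D _ step (h _ hq) r h1 h2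

/-- the grading of the coordinates: negative roots, fundamental coroots, positive roots -/
def grade (D : ChevalleyDatum) : D.Idx → ℤ :=
  Sum.elim (fun i => ((D.nroots / 2 : ℕ) : ℤ) + i.val)
    (fun v => if v.val < D.nroots / 2 then (v.val : ℤ) else (D.rank : ℤ) + v.val)

theorem grade_inl (D : ChevalleyDatum) (i : Fin D.rank) :
    grade D (Sum.inl i) = ((D.nroots / 2 : ℕ) : ℤ) + i.val := rfl

theorem grade_inr (D : ChevalleyDatum) (v : Fin D.nroots) :
    grade D (Sum.inr v) = if v.val < D.nroots / 2 then (v.val : ℤ) else (D.rank : ℤ) + v.val := rfl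

theorem grade_bounds (D : ChevalleyDatum) (u : D.Idx) :
    0 ≤ grade D u ∧ grade D u ≤ (D.rank : ℤ) + D.nroots - 1 := by
  rcases u with i | v
  · rw [grade_inl]
    have := i.2
    have : D.nroots / 2 ≤ D.nroots := Nat.div_le_self _ _
    constructor <;> omega
  · rw [grade_inr]
    have := v.2
    split_ifs <;> constructor <;> omega

theorem grade_injective (D : ChevalleyDatum) : Function.Injective (grade D) := by
  intro u s h
  rcases u with i | v <;> rcases s with j | w
  · rw [grade_inl, grade_inl] at h
    exact congrArg _ (Fin.ext (by omega))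
  · rw [grade_inl, grade_inr] at h
    have := i.2
    split_ifs at h <;> omega
  · rw [grade_inr, grade_inl] at h
    have := j.2
    split_ifs at h <;> omega
  · rw [grade_inr, grade_inr] at h
    exact congrArg _ (Fin.ext (by split_ifs at h <;> omega))

theorem grade_lt_of_lt (D : ChevalleyDatum) (u s : Fin D.nroots) (h : u.val < s.val) :
    grade D (Sum.inr u) + 1 ≤ grade D (Sum.inr s) := by
  rw [grade_inr, grade_inr]
  split_ifs <;> omega

theorem mem_of_coeffOf_ne_nil (L : List (ℕ × ℤ)) (u : ℕ) (h : FD.coeffOf L u ≠ []) :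
    ∃ q ∈ L, q.1 = u := by
  unfold FD.coeffOf at h
  rw [ne_eq, List.map_eq_nil_iff, List.filter_eq_nil_iff] at h
  push Not at h
  obtain ⟨q, hq, hq2⟩ := h
  refine ⟨q.1, ?_, by simpa using hq2⟩
  have := List.mem_zipIdx_iff_getElem?.1 hq
  exact List.mem_of_getElem? this

section

variable {F : Type*} [Field F] {T : FD} {D : ChevalleyDatum}

/-- the root element of a positive root is unitriangular -/
theorem filt_x_pos (hA : T.Agrees D) (r : ℕ) (hr : r < D.nroots)
    (h1 : D.nroots / 2 ≤ r) (h2 : D.neg r < D.nroots / 2)
    (h3 : ∀ s < D.nroots, ∀ q ∈ T.ch r s, s < q.1) (t : F) :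
    Filt (grade D) 1 (D.x F r t - 1) := by
  rw [x_eq_xMat r hr]
  have hneg : D.negIdx.getD r 0 = D.neg r := rfl
  intro u s hne
  rw [Matrix.sub_apply] at hne
  rcases u with k | u <;> rcases s with j | s
  · rw [xMat_ll, Matrix.one_apply] at hne
    simp only [Sum.inl.injEq] at hne
    exact absurd (sub_self _) hne
  · rw [xMat_lr, Matrix.one_apply_ne (by simp)] at hne
    split_ifs at hne with hc
    · rw [grade_inl, grade_inr]
      have : s.val < D.nroots / 2 := by rw [hc.1]; exact h2
      rw [if_pos this]
      omega
    · simp at hne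
  · rw [xMat_rl, Matrix.one_apply_ne (by simp)] at hne
    split_ifs at hne with hc
    · subst hc
      rw [grade_inl, grade_inr, if_neg (by simp only; omega)]
      have := j.2
      simp only
      omega
    · simp at hne
  · by_cases hus : u = s
    · subst hus
      exfalso
      apply hne
      rw [Matrix.one_apply_eq, sub_eq_zero]
      simp only [ChevalleyDatum.xMat, Matrix.of_apply]
      by_cases hc1 : u = ⟨r, hr⟩
      · simp [hc1]
      · rw [if_neg hc1]
        by_cases hc2 : u.val = D.negIdx.getD r 0
        · simp [hc2]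
        · rw [if_neg hc2]
          have hcoef : D.chainCoeff r u.val u.val = [] := by
            by_contra hcon
            rw [FD.chainCoeff_eq hA r u.val u.val hr u.2] at hcon
            obtain ⟨q, hq, hqu⟩ := mem_of_coeffOf_ne_nil _ _ hcon
            have := h3 u.val u.2 q hq
            omega
          simp [hcoef]
    · rw [Matrix.one_apply_ne (fun hh => hus (Sum.inr.inj hh)), sub_zero] at hne
      simp only [ChevalleyDatum.xMat, Matrix.of_apply] at hne
      by_cases hc1 : s = ⟨r, hr⟩
      · rw [if_pos hc1] at hne
        subst hc1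
        rw [if_neg hus] at hne
        exact absurd rfl hne
      · rw [if_neg hc1] at hne
        by_cases hc2 : s.val = D.negIdx.getD r 0
        · rw [if_pos hc2, if_neg hus] at hne
          split_ifs at hne with hc3
          · subst hc3
            rw [grade_inr, grade_inr, if_pos (by rw [hc2]; exact h2), if_neg (by simp only; omega)]
            simp only
            omega
          · exact absurd rfl hne
        · rw [if_neg hc2, if_neg hus, zero_add] at hne
          have hcoef : D.chainCoeff r s.val u.val ≠ [] := by
            intro hcon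
            apply hne
            rw [hcon]
            rfl
          rw [FD.chainCoeff_eq hA r s.val u.val hr s.2] at hcoef
          obtain ⟨q, hq, hqu⟩ := mem_of_coeffOf_ne_nil _ _ hcoef
          have := h3 s.val s.2 q hq
          exact grade_lt_of_lt D s u (by omega)

/-- the opposite grading -/
def gradeN (D : ChevalleyDatum) : D.Idx → ℤ := fun u => - grade D u

theorem gradeN_bounds (D : ChevalleyDatum) (u : D.Idx) :
    -((D.rank : ℤ) + D.nroots - 1) ≤ gradeN D u ∧ gradeN D u ≤ 0 := by
  have := grade_bounds D u
  unfold gradeN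
  constructor <;> omega

/-- the root element of a negative root is lower unitriangular -/
theorem filt_x_neg (hA : T.Agrees D) (r : ℕ) (hr : r < D.nroots)
    (h1 : r < D.nroots / 2) (h2 : D.nroots / 2 ≤ D.neg r)
    (h3 : ∀ s < D.nroots, ∀ q ∈ T.ch r s, q.1 < s) (t : F) :
    Filt (gradeN D) 1 (D.x F r t - 1) := by
  rw [x_eq_xMat r hr]
  have hneg : D.negIdx.getD r 0 = D.neg r := rfl
  intro u s hne
  show -grade D s + 1 ≤ -grade D u
  suffices hsuff : grade D u + 1 ≤ grade D s by omega
  rw [Matrix.sub_apply] at hne
  rcases u with k | u <;> rcases s with j | s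
  · rw [xMat_ll, Matrix.one_apply] at hne
    simp only [Sum.inl.injEq] at hne
    exact absurd (sub_self _) hne
  · rw [xMat_lr, Matrix.one_apply_ne (by simp)] at hne
    split_ifs at hne with hc
    · rw [grade_inl, grade_inr]
      have : ¬ s.val < D.nroots / 2 := by rw [hc.1, hneg]; omega
      rw [if_neg this]
      have := k.2
      omega
    · simp at hne
  · rw [xMat_rl, Matrix.one_apply_ne (by simp)] at hne
    split_ifs at hne with hc
    · subst hc
      rw [grade_inl, grade_inr, if_pos (by simpa using h1)]
      simp only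
      omega
    · simp at hne
  · by_cases hus : u = s
    · subst hus
      exfalso
      apply hne
      rw [Matrix.one_apply_eq, sub_eq_zero]
      simp only [ChevalleyDatum.xMat, Matrix.of_apply]
      by_cases hc1 : u = ⟨r, hr⟩
      · simp [hc1]
      · rw [if_neg hc1]
        by_cases hc2 : u.val = D.negIdx.getD r 0
        · simp [hc2]
        · rw [if_neg hc2]
          have hcoef : D.chainCoeff r u.val u.val = [] := by
            by_contra hcon
            rw [FD.chainCoeff_eq hA r u.val u.val hr u.2] at hcon
            obtain ⟨q, hq, hqu⟩ := mem_of_coeffOf_ne_nil _ _ hcon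
            have := h3 u.val u.2 q hq
            omega
          simp [hcoef]
    · rw [Matrix.one_apply_ne (fun hh => hus (Sum.inr.inj hh)), sub_zero] at hne
      simp only [ChevalleyDatum.xMat, Matrix.of_apply] at hne
      by_cases hc1 : s = ⟨r, hr⟩
      · rw [if_pos hc1] at hne
        subst hc1
        rw [if_neg hus] at hne
        exact absurd rfl hne
      · rw [if_neg hc1] at hne
        by_cases hc2 : s.val = D.negIdx.getD r 0
        · rw [if_pos hc2, if_neg hus] at hne
          split_ifs at hne with hc3
          · subst hc3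
            rw [grade_inr, grade_inr, if_pos (by simpa using h1),
              if_neg (by rw [hc2, hneg]; omega)]
            simp only
            omega
          · exact absurd rfl hne
        · rw [if_neg hc2, if_neg hus, zero_add] at hne
          have hcoef : D.chainCoeff r s.val u.val ≠ [] := by
            intro hcon
            apply hne
            rw [hcon]
            rfl
          rw [FD.chainCoeff_eq hA r s.val u.val hr s.2] at hcoef
          obtain ⟨q, hq, hqu⟩ := mem_of_coeffOf_ne_nil _ _ hcoef
          have := h3 s.val s.2 q hq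
          exact grade_lt_of_lt D u s (by omega)

theorem posUnipotent_le_UG (hA : T.Agrees D) (hadd : AllAdd F D)
    (htri : ∀ r < D.nroots, TriOK T D r) : D.posUnipotent F ≤ UG (grade D) 1 := by
  unfold ChevalleyDatum.posUnipotent
  rw [Subgroup.closure_le]
  rintro g ⟨r, t, hr, hg⟩
  have : g = hadd.xU r t := Units.ext hg
  subst this
  obtain ⟨h1, h2, h3⟩ := (htri r hr.1).1 hr
  rw [hA.nroots_eq] at h1 h2 h3
  rw [← FD.neg_eq' hA r hr.1] at h2
  constructor
  · rw [Nat.cast_one]
    exact filt_x_pos hA r hr.1 h1 h2 h3 t
  · rw [Nat.cast_one]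
    exact filt_x_pos hA r hr.1 h1 h2 h3 (-t)

theorem negUnipotent_le_UG (hA : T.Agrees D) (hadd : AllAdd F D)
    (htri : ∀ r < D.nroots, TriOK T D r) : D.negUnipotent F ≤ UG (gradeN D) 1 := by
  unfold ChevalleyDatum.negUnipotent
  rw [Subgroup.closure_le]
  rintro g ⟨r, t, hr, hg⟩
  have : g = hadd.xU r t := Units.ext hg
  subst this
  obtain ⟨h1, h2, h3⟩ := (htri r hr.1).2 hr
  rw [hA.nroots_eq] at h1 h2 h3
  rw [← FD.neg_eq' hA r hr.1] at h2
  constructor
  · rw [Nat.cast_one]
    exact filt_x_neg hA r hr.1 h1 h2 h3 t
  · rw [Nat.cast_one]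
    exact filt_x_neg hA r hr.1 h1 h2 h3 (-t)

/-- elements of `U` are unipotent -/
theorem unipotent_of_mem (hA : T.Agrees D) (hadd : AllAdd F D)
    (htri : ∀ r < D.nroots, TriOK T D r) (g : GL D.Idx F) (hg : g ∈ D.posUnipotent F) :
    ((g : Matrix D.Idx D.Idx F) - 1) ^ (D.rank + D.nroots) = 0 := by
  have h1 := (posUnipotent_le_UG hA hadd htri hg).1
  have h2 := h1.pow (D.rank + D.nroots)
  apply h2.eq_zero 0 ((D.rank : ℤ) + D.nroots - 1) (grade_bounds D)
  push_cast
  omega

/-- `U` is nilpotent -/
theorem posUnipotent_nilpotent (hA : T.Agrees D) (hadd : AllAdd F D)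
    (htri : ∀ r < D.nroots, TriOK T D r) : Group.IsNilpotent (D.posUnipotent F) := by
  have hle := posUnipotent_le_UG hA hadd htri
  have : Group.IsNilpotent (UG (R := F) (grade D) 1) :=
    UG_isNilpotent (grade D) 0 ((D.rank : ℤ) + D.nroots - 1) (grade_bounds D)
  have h2 : Group.IsNilpotent ((D.posUnipotent F).subgroupOf (UG (R := F) (grade D) 1)) :=
    Subgroup.isNilpotent _
  exact (Group.isNilpotent_congr (Subgroup.subgroupOfEquivOfLe hle)).1 h2

end

end Cfsg.Agent.Lib.Helper5.Chev
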