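import Cfsg.Agent.Lib.Helper5.Chev.UFiltA
import Cfsg.Agent.Lib.Helper5.Chev.CmAll
import Cfsg.Agent.Lib.Helper5.Chev.SimpleComp
import Cfsg.Agent.Lib.Helper5.Chev.RankOne
import Mathlib

/-!
# The filtration of `U` by the order of the roots (helper5)
-/

set_option autoImplicit false

namespace Cfsg.Agent.Lib.Helper5.Chev

open Cfsg.Lie
open scoped Matrix

/-- the properties of the tables used for the filtration of `U` by the order of the roots -/
structure UFOK (T : FD) (D : ChevalleyDatum) : Prop where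
  pos_of_le : ∀ r < D.nroots, D.nroots / 2 ≤ r → D.IsPosRoot r
  neg_neg : ∀ r < D.nroots, T.neg (T.neg r) = r
  terms : ∀ k < D.nroots, D.nroots / 2 ≤ k → ∀ s < D.nroots, k < s →
    (∀ c ∈ T.commTerms k s, k < c.1) ∧ (∀ q ∈ T.ch s (T.neg k), D.nroots / 2 ≤ q.1)

/-- the boolean check -/
def ufokb (T : FD) (D : ChevalleyDatum) : Bool :=
  forceNat T.nroots fun n => forceNat (Nat.div n 2) fun h =>
    (allBelow n fun r => Nat.blt r h || decide (D.IsPosRoot r)) &&
    (allBelow n fun r => Nat.beq (T.neg (T.neg r)) r) &&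
    (allBelow n fun k => Nat.blt k h || forceNat (T.neg k) fun nk => allBelow n fun s =>
      Nat.ble s k || (((T.commTerms k s).all fun c => Nat.blt k c.1) &&
        ((T.ch s nk).all fun q => Nat.ble h q.1)))

theorem ufok_of_check {T : FD} {D : ChevalleyDatum} (hA : T.Agrees D) (h : ufokb T D = true) :
    UFOK T D := by
  unfold ufokb at h
  rw [forceNat_eq, forceNat_eq, hA.nroots_eq, Bool.and_eq_true, Bool.and_eq_true] at h
  have e : D.nroots.div 2 = D.nroots / 2 := rfl
  rw [e] at h
  obtain ⟨⟨h1, h2⟩, h3⟩ := h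
  refine ⟨?_, ?_, ?_⟩
  · intro r hr hle
    have := allBelow_spec _ _ h1 r hr
    rw [Bool.or_eq_true, Nat.blt_eq] at this
    rcases this with h | h
    · exact absurd hle (by change ¬ (D.nroots / 2 ≤ r); omega)
    · exact of_decide_eq_true h
  · intro r hr
    exact Nat.eq_of_beq_eq_true (allBelow_spec _ _ h2 r hr)
  · intro k hk hle s hs hks
    have := allBelow_spec _ _ h3 k hk
    rw [Bool.or_eq_true, Nat.blt_eq] at this
    rcases this with h | h
    · exact absurd hle (by change ¬ (D.nroots / 2 ≤ k); omega)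
    · rw [forceNat_eq] at h
      have := allBelow_spec _ _ h s hs
      rw [Bool.or_eq_true, Nat.ble_eq, Bool.and_eq_true, List.all_eq_true, List.all_eq_true] at this
      rcases this with h | ⟨h4, h5⟩
      · omega
      · refine ⟨fun c hc => ?_, fun q hq => ?_⟩
        · have := h4 c hc
          rwa [Nat.blt_eq] at this
        · have := h5 q hq
          rw [Nat.ble_eq] at this
          exact this

section

variable {F : Type*} [Field F] {T : FD} {D : ChevalleyDatum}

/-- the generators of the `k`-th term of the filtration -/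
def genUF (F : Type*) [Field F] (D : ChevalleyDatum) (k : ℕ) : Set (GL D.Idx F) :=
  {g : GL D.Idx F | ∃ (r : ℕ) (t : F), D.IsPosRoot r ∧ k ≤ r ∧
    (g : Matrix D.Idx D.Idx F) = D.x F r t}

/-- the subgroup generated by the root subgroups of the positive roots of index at least `k` -/
def UF (F : Type*) [Field F] (D : ChevalleyDatum) (k : ℕ) : Subgroup (GL D.Idx F) :=
  Subgroup.closure (genUF F D k)

theorem xU_mem_UF (hadd : AllAdd F D) (k r : ℕ) (hr : D.IsPosRoot r) (hk : k ≤ r) (t : F) :
    hadd.xU r t ∈ UF F D k :=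
  Subgroup.subset_closure ⟨r, t, hr, hk, rfl⟩

theorem UF_half (htri : ∀ r < D.nroots, TriOK T D r) (hA : T.Agrees D) :
    UF F D (D.nroots / 2) = D.posUnipotent F := by
  unfold UF ChevalleyDatum.posUnipotent
  congr 1
  ext g
  constructor
  · rintro ⟨r, t, hr, -, hg⟩
    exact ⟨r, t, hr, hg⟩
  · rintro ⟨r, t, hr, hg⟩
    have := ((htri r hr.1).1 hr).1
    rw [hA.nroots_eq] at this
    exact ⟨r, t, hr, this, hg⟩

theorem UF_top : UF F D D.nroots = ⊥ := by
  unfold UF
  rw [Subgroup.closure_eq_bot_iff]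
  rintro g ⟨r, t, hr, hle, -⟩
  exact absurd hr.1 (by omega)

theorem UF_succ (hok : UFOK T D) (k : ℕ) (hk : k < D.nroots)
    (hle : D.nroots / 2 ≤ k) : UF F D k = D.rootSubgroup F k ⊔ UF F D (k + 1) := by
  apply le_antisymm
  · unfold UF
    rw [Subgroup.closure_le]
    rintro g ⟨r, t, hr, hkr, hg⟩
    by_cases h : r = k
    · apply Subgroup.mem_sup_left
      apply Subgroup.subset_closure
      exact ⟨t, by rw [hg, h]⟩
    · apply Subgroup.mem_sup_right
      apply Subgroup.subset_closure
      exact ⟨r, t, hr, by omega, hg⟩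
  · apply sup_le
    · unfold ChevalleyDatum.rootSubgroup UF
      apply Subgroup.closure_mono
      rintro g ⟨t, hg⟩
      exact ⟨k, t, hok.pos_of_le k hk hle, le_refl _, hg⟩
    · unfold UF
      apply Subgroup.closure_mono
      rintro g ⟨r, t, hr, hkr, hg⟩
      exact ⟨r, t, hr, by omega, hg⟩

/-- `X_k` normalises the next term of the filtration -/
theorem rootSubgroup_le_normalizer_UF (hA : T.Agrees D) (hadd : AllAdd F D) (hok : UFOK T D)
    (htri : ∀ r < D.nroots, TriOK T D r)
    (hcomm : ∀ r < D.nroots, ∀ s < D.nroots, CommOK' F D r s)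
    (k : ℕ) (hk : k < D.nroots) (hle : D.nroots / 2 ≤ k) :
    D.rootSubgroup F k ≤ Subgroup.normalizer (UF F D (k + 1) : Set (GL D.Idx F)) := by
  have hkpos := hok.pos_of_le k hk hle
  have hnegk : D.neg k < D.nroots / 2 := by
    have := ((htri k hk).1 hkpos).2.1
    rwa [hA.nroots_eq, ← FD.neg_eq' hA k hk] at this
  have key : ∀ (t' : F) (g : GL D.Idx F), g ∈ genUF F D (k + 1) →
      (hadd.xU k t')⁻¹ * g * hadd.xU k t' ∈ UF F D (k + 1) := by
    intro t' g hg
    obtain ⟨s, u, hs, hks, hgv⟩ := hg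
    have hg' : g = hadd.xU s u := Units.ext hgv
    have hcm : CommOK F D k s := by
      rcases hcomm k hk s hs.1 with h | h | h
      · omega
      · have h5 := ((htri s hs.1).1 hs).1
        rw [hA.nroots_eq] at h5
        omega
      · exact h
    rw [hg', hadd.conj_of_comm k s hcm t' u]
    apply Subgroup.mul_mem _ (xU_mem_UF hadd _ s hs hks u)
    unfold AllAdd.wordU
    apply Subgroup.list_prod_mem
    intro y hy
    rw [List.mem_map] at hy
    obtain ⟨pr, hpr, rfl⟩ := hy
    unfold ChevalleyDatum.commWord at hpr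
    rw [List.mem_map] at hpr
    obtain ⟨c, hc', rfl⟩ := hpr
    rw [FD.commTerms_eq hA k s hk hs.1] at hc'
    have h6 := (hok.terms k hk hle s hs.1 (by omega)).1 c hc'
    have h7 := FD.commTerms_lt hA k s hk hs.1 c hc'
    exact xU_mem_UF hadd _ c.1 (hok.pos_of_le c.1 h7 (by omega)) (by omega) _
  unfold ChevalleyDatum.rootSubgroup
  rw [Subgroup.closure_le]
  rintro g ⟨t, hg⟩
  have hg' : g = hadd.xU k t := Units.ext hg
  rw [hg']
  have hinv : (hadd.xU k t)⁻¹ = hadd.xU k (-t) := by
    rw [inv_eq_iff_mul_eq_one]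
    apply Units.ext
    rw [Units.val_mul]
    exact hadd.x_mul_neg k t
  apply mem_normalizer_closure
  · intro g hg
    have := key (-t) g hg
    rw [← hinv, inv_inv] at this
    exact this
  · intro g hg
    exact key t g hg

/-- the elements of the next term of the filtration preserve the span of `e_{-k}` and the positive
root vectors -/
theorem pres_of_mem_UF (hA : T.Agrees D) (hadd : AllAdd F D) (hok : UFOK T D)
    (htri : ∀ r < D.nroots, TriOK T D r) (k : ℕ) (hk : k < D.nroots)
    (hle : D.nroots / 2 ≤ k) (g : GL D.Idx F) (hg : g ∈ UF F D (k + 1)) :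
    Pres D k (g : Matrix D.Idx D.Idx F) ∧ Pres D k ((g⁻¹ : GL D.Idx F) : Matrix D.Idx D.Idx F) := by
  have hgen : ∀ s, D.IsPosRoot s → k + 1 ≤ s → ∀ t : F, Pres D k (D.x F s t) := by
    intro s hs hks t
    obtain ⟨h1, h2, h3⟩ := (htri s hs.1).1 hs
    rw [hA.nroots_eq] at h1 h2 h3
    rw [← FD.neg_eq' hA s hs.1] at h2
    have hnk : D.neg k < D.nroots := by rw [FD.neg_eq' hA k hk]; exact hA.neg_lt k hk
    apply pres_x hA k s hs.1 h1 h2 h3 hnk
    · intro he
      rw [FD.neg_eq' hA k hk, FD.neg_eq' hA s hs.1] at he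
      have := congrArg T.neg he
      rw [hok.neg_neg k hk, hok.neg_neg s hs.1] at this
      omega
    · rw [FD.neg_eq' hA k hk]
      exact (hok.terms k hk hle s hs.1 (by omega)).2
  unfold UF at hg
  induction hg using Subgroup.closure_induction with
  | mem x hx =>
    obtain ⟨s, t, hs, hks, hx⟩ := hx
    have hx' : x = hadd.xU s t := Units.ext hx
    have hinv : (hadd.xU s t)⁻¹ = hadd.xU s (-t) := by
      rw [inv_eq_iff_mul_eq_one]
      apply Units.ext
      rw [Units.val_mul]
      exact hadd.x_mul_neg s t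
    rw [hx', hinv]
    exact ⟨hgen s hs hks t, hgen s hs hks (-t)⟩
  | one =>
    rw [inv_one]
    exact ⟨Pres.one k, Pres.one k⟩
  | mul x y _ _ hx hy =>
    rw [mul_inv_rev, Units.val_mul, Units.val_mul]
    exact ⟨hx.1.mul hy.1, hy.2.mul hx.2⟩
  | inv x _ hx =>
    rw [inv_inv]
    exact ⟨hx.2, hx.1⟩

/-- `X_k` meets the next term of the filtration trivially -/
theorem rootSubgroup_inf_UF (hA : T.Agrees D) (hadd : AllAdd F D) (hok : UFOK T D)
    (htri : ∀ r < D.nroots, TriOK T D r) (hcor : ∀ s < D.nroots, CorInj F D s)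
    (k : ℕ) (hk : k < D.nroots) (hle : D.nroots / 2 ≤ k) :
    D.rootSubgroup F k ⊓ UF F D (k + 1) = ⊥ := by
  rw [eq_bot_iff]
  rintro g ⟨hg1, hg2⟩
  rw [Subgroup.mem_bot]
  obtain ⟨t, rfl⟩ := (mem_rootSubgroup_iff hadd k g).1 hg1
  have hp := (pres_of_mem_UF hA hadd hok htri k hk hle _ hg2).1
  have hkpos := hok.pos_of_le k hk hle
  have hnegk : D.neg k < D.nroots / 2 := by
    have := ((htri k hk).1 hkpos).2.1
    rwa [hA.nroots_eq, ← FD.neg_eq' hA k hk] at this
  have hnk : D.neg k < D.nroots := by rw [FD.neg_eq' hA k hk]; exact hA.neg_lt k hk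
  have ht : t = 0 := by
    apply hcor k hk t
    intro i hi
    have := hp (Sum.inl ⟨i, hi⟩) (Sum.inr ⟨D.neg k, hnk⟩) (Or.inl rfl) (by simp [InS])
    rw [AllAdd.xU_val, x_eq_xMat k hk, xMat_lr, if_pos] at this
    · exact this
    · refine ⟨rfl, ?_⟩
      intro he
      have := congrArg Fin.val he
      simp only at this
      omega
  rw [ht]
  exact Units.ext (x_zero k)

end

end Cfsg.Agent.Lib.Helper5.Chev
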