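import Cfsg.Agent.Lib.Helper5.Chev.TriAll
import Cfsg.Agent.Lib.Helper5.Chev.Core
import Mathlib

/-!
# Invariants for the filtration of `U` by the order of the roots (helper5)
-/

set_option autoImplicit false

namespace Cfsg.Agent.Lib.Helper5.Chev

open Cfsg.Lie
open scoped Matrix

section

variable {F : Type*} [Field F] {T : FD} {D : ChevalleyDatum}

/-- the parameter is determined by its multiples by the coefficients of the coroot -/
def CorInj (F : Type*) [Field F] (D : ChevalleyDatum) (s : ℕ) : Prop :=
  ∀ t : F, (∀ i < D.rank, (((D.coroot.getD s #[]).getD i 0 : ℤ) : F) * t = 0) → t = 0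

theorem corInj_simple (j : ℕ) (hj : j < D.rank)
    (hc : (D.coroot.getD (D.simple j) #[]).getD j 0 = 1) : CorInj F D (D.simple j) := by
  intro t ht
  have := ht j hj
  rw [hc] at this
  simpa using this

theorem MonoCert.corInj_transfer {i : ℕ} {a : ℕ → ℤ} {w : ℕ → ℕ} {η : ℕ → ℤ}
    (hA : T.Agrees D) (c : MonoCert T D.nroots D.rank i a w η) (s : ℕ) (hs : s < D.nroots)
    (h : CorInj F D (w s)) : CorInj F D s := by
  intro t ht
  apply h t
  intro k hk
  have e1 : ∀ k' < D.rank, (D.coroot.getD s #[]).getD k' 0 = (T.corootL s).getD k' 0 :=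
    fun k' hk' => (hA.coroot_eq s hs k' hk').symm
  rw [← hA.coroot_eq _ (c.w_lt s hs) k hk, c.coroot_w k hk s hs]
  push_cast
  rw [sub_mul, ← e1 k hk, ht k hk, zero_sub, neg_eq_zero]
  split_ifs
  · rw [List.map_map, ← List.sum_map_mul_right]
    apply List.sum_eq_zero
    intro x hx
    simp only [List.mem_map, List.mem_range, Function.comp] at hx
    obtain ⟨j, hj, rfl⟩ := hx
    push_cast
    rw [mul_assoc, ← e1 j hj, ht j hj, mul_zero]
  · simp

/-- the coordinates of `e_{-k}` and of the positive root vectors -/
def InS (D : ChevalleyDatum) (k : ℕ) : D.Idx → Prop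
  | Sum.inl _ => False
  | Sum.inr v => v.val = D.neg k ∨ D.nroots / 2 ≤ v.val

/-- the matrix preserves the span of `e_{-k}` and the positive root vectors -/
def Pres (D : ChevalleyDatum) (k : ℕ) (M : Matrix D.Idx D.Idx F) : Prop :=
  ∀ ρ c, InS D k c → ¬ InS D k ρ → M ρ c = 0

theorem Pres.one (k : ℕ) : Pres D k (1 : Matrix D.Idx D.Idx F) := by
  intro ρ c hc hρ
  apply Matrix.one_apply_ne
  rintro rfl
  exact hρ hc

theorem Pres.mul {k : ℕ} {A B : Matrix D.Idx D.Idx F} (hA : Pres D k A) (hB : Pres D k B) :
    Pres D k (A * B) := by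
  intro ρ c hc hρ
  rw [Matrix.mul_apply]
  apply Finset.sum_eq_zero
  intro m _
  by_cases hm : InS D k m
  · rw [hA ρ m hm hρ, zero_mul]
  · rw [hB m c hc hm, mul_zero]

/-- the root element of a positive root `s` preserves the span, as soon as the `s`-chain through
`-k` consists of positive roots -/
theorem pres_x (hA : T.Agrees D) (k s : ℕ) (hs : s < D.nroots)
    (h1 : D.nroots / 2 ≤ s) (h2 : D.neg s < D.nroots / 2)
    (h3 : ∀ v < D.nroots, ∀ q ∈ T.ch s v, v < q.1)
    (_hk : D.neg k < D.nroots) (hne : D.neg k ≠ D.neg s)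
    (h4 : ∀ q ∈ T.ch s (D.neg k), D.nroots / 2 ≤ q.1) (t : F) :
    Pres D k (D.x F s t) := by
  have hfilt := filt_x_pos (F := F) hA s hs h1 h2 h3 t
  intro ρ c hc hρ
  have hρc : ρ ≠ c := by rintro rfl; exact hρ hc
  rcases c with j | v
  · exact absurd hc (by simp [InS])
  · by_cases hv : D.nroots / 2 ≤ v.val
    · -- a positive column: by triangularity
      by_contra hne0
      have h5 := hfilt ρ (Sum.inr v) (by rwa [Matrix.sub_apply, Matrix.one_apply_ne hρc, sub_zero])
      rw [grade_inr, if_neg (by omega)] at h5
      rcases ρ with i | u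
      · rw [grade_inl] at h5
        have := i.2
        omega
      · have hu : ¬ (D.nroots / 2 ≤ u.val) := fun hh => hρ (Or.inr hh)
        rw [grade_inr, if_pos (by omega)] at h5
        omega
    · -- the column of `e_{-k}`
      have hvk : v.val = D.neg k := by
        rcases hc with h | h
        · exact h
        · exact absurd h hv
      rw [x_eq_xMat s hs]
      rcases ρ with i | u
      · rw [xMat_lr, if_neg]
        rintro ⟨h6, -⟩
        apply hne
        rw [← hvk, h6]
        rfl
      · have hu1 : u.val ≠ D.neg k := fun hh => hρ (Or.inl hh)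
        have hu2 : ¬ (D.nroots / 2 ≤ u.val) := fun hh => hρ (Or.inr hh)
        simp only [ChevalleyDatum.xMat, Matrix.of_apply]
        have hc1 : v ≠ ⟨s, hs⟩ := by
          intro hh
          have := congrArg Fin.val hh
          simp only at this
          omega
        have hc2 : ¬ (v.val = D.negIdx.getD s 0) := by
          intro hh
          apply hne
          rw [← hvk, hh]
          rfl
        rw [if_neg hc1, if_neg hc2]
        have huv : u ≠ v := fun hh => hρc (by rw [hh])
        rw [if_neg huv, zero_add]
        have hcoef : D.chainCoeff s v.val u.val = [] := by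
          by_contra hcon
          rw [FD.chainCoeff_eq hA s v.val u.val hs v.2] at hcon
          obtain ⟨q, hq, hqu⟩ := mem_of_coeffOf_ne_nil _ _ hcon
          rw [hvk] at hq
          have := h4 q hq
          omega
        rw [hcoef]
        rfl

end

end Cfsg.Agent.Lib.Helper5.Chev
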