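import Cfsg.Agent.Lib.Helper5.Chev.UProd
import Cfsg.Agent.Lib.Helper5.Chev.TriStmts
import Mathlib

/-!
# The terms of the filtration of `U` are normal in `B` (helper5)

With the stronger property of the tables that the roots of the commutator formula of two positive
roots come after both of them, every term `UF k` of the filtration of `U` by the order of the roots
is normalised by `B`, and `B` acts on `X_k` modulo `UF (k + 1)` through a character of `H`.
-/

set_option autoImplicit false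

namespace Cfsg.Agent.Lib.Helper5.Chev

open Cfsg.Lie
open scoped Matrix

/-- the roots of the commutator formula of two positive roots come after both -/
structure UFOK2 (T : FD) (D : ChevalleyDatum) : Prop where
  terms2 : ∀ k < D.nroots, D.nroots / 2 ≤ k → ∀ s < D.nroots, D.nroots / 2 ≤ s → s ≠ k →
    ∀ c ∈ T.commTerms k s, k < c.1 ∧ s < c.1

/-- the boolean check -/
def ufok2b (T : FD) : Bool :=
  forceNat T.nroots fun n => forceNat (Nat.div n 2) fun h =>
    allBelow n fun k => Nat.blt k h || allBelow n fun s =>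
      Nat.blt s h || Nat.beq s k ||
        ((T.commTerms k s).all fun c => Nat.blt k c.1 && Nat.blt s c.1)

theorem ufok2_of_check {T : FD} {D : ChevalleyDatum} (hA : T.Agrees D) (h : ufok2b T = true) :
    UFOK2 T D := by
  unfold ufok2b at h
  rw [forceNat_eq, forceNat_eq, hA.nroots_eq] at h
  have e : D.nroots.div 2 = D.nroots / 2 := rfl
  rw [e] at h
  refine ⟨?_⟩
  intro k hk hle s hs hsle hne c hc
  have h1 := allBelow_spec _ _ h k hk
  rw [Bool.or_eq_true, Nat.blt_eq] at h1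
  rcases h1 with h1 | h1
  · omega
  · have h2 := allBelow_spec _ _ h1 s hs
    rw [Bool.or_eq_true, Bool.or_eq_true, Nat.blt_eq, FD.nbeq, List.all_eq_true] at h2
    rcases h2 with (h2 | h2) | h2
    · omega
    · exact absurd h2 hne
    · have := h2 c hc
      rw [Bool.and_eq_true, Nat.blt_eq, Nat.blt_eq] at this
      exact this

section

variable {F : Type*} [Field F] {T : FD} {D : ChevalleyDatum}

theorem UF_anti {k k' : ℕ} (h : k ≤ k') : UF F D k' ≤ UF F D k := by
  unfold UF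
  apply Subgroup.closure_mono
  rintro g ⟨r, t, hr, hkr, hg⟩
  exact ⟨r, t, hr, by omega, hg⟩

theorem xU_inv (hadd : AllAdd F D) (s : ℕ) (t : F) : (hadd.xU s t)⁻¹ = hadd.xU s (-t) := by
  rw [inv_eq_iff_mul_eq_one]
  apply Units.ext
  rw [Units.val_mul]
  exact hadd.x_mul_neg s t

/-- conjugating a positive root element by another one: the correction lies after both -/
theorem conj_pos_mem (hA : T.Agrees D) (hadd : AllAdd F D) (hok : UFOK T D) (hok2 : UFOK2 T D)
    (htri : ∀ r < D.nroots, TriOK T D r)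
    (hcomm : ∀ r < D.nroots, ∀ s < D.nroots, CommOK' F D r s)
    (s c : ℕ) (hs : s < D.nroots) (hsle : D.nroots / 2 ≤ s) (hc : c < D.nroots)
    (hcle : D.nroots / 2 ≤ c) (t u : F) :
    (hadd.xU c u)⁻¹ * ((hadd.xU s t)⁻¹ * hadd.xU c u * hadd.xU s t) ∈ UF F D (c + 1) := by
  by_cases hcs : c = s
  · subst hcs
    have : (hadd.xU c t)⁻¹ * hadd.xU c u * hadd.xU c t = hadd.xU c u := by
      rw [mul_assoc, inv_mul_eq_iff_eq_mul]
      apply Units.ext
      rw [Units.val_mul, Units.val_mul]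
      show D.x F c u * D.x F c t = D.x F c t * D.x F c u
      rw [hadd c hc, hadd c hc, add_comm]
    rw [this, inv_mul_cancel]
    exact Subgroup.one_mem _
  · have hspos := hok.pos_of_le s hs hsle
    have hcm : CommOK F D s c := by
      rcases hcomm s hs c hc with h | h | h
      · exact absurd h hcs
      · have h5 := ((htri s hs).1 hspos).2.1
        rw [hA.nroots_eq, ← FD.neg_eq' hA s hs] at h5
        omega
      · exact h
    rw [hadd.conj_of_comm s c hcm t u, inv_mul_cancel_left]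
    unfold AllAdd.wordU
    apply Subgroup.list_prod_mem
    intro y hy
    rw [List.mem_map] at hy
    obtain ⟨pr, hpr, rfl⟩ := hy
    unfold ChevalleyDatum.commWord at hpr
    rw [List.mem_map] at hpr
    obtain ⟨c', hc', rfl⟩ := hpr
    rw [FD.commTerms_eq hA s c hs hc] at hc'
    have h6 := hok2.terms2 s hs hsle c hc hcle hcs c' hc'
    have h7 := FD.commTerms_lt hA s c hs hc c' hc'
    exact xU_mem_UF hadd _ c'.1 (hok.pos_of_le c'.1 h7 (by omega)) (by omega) _

/-- the root elements of the positive roots normalise every term of the filtration -/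
theorem xU_mem_normalizer_UF (hA : T.Agrees D) (hadd : AllAdd F D) (hok : UFOK T D)
    (hok2 : UFOK2 T D) (htri : ∀ r < D.nroots, TriOK T D r)
    (hcomm : ∀ r < D.nroots, ∀ s < D.nroots, CommOK' F D r s)
    (k s : ℕ) (hs : s < D.nroots) (hsle : D.nroots / 2 ≤ s) (t : F) :
    hadd.xU s t ∈ Subgroup.normalizer (UF F D k : Set (GL D.Idx F)) := by
  have hpos : ∀ r, D.IsPosRoot r → D.nroots / 2 ≤ r := by
    intro r hr
    have := ((htri r hr.1).1 hr).1
    rwa [hA.nroots_eq] at this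
  have key : ∀ (t' : F) (g : GL D.Idx F), g ∈ genUF F D k →
      (hadd.xU s t')⁻¹ * g * hadd.xU s t' ∈ UF F D k := by
    intro t' g hg
    obtain ⟨c, u, hc, hkc, hgv⟩ := hg
    have hg' : g = hadd.xU c u := Units.ext hgv
    rw [hg']
    have h1 := conj_pos_mem hA hadd hok hok2 htri hcomm s c hs hsle hc.1 (hpos c hc) t' u
    have h2 : hadd.xU c u ∈ UF F D k := xU_mem_UF hadd k c hc hkc u
    have h3 := Subgroup.mul_mem _ h2 (UF_anti (F := F) (D := D) (by omega : k ≤ c + 1) h1)
    rwa [mul_inv_cancel_left] at h3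
  unfold UF
  apply mem_normalizer_closure
  · intro g hg
    have := key (-t) g hg
    rw [← xU_inv, inv_inv] at this
    exact this
  · intro g hg
    exact key t g hg

/-- the elements normalising `UF (k + 1)` and centralising `X_k` modulo it -/
def SK (hadd : AllAdd F D) (k : ℕ) : Subgroup (GL D.Idx F) where
  carrier := {g | g ∈ Subgroup.normalizer (UF F D (k + 1) : Set (GL D.Idx F)) ∧
    ∀ a : F, (hadd.xU k a)⁻¹ * (g * hadd.xU k a * g⁻¹) ∈ UF F D (k + 1)}
  one_mem' := ⟨Subgroup.one_mem _, fun a => by simp⟩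
  mul_mem' := by
    rintro g₁ g₂ ⟨hn₁, h₁⟩ ⟨hn₂, h₂⟩
    refine ⟨Subgroup.mul_mem _ hn₁ hn₂, fun a => ?_⟩
    have e : (hadd.xU k a)⁻¹ * (g₁ * g₂ * hadd.xU k a * (g₁ * g₂)⁻¹)
        = ((hadd.xU k a)⁻¹ * (g₁ * hadd.xU k a * g₁⁻¹)) *
          (g₁ * ((hadd.xU k a)⁻¹ * (g₂ * hadd.xU k a * g₂⁻¹)) * g₁⁻¹) := by group
    rw [e]
    exact Subgroup.mul_mem _ (h₁ a) ((Subgroup.mem_normalizer_iff.1 hn₁ _).1 (h₂ a))
  inv_mem' := by
    rintro g ⟨hn, h⟩
    refine ⟨Subgroup.inv_mem _ hn, fun a => ?_⟩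
    have e : (hadd.xU k a)⁻¹ * (g⁻¹ * hadd.xU k a * g⁻¹⁻¹)
        = g⁻¹ * ((hadd.xU k a)⁻¹ * (g * hadd.xU k a * g⁻¹))⁻¹ * g⁻¹⁻¹ := by group
    rw [e]
    exact (Subgroup.mem_normalizer_iff.1 (Subgroup.inv_mem _ hn) _).1 (Subgroup.inv_mem _ (h a))

theorem posUnipotent_le_SK (hA : T.Agrees D) (hadd : AllAdd F D) (hok : UFOK T D)
    (hok2 : UFOK2 T D) (htri : ∀ r < D.nroots, TriOK T D r)
    (hcomm : ∀ r < D.nroots, ∀ s < D.nroots, CommOK' F D r s)
    (k : ℕ) (hk : k < D.nroots) (hkle : D.nroots / 2 ≤ k) :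
    D.posUnipotent F ≤ SK hadd k := by
  have hpos : ∀ r, D.IsPosRoot r → D.nroots / 2 ≤ r := by
    intro r hr
    have := ((htri r hr.1).1 hr).1
    rwa [hA.nroots_eq] at this
  unfold ChevalleyDatum.posUnipotent
  rw [Subgroup.closure_le]
  rintro g ⟨s, t, hs, hg⟩
  have hg' : g = hadd.xU s t := Units.ext hg
  rw [hg']
  refine ⟨xU_mem_normalizer_UF hA hadd hok hok2 htri hcomm _ s hs.1 (hpos s hs) t, fun a => ?_⟩
  have h1 := conj_pos_mem hA hadd hok hok2 htri hcomm s k hs.1 (hpos s hs) hk hkle (-t) a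
  rw [← xU_inv, inv_inv] at h1
  exact h1

/-- the action of `B = U H` on `X_k` modulo the next term of the filtration -/
theorem conj_borel_mem (hD : D ∈ [chevG2, chevB2, chevD4, chevF4, chevE6, chevE7, chevE8])
    (hA : T.Agrees D) (hadd : AllAdd F D) (hok : UFOK T D)
    (hok2 : UFOK2 T D) (htri : ∀ r < D.nroots, TriOK T D r)
    (hcomm : ∀ r < D.nroots, ∀ s < D.nroots, CommOK' F D r s)
    (k : ℕ) (hk : k < D.nroots) (hkle : D.nroots / 2 ≤ k)
    (u h : GL D.Idx F) (hu : u ∈ D.posUnipotent F) (χ : ℕ → Fˣ) (hχ : D.IsRootCharacter χ)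
    (h1 : (h : Matrix D.Idx D.Idx F) = D.charDiag F χ)
    (h2 : ((h⁻¹ : GL D.Idx F) : Matrix D.Idx D.Idx F) = D.charDiag F (fun s => (χ s)⁻¹)) (a : F) :
    (hadd.xU k ((χ k : F) * a))⁻¹ * ((u * h) * hadd.xU k a * (u * h)⁻¹) ∈ UF F D (k + 1) := by
  have e1 : h * hadd.xU k a * h⁻¹ = hadd.xU k ((χ k : F) * a) := by
    apply Units.ext
    rw [Units.val_mul, Units.val_mul, h1, h2]
    exact Cfsg.Agent.S2157.result D hD χ hχ k hk a
  have e2 : (u * h) * hadd.xU k a * (u * h)⁻¹ = u * (h * hadd.xU k a * h⁻¹) * u⁻¹ := by group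
  rw [e2, e1]
  exact (posUnipotent_le_SK hA hadd hok hok2 htri hcomm k hk hkle hu).2 _

end

end Cfsg.Agent.Lib.Helper5.Chev
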