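import Cfsg.Agent.Lib.Helper5.Chev.MonoB
import Cfsg.Agent.Lib.Helper5.Chev.CoxBraid
import Mathlib

/-!
# `N / H` is the Coxeter group of the type (helper5)
-/

set_option autoImplicit false

namespace Cfsg.Agent.Lib.Helper5.Chev

open Cfsg.Lie
open scoped Matrix

section

variable {F : Type*} [Field F] {T : FD} {D : ChevalleyDatum}

/-- the generators of the Coxeter group, indexed by the natural numbers -/
noncomputable def gC (M : CoxeterMatrix (Fin D.rank)) (i : ℕ) : M.Group :=
  if h : i < D.rank then M.simple ⟨i, h⟩ else 1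

theorem gC_pos (M : CoxeterMatrix (Fin D.rank)) {i : ℕ} (h : i < D.rank) :
    gC M i = M.simple ⟨i, h⟩ := by
  rw [gC, dif_pos h]

theorem rel_gC (hA : T.Agrees D) (Bs : List ℕ) (mLL : List (List ℕ))
    (h2 : ∀ i < T.rank, ∀ j < T.rank, i ≠ j → Cox2 T Bs mLL i j)
    (M : CoxeterMatrix (Fin D.rank)) (hM : ∀ i j : Fin D.rank, M i j = mOfL mLL i j) :
    WD.Rel (wdOf T Bs mLL) (gC M) := by
  have hl : T.rank = D.rank := hA.rank_eq
  have hsq : ∀ i < D.rank, gC M i * gC M i = 1 := by
    intro i hi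
    rw [gC_pos M hi]
    exact M.toCoxeterSystem.simple_mul_simple_self _
  refine ⟨fun i hi => hsq i (hl ▸ hi), ?_, fun i hi j hj hij => (h2 i hi j hj hij).m_pos⟩
  intro i hi j hj hij
  have hi' : i < D.rank := hl ▸ hi
  have hj' : j < D.rank := hl ▸ hj
  rw [WD.braid_iff (gC M) i j _ (hsq i hi') (hsq j hj'), gC_pos M hi', gC_pos M hj']
  show (M.simple ⟨i, hi'⟩ * M.simple ⟨j, hj'⟩) ^ mOfL mLL i j = 1
  rw [← hM ⟨i, hi'⟩ ⟨j, hj'⟩]
  exact M.toCoxeterSystem.simple_mul_simple_pow _ _

/-- every element of the Coxeter group is the image of a word -/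
theorem exists_word_gC (M : CoxeterMatrix (Fin D.rank)) (y : M.Group) :
    ∃ L : List ℕ, (∀ i ∈ L, i < D.rank) ∧ y = WD.gW (gC M) L := by
  obtain ⟨ω, rfl⟩ := M.toCoxeterSystem.wordProd_surjective y
  refine ⟨ω.map Fin.val, ?_, ?_⟩
  · intro i hi
    rw [List.mem_map] at hi
    obtain ⟨x, _, rfl⟩ := hi
    exact x.2
  · unfold WD.gW CoxeterSystem.wordProd
    rw [List.map_map]
    congr 1
    apply List.map_congr_left
    intro x _
    show M.toCoxeterSystem.simple x = gC M x.val
    rw [gC_pos M x.2]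
    rfl

/-- `N / H` is the Coxeter group -/
theorem weyl_iso_of (hD : D ∈ [chevG2, chevB2, chevD4, chevF4, chevE6, chevE7, chevE8])
    (hA : T.Agrees D) (Bs : List ℕ) (mLL : List (List ℕ))
    (hB : ∀ i < D.rank, ReflChecks T D i (Bs.getD i 0))
    (gH : ℕ) (baseH : List ℕ) (fuel : ℕ) (hr : reachb T Bs gH baseH fuel = true)
    (hbase : ∀ s ∈ baseH, ∃ j < D.rank, s = D.simple j) (hcox : coxb T Bs mLL = true)
    (M : CoxeterMatrix (Fin D.rank)) (hM : ∀ i j : Fin D.rank, M i j = mOfL mLL i j) :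
    ∃ φ : ↥(D.monomialSubgroup F) →* M.Group, Function.Surjective φ ∧
      φ.ker = (D.diagonalSubgroup F).subgroupOf (D.monomialSubgroup F) ∧
      ∀ (i : Fin D.rank) (g : ↥(D.monomialSubgroup F)),
        ((g : GL D.Idx F) : Matrix D.Idx D.Idx F) = D.nMat F (D.simple i) 1 →
          φ g = M.simple i := by
  have hadd := allAdd_all (F := F) D hD
  have hH := hform_all' (F := F) D hD
  obtain ⟨h1, h2⟩ := cox_of_check T Bs mLL hcox
  have hnorm := diagonal_normal_all (F := F) D hD
  have hl : T.rank = D.rank := hA.rank_eq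
  have hn : T.nroots = D.nroots := hA.nroots_eq
  have hV := wdOf_valid hA Bs mLL hB h1 h2
  have hR := wdOf_rankTwo hA Bs mLL hB h1 h2
  have hrelQ := rel_gQ (F := F) hA hadd Bs mLL hB h2
  have hrelC := rel_gC hA Bs mLL h2 M hM
  have toT : ∀ {i : ℕ}, i < D.rank → i < (wdOf T Bs mLL).l := by
    intro i h
    show i < T.rank
    rw [hl]; exact h
  -- the map from the Coxeter group
  have hlift : M.IsLiftable (fun i : Fin D.rank => gQ hA hadd i.val) := by
    intro i i'
    by_cases hii : i = i'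
    · subst hii
      rw [M.diagonal, pow_one]
      exact hrelQ.sq i.val (toT i.2)
    · have hne : i.val ≠ i'.val := fun h => hii (Fin.ext h)
      have := hrelQ.braid i.val (toT i.2) i'.val (toT i'.2) hne
      rw [WD.braid_iff _ _ _ _ (hrelQ.sq i.val (toT i.2)) (hrelQ.sq i'.val (toT i'.2))] at this
      rw [hM i i']
      exact this
  let ψ := M.toCoxeterSystem.lift ⟨_, hlift⟩
  have hψs : ∀ i : Fin D.rank, ψ (M.simple i) = gQ hA hadd i.val := fun i =>
    M.toCoxeterSystem.lift_apply_simple hlift i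
  have hψW : ∀ L : List ℕ, (∀ i ∈ L, i < D.rank) →
      ψ (WD.gW (gC M) L) = WD.gW (gQ hA hadd) L := by
    intro L hL
    induction L with
    | nil => exact map_one ψ
    | cons i L ih =>
      have hi := hL i List.mem_cons_self
      have e1 : WD.gW (gC M) (i :: L) = gC M i * WD.gW (gC M) L := by
        unfold WD.gW; rw [List.map_cons, List.prod_cons]
      have e2 : WD.gW (gQ hA hadd) (i :: L) = gQ hA hadd i * WD.gW (gQ hA hadd) L := by
        unfold WD.gW; rw [List.map_cons, List.prod_cons]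
      rw [e1, e2, map_mul, ih (fun j hj => hL j (List.mem_cons_of_mem _ hj)), gC_pos M hi]
      congr 1
      exact hψs ⟨i, hi⟩
  have hinj : Function.Injective ψ := by
    rw [injective_iff_map_eq_one]
    intro y hy
    obtain ⟨L, hL, rfl⟩ := exists_word_gC M y
    rw [hψW L hL, gW_gQ, QuotientGroup.eq_one_iff, Subgroup.mem_subgroupOf] at hy
    have hy' : nWordU hA hadd L ∈ D.diagonalSubgroup F := hy
    have hnd := no_desc_of_mem_borel D hD hA hadd Bs hB L hL 1 (Subgroup.one_mem _)
      (by rw [mul_one]; exact Subgroup.mem_sup_right hy')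
    apply WD.gW_eq_one (gC M) hV hR hrelC L (fun x hx => by show x < T.rank; rw [hl]; exact hL x hx)
    intro i hi
    have hi' : i < D.rank := hl ▸ hi
    show T.nroots / 2 ≤ (wdOf T Bs mLL).act L (T.simple i)
    rw [act_eq_wW, hn, ← FD.simple_eq' hA i hi']
    exact hnd i hi'
  have hsurj : Function.Surjective ψ := by
    intro x
    obtain ⟨n, rfl⟩ := QuotientGroup.mk_surjective x
    obtain ⟨L, hL, h, hh, e⟩ := monomial_le_NWH hA hadd Bs hB hH gH baseH fuel hr hbase n.2
    refine ⟨WD.gW (gC M) L, ?_⟩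
    rw [hψW L hL, gW_gQ, QuotientGroup.eq, Subgroup.mem_subgroupOf]
    show (nWordU hA hadd L)⁻¹ * (n : GL D.Idx F) ∈ D.diagonalSubgroup F
    rw [e, inv_mul_cancel_left]
    exact hh
  let e := MulEquiv.ofBijective ψ ⟨hinj, hsurj⟩
  refine ⟨e.symm.toMonoidHom.comp
    (QuotientGroup.mk' ((D.diagonalSubgroup F).subgroupOf (D.monomialSubgroup F))), ?_, ?_, ?_⟩
  · exact e.symm.surjective.comp (QuotientGroup.mk'_surjective _)
  · ext n
    rw [MonoidHom.mem_ker, MonoidHom.comp_apply]
    show e.symm _ = 1 ↔ _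
    rw [map_eq_one_iff e.symm e.symm.injective, QuotientGroup.mk'_apply,
      QuotientGroup.eq_one_iff]
  · intro i g hg
    have hgi : g = ⟨nUi hA hadd i.val, nUi_mem hA hadd i.val⟩ := by
      apply Subtype.ext
      apply Units.ext
      rw [hg]
      exact (nUi_val hA hadd i.2).symm
    rw [MonoidHom.comp_apply]
    show e.symm _ = _
    rw [MulEquiv.symm_apply_eq]
    show _ = ψ (M.simple i)
    rw [hψs i, hgi]
    rfl

end

end Cfsg.Agent.Lib.Helper5.Chev
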