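import Cfsg.Agent.Lib.Helper5.Chev.WeylIso
import Mathlib

/-!
# `N / H` is the Coxeter group of the type: the seven data (helper5)
-/

set_option autoImplicit false

namespace Cfsg.Agent.Lib.Helper5.Chev

open Cfsg.Lie
open scoped Matrix

theorem hM_G2 : ∀ i j : Fin 2, CoxeterMatrix.G₂ i j = mOfL CxG2.mLL i j := by
  intro i j
  fin_cases i <;> fin_cases j <;> rfl
theorem hM_B2 : ∀ i j : Fin 2, (CoxeterMatrix.B 2) i j = mOfL CxB2.mLL i j := by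
  intro i j
  fin_cases i <;> fin_cases j <;> rfl
theorem hM_D4 : ∀ i j : Fin 4, coxeterD4 i j = mOfL CxD4.mLL i j := by
  intro i j
  fin_cases i <;> fin_cases j <;> rfl
theorem hM_F4 : ∀ i j : Fin 4, CoxeterMatrix.F₄ i j = mOfL CxF4.mLL i j := by
  intro i j
  fin_cases i <;> fin_cases j <;> rfl
theorem hM_E6 : ∀ i j : Fin 6, CoxeterMatrix.E₆ i j = mOfL CxE6.mLL i j := by
  intro i j
  fin_cases i <;> fin_cases j <;> rfl
theorem hM_E7 : ∀ i j : Fin 7, CoxeterMatrix.E₇ i j = mOfL CxE7.mLL i j := by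
  intro i j
  fin_cases i <;> fin_cases j <;> rfl
theorem hM_E8 : ∀ i j : Fin 8, CoxeterMatrix.E₈ i j = mOfL CxE8.mLL i j := by
  intro i j
  fin_cases i <;> fin_cases j <;> rfl

theorem weyl_iso_all {F : Type*} [Field F]
    (p : ChevalleyDatum × (Σ n : ℕ, CoxeterMatrix (Fin n)))
    (hp : p ∈ [(chevG2, ⟨2, CoxeterMatrix.G₂⟩), (chevB2, ⟨2, CoxeterMatrix.B 2⟩),
      (chevD4, ⟨4, coxeterD4⟩), (chevF4, ⟨4, CoxeterMatrix.F₄⟩),
      (chevE6, ⟨6, CoxeterMatrix.E₆⟩), (chevE7, ⟨7, CoxeterMatrix.E₇⟩),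
      (chevE8, ⟨8, CoxeterMatrix.E₈⟩)]) :
    ∃ φ : ↥(p.1.monomialSubgroup F) →* p.2.2.Group, Function.Surjective φ ∧
      φ.ker = (p.1.diagonalSubgroup F).subgroupOf (p.1.monomialSubgroup F) ∧
      ∀ (i : Fin p.2.1) (g : ↥(p.1.monomialSubgroup F)),
        ((g : GL p.1.Idx F) : Matrix p.1.Idx p.1.Idx F) = p.1.nMat F (p.1.simple i) 1 →
          φ g = p.2.2.simple i := by
  simp only [List.mem_cons, List.not_mem_nil, or_false] at hp
  rcases hp with rfl | rfl | rfl | rfl | rfl | rfl | rfl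
  · exact weyl_iso_of (D := chevG2) (by simp) DataG2.agrees BsG2.Bs CxG2.mLL HsG2.reflBs' _ _ _
      HsG2.rbH HsG2.base_simple CxG2.cox CoxeterMatrix.G₂ hM_G2
  · exact weyl_iso_of (D := chevB2) (by simp) DataB2.agrees BsB2.Bs CxB2.mLL HsB2.reflBs' _ _ _
      HsB2.rbH HsB2.base_simple CxB2.cox (CoxeterMatrix.B 2) hM_B2
  · exact weyl_iso_of (D := chevD4) (by simp) DataD4.agrees BsD4.Bs CxD4.mLL HsD4.reflBs' _ _ _
      HsD4.rbH HsD4.base_simple CxD4.cox coxeterD4 hM_D4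
  · exact weyl_iso_of (D := chevF4) (by simp) DataF4.agrees BsF4.Bs CxF4.mLL HsF4.reflBs' _ _ _
      HsF4.rbH HsF4.base_simple CxF4.cox CoxeterMatrix.F₄ hM_F4
  · exact weyl_iso_of (D := chevE6) (by simp) DataE6.agrees BsE6.Bs CxE6.mLL HsE6.reflBs' _ _ _
      HsE6.rbH HsE6.base_simple CxE6.cox CoxeterMatrix.E₆ hM_E6
  · exact weyl_iso_of (D := chevE7) (by simp) DataE7.agrees BsE7.Bs CxE7.mLL HsE7.reflBs' _ _ _
      HsE7.rbH HsE7.base_simple CxE7.cox CoxeterMatrix.E₇ hM_E7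
  · exact weyl_iso_of (D := chevE8) (by simp) DataE8.agrees BsE8.Bs CxE8.mLL HsE8.reflBs' _ _ _
      HsE8.rbH HsE8.base_simple CxE8.cox CoxeterMatrix.E₈ hM_E8

end Cfsg.Agent.Lib.Helper5.Chev
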