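import Mathlib

/-!
# Integer matrices acting on tuples of elements of a commutative group (helper5)
-/

set_option autoImplicit false

namespace Cfsg.Agent.Lib.Helper5.Chev

section zact

variable {G : Type*} [CommGroup G] {l k m : ℕ}

/-- the action of an integer matrix on tuples of elements of a commutative group:
`(c ^ M) j = ∏ i, c i ^ M i j` -/
def zact (M : Matrix (Fin l) (Fin k) ℤ) : (Fin l → G) →* (Fin k → G) where
  toFun c := fun j => ∏ i, c i ^ M i j
  map_one' := by
    funext j
    simp
  map_mul' c c' := by
    funext j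
    simp [mul_zpow, Finset.prod_mul_distrib]

theorem zact_apply (M : Matrix (Fin l) (Fin k) ℤ) (c : Fin l → G) (j : Fin k) :
    zact M c j = ∏ i, c i ^ M i j := rfl

theorem zpow_finset_sum {ι : Type*} (a : G) (s : Finset ι) (f : ι → ℤ) :
    a ^ (∑ t ∈ s, f t) = ∏ t ∈ s, a ^ f t := by
  classical
  induction s using Finset.induction_on with
  | empty => simp
  | insert x s hx ih => rw [Finset.sum_insert hx, Finset.prod_insert hx, zpow_add, ih]

theorem zact_mul (M : Matrix (Fin l) (Fin k) ℤ) (N : Matrix (Fin k) (Fin m) ℤ) (c : Fin l → G) :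
    zact (M * N) c = zact N (zact M c) := by
  funext j
  simp only [zact_apply, Matrix.mul_apply]
  calc ∏ i, c i ^ ∑ t, M i t * N t j
      = ∏ i, ∏ t, (c i ^ M i t) ^ N t j := by
        apply Finset.prod_congr rfl
        intro i _
        rw [zpow_finset_sum]
        apply Finset.prod_congr rfl
        intro t _
        rw [zpow_mul]
    _ = ∏ t, ∏ i, (c i ^ M i t) ^ N t j := Finset.prod_comm
    _ = ∏ t, (∏ i, c i ^ M i t) ^ N t j := by
        apply Finset.prod_congr rfl
        intro t _
        rw [Finset.prod_zpow]

theorem zact_one (c : Fin l → G) : zact (1 : Matrix (Fin l) (Fin l) ℤ) c = c := by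
  funext j
  rw [zact_apply, Finset.prod_eq_single j]
  · simp
  · intro i _ hij
    rw [Matrix.one_apply_ne hij, zpow_zero]
  · intro h
    exact absurd (Finset.mem_univ j) h

theorem zact_diagonal (d : Fin l → ℤ) (c : Fin l → G) (j : Fin l) :
    zact (Matrix.diagonal d) c j = c j ^ d j := by
  rw [zact_apply, Finset.prod_eq_single j]
  · rw [Matrix.diagonal_apply_eq]
  · intro i _ hij
    rw [Matrix.diagonal_apply_ne _ hij, zpow_zero]
  · intro h
    exact absurd (Finset.mem_univ j) h

/-- the kernel of a diagonal matrix -/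
theorem card_ker_zact_diagonal [Finite G] [IsCyclic G] (d : Fin l → ℕ) :
    Nat.card (zact (G := G) (Matrix.diagonal fun i => (d i : ℤ))).ker
      = ∏ i, (Nat.card G).gcd (d i) := by
  have e : (zact (G := G) (Matrix.diagonal fun i => (d i : ℤ))).ker ≃
      ((i : Fin l) → (powMonoidHom (d i) : G →* G).ker) :=
    { toFun := fun c i => ⟨c.1 i, by
        have h := c.2
        rw [MonoidHom.mem_ker] at h ⊢
        have := congrFun h i
        rw [zact_diagonal] at this
        simpa using this⟩
      invFun := fun b => ⟨fun i => (b i).1, by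
        rw [MonoidHom.mem_ker]
        funext i
        rw [zact_diagonal]
        have := (b i).2
        rw [MonoidHom.mem_ker] at this
        simpa using this⟩
      left_inv := fun c => rfl
      right_inv := fun b => rfl }
  rw [Nat.card_congr e, Nat.card_pi]
  apply Finset.prod_congr rfl
  intro i _
  exact IsCyclic.card_powMonoidHom_ker G (d i)

/-- the kernel of a matrix with a given Smith normal form -/
theorem card_ker_zact_of_snf [Finite G] [IsCyclic G] (A P P' Q Q' : Matrix (Fin l) (Fin l) ℤ)
    (d : Fin l → ℕ) (hP : P' * P = 1) (hP2 : P * P' = 1) (hQ : Q * Q' = 1)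
    (hS : P * A * Q = Matrix.diagonal fun i => (d i : ℤ)) :
    Nat.card (zact (G := G) A).ker = ∏ i, (Nat.card G).gcd (d i) := by
  rw [← card_ker_zact_diagonal (G := G) d]
  apply Nat.card_congr
  refine
    { toFun := fun c => ⟨zact P' c.1, ?_⟩
      invFun := fun b => ⟨zact P b.1, ?_⟩
      left_inv := fun c => ?_
      right_inv := fun b => ?_ }
  · have h := c.2
    rw [MonoidHom.mem_ker] at h ⊢
    have e1 : zact P (zact P' c.1) = c.1 := by rw [← zact_mul, hP, zact_one]
    rw [← hS, zact_mul, zact_mul, e1, h, map_one]
  · have h := b.2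
    rw [MonoidHom.mem_ker] at h ⊢
    have h' : zact Q (zact A (zact P b.1)) = 1 := by
      rw [← zact_mul, ← zact_mul, ← Matrix.mul_assoc, hS]
      exact h
    have : zact Q' (zact Q (zact A (zact P b.1))) = zact A (zact P b.1) := by
      rw [← zact_mul, hQ, zact_one]
    rw [← this, h', map_one]
  · apply Subtype.ext
    show zact P (zact P' c.1) = c.1
    rw [← zact_mul, hP, zact_one]
  · apply Subtype.ext
    show zact P' (zact P b.1) = b.1
    rw [← zact_mul, hP2, zact_one]

end zact

end Cfsg.Agent.Lib.Helper5.Chev
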